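import Groth.Prelude.Def_ComodTens
import Groth.Prelude.Def_ComodDual
import Groth.Prelude.Def_GLin5

/-!
# Coefficient functions of comodules — helper62

For a comodule structure `c` on `V` over a coalgebra `A` and a linear form `f` on `V`, the
coefficient function `cf c f : V →ₗ A`, `v ↦ Σ f(v₀) v₁`.  It is a comodule map to the regular
comodule (`comul_cf`), `ε ∘ cf c f = f` (`counit_cf`), and behaves well under all the constructions
of `ComodTens`: transport (`cf_ofEquiv`), tensor products (`cf_tensor`), sums (`cf_prod_inl`,
`cf_prod_inr`), change of group (`cf_comodAlong`), duals (`cf_dual`), the standard comodule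
(`cf_stdVec`).
-/

set_option autoImplicit false
universe u v v' w w'

open TensorProduct

namespace Groth.Agent.H62.Cf

section Lin
variable {k : Type u} [CommRing k] {V : Type w} [AddCommGroup V] [Module k V]

/-- Contraction of the left factor with a linear form. -/
noncomputable def lc (M : Type*) [AddCommGroup M] [Module k M] (f : Module.Dual k V) :
    V ⊗[k] M →ₗ[k] M :=
  (TensorProduct.lid k M).toLinearMap ∘ₗ f.rTensor M

@[simp] theorem lc_tmul (M : Type*) [AddCommGroup M] [Module k M] (f : Module.Dual k V)
    (v : V) (m : M) : lc M f (v ⊗ₜ[k] m) = f v • m := by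
  simp [lc]

theorem lc_lTensor {M N : Type*} [AddCommGroup M] [Module k M] [AddCommGroup N] [Module k N]
    (f : Module.Dual k V) (g : M →ₗ[k] N) (y : V ⊗[k] M) :
    lc N f (g.lTensor V y) = g (lc M f y) := by
  induction y using TensorProduct.induction_on with
  | zero => simp
  | tmul v m => simp
  | add x y hx hy => simp only [map_add, hx, hy]

theorem lc_rTensor {V' : Type w'} [AddCommGroup V'] [Module k V'] {M : Type*} [AddCommGroup M]
    [Module k M] (f : Module.Dual k V') (e : V →ₗ[k] V') (y : V ⊗[k] M) :
    lc M f (e.rTensor M y) = lc M (f ∘ₗ e) y := by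
  induction y using TensorProduct.induction_on with
  | zero => simp
  | tmul v m => simp
  | add x y hx hy => simp only [map_add, hx, hy]

theorem lc_assoc {M N : Type*} [AddCommGroup M] [Module k M] [AddCommGroup N] [Module k N]
    (f : Module.Dual k V) (z : (V ⊗[k] M) ⊗[k] N) :
    lc (M ⊗[k] N) f (TensorProduct.assoc k V M N z) = (lc M f).rTensor N z := by
  induction z using TensorProduct.induction_on with
  | zero => simp
  | add x y hx hy => simp only [map_add, hx, hy]
  | tmul y n =>
    induction y using TensorProduct.induction_on with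
    | zero => simp
    | add x y hx hy => simp only [TensorProduct.add_tmul, map_add, hx, hy]
    | tmul v m => simp [TensorProduct.smul_tmul']

end Lin

section Coalg
variable {k : Type u} [CommRing k] {A : Type v} [AddCommGroup A] [Module k A] [Coalgebra k A]
  {V : Type w} [AddCommGroup V] [Module k V]

/-- The coefficient function `v ↦ Σ f(v₀) v₁`. -/
noncomputable def cf (c : HopfRep.Comod k A V) (f : Module.Dual k V) : V →ₗ[k] A :=
  lc A f ∘ₗ c.coact

theorem cf_apply (c : HopfRep.Comod k A V) (f : Module.Dual k V) (v : V) :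
    cf c f v = lc A f (c.coact v) := rfl

/-- The coefficient function is a comodule map to the regular comodule. -/
theorem comul_cf (c : HopfRep.Comod k A V) (f : Module.Dual k V) (v : V) :
    CoalgebraStruct.comul (R := k) (cf c f v) = (cf c f).rTensor A (c.coact v) := by
  rw [cf_apply, ← lc_lTensor]
  have h := LinearMap.congr_fun c.coassoc v
  simp only [LinearMap.comp_apply, LinearEquiv.coe_coe] at h
  rw [← h, lc_assoc, ← LinearMap.comp_apply, ← LinearMap.rTensor_comp]
  rfl

theorem counit_cf (c : HopfRep.Comod k A V) (f : Module.Dual k V) (v : V) :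
    CoalgebraStruct.counit (R := k) (cf c f v) = f v := by
  rw [cf_apply, ← lc_lTensor]
  have h := LinearMap.congr_fun c.counit_comp v
  simp only [LinearMap.comp_apply, LinearMap.flip_apply, TensorProduct.mk_apply] at h
  rw [h, lc_tmul, smul_eq_mul, mul_one]

theorem cf_add (c : HopfRep.Comod k A V) (f g : Module.Dual k V) :
    cf c (f + g) = cf c f + cf c g := by
  ext v
  simp only [cf_apply, LinearMap.add_apply]
  generalize c.coact v = y
  induction y using TensorProduct.induction_on with
  | zero => simp
  | tmul v m => simp [add_smul]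
  | add x y hx hy => simp only [map_add, hx, hy]; abel

theorem cf_ofEquiv {W : Type w'} [AddCommGroup W] [Module k W] (e : V ≃ₗ[k] W)
    (c : HopfRep.Comod k A V) (f : Module.Dual k W) (x : W) :
    cf (ComodTens.Comod.ofEquiv e c) f x = cf c (f ∘ₗ (e : V →ₗ[k] W)) (e.symm x) := by
  rw [cf_apply, ComodTens.ofEquiv_coact, lc_rTensor]
  rfl

theorem cf_ofEquiv_apply {W : Type w'} [AddCommGroup W] [Module k W] (e : V ≃ₗ[k] W)
    (c : HopfRep.Comod k A V) (f : Module.Dual k V) (v : V) :
    cf (ComodTens.Comod.ofEquiv e c) (f ∘ₗ (e.symm : W →ₗ[k] V)) (e v) = cf c f v := by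
  rw [cf_ofEquiv, LinearEquiv.symm_apply_apply]
  have : (f ∘ₗ (e.symm : W →ₗ[k] V)) ∘ₗ (e : V →ₗ[k] W) = f := by
    ext y
    change f (e.symm (e y)) = f y
    rw [LinearEquiv.symm_apply_apply]
  rw [this]

theorem cf_prod_inl {W : Type w'} [AddCommGroup W] [Module k W] (c : HopfRep.Comod k A V)
    (d : HopfRep.Comod k A W) (f : Module.Dual k V) (v : V) :
    cf (ComodTens.Comod.prod c d) (f ∘ₗ LinearMap.fst k V W) (v, 0) = cf c f v := by
  rw [cf_apply, ComodTens.prod_coact, map_zero, map_zero, add_zero, lc_rTensor]
  rfl

theorem cf_prod_inr {W : Type w'} [AddCommGroup W] [Module k W] (c : HopfRep.Comod k A V)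
    (d : HopfRep.Comod k A W) (g : Module.Dual k W) (x : W) :
    cf (ComodTens.Comod.prod c d) (g ∘ₗ LinearMap.snd k V W) (0, x) = cf d g x := by
  rw [cf_apply, ComodTens.prod_coact, map_zero, map_zero, zero_add, lc_rTensor]
  rfl

theorem cf_trivial_one (k : Type u) [CommRing k] (A : Type v) [Ring A] [Bialgebra k A] :
    cf (HopfRep.Comod.trivial k A k) (LinearMap.id : k →ₗ[k] k) 1 = 1 := by
  rw [cf_apply]
  change lc A LinearMap.id ((1 : k) ⊗ₜ[k] (1 : A)) = 1
  rw [lc_tmul, LinearMap.id_apply, one_smul]

end Coalg

section Bialg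
variable {k : Type u} [CommRing k] {A : Type v} [CommRing A] [Bialgebra k A]
  {V : Type w} [AddCommGroup V] [Module k V] {W : Type w'} [AddCommGroup W] [Module k W]

/-- The product of two linear forms, as a linear form on the tensor product. -/
noncomputable def mulForm (f : Module.Dual k V) (g : Module.Dual k W) : Module.Dual k (V ⊗[k] W) :=
  (TensorProduct.lid k k).toLinearMap ∘ₗ TensorProduct.map f g

@[simp] theorem mulForm_tmul (f : Module.Dual k V) (g : Module.Dual k W) (v : V) (x : W) :
    mulForm f g (v ⊗ₜ[k] x) = f v * g x := by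
  simp [mulForm]

theorem lc_tensor_aux (f : Module.Dual k V) (g : Module.Dual k W) (y : V ⊗[k] A) (z : W ⊗[k] A) :
    lc A (mulForm f g) (TensorProduct.map LinearMap.id (LinearMap.mul' k A)
        (AlgebraTensorModule.tensorTensorTensorComm k k k k V A W A (y ⊗ₜ[k] z))) =
      lc A f y * lc A g z := by
  induction y using TensorProduct.induction_on with
  | zero => simp
  | add y₁ y₂ h₁ h₂ => simp only [TensorProduct.add_tmul, map_add, h₁, h₂, add_mul]
  | tmul v a =>
    induction z using TensorProduct.induction_on with
    | zero => simp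
    | add z₁ z₂ h₁ h₂ => simp only [TensorProduct.tmul_add, map_add, h₁, h₂, mul_add]
    | tmul x b =>
      simp only [AlgebraTensorModule.tensorTensorTensorComm_tmul, TensorProduct.map_tmul,
        LinearMap.id_apply, LinearMap.mul'_apply, lc_tmul, mulForm_tmul]
      rw [smul_mul_smul_comm]

theorem cf_tensor (c : HopfRep.Comod k A V) (d : HopfRep.Comod k A W) (f : Module.Dual k V)
    (g : Module.Dual k W) (v : V) (x : W) :
    cf (ComodTens.Comod.tensor c d) (mulForm f g) (v ⊗ₜ[k] x) = cf c f v * cf d g x := by
  rw [cf_apply, ComodTens.tensor_coact_tmul, lc_tensor_aux]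
  rfl

theorem cf_comodAlong {B : Type v'} [CommRing B] [Bialgebra k B] (φ : A →ₐc[k] B)
    (c : HopfRep.Comod k A V) (f : Module.Dual k V) (v : V) :
    cf (GLin.comodAlong φ c) f v = φ (cf c f v) := by
  rw [cf_apply, cf_apply]
  change lc B f (TensorProduct.map LinearMap.id (φ : A →ₗ[k] B) (c.coact v)) = _
  generalize c.coact v = y
  induction y using TensorProduct.induction_on with
  | zero => simp
  | tmul v a => simp
  | add x y hx hy => simp only [map_add, hx, hy]

theorem cf_stdVec (n : ℕ) (k : Type u) [CommRing k] (i j : Fin n) :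
    cf (ComodTens.stdVec n k) (LinearMap.proj i) (Pi.single j 1) = CoordGrp.Mat.X i j := by
  classical
  rw [cf_apply, ComodTens.stdVec_coact_single, map_sum]
  simp only [lc_tmul, LinearMap.proj_apply]
  rw [Finset.sum_eq_single i]
  · rw [Pi.single_eq_same, one_smul]
  · intro l _ hl
    rw [Pi.single_eq_of_ne (Ne.symm hl), zero_smul]
  · intro h
    exact absurd (Finset.mem_univ i) h

end Bialg

section Hopf
variable {k : Type u} [CommRing k] {A : Type v} [CommRing A] [HopfAlgebra k A]
  {V : Type w} [AddCommGroup V] [Module k V]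

theorem dualTensorHom_eq_lc (x : Module.Dual k V ⊗[k] A) (v : V) :
    dualTensorHom k V A x v = lc A (Module.Dual.eval k V v) x := by
  induction x using TensorProduct.induction_on with
  | zero => simp
  | tmul φ a => simp [dualTensorHom_apply]
  | add x y hx hy => simp only [map_add, LinearMap.add_apply, hx, hy]

/-- Coefficients of the contragredient are antipodes of coefficients. -/
theorem cf_dual (c : HopfRep.Comod k A V) (d : HopfRep.Comod k A (Module.Dual k V))
    (hd : ComodTens.Comod.IsDual c d) (f : Module.Dual k V) (v : V) :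
    cf d (Module.Dual.eval k V v) f = HopfAlgebraStruct.antipode (R := k) (cf c f v) := by
  rw [cf_apply, ← dualTensorHom_eq_lc, hd f, ComodTens.dualCoactFun_apply, cf_apply]
  generalize c.coact v = y
  induction y using TensorProduct.induction_on with
  | zero => simp
  | tmul v a => simp
  | add x y hx hy => simp only [map_add, hx, hy]

end Hopf

end Groth.Agent.H62.Cf
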