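import Groth.Agent.H40.Comod
import Groth.Agent.H93.Comod4
import Mathlib.LinearAlgebra.Projection
import Mathlib.LinearAlgebra.FiniteDimensional.Basic
import Mathlib.RingTheory.Finiteness.Basic

/-!
# Reynolds operator for linearly reductive Hopf algebras (helper62)

Over a field `k`, for a bialgebra `A` whose finite-dimensional comodules are semisimple
(`HopfRep.IsLinearlyReductive k A`), every comodule `V` (in the universe of `A`) decomposes
canonically as `V = V^G ⊕ N(V)` where `N(V)` is the sum of all finite-dimensional subcomodules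
without invariants.  This decomposition is natural in comodule maps.

Main declarations (namespace `Groth.Agent.H62`):
* `subComod W hW` : comodule structure on a subcomodule `W` (over a field), `isComodHom_subtype`.
* `isSubcomod_map`, `isSubcomod_comap`, `isSubcomod_fixedPts`, `map_mem_fixedPts`,
  `mem_fixedPts_of_map_mem`, `isComodHom_projection`.
* `range_inf_fixedPts_eq_bot` : image of a f.d. comodule without invariants has no invariants.
* `N k A V`, `isSubcomod_N`, `isCompl_fixedPts_N`, `map_N_le`, `apply_eq_zero_of_mem_N`.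
* `reynolds hG V`, `isComodHom_reynolds`, `reynolds_idem`, `reynolds_eq_self_iff`, `eq_reynolds`,
  `reynolds_natural`.
-/

set_option autoImplicit false
universe u v w w'

open TensorProduct

namespace Groth.Agent.H62

section Lin

variable {k : Type u} [Field k] {V : Type w} [AddCommGroup V] [Module k V]

theorem rTensor_subtype_injective (W : Submodule k V) (M : Type*) [AddCommGroup M] [Module k M] :
    Function.Injective (W.subtype.rTensor M) :=
  Module.Flat.rTensor_preserves_injective_linearMap W.subtype W.injective_subtype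

theorem rTensor_injective {X : Type w'} [AddCommGroup X] [Module k X] (f : V →ₗ[k] X)
    (hf : Function.Injective f) (M : Type*) [AddCommGroup M] [Module k M] :
    Function.Injective (f.rTensor M) :=
  Module.Flat.rTensor_preserves_injective_linearMap f hf

theorem assoc_nat {X : Type w'} [AddCommGroup X] [Module k X] (C : Type v) [AddCommGroup C]
    [Module k C] (f : V →ₗ[k] X) :
    (TensorProduct.assoc k X C C).toLinearMap ∘ₗ ((f.rTensor C).rTensor C) =
      (f.rTensor (C ⊗[k] C)) ∘ₗ (TensorProduct.assoc k V C C).toLinearMap := by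
  apply TensorProduct.ext_threefold
  intro v c c'
  simp

theorem coeff_rTensor {C : Type v} [AddCommGroup C] [Module k C] {κ : Type*} [DecidableEq κ]
    (b : Module.Basis κ k C) {X : Type w'} [AddCommGroup X] [Module k X]
    (f : V →ₗ[k] X) (x : V ⊗[k] C) (i : κ) :
    TensorProduct.equivFinsuppOfBasisRight b (f.rTensor C x) i =
      f (TensorProduct.equivFinsuppOfBasisRight b x i) := by
  induction x using TensorProduct.induction_on with
  | zero => simp
  | tmul m c => simp
  | add y z hy hz => simp only [map_add, Finsupp.add_apply, hy, hz]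

end Lin

section Coalg

variable {k : Type u} [Field k] {C : Type v} [AddCommGroup C] [Module k C] [Coalgebra k C]
variable {V : Type w} [AddCommGroup V] [Module k V] [HopfRep.Comod k C V]

/-- The coaction restricted to a subcomodule. -/
noncomputable def subCoact (W : Submodule k V) (hW : HopfRep.IsSubcomod (k := k) (A := C) W) :
    W →ₗ[k] W ⊗[k] C :=
  (LinearEquiv.ofInjective (W.subtype.rTensor C)
      (rTensor_subtype_injective W C)).symm.toLinearMap ∘ₗ
    ((HopfRep.Comod.coact (k := k) (A := C) ∘ₗ W.subtype).codRestrict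
      (LinearMap.range (W.subtype.rTensor C)) (fun w => hW w w.2))

theorem subCoact_spec (W : Submodule k V) (hW : HopfRep.IsSubcomod (k := k) (A := C) W) (w : W) :
    W.subtype.rTensor C (subCoact W hW w) = HopfRep.Comod.coact (k := k) (A := C) (w : V) := by
  simp only [subCoact, LinearMap.comp_apply, LinearEquiv.coe_coe]
  rw [LinearEquiv.ofInjective_symm_apply]
  rfl

/-- The comodule structure on a subcomodule (over a field). -/
@[reducible] noncomputable def subComod (W : Submodule k V)
    (hW : HopfRep.IsSubcomod (k := k) (A := C) W) : HopfRep.Comod k C W where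
  coact := subCoact W hW
  coassoc := by
    have hinj := rTensor_subtype_injective W (C ⊗[k] C)
    refine LinearMap.ext fun w => hinj ?_
    have hspec := subCoact_spec W hW
    have hcomp : (W.subtype.rTensor C) ∘ₗ subCoact W hW =
        HopfRep.Comod.coact (k := k) (A := C) ∘ₗ W.subtype := LinearMap.ext hspec
    simp only [LinearMap.comp_apply, LinearEquiv.coe_coe]
    have h1 := LinearMap.congr_fun (assoc_nat C W.subtype)
      ((subCoact W hW).rTensor C (subCoact W hW w))
    simp only [LinearMap.comp_apply, LinearEquiv.coe_coe] at h1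
    have h2 : (W.subtype.rTensor C).rTensor C ((subCoact W hW).rTensor C (subCoact W hW w)) =
        (HopfRep.Comod.coact (k := k) (A := C)).rTensor C
          (HopfRep.Comod.coact (k := k) (A := C) (w : V)) := by
      have e : (W.subtype.rTensor C).rTensor C ∘ₗ (subCoact W hW).rTensor C =
          (HopfRep.Comod.coact (k := k) (A := C)).rTensor C ∘ₗ (W.subtype.rTensor C) := by
        rw [← LinearMap.rTensor_comp, ← LinearMap.rTensor_comp, hcomp]
      have := LinearMap.congr_fun e (subCoact W hW w)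
      simp only [LinearMap.comp_apply] at this
      rw [this, hspec]
    have h3 : (W.subtype.rTensor (C ⊗[k] C))
        ((CoalgebraStruct.comul (R := k) (A := C)).lTensor W (subCoact W hW w)) =
        (CoalgebraStruct.comul (R := k) (A := C)).lTensor V
          (HopfRep.Comod.coact (k := k) (A := C) (w : V)) := by
      have e : (W.subtype.rTensor (C ⊗[k] C)) ∘ₗ
          (CoalgebraStruct.comul (R := k) (A := C)).lTensor W =
          (CoalgebraStruct.comul (R := k) (A := C)).lTensor V ∘ₗ (W.subtype.rTensor C) := by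
        rw [LinearMap.rTensor_comp_lTensor, LinearMap.lTensor_comp_rTensor]
      have := LinearMap.congr_fun e (subCoact W hW w)
      simp only [LinearMap.comp_apply] at this
      rw [this, hspec]
    rw [← h1, h2, h3]
    exact H40.coassoc_apply (k := k) (C := C) (w : V)
  counit_comp := by
    have hinj := rTensor_subtype_injective W k
    refine LinearMap.ext fun w => hinj ?_
    have hspec := subCoact_spec W hW
    have e1 : (W.subtype.rTensor k) ∘ₗ (CoalgebraStruct.counit (R := k) (A := C)).lTensor W =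
        (CoalgebraStruct.counit (R := k) (A := C)).lTensor V ∘ₗ (W.subtype.rTensor C) := by
      rw [LinearMap.rTensor_comp_lTensor, LinearMap.lTensor_comp_rTensor]
    have e2 := LinearMap.congr_fun e1 (subCoact W hW w)
    simp only [LinearMap.comp_apply] at e2 ⊢
    rw [e2, hspec]
    have := H40.counit_apply (k := k) (C := C) (w : V)
    rw [this]
    simp

theorem isComodHom_subtype (W : Submodule k V) (hW : HopfRep.IsSubcomod (k := k) (A := C) W) :
    @Hoch.IsComodHom k _ C _ _ _ W _ _ (subComod W hW) V _ _ _ W.subtype := by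
  let _ := subComod W hW
  refine LinearMap.ext fun w => ?_
  exact (subCoact_spec W hW w).symm

theorem isSubcomod_map {X : Type w'} [AddCommGroup X] [Module k X] [HopfRep.Comod k C X]
    {f : V →ₗ[k] X} (hf : Hoch.IsComodHom C f) {D : Submodule k V}
    (hD : HopfRep.IsSubcomod (k := k) (A := C) D) :
    HopfRep.IsSubcomod (k := k) (A := C) (D.map f) := by
  intro y hy
  obtain ⟨d, hd, rfl⟩ := Submodule.mem_map.mp hy
  obtain ⟨s, hs⟩ := hD d hd
  rw [H93.comodHom_apply hf, ← hs]
  refine ⟨(f.submoduleMap D).rTensor C s, ?_⟩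
  have h0 : (D.map f).subtype ∘ₗ f.submoduleMap D = f ∘ₗ D.subtype := by
    ext x; rfl
  have e : (D.map f).subtype.rTensor C ∘ₗ (f.submoduleMap D).rTensor C =
      f.rTensor C ∘ₗ D.subtype.rTensor C := by
    rw [← LinearMap.rTensor_comp, ← LinearMap.rTensor_comp, h0]
  exact LinearMap.congr_fun e s

theorem isSubcomod_comap {X : Type w'} [AddCommGroup X] [Module k X] [HopfRep.Comod k C X]
    {f : V →ₗ[k] X} (hf : Hoch.IsComodHom C f) {D : Submodule k X}
    (hD : HopfRep.IsSubcomod (k := k) (A := C) D) :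
    HopfRep.IsSubcomod (k := k) (A := C) (D.comap f) := by
  classical
  intro v hv
  have h1 := hD (f v) hv
  rw [H93.comodHom_apply hf] at h1
  rw [H40.mem_range_rTensor_iff_coeff (Module.Basis.ofVectorSpace k C)] at h1 ⊢
  intro i
  have h2 := h1 i
  rw [coeff_rTensor] at h2
  exact h2

theorem isComodHom_projection {P Q : Submodule k V}
    (hP : HopfRep.IsSubcomod (k := k) (A := C) P) (hQ : HopfRep.IsSubcomod (k := k) (A := C) Q)
    (h : IsCompl P Q) : Hoch.IsComodHom C (P.projection Q h) := by
  refine LinearMap.ext fun v => ?_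
  have hv : v ∈ P ⊔ Q := by rw [h.sup_eq_top]; trivial
  obtain ⟨p, hp, q, hq, rfl⟩ := Submodule.mem_sup.mp hv
  obtain ⟨s, hs⟩ := hP p hp
  obtain ⟨s', hs'⟩ := hQ q hq
  have e1 : (P.projection Q h) ∘ₗ P.subtype = P.subtype := by
    ext x; exact Submodule.projection_apply_left h x
  have e2 : (P.projection Q h) ∘ₗ Q.subtype = 0 := by
    ext x; exact Submodule.projection_apply_right h x
  have hp' : (P.projection Q h) p = p := Submodule.projection_apply_of_mem_left h hp
  have hq' : (P.projection Q h) q = 0 := Submodule.projection_apply_of_mem_right h hq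
  have e3 : (P.projection Q h).rTensor C (HopfRep.Comod.coact (k := k) (A := C) p) =
      HopfRep.Comod.coact (k := k) (A := C) p := by
    have e : (P.projection Q h).rTensor C ∘ₗ P.subtype.rTensor C = P.subtype.rTensor C := by
      rw [← LinearMap.rTensor_comp, e1]
    have := LinearMap.congr_fun e s
    simp only [LinearMap.comp_apply] at this
    rw [← hs, this]
  have e4 : (P.projection Q h).rTensor C (HopfRep.Comod.coact (k := k) (A := C) q) = 0 := by
    have e : (P.projection Q h).rTensor C ∘ₗ Q.subtype.rTensor C = 0 := by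
      rw [← LinearMap.rTensor_comp, e2, LinearMap.rTensor_zero]
    have := LinearMap.congr_fun e s'
    simp only [LinearMap.comp_apply, LinearMap.zero_apply] at this
    rw [← hs', this]
  simp only [LinearMap.comp_apply]
  rw [map_add (P.projection Q h), hp', hq', add_zero, map_add, map_add, e3, e4, add_zero]

end Coalg

section Bialg

variable {k : Type u} [Field k] {A : Type v} [CommRing A] [Bialgebra k A]
variable {V : Type w} [AddCommGroup V] [Module k V] [HopfRep.Comod k A V]

theorem mem_fixedPts_iff (v : V) :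
    v ∈ HopfRep.fixedPts k A V ↔
      HopfRep.Comod.coact (k := k) (A := A) v = v ⊗ₜ[k] (1 : A) := Iff.rfl

theorem isSubcomod_fixedPts :
    HopfRep.IsSubcomod (k := k) (A := A) (HopfRep.fixedPts k A V) := by
  intro v hv
  rw [(mem_fixedPts_iff v).mp hv]
  exact H40.tmul_mem_range_rTensor _ hv _

theorem map_mem_fixedPts {X : Type w'} [AddCommGroup X] [Module k X] [HopfRep.Comod k A X]
    {f : V →ₗ[k] X} (hf : Hoch.IsComodHom A f) {v : V} (hv : v ∈ HopfRep.fixedPts k A V) :
    f v ∈ HopfRep.fixedPts k A X := by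
  have h := H93.comodHom_apply hf v
  rw [(mem_fixedPts_iff v).mp hv, LinearMap.rTensor_tmul] at h
  exact h

theorem mem_fixedPts_of_map_mem {X : Type w'} [AddCommGroup X] [Module k X] [HopfRep.Comod k A X]
    {f : V →ₗ[k] X} (hf : Hoch.IsComodHom A f) (hinj : Function.Injective f) {v : V}
    (hv : f v ∈ HopfRep.fixedPts k A X) : v ∈ HopfRep.fixedPts k A V := by
  have h := H93.comodHom_apply hf v
  rw [(mem_fixedPts_iff (f v)).mp hv] at h
  rw [mem_fixedPts_iff]
  apply rTensor_injective f hinj A
  rw [← h, LinearMap.rTensor_tmul]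

/-- The fixed points of a subcomodule without invariants (as a comodule) are trivial. -/
theorem fixedPts_sub_eq_bot {U : Submodule k V} (hs : HopfRep.IsSubcomod (k := k) (A := A) U)
    (hi : U ⊓ HopfRep.fixedPts k A V = ⊥) :
    @HopfRep.fixedPts k A _ _ _ U _ _ (subComod U hs) = ⊥ := by
  let _ := subComod U hs
  have hsub := isComodHom_subtype U hs
  rw [eq_bot_iff]
  intro x hx
  have h1 : (x : V) ∈ U ⊓ HopfRep.fixedPts k A V := ⟨x.2, map_mem_fixedPts hsub hx⟩
  rw [hi, Submodule.mem_bot] at h1
  rw [Submodule.mem_bot]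
  exact Subtype.ext h1

end Bialg

section Reductive

variable {k : Type u} [Field k] {A : Type v} [CommRing A] [Bialgebra k A]

/-- Image of a finite-dimensional comodule without invariants has no invariants. -/
theorem range_inf_fixedPts_eq_bot (hG : HopfRep.IsLinearlyReductive k A)
    {U : Type v} [AddCommGroup U] [Module k U] [HopfRep.Comod k A U] [Module.Finite k U]
    (hU : HopfRep.fixedPts k A U = ⊥)
    {X : Type w'} [AddCommGroup X] [Module k X] [HopfRep.Comod k A X]
    {f : U →ₗ[k] X} (hf : Hoch.IsComodHom A f) :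
    LinearMap.range f ⊓ HopfRep.fixedPts k A X = ⊥ := by
  obtain ⟨D, hD, hKD⟩ := hG U inferInstance (LinearMap.ker f) (H93.isSubcomod_ker hf)
  rw [eq_bot_iff]
  rintro y ⟨⟨u, rfl⟩, hy⟩
  have hu : u ∈ LinearMap.ker f ⊔ D := by rw [hKD.sup_eq_top]; trivial
  obtain ⟨κ, hκ, d, hd, rfl⟩ := Submodule.mem_sup.mp hu
  have hfκ : f κ = 0 := hκ
  have hfd : f (κ + d) = f d := by rw [map_add, hfκ, zero_add]
  rw [SetLike.mem_coe, hfd] at hy
  rw [hfd]
  have hdfix : d ∈ HopfRep.fixedPts k A U := by
    rw [mem_fixedPts_iff]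
    have ht : HopfRep.Comod.coact (k := k) (A := A) d - d ⊗ₜ[k] (1 : A) ∈
        LinearMap.range (D.subtype.rTensor A) :=
      Submodule.sub_mem _ (hD d hd) (H40.tmul_mem_range_rTensor D hd 1)
    obtain ⟨t', ht'⟩ := ht
    have hinj : Function.Injective (f ∘ₗ D.subtype) := by
      intro a b hab
      have h1 : ((a : U) - b) ∈ LinearMap.ker f ⊓ D := by
        refine ⟨?_, D.sub_mem a.2 b.2⟩
        show ((a : U) - b) ∈ LinearMap.ker f
        rw [LinearMap.mem_ker, map_sub, sub_eq_zero]
        exact hab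
      rw [hKD.inf_eq_bot, Submodule.mem_bot, sub_eq_zero] at h1
      exact Subtype.ext h1
    have h0 : (f ∘ₗ D.subtype).rTensor A t' = 0 := by
      rw [LinearMap.rTensor_comp, LinearMap.comp_apply, ht', map_sub, ← H93.comodHom_apply hf,
        LinearMap.rTensor_tmul, (mem_fixedPts_iff _).mp hy, sub_self]
    have ht0 : t' = 0 := rTensor_injective _ hinj A (by rw [h0, map_zero])
    rw [ht0, map_zero] at ht'
    exact sub_eq_zero.mp ht'.symm
  rw [hU, Submodule.mem_bot] at hdfix
  rw [hdfix, map_zero]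
  exact Submodule.zero_mem _

theorem exists_compl_fixedPts (hG : HopfRep.IsLinearlyReductive k A)
    (U : Type v) [AddCommGroup U] [Module k U] [HopfRep.Comod k A U] [Module.Finite k U] :
    ∃ Cc : Submodule k U, HopfRep.IsSubcomod (k := k) (A := A) Cc ∧
      IsCompl (HopfRep.fixedPts k A U) Cc :=
  hG U inferInstance _ isSubcomod_fixedPts

/-- In a finite-dimensional comodule, every subcomodule without invariants lies in any
subcomodule complement of the invariants. -/
theorem le_of_inf_fixedPts_eq_bot (hG : HopfRep.IsLinearlyReductive k A)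
    {U : Type v} [AddCommGroup U] [Module k U] [HopfRep.Comod k A U] [Module.Finite k U]
    {Cc : Submodule k U} (hC : HopfRep.IsSubcomod (k := k) (A := A) Cc)
    (hcompl : IsCompl (HopfRep.fixedPts k A U) Cc)
    {U' : Submodule k U} (hU' : HopfRep.IsSubcomod (k := k) (A := A) U')
    (hinv : U' ⊓ HopfRep.fixedPts k A U = ⊥) : U' ≤ Cc := by
  have hfix := fixedPts_sub_eq_bot hU' hinv
  let _ := subComod U' hU'
  have hsub := isComodHom_subtype U' hU'
  have hπc : Hoch.IsComodHom A ((HopfRep.fixedPts k A U).projection Cc hcompl) :=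
    isComodHom_projection isSubcomod_fixedPts hC hcompl
  have hcomp := H93.isComodHom_comp hsub hπc
  have hL := range_inf_fixedPts_eq_bot hG hfix hcomp
  intro x hx
  have h2 : (HopfRep.fixedPts k A U).projection Cc hcompl x ∈
      LinearMap.range (((HopfRep.fixedPts k A U).projection Cc hcompl) ∘ₗ U'.subtype) ⊓
        HopfRep.fixedPts k A U :=
    ⟨⟨⟨x, hx⟩, rfl⟩, Submodule.projection_apply_mem hcompl x⟩
  rw [hL, Submodule.mem_bot] at h2
  exact (Submodule.projection_apply_eq_zero_iff hcompl).mp h2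

variable (k A) in
/-- Finite-dimensional subcomodules without invariants. -/
def noInvSet (V : Type w) [AddCommGroup V] [Module k V] [HopfRep.Comod k A V] :
    Set (Submodule k V) :=
  {U | HopfRep.IsSubcomod (k := k) (A := A) U ∧ Module.Finite k U ∧
    U ⊓ HopfRep.fixedPts k A V = ⊥}

variable (k A) in
/-- The sum of all finite-dimensional subcomodules without invariants. -/
def N (V : Type w) [AddCommGroup V] [Module k V] [HopfRep.Comod k A V] : Submodule k V :=
  sSup (noInvSet k A V)

theorem isSubcomod_N {V : Type w} [AddCommGroup V] [Module k V] [HopfRep.Comod k A V] :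
    HopfRep.IsSubcomod (k := k) (A := A) (N k A V) :=
  H40.isSubcomod_sSup (fun _ hU => hU.1)

variable {V : Type v} [AddCommGroup V] [Module k V] [HopfRep.Comod k A V]

theorem inf_fixedPts_eq_bot_of_le_sup (hG : HopfRep.IsLinearlyReductive k A)
    {U U1 U2 : Submodule k V} (hsU : HopfRep.IsSubcomod (k := k) (A := A) U)
    [Module.Finite k U] (hU : U ≤ U1 ⊔ U2) (h1le : U1 ≤ U) (h2le : U2 ≤ U)
    (hs1 : HopfRep.IsSubcomod (k := k) (A := A) U1) (hi1 : U1 ⊓ HopfRep.fixedPts k A V = ⊥)
    (hs2 : HopfRep.IsSubcomod (k := k) (A := A) U2) (hi2 : U2 ⊓ HopfRep.fixedPts k A V = ⊥) :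
    U ⊓ HopfRep.fixedPts k A V = ⊥ := by
  let _ := subComod U hsU
  have hsub := isComodHom_subtype U hsU
  obtain ⟨Cc, hC, hcompl⟩ := exists_compl_fixedPts hG U
  have hle : ∀ Ui : Submodule k V, HopfRep.IsSubcomod (k := k) (A := A) Ui →
      Ui ⊓ HopfRep.fixedPts k A V = ⊥ → Ui.comap U.subtype ≤ Cc := by
    intro Ui hsi hii
    apply le_of_inf_fixedPts_eq_bot hG hC hcompl (isSubcomod_comap hsub hsi)
    rw [eq_bot_iff]
    rintro x ⟨hx1, hx2⟩
    have h3 : (x : V) ∈ Ui ⊓ HopfRep.fixedPts k A V := ⟨hx1, map_mem_fixedPts hsub hx2⟩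
    rw [hii, Submodule.mem_bot] at h3
    rw [Submodule.mem_bot]
    exact Subtype.ext h3
  rw [eq_bot_iff]
  rintro x ⟨hxU, hxfix⟩
  obtain ⟨x1, hx1, x2, hx2, hsum⟩ := Submodule.mem_sup.mp (hU hxU)
  have hC1 : (⟨x1, h1le hx1⟩ : U) ∈ Cc := hle U1 hs1 hi1 hx1
  have hC2 : (⟨x2, h2le hx2⟩ : U) ∈ Cc := hle U2 hs2 hi2 hx2
  have hxeq : (⟨x, hxU⟩ : U) = ⟨x1, h1le hx1⟩ + ⟨x2, h2le hx2⟩ := Subtype.ext hsum.symm
  have hsumC : (⟨x, hxU⟩ : U) ∈ Cc := by rw [hxeq]; exact Cc.add_mem hC1 hC2
  have hsumfix : (⟨x, hxU⟩ : U) ∈ HopfRep.fixedPts k A U :=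
    mem_fixedPts_of_map_mem hsub U.injective_subtype hxfix
  have h4 : (⟨x, hxU⟩ : U) ∈ HopfRep.fixedPts k A U ⊓ Cc := ⟨hsumfix, hsumC⟩
  rw [hcompl.inf_eq_bot, Submodule.mem_bot] at h4
  rw [Submodule.mem_bot]
  exact congrArg Subtype.val h4

theorem sup_mem_noInvSet (hG : HopfRep.IsLinearlyReductive k A) {U1 U2 : Submodule k V}
    (h1 : U1 ∈ noInvSet k A V) (h2 : U2 ∈ noInvSet k A V) : U1 ⊔ U2 ∈ noInvSet k A V := by
  obtain ⟨hs1, hf1, hi1⟩ := h1
  obtain ⟨hs2, hf2, hi2⟩ := h2
  have hsU : HopfRep.IsSubcomod (k := k) (A := A) (U1 ⊔ U2) := H93.isSubcomod_sup hs1 hs2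
  have : Module.Finite k ↥(U1 ⊔ U2) := Submodule.finite_sup U1 U2
  exact ⟨hsU, inferInstance, inf_fixedPts_eq_bot_of_le_sup hG hsU le_rfl le_sup_left le_sup_right
    hs1 hi1 hs2 hi2⟩

theorem fixedPts_inf_N (hG : HopfRep.IsLinearlyReductive k A) :
    HopfRep.fixedPts k A V ⊓ N k A V = ⊥ := by
  rw [eq_bot_iff]
  rintro x ⟨hxfix, hxN⟩
  have hne : (noInvSet k A V).Nonempty :=
    ⟨⊥, H93.isSubcomod_bot, inferInstance, bot_inf_eq _⟩
  have hdir : DirectedOn (· ≤ ·) (noInvSet k A V) := by
    intro U1 h1 U2 h2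
    exact ⟨U1 ⊔ U2, sup_mem_noInvSet hG h1 h2, le_sup_left, le_sup_right⟩
  obtain ⟨U, hU, hxU⟩ := (Submodule.mem_sSup_of_directed hne hdir).mp hxN
  have h5 : x ∈ U ⊓ HopfRep.fixedPts k A V := ⟨hxU, hxfix⟩
  rw [hU.2.2] at h5
  exact h5

theorem fixedPts_sup_N (hG : HopfRep.IsLinearlyReductive k A) :
    HopfRep.fixedPts k A V ⊔ N k A V = ⊤ := by
  rw [eq_top_iff]
  intro v _
  obtain ⟨U, hfin, hvU, hsU⟩ := H40.exists_finite_subcomod_mem (k := k) (C := A) v
  have := hfin
  let _ := subComod U hsU
  have hsub := isComodHom_subtype U hsU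
  obtain ⟨Cc, hC, hcompl⟩ := exists_compl_fixedPts hG U
  have hv' : (⟨v, hvU⟩ : U) ∈ HopfRep.fixedPts k A U ⊔ Cc := by
    rw [hcompl.sup_eq_top]; trivial
  obtain ⟨a, ha, c, hc, hac⟩ := Submodule.mem_sup.mp hv'
  have hv_eq : v = (a : V) + (c : V) := (congrArg Subtype.val hac).symm
  rw [hv_eq]
  refine Submodule.add_mem _ (Submodule.mem_sup_left (map_mem_fixedPts hsub ha))
    (Submodule.mem_sup_right ?_)
  have hmem : Cc.map U.subtype ∈ noInvSet k A V := by
    refine ⟨isSubcomod_map hsub hC, inferInstance, ?_⟩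
    rw [eq_bot_iff]
    rintro y ⟨⟨c', hc', rfl⟩, hyfix⟩
    have h1 : c' ∈ HopfRep.fixedPts k A U ⊓ Cc :=
      ⟨mem_fixedPts_of_map_mem hsub U.injective_subtype hyfix, hc'⟩
    rw [hcompl.inf_eq_bot, Submodule.mem_bot] at h1
    rw [h1, map_zero]
    exact Submodule.zero_mem _
  exact (le_sSup hmem) ⟨c, hc, rfl⟩

theorem isCompl_fixedPts_N (hG : HopfRep.IsLinearlyReductive k A) :
    IsCompl (HopfRep.fixedPts k A V) (N k A V) :=
  IsCompl.of_eq (fixedPts_inf_N hG) (fixedPts_sup_N hG)

theorem map_mem_noInvSet (hG : HopfRep.IsLinearlyReductive k A)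
    {X : Type w'} [AddCommGroup X] [Module k X] [HopfRep.Comod k A X]
    {f : V →ₗ[k] X} (hf : Hoch.IsComodHom A f) {U : Submodule k V} (hU : U ∈ noInvSet k A V) :
    U.map f ∈ noInvSet k A X := by
  obtain ⟨hs, hfin, hi⟩ := hU
  have := hfin
  refine ⟨isSubcomod_map hf hs, inferInstance, ?_⟩
  have hfix := fixedPts_sub_eq_bot hs hi
  let _ := subComod U hs
  have hsub := isComodHom_subtype U hs
  have hL := range_inf_fixedPts_eq_bot hG hfix (H93.isComodHom_comp hsub hf)
  rw [LinearMap.range_comp, Submodule.range_subtype] at hL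
  exact hL

theorem map_N_le (hG : HopfRep.IsLinearlyReductive k A)
    {X : Type w'} [AddCommGroup X] [Module k X] [HopfRep.Comod k A X]
    {f : V →ₗ[k] X} (hf : Hoch.IsComodHom A f) : (N k A V).map f ≤ N k A X := by
  rw [Submodule.map_le_iff_le_comap]
  apply sSup_le
  intro U hU
  rw [← Submodule.map_le_iff_le_comap]
  exact le_sSup (map_mem_noInvSet hG hf hU)

theorem apply_eq_zero_of_mem_N (hG : HopfRep.IsLinearlyReductive k A)
    {X : Type v} [AddCommGroup X] [Module k X] [HopfRep.Comod k A X]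
    {f : V →ₗ[k] X} (hf : Hoch.IsComodHom A f) (hrange : ∀ v, f v ∈ HopfRep.fixedPts k A X)
    {n : V} (hn : n ∈ N k A V) : f n = 0 := by
  have h1 : f n ∈ N k A X := map_N_le hG hf ⟨n, hn, rfl⟩
  have h2 : f n ∈ HopfRep.fixedPts k A X ⊓ N k A X := ⟨hrange n, h1⟩
  rw [fixedPts_inf_N hG, Submodule.mem_bot] at h2
  exact h2

variable (V) in
/-- The Reynolds operator: projection onto the invariants along `N`. -/
noncomputable def reynolds (hG : HopfRep.IsLinearlyReductive k A) : V →ₗ[k] V :=
  (HopfRep.fixedPts k A V).projection (N k A V) (isCompl_fixedPts_N hG)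

theorem isComodHom_reynolds (hG : HopfRep.IsLinearlyReductive k A) :
    Hoch.IsComodHom A (reynolds V hG) :=
  isComodHom_projection isSubcomod_fixedPts isSubcomod_N _

theorem reynolds_idem (hG : HopfRep.IsLinearlyReductive k A) :
    reynolds V hG ∘ₗ reynolds V hG = reynolds V hG :=
  Submodule.isIdempotentElem_projection (isCompl_fixedPts_N hG)

theorem reynolds_eq_self_iff (hG : HopfRep.IsLinearlyReductive k A) (x : V) :
    reynolds V hG x = x ↔ x ∈ HopfRep.fixedPts k A V :=
  Submodule.projection_eq_self_iff (isCompl_fixedPts_N hG) x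

theorem reynolds_mem (hG : HopfRep.IsLinearlyReductive k A) (x : V) :
    reynolds V hG x ∈ HopfRep.fixedPts k A V :=
  Submodule.projection_apply_mem (isCompl_fixedPts_N hG) x

theorem reynolds_of_mem_N (hG : HopfRep.IsLinearlyReductive k A) {x : V} (hx : x ∈ N k A V) :
    reynolds V hG x = 0 :=
  Submodule.projection_apply_of_mem_right (isCompl_fixedPts_N hG) hx

theorem reynolds_of_mem_fixedPts (hG : HopfRep.IsLinearlyReductive k A) {x : V}
    (hx : x ∈ HopfRep.fixedPts k A V) : reynolds V hG x = x :=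
  Submodule.projection_apply_of_mem_left (isCompl_fixedPts_N hG) hx

theorem exists_decomp (hG : HopfRep.IsLinearlyReductive k A) (v : V) :
    ∃ a ∈ HopfRep.fixedPts k A V, ∃ n ∈ N k A V, a + n = v := by
  have hv : v ∈ HopfRep.fixedPts k A V ⊔ N k A V := by rw [fixedPts_sup_N hG]; trivial
  exact Submodule.mem_sup.mp hv

/-- Uniqueness of the Reynolds operator. -/
theorem eq_reynolds (hG : HopfRep.IsLinearlyReductive k A) {E : V →ₗ[k] V}
    (h1 : Hoch.IsComodHom A E) (h2 : E ∘ₗ E = E)
    (h3 : ∀ x, E x = x ↔ x ∈ HopfRep.fixedPts k A V) : E = reynolds V hG := by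
  have hrange : ∀ v, E v ∈ HopfRep.fixedPts k A V :=
    fun v => (h3 (E v)).mp (LinearMap.congr_fun h2 v)
  ext v
  obtain ⟨a, ha, n, hn, rfl⟩ := exists_decomp hG v
  rw [map_add, map_add, (h3 a).mpr ha, apply_eq_zero_of_mem_N hG h1 hrange hn,
    reynolds_of_mem_fixedPts hG ha, reynolds_of_mem_N hG hn]

/-- Naturality of the Reynolds operator. -/
theorem reynolds_natural (hG : HopfRep.IsLinearlyReductive k A)
    {X : Type v} [AddCommGroup X] [Module k X] [HopfRep.Comod k A X]
    {f : V →ₗ[k] X} (hf : Hoch.IsComodHom A f) (v : V) :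
    reynolds X hG (f v) = f (reynolds V hG v) := by
  obtain ⟨a, ha, n, hn, rfl⟩ := exists_decomp hG v
  rw [map_add, map_add, map_add, reynolds_of_mem_fixedPts hG ha, reynolds_of_mem_N hG hn,
    reynolds_of_mem_fixedPts hG (map_mem_fixedPts hf ha),
    reynolds_of_mem_N hG (map_N_le hG hf ⟨n, hn, rfl⟩), add_zero, add_zero]

end Reductive

end Groth.Agent.H62
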