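import Groth.Agent.H40.Comod
import Groth.Agent.H62.Reynolds
import Mathlib.RingTheory.HopfAlgebra.Basic
import Mathlib.LinearAlgebra.Matrix.NonsingularInverse

/-!
# Matrix coefficients of a comodule with a finite basis — helper62

For a comodule `V` over a coalgebra `C` with a finite basis `b`, the matrix coefficients
`coeff C b i j : C` are defined by `ρ (b j) = ∑ i, b i ⊗ coeff C b i j`.  They satisfy
`Δ (coeff i j) = ∑ l, coeff i l ⊗ coeff l j` and `ε (coeff i j) = δ i j`, and over a commutative
Hopf algebra the matrix is invertible with inverse given by the antipode.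
-/

set_option autoImplicit false
universe u v w

open TensorProduct

namespace Groth.Agent.H62.MatCoeff
open Groth.Agent.H40

section Lin
variable {k : Type u} [CommRing k] {V : Type w} [AddCommGroup V] [Module k V]
  {ι : Type*} [Fintype ι] (b : Module.Basis ι k V)

/-- Extract the `i`-th coefficient of an element of `V ⊗ M` with respect to a basis of `V`. -/
noncomputable def ext (M : Type*) [AddCommGroup M] [Module k M] (i : ι) : V ⊗[k] M →ₗ[k] M :=
  (TensorProduct.lid k M).toLinearMap ∘ₗ (b.coord i).rTensor M

omit [Fintype ι] in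
@[simp] theorem ext_tmul (M : Type*) [AddCommGroup M] [Module k M] (i : ι) (v : V) (m : M) :
    ext b M i (v ⊗ₜ[k] m) = b.repr v i • m := by
  simp [ext]

theorem ext_sum [DecidableEq ι] (M : Type*) [AddCommGroup M] [Module k M] (i : ι) (c : ι → M) :
    ext b M i (∑ l, b l ⊗ₜ[k] c l) = c i := by
  rw [map_sum, Finset.sum_eq_single i]
  · rw [ext_tmul, b.repr_self, Finsupp.single_eq_same, one_smul]
  · intro l _ hl
    rw [ext_tmul, b.repr_self, Finsupp.single_apply, if_neg hl, zero_smul]
  · intro h
    exact absurd (Finset.mem_univ i) h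

theorem eq_sum_ext (M : Type*) [AddCommGroup M] [Module k M] (x : V ⊗[k] M) :
    x = ∑ i, b i ⊗ₜ[k] ext b M i x := by
  induction x using TensorProduct.induction_on with
  | zero => simp
  | tmul v m =>
    simp only [ext_tmul]
    conv_lhs => rw [← b.sum_repr v]
    rw [TensorProduct.sum_tmul]
    refine Finset.sum_congr rfl fun i _ => ?_
    rw [TensorProduct.smul_tmul]
  | add x y hx hy =>
    conv_lhs => rw [hx, hy]
    rw [← Finset.sum_add_distrib]
    refine Finset.sum_congr rfl fun i _ => ?_
    rw [map_add, TensorProduct.tmul_add]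

omit [Fintype ι] in
theorem ext_lTensor {M N : Type*} [AddCommGroup M] [Module k M] [AddCommGroup N] [Module k N]
    (f : M →ₗ[k] N) (i : ι) (x : V ⊗[k] M) :
    ext b N i (f.lTensor V x) = f (ext b M i x) := by
  induction x using TensorProduct.induction_on with
  | zero => simp
  | tmul v m => simp
  | add x y hx hy => simp only [map_add, hx, hy]

end Lin

section Coalg
variable {k : Type u} [CommRing k] {C : Type v} [AddCommGroup C] [Module k C] [Coalgebra k C]
  {V : Type w} [AddCommGroup V] [Module k V] [HopfRep.Comod k C V]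
  {ι : Type*} [Fintype ι] (b : Module.Basis ι k V)

variable (C) in
/-- The matrix coefficients of the comodule `V` in the basis `b`. -/
noncomputable def coeff (i j : ι) : C := ext b C i (ρ k C V (b j))

theorem coact_basis (j : ι) : ρ k C V (b j) = ∑ i, b i ⊗ₜ[k] coeff C b i j :=
  eq_sum_ext b C _

theorem comul_coeff [DecidableEq ι] (i j : ι) :
    CoalgebraStruct.comul (R := k) (coeff C b i j) = ∑ l, coeff C b i l ⊗ₜ[k] coeff C b l j := by
  have h := coassoc_apply (k := k) (C := C) (b j)
  have h1 : (TensorProduct.assoc k V C C) ((ρ k C V).rTensor C (ρ k C V (b j))) =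
      ∑ i', b i' ⊗ₜ[k] ∑ l, coeff C b i' l ⊗ₜ[k] coeff C b l j := by
    conv_lhs => rw [coact_basis b j]
    rw [map_sum, map_sum]
    simp only [LinearMap.rTensor_tmul]
    have : ∀ l, (TensorProduct.assoc k V C C) (ρ k C V (b l) ⊗ₜ[k] coeff C b l j) =
        ∑ i', b i' ⊗ₜ[k] (coeff C b i' l ⊗ₜ[k] coeff C b l j) := by
      intro l
      rw [coact_basis b l, TensorProduct.sum_tmul, map_sum]
      simp only [TensorProduct.assoc_tmul]
    simp only [this]
    rw [Finset.sum_comm]
    refine Finset.sum_congr rfl fun i' _ => ?_
    rw [TensorProduct.tmul_sum]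
  have h2 := congrArg (ext b (C ⊗[k] C) i) (h.symm.trans h1)
  rw [ext_lTensor, ext_sum] at h2
  exact h2

omit [Fintype ι] in
theorem counit_coeff [DecidableEq ι] (i j : ι) :
    CoalgebraStruct.counit (R := k) (coeff C b i j) = if i = j then 1 else 0 := by
  have h := counit_apply (k := k) (C := C) (b j)
  have h2 := congrArg (ext b k i) h
  rw [ext_lTensor, ext_tmul, b.repr_self, Finsupp.single_apply, smul_eq_mul, mul_one] at h2
  rw [← coeff] at h2
  rw [h2]
  simp only [eq_comm]

end Coalg

section Hopf
variable {k : Type u} [CommRing k] {A : Type v} [CommRing A] [HopfAlgebra k A]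
  {V : Type w} [AddCommGroup V] [Module k V] [HopfRep.Comod k A V]
  {ι : Type*} [Fintype ι] [DecidableEq ι] (b : Module.Basis ι k V)

variable (A) in
/-- The matrix of coefficients. -/
noncomputable def mat : Matrix ι ι A := fun i j => coeff A b i j

theorem mat_mul_antipode :
    mat A b * (mat A b).map (HopfAlgebraStruct.antipode (R := k) (A := A)) = 1 := by
  ext i j
  rw [Matrix.mul_apply]
  have h := HopfAlgebra.mul_antipode_lTensor_comul_apply (R := k) (coeff A b i j)
  rw [comul_coeff, map_sum, map_sum] at h
  simp only [LinearMap.lTensor_tmul, LinearMap.mul'_apply] at h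
  simp only [mat, Matrix.map_apply]
  rw [h, counit_coeff, Matrix.one_apply]
  split_ifs <;> simp

theorem antipode_mul_mat :
    (mat A b).map (HopfAlgebraStruct.antipode (R := k) (A := A)) * mat A b = 1 := by
  ext i j
  rw [Matrix.mul_apply]
  have h := HopfAlgebra.mul_antipode_rTensor_comul_apply (R := k) (coeff A b i j)
  rw [comul_coeff, map_sum, map_sum] at h
  simp only [LinearMap.rTensor_tmul, LinearMap.mul'_apply] at h
  simp only [mat, Matrix.map_apply]
  rw [h, counit_coeff, Matrix.one_apply]
  split_ifs <;> simp

theorem det_mul_det :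
    (mat A b).det * ((mat A b).map (HopfAlgebraStruct.antipode (R := k) (A := A))).det = 1 := by
  rw [← Matrix.det_mul, mat_mul_antipode, Matrix.det_one]

/-- The determinant of the matrix of coefficients is group-like. -/
theorem comul_det :
    CoalgebraStruct.comul (R := k) (mat A b).det = (mat A b).det ⊗ₜ[k] (mat A b).det := by
  change Bialgebra.comulAlgHom k A (mat A b).det = _
  rw [AlgHom.map_det]
  have : (Bialgebra.comulAlgHom k A).mapMatrix (mat A b) =
      (Algebra.TensorProduct.includeLeft : A →ₐ[k] A ⊗[k] A).mapMatrix (mat A b) *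
        (Algebra.TensorProduct.includeRight : A →ₐ[k] A ⊗[k] A).mapMatrix (mat A b) := by
    ext i j
    rw [Matrix.mul_apply]
    simp only [AlgHom.mapMatrix_apply, Matrix.map_apply, mat]
    change CoalgebraStruct.comul (R := k) (coeff A b i j) = _
    rw [comul_coeff]
    refine Finset.sum_congr rfl fun l _ => ?_
    simp [Algebra.TensorProduct.tmul_mul_tmul]
  rw [this, Matrix.det_mul, ← AlgHom.map_det, ← AlgHom.map_det]
  simp [Algebra.TensorProduct.tmul_mul_tmul]

theorem counit_det : CoalgebraStruct.counit (R := k) (mat A b).det = 1 := by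
  change Bialgebra.counitAlgHom k A (mat A b).det = 1
  rw [AlgHom.map_det]
  have : (Bialgebra.counitAlgHom k A).mapMatrix (mat A b) = 1 := by
    ext i j
    simp only [AlgHom.mapMatrix_apply, Matrix.map_apply, mat, Matrix.one_apply]
    exact counit_coeff b i j
  rw [this, Matrix.det_one]

end Hopf

end Groth.Agent.H62.MatCoeff
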