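import Groth.Agent.S7960
import Groth.Agent.S5376
import Groth.Agent.H40.Comod
import Groth.Agent.H62.Reynolds
import Groth.Agent.H62.CoeffFun
import Groth.Agent.H62.MatCoeff

/-!
# Coconnected filtrations of unipotent Hopf algebras — helper62

`IsCoconn C`: an increasing exhaustive filtration `C 0 = k·1 ⊆ C 1 ⊆ ⋯` of a bialgebra with
`Δ (C r) ⊆ Σ C i ⊗ C (r - i)`.

* `exists_isCoconn_of_isUnipotent`: a unipotent affine algebraic group has such a filtration
  (the filtration by "unipotency depth" of matrix coefficients).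
* `isUnipotent_of_isCoconn`: conversely a bialgebra with such a filtration is unipotent.
* `eq_one_of_isGroupLikeElem`: the only group-like element of a coconnected bialgebra is `1`.
-/

set_option autoImplicit false
universe u v w
open TensorProduct

namespace Groth.Agent.H62.Coconn
open Groth.Agent Groth.Agent.H40

section Defs
variable {k : Type u} [Field k] {A : Type v} [CommRing A] [Bialgebra k A]

/-- The coconnectedness condition on a filtration. -/
structure IsCoconn (C : ℕ → Submodule k A) : Prop where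
  mono : Monotone C
  zero : C 0 = Submodule.span k {(1 : A)}
  top : (⨆ r, C r) = ⊤
  comul : ∀ r, Submodule.map (CoalgebraStruct.comul (R := k) (A := A)) (C r) ≤
      ⨆ i ∈ Finset.range (r + 1), LinearMap.range (TensorProduct.mapIncl (C i) (C (r - i)))

end Defs

section Flag
variable {k : Type u} [Field k] {A : Type v} [CommRing A] [Bialgebra k A]
  {V : Type w} [AddCommGroup V] [Module k V] [HopfRep.Comod k A V]

/-- A flag of subcomodules with trivial successive quotients. -/
structure IsFlag (F : ℕ → Submodule k V) : Prop where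
  mono : Monotone F
  zero : F 0 = ⊥
  sub : ∀ i, HopfRep.IsSubcomod (k := k) (A := A) (F i)
  triv : ∀ i, ∀ v ∈ F (i + 1), ρ k A V v - v ⊗ₜ[k] (1 : A) ∈
    LinearMap.range ((F i).subtype.rTensor A)

variable (A) in
/-- The coefficient function of the instance comodule structure. -/
noncomputable abbrev cfi (lam : Module.Dual k V) : V →ₗ[k] A :=
  Cf.cf (k := k) (A := A) (V := V) inferInstance lam

theorem cfi_apply (lam : Module.Dual k V) (v : V) :
    cfi A lam v = Cf.lc A lam (ρ k A V v) := rfl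

omit [HopfRep.Comod k A V] [Bialgebra k A] in
theorem lc_zero (M : Type*) [AddCommGroup M] [Module k M] :
    Cf.lc M (0 : Module.Dual k V) = 0 := by
  unfold Cf.lc
  rw [LinearMap.rTensor_zero, LinearMap.comp_zero]

theorem cfi_eq_zero {F : ℕ → Submodule k V} (hF : IsFlag (A := A) F) {p q : ℕ} (hqp : q ≤ p)
    {lam : Module.Dual k V} (hlam : ∀ x ∈ F p, lam x = 0) {v : V} (hv : v ∈ F q) :
    cfi A lam v = 0 := by
  obtain ⟨t, ht⟩ := hF.sub q v hv
  have h0 : lam ∘ₗ (F q).subtype = 0 := by
    ext x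
    exact hlam x (hF.mono hqp x.2)
  rw [cfi_apply]
  change Cf.lc A lam (HopfRep.Comod.coact (k := k) (A := A) v) = 0
  rw [← ht, Cf.lc_rTensor, h0, lc_zero]
  rfl

theorem cfi_eq_smul {F : ℕ → Submodule k V} (hF : IsFlag (A := A) F) {p q : ℕ} (hq : q ≤ p + 1)
    {lam : Module.Dual k V} (hlam : ∀ x ∈ F p, lam x = 0) {v : V} (hv : v ∈ F q) :
    cfi A lam v = lam v • (1 : A) := by
  obtain ⟨t, ht⟩ := hF.triv p v (hF.mono hq hv)
  have h0 : lam ∘ₗ (F p).subtype = 0 := by
    ext x
    exact hlam x x.2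
  have h1 : ρ k A V v = v ⊗ₜ[k] (1 : A) + (F p).subtype.rTensor A t := by
    rw [ht]; abel
  rw [cfi_apply, h1, map_add, Cf.lc_tmul, Cf.lc_rTensor, h0, lc_zero]
  simp

end Flag

section Fil
variable (k : Type u) [Field k] (A : Type v) [CommRing A] [Bialgebra k A]

/-- Matrix coefficients of "unipotency depth" at most `r`. -/
def Cset (r : ℕ) : Set A :=
  {a | ∃ (V : Type v) (_ : AddCommGroup V) (_ : Module k V) (_ : HopfRep.Comod k A V)
      (_ : Module.Finite k V) (F : ℕ → Submodule k V) (m p q : ℕ) (lam : Module.Dual k V) (v : V),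
      IsFlag (A := A) F ∧ F m = ⊤ ∧ q ≤ p + r + 1 ∧ (∀ x ∈ F p, lam x = 0) ∧ v ∈ F q ∧
        a = cfi A lam v}

/-- The filtration. -/
def Cfil (r : ℕ) : Submodule k A :=
  Submodule.span k {(1 : A)} ⊔ Submodule.span k (Cset k A r)

theorem Cset_mono {r r' : ℕ} (h : r ≤ r') : Cset k A r ⊆ Cset k A r' := by
  rintro a ⟨V, i1, i2, i3, i4, F, m, p, q, lam, v, hF, hm, hq, hlam, hv, rfl⟩
  exact ⟨V, i1, i2, i3, i4, F, m, p, q, lam, v, hF, hm, by omega, hlam, hv, rfl⟩

theorem Cfil_mono : Monotone (Cfil k A) := fun _ _ h =>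
  sup_le_sup_left (Submodule.span_mono (Cset_mono k A h)) _

theorem Cset_le_Cfil (r : ℕ) : Cset k A r ⊆ Cfil k A r := fun _ ha =>
  Submodule.mem_sup_right (Submodule.subset_span ha)

theorem one_mem_Cfil (r : ℕ) : (1 : A) ∈ Cfil k A r :=
  Submodule.mem_sup_left (Submodule.subset_span rfl)

theorem Cfil_zero : Cfil k A 0 = Submodule.span k {(1 : A)} := by
  apply sup_eq_left.mpr
  rw [Submodule.span_le]
  rintro a ⟨V, i1, i2, i3, i4, F, m, p, q, lam, v, hF, hm, hq, hlam, hv, rfl⟩
  rw [cfi_eq_smul hF (by omega) hlam hv]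
  exact Submodule.smul_mem _ _ (Submodule.subset_span rfl)

/-- The target of the comultiplication of `Cfil r`. -/
def Starget (r : ℕ) : Submodule k (A ⊗[k] A) :=
  ⨆ i ∈ Finset.range (r + 1),
    LinearMap.range (TensorProduct.mapIncl (Cfil k A i) (Cfil k A (r - i)))

theorem tmul_mem_Starget {r i j : ℕ} (hij : i + j ≤ r) {x y : A} (hx : x ∈ Cfil k A i)
    (hy : y ∈ Cfil k A j) : x ⊗ₜ[k] y ∈ Starget k A r := by
  have hy' : y ∈ Cfil k A (r - i) := Cfil_mono k A (by omega) hy
  refine Submodule.mem_iSup_of_mem i (Submodule.mem_iSup_of_mem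
    (Finset.mem_range.mpr (by omega)) ⟨(⟨x, hx⟩ : Cfil k A i) ⊗ₜ[k] (⟨y, hy'⟩ : Cfil k A (r - i)), ?_⟩)
  simp [TensorProduct.mapIncl]

theorem exists_proj {V : Type w} [AddCommGroup V] [Module k V] (W : Submodule k V) :
    ∃ P : V →ₗ[k] V, (∀ x, P x ∈ W) ∧ ∀ x ∈ W, P x = x := by
  obtain ⟨G, hG⟩ := Submodule.exists_isCompl W
  refine ⟨W.subtype ∘ₗ Submodule.projectionOnto W G hG, fun x => Submodule.coe_mem _, ?_⟩
  intro x hx
  have := Submodule.projectionOnto_apply_left hG ⟨x, hx⟩
  exact congrArg Subtype.val this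

theorem comul_cfi_mem {V : Type v} [AddCommGroup V] [Module k V] [HopfRep.Comod k A V]
    [Module.Finite k V] {F : ℕ → Submodule k V} (hF : IsFlag (A := A) F) {m : ℕ} (hm : F m = ⊤)
    {p q r : ℕ} (hq : q ≤ p + r + 1) {lam : Module.Dual k V} (hlam : ∀ x ∈ F p, lam x = 0)
    {v : V} (hv : v ∈ F q) :
    CoalgebraStruct.comul (R := k) (cfi A lam v) ∈ Starget k A r := by
  classical
  have hP := fun l => exists_proj k (F l)
  choose P hP1 hP2 using hP
  let π : ℕ → V →ₗ[k] V := fun j => P (j + 1) - P j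
  have hsum : ∑ j ∈ Finset.range m, π j = LinearMap.id := by
    rw [Finset.sum_range_sub (f := P) m]
    have hPm : P m = LinearMap.id := by
      ext x
      exact hP2 m x (by rw [hm]; trivial)
    have hP0 : P 0 = 0 := by
      ext x
      have := hP1 0 x
      rw [hF.zero, Submodule.mem_bot] at this
      exact this
    rw [hPm, hP0, sub_zero]
  have hρ : ρ k A V v = ∑ j ∈ Finset.range m, (π j).rTensor A (ρ k A V v) := by
    have h1 := congrArg (fun f : V →ₗ[k] V => f.rTensor A (ρ k A V v)) hsum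
    simp only [LinearMap.rTensor_id, LinearMap.id_apply] at h1
    have h2 : (∑ j ∈ Finset.range m, π j).rTensor A =
        ∑ j ∈ Finset.range m, (π j).rTensor A := map_sum (LinearMap.rTensorHom A) _ _
    rw [h2, LinearMap.sum_apply] at h1
    exact h1.symm
  have hΔ : CoalgebraStruct.comul (R := k) (cfi A lam v) = (cfi A lam).rTensor A (ρ k A V v) :=
    Cf.comul_cf (k := k) (A := A) (V := V) inferInstance lam v
  rw [hΔ, hρ, map_sum]
  refine Submodule.sum_mem _ fun j _ => ?_
  -- the j-th term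
  have hπmem : ∀ x, π j x ∈ F (j + 1) := fun x =>
    Submodule.sub_mem _ (hP1 (j + 1) x) (hF.mono (Nat.le_succ j) (hP1 j x))
  have hπkill : ∀ x ∈ F j, π j x = 0 := by
    intro x hx
    change P (j + 1) x - P j x = 0
    rw [hP2 j x hx, hP2 (j + 1) x (hF.mono (Nat.le_succ j) hx), sub_self]
  let πc : V →ₗ[k] F (j + 1) := LinearMap.codRestrict (F (j + 1)) (π j) hπmem
  have hπc : π j = (F (j + 1)).subtype ∘ₗ πc := (LinearMap.subtype_comp_codRestrict _ _ _).symm
  let c : Module.Basis (Fin (Module.finrank k (F (j + 1)))) k (F (j + 1)) :=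
    Module.finBasis k (F (j + 1))
  have hy := MatCoeff.eq_sum_ext c A (πc.rTensor A (ρ k A V v))
  have hext : ∀ s, MatCoeff.ext c A s (πc.rTensor A (ρ k A V v)) =
      cfi A (c.coord s ∘ₗ πc) v := by
    intro s
    change Cf.lc A (c.coord s) (πc.rTensor A (ρ k A V v)) = _
    rw [Cf.lc_rTensor]
    rfl
  have hterm : (cfi A lam).rTensor A ((π j).rTensor A (ρ k A V v)) =
      ∑ s, cfi A lam (c s : V) ⊗ₜ[k] cfi A (c.coord s ∘ₗ πc) v := by
    rw [hπc, LinearMap.rTensor_comp, LinearMap.comp_apply, hy, map_sum, map_sum]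
    refine Finset.sum_congr rfl fun s _ => ?_
    rw [LinearMap.rTensor_tmul, LinearMap.rTensor_tmul, hext]
    rfl
  rw [hterm]
  refine Submodule.sum_mem _ fun s _ => ?_
  have hμ : ∀ x ∈ F j, (c.coord s ∘ₗ πc) x = 0 := by
    intro x hx
    have h0 : πc x = 0 := Subtype.ext (hπkill x hx)
    rw [LinearMap.comp_apply, h0, map_zero]
  by_cases h1 : j + 1 ≤ p
  · rw [cfi_eq_zero hF h1 hlam (c s).2, TensorProduct.zero_tmul]
    exact Submodule.zero_mem _
  by_cases h2 : q ≤ j
  · rw [cfi_eq_zero hF h2 hμ hv, TensorProduct.tmul_zero]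
    exact Submodule.zero_mem _
  push Not at h1 h2
  have hx1 : cfi A lam (c s : V) ∈ Cfil k A (j - p) :=
    Cset_le_Cfil k A _ ⟨V, inferInstance, inferInstance, inferInstance, inferInstance, F, m, p,
      j + 1, lam, (c s : V), hF, hm, by omega, hlam, (c s).2, rfl⟩
  have hx2 : cfi A (c.coord s ∘ₗ πc) v ∈ Cfil k A (q - j - 1) :=
    Cset_le_Cfil k A _ ⟨V, inferInstance, inferInstance, inferInstance, inferInstance, F, m, j,
      q, c.coord s ∘ₗ πc, v, hF, hm, by omega, hμ, hv, rfl⟩
  exact tmul_mem_Starget k A (by omega) hx1 hx2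

theorem Cfil_comul (r : ℕ) :
    Submodule.map (CoalgebraStruct.comul (R := k) (A := A)) (Cfil k A r) ≤ Starget k A r := by
  unfold Cfil
  rw [Submodule.map_sup, Submodule.map_span, Submodule.map_span, sup_le_iff, Submodule.span_le,
    Submodule.span_le]
  constructor
  · rintro _ ⟨a, rfl, rfl⟩
    rw [Bialgebra.comul_one, Algebra.TensorProduct.one_def]
    exact tmul_mem_Starget k A (i := 0) (j := 0) (by omega) (one_mem_Cfil k A 0) (one_mem_Cfil k A 0)
  · rintro _ ⟨a, ⟨V, i1, i2, i3, i4, F, m, p, q, lam, v, hF, hm, hq, hlam, hv, rfl⟩, rfl⟩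
    exact comul_cfi_mem k A hF hm hq hlam hv

end Fil

section Unip
variable (k : Type u) [Field k] (A : Type v) [CommRing A] [HopfAlgebra k A]

theorem mem_Cfil_of_isUnipotent [Algebra.FiniteType k A] (hU : HopfRep.IsUnipotent k A) (a : A) :
    ∃ r, a ∈ Cfil k A r := by
  obtain ⟨W, hfin, haW, hW⟩ := exists_finite_subcomod_mem (k := k) (C := A) (V := A) a
  let _ := subComod W hW
  obtain ⟨m, F, hmono, h0, hm, hsub, htriv⟩ := (Groth.Agent.S7960.result k A).mp hU W hfin
  have hF : IsFlag (A := A) F := ⟨hmono, h0, hsub, htriv⟩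
  let lam : Module.Dual k W := CoalgebraStruct.counit (R := k) (A := A) ∘ₗ W.subtype
  have hcf : cfi A lam (⟨a, haW⟩ : W) = a := by
    rw [cfi_apply]
    have h1 : W.subtype.rTensor A (ρ k A W ⟨a, haW⟩) = CoalgebraStruct.comul (R := k) a :=
      subCoact_spec W hW ⟨a, haW⟩
    change Cf.lc A (CoalgebraStruct.counit (R := k) (A := A) ∘ₗ W.subtype) (ρ k A W ⟨a, haW⟩) = a
    rw [← Cf.lc_rTensor, h1]
    unfold Cf.lc
    rw [LinearMap.comp_apply, Coalgebra.rTensor_counit_comul]
    simp
  refine ⟨m, Cset_le_Cfil k A m ⟨W, inferInstance, inferInstance, inferInstance, hfin, F, m, 0, m,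
    lam, ⟨a, haW⟩, hF, hm, by omega, ?_, by rw [hm]; trivial, hcf.symm⟩⟩
  intro x hx
  rw [h0, Submodule.mem_bot] at hx
  rw [hx, map_zero]

theorem exists_isCoconn_of_isUnipotent [Algebra.FiniteType k A] (hU : HopfRep.IsUnipotent k A) :
    ∃ C : ℕ → Submodule k A, IsCoconn C := by
  refine ⟨Cfil k A, Cfil_mono k A, Cfil_zero k A, ?_, Cfil_comul k A⟩
  rw [eq_top_iff]
  intro a _
  obtain ⟨r, hr⟩ := mem_Cfil_of_isUnipotent k A hU a
  exact Submodule.mem_iSup_of_mem r hr

end Unip

section Conv
variable {k : Type u} [Field k] {A : Type v} [CommRing A] [Bialgebra k A]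

/-- If `f` kills `C r` then `a ↦ Σ a₁ f(a₂)` maps `C (r+1)` into `C 0`. -/
theorem contr_comul_mem {C : ℕ → Submodule k A} (hC : IsCoconn C) {r : ℕ} {f : A →ₗ[k] k}
    (hf : ∀ c ∈ C r, f c = 0) {a : A} (ha : a ∈ C (r + 1)) :
    contr A f (CoalgebraStruct.comul (R := k) a) ∈ C 0 := by
  have h1 : CoalgebraStruct.comul (R := k) a ∈
      ⨆ i ∈ Finset.range (r + 1 + 1),
        LinearMap.range (TensorProduct.mapIncl (C i) (C (r + 1 - i))) :=
    hC.comul (r + 1) (Submodule.mem_map_of_mem ha)
  have h2 : (⨆ i ∈ Finset.range (r + 1 + 1),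
      LinearMap.range (TensorProduct.mapIncl (C i) (C (r + 1 - i)))) ≤
      Submodule.comap (contr A f) (C 0) := by
    refine iSup₂_le fun i _ => ?_
    rintro _ ⟨t, rfl⟩
    rw [Submodule.mem_comap]
    induction t using TensorProduct.induction_on with
    | zero => simp
    | tmul c c' =>
      rw [TensorProduct.mapIncl, TensorProduct.map_tmul, contr_tmul]
      rcases Nat.eq_zero_or_pos i with rfl | hi
      · exact Submodule.smul_mem _ _ c.2
      · have : f (c' : A) = 0 := hf _ (hC.mono (by omega) c'.2)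
        simp only [Submodule.subtype_apply]
        rw [this, zero_smul]
        exact Submodule.zero_mem _
    | add x y hx hy =>
      rw [map_add, map_add]
      exact Submodule.add_mem _ hx hy
  exact h2 h1

theorem range_lTensor_mono {V : Type w} [AddCommGroup V] [Module k V] {D D' : Submodule k A}
    (h : D ≤ D') :
    LinearMap.range (D.subtype.lTensor V) ≤ LinearMap.range (D'.subtype.lTensor V) := by
  have : D.subtype = D'.subtype ∘ₗ Submodule.inclusion h := by ext; rfl
  rw [this, LinearMap.lTensor_comp]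
  exact LinearMap.range_comp_le_range _ _

theorem exists_mem_range_lTensor {C : ℕ → Submodule k A} (hC : IsCoconn C)
    {V : Type w} [AddCommGroup V] [Module k V] (x : V ⊗[k] A) :
    ∃ r, x ∈ LinearMap.range ((C r).subtype.lTensor V) := by
  induction x using TensorProduct.induction_on with
  | zero => exact ⟨0, Submodule.zero_mem _⟩
  | tmul v a =>
    have ha : a ∈ ⨆ r, C r := by rw [hC.top]; trivial
    obtain ⟨r, hr⟩ := (Submodule.mem_iSup_of_directed C hC.mono.directed_le).mp ha
    exact ⟨r, v ⊗ₜ[k] (⟨a, hr⟩ : C r), by simp⟩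
  | add x y hx hy =>
    obtain ⟨r1, h1⟩ := hx
    obtain ⟨r2, h2⟩ := hy
    exact ⟨max r1 r2, Submodule.add_mem _
      (range_lTensor_mono (hC.mono (le_max_left _ _)) h1)
      (range_lTensor_mono (hC.mono (le_max_right _ _)) h2)⟩

omit [Bialgebra k A] in
theorem coord_contr {V : Type w} [AddCommGroup V] [Module k V] {ι : Type*}
    (b : Module.Basis ι k V) {M : Type*} [AddCommGroup M] [Module k M] (φ : M →ₗ[k] k) (t : ι)
    (z : V ⊗[k] M) :
    φ (MatCoeff.ext b M t z) = b.coord t ((TensorProduct.rid k V) (φ.lTensor V z)) := by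
  induction z using TensorProduct.induction_on with
  | zero => simp
  | tmul v m => simp [mul_comm]
  | add x y hx hy => simp only [map_add, hx, hy]

omit [Bialgebra k A] in
/-- An element of `V ⊗ M` all of whose contractions vanish is zero. -/
theorem eq_zero_of_forall_contr {V : Type w} [AddCommGroup V] [Module k V] [Module.Finite k V]
    {M : Type*} [AddCommGroup M] [Module k M] (z : V ⊗[k] M)
    (h : ∀ φ : M →ₗ[k] k, (TensorProduct.rid k V) (φ.lTensor V z) = 0) : z = 0 := by
  classical
  let b := Module.finBasis k V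
  rw [MatCoeff.eq_sum_ext b M z]
  refine Finset.sum_eq_zero fun t _ => ?_
  have : MatCoeff.ext b M t z = 0 := by
    rw [← Module.forall_dual_apply_eq_zero_iff k]
    intro φ
    rw [coord_contr, h φ, map_zero]
  rw [this, TensorProduct.tmul_zero]

/-- The vectors whose coaction has coefficients in `D`. -/
noncomputable def VD {V : Type w} [AddCommGroup V] [Module k V] [HopfRep.Comod k A V] (D : Submodule k A) :
    Submodule k V :=
  Submodule.comap (ρ k A V) (LinearMap.range (D.subtype.lTensor V))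

theorem VD_zero_le {C : ℕ → Submodule k A} (hC : IsCoconn C)
    {V : Type w} [AddCommGroup V] [Module k V] [HopfRep.Comod k A V] :
    VD (V := V) (C 0) ≤ HopfRep.fixedPts k A V := by
  intro v hv
  obtain ⟨t, ht⟩ := hv
  have key : ∀ t : V ⊗[k] (C 0), ∃ w : V, (C 0).subtype.lTensor V t = w ⊗ₜ[k] (1 : A) := by
    intro t
    induction t using TensorProduct.induction_on with
    | zero => exact ⟨0, by simp⟩
    | tmul v' c =>
      obtain ⟨c, hc⟩ := c
      have hc' := hc
      rw [hC.zero, Submodule.mem_span_singleton] at hc'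
      obtain ⟨κ, rfl⟩ := hc'
      refine ⟨κ • v', ?_⟩
      rw [LinearMap.lTensor_tmul, Submodule.subtype_apply, TensorProduct.tmul_smul,
        TensorProduct.smul_tmul']
    | add x y hx hy =>
      obtain ⟨w1, h1⟩ := hx
      obtain ⟨w2, h2⟩ := hy
      exact ⟨w1 + w2, by rw [map_add, h1, h2, TensorProduct.add_tmul]⟩
  obtain ⟨w, hw⟩ := key t
  have h1 : ρ k A V v = w ⊗ₜ[k] (1 : A) := by rw [← ht, hw]
  have h2 : v = w := by
    have := contr_counit_coact (k := k) (C := A) v
    rw [h1, contr_tmul, Bialgebra.counit_one, one_smul] at this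
    exact this.symm
  rw [H62.mem_fixedPts_iff]
  change ρ k A V v = v ⊗ₜ[k] (1 : A)
  rw [h1, h2]

theorem VD_step {C : ℕ → Submodule k A} (hC : IsCoconn C)
    {V : Type w} [AddCommGroup V] [Module k V] [HopfRep.Comod k A V] [Module.Finite k V]
    (h0 : VD (V := V) (C 0) = ⊥) (r : ℕ) {v : V} (hv : v ∈ VD (C (r + 1))) : v ∈ VD (C r) := by
  obtain ⟨t, ht⟩ := hv
  -- every contraction against a functional killing `C r` vanishes
  have hkill : ∀ f : A →ₗ[k] k, (∀ c ∈ C r, f c = 0) → contr V f (ρ k A V v) = 0 := by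
    intro f hf
    have hmem : contr V f (ρ k A V v) ∈ VD (V := V) (C 0) := by
      change ρ k A V (contr V f (ρ k A V v)) ∈ LinearMap.range ((C 0).subtype.lTensor V)
      rw [coact_contr_coact]
      let g' : C (r + 1) →ₗ[k] C 0 := LinearMap.codRestrict (C 0)
        ((contr A f ∘ₗ CoalgebraStruct.comul (R := k) (A := A)) ∘ₗ (C (r + 1)).subtype)
        (fun a => contr_comul_mem hC hf a.2)
      have hg' : (contr A f ∘ₗ CoalgebraStruct.comul (R := k) (A := A)) ∘ₗ (C (r + 1)).subtype =
          (C 0).subtype ∘ₗ g' := (LinearMap.subtype_comp_codRestrict _ _ _).symm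
      refine ⟨g'.lTensor V t, ?_⟩
      rw [← ht, ← LinearMap.comp_apply, ← LinearMap.lTensor_comp, ← hg', LinearMap.lTensor_comp,
        LinearMap.comp_apply]
    rw [h0, Submodule.mem_bot] at hmem
    exact hmem
  -- hence the image in `V ⊗ A / C r` vanishes
  have hz : (C r).mkQ.lTensor V (ρ k A V v) = 0 := by
    apply eq_zero_of_forall_contr
    intro φ
    have h1 := hkill (φ ∘ₗ (C r).mkQ) (fun c hc => by
      rw [LinearMap.comp_apply, Submodule.mkQ_apply, (Submodule.Quotient.mk_eq_zero _).mpr hc,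
        map_zero])
    rw [← LinearMap.comp_apply, ← LinearMap.lTensor_comp]
    exact h1
  have hex := lTensor_exact V (LinearMap.exact_subtype_mkQ (C r)) (Submodule.mkQ_surjective (C r))
  exact (hex _).mp hz

/-- A bialgebra with a coconnected filtration is unipotent. -/
theorem isUnipotent_of_isCoconn {C : ℕ → Submodule k A} (hC : IsCoconn C) :
    HopfRep.IsUnipotent k A := by
  intro V _ _ _ hfin hnt hfix
  have h0 : VD (V := V) (C 0) = ⊥ := by
    rw [eq_bot_iff, ← hfix]
    exact VD_zero_le hC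
  obtain ⟨v, hv⟩ := exists_ne (0 : V)
  obtain ⟨r, hr⟩ := exists_mem_range_lTensor hC (ρ k A V v)
  have hdown : ∀ r, v ∈ VD (C r) → v ∈ VD (V := V) (C 0) := by
    intro r
    induction r with
    | zero => exact id
    | succ r ih => exact fun h => ih (VD_step hC h0 r h)
  have := hdown r hr
  rw [h0, Submodule.mem_bot] at this
  exact hv this

/-- The only group-like element of a coconnected bialgebra is `1`. -/
theorem eq_one_of_isGroupLikeElem {C : ℕ → Submodule k A} (hC : IsCoconn C) {g : A}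
    (hg : IsGroupLikeElem k g) : g = 1 := by
  have hmem : g ∈ ⨆ r, C r := by rw [hC.top]; trivial
  obtain ⟨r, hr⟩ := (Submodule.mem_iSup_of_directed C hC.mono.directed_le).mp hmem
  have hdown : ∀ r, g ∈ C r → g ∈ C 0 := by
    intro r
    induction r with
    | zero => exact id
    | succ r ih =>
      intro h
      by_cases hgr : g ∈ C r
      · exact ih hgr
      · obtain ⟨f, hf, hf'⟩ := Submodule.exists_dual_map_eq_bot_of_notMem hgr inferInstance
        have hkill : ∀ c ∈ C r, f c = 0 := by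
          intro c hc
          have : f c ∈ (C r).map f := Submodule.mem_map_of_mem hc
          rw [hf', Submodule.mem_bot] at this
          exact this
        have h1 := contr_comul_mem hC hkill h
        rw [hg.comul_eq_tmul_self, contr_tmul] at h1
        have h2 : g = (f g)⁻¹ • (f g • g) := by
          rw [smul_smul, inv_mul_cancel₀ hf, one_smul]
        rw [h2]
        exact Submodule.smul_mem _ _ h1
  have h0 := hdown r hr
  rw [hC.zero, Submodule.mem_span_singleton] at h0
  obtain ⟨κ, rfl⟩ := h0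
  have h1 := hg.counit_eq_one
  rw [map_smul, Bialgebra.counit_one, smul_eq_mul, mul_one] at h1
  rw [h1, one_smul]

end Conv

end Groth.Agent.H62.Coconn
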