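import Groth.Prelude.Def_HopfRep
import Groth.Agent.H40.Comod
import Mathlib

/-!
# The action of `R`-points of `Spec A` on `V ⊗ R`, for an `A`-comodule `V`
-/

set_option autoImplicit false
universe u v w x

open TensorProduct WithConv

namespace Groth.Agent.H62.ActR
open Groth.Agent.H40

variable {k : Type u} [CommRing k] {A : Type v} [CommRing A] [Bialgebra k A]
  {V : Type w} [AddCommGroup V] [Module k V] [HopfRep.Comod k A V]
  {R : Type x} [CommRing R] [Algebra k R]

/-- `v ↦ g · v = Σ v₀ ⊗ g(v₁)`. -/
noncomputable def gam (g : A →ₐ[k] R) : V →ₗ[k] V ⊗[k] R :=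
  g.toLinearMap.lTensor V ∘ₗ ρ k A V

theorem gam_apply (g : A →ₐ[k] R) (v : V) :
    gam g v = g.toLinearMap.lTensor V (ρ k A V v) := rfl

/-- Multiply the `R`-parts: `(V ⊗ R) ⊗ R → V ⊗ R`. -/
noncomputable def mulR (V : Type w) [AddCommGroup V] [Module k V] (R : Type x) [CommRing R]
    [Algebra k R] : (V ⊗[k] R) ⊗[k] R →ₗ[k] V ⊗[k] R :=
  (LinearMap.mul' k R).lTensor V ∘ₗ (TensorProduct.assoc k V R R).toLinearMap

@[simp] theorem mulR_tmul (v : V) (r s : R) :
    mulR V R ((v ⊗ₜ[k] r) ⊗ₜ[k] s) = v ⊗ₜ[k] (r * s) := by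
  simp [mulR]

/-- The `R`-linear extension of `gam g`, as a `k`-linear endomorphism of `V ⊗ R`. -/
noncomputable def actR (g : A →ₐ[k] R) : V ⊗[k] R →ₗ[k] V ⊗[k] R :=
  mulR V R ∘ₗ (gam g).rTensor R

theorem actR_tmul (g : A →ₐ[k] R) (v : V) (r : R) :
    actR g (v ⊗ₜ[k] r) = mulR V R (gam g v ⊗ₜ[k] r) := rfl

theorem actR_tmul_one (g : A →ₐ[k] R) (v : V) :
    actR g (v ⊗ₜ[k] (1 : R)) = gam g v := by
  rw [actR_tmul]
  generalize gam g v = y
  induction y using TensorProduct.induction_on with
  | zero => simp
  | tmul v r => simp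
  | add x y hx hy => rw [TensorProduct.add_tmul, map_add, hx, hy]

/-- `(g * h) · v = g · (h · v)`. -/
theorem gam_mul (g h : A →ₐ[k] R) (v : V) :
    gam (toConv g * toConv h).ofConv v = actR g (gam h v) := by
  have key : ∀ y : V ⊗[k] A,
      (toConv g * toConv h).ofConv.toLinearMap.lTensor V y =
        mulR V R ((TensorProduct.map g.toLinearMap h.toLinearMap).lTensor V
          ((CoalgebraStruct.comul (R := k) (A := A)).lTensor V y) |>
          (TensorProduct.assoc k V R R).symm) := by
    intro y
    induction y using TensorProduct.induction_on with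
    | zero => simp
    | add x y hx hy => simp only [map_add, hx, hy]
    | tmul v a =>
      simp only [LinearMap.lTensor_tmul, AlgHom.toLinearMap_apply]
      rw [AlgHom.convMul_apply]
      generalize CoalgebraStruct.comul (R := k) a = z
      induction z using TensorProduct.induction_on with
      | zero => simp
      | add x y hx hy => simp only [map_add, TensorProduct.tmul_add, hx, hy]
      | tmul a b => simp
  rw [gam_apply, key, ← coassoc_apply]
  rw [gam_apply]
  generalize ρ k A V v = y
  induction y using TensorProduct.induction_on with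
  | zero => simp
  | add x y hx hy => simp only [map_add, hx, hy]
  | tmul v a =>
    simp only [LinearMap.rTensor_tmul, LinearMap.lTensor_tmul, AlgHom.toLinearMap_apply,
      actR_tmul, gam_apply]
    generalize ρ k A V v = z
    induction z using TensorProduct.induction_on with
    | zero => simp
    | add x y hx hy => simp only [map_add, TensorProduct.add_tmul, hx, hy]
    | tmul v b => simp

/-- The unit point acts trivially. -/
theorem gam_one (v : V) :
    gam ((Algebra.ofId k R).comp (Bialgebra.counitAlgHom k A)) v = v ⊗ₜ[k] (1 : R) := by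
  rw [gam_apply]
  have : ((Algebra.ofId k R).comp (Bialgebra.counitAlgHom k A)).toLinearMap =
      (Algebra.linearMap k R) ∘ₗ (CoalgebraStruct.counit (R := k) (A := A)) := by
    ext a; rfl
  rw [this, LinearMap.lTensor_comp, LinearMap.comp_apply, counit_apply]
  simp

end Groth.Agent.H62.ActR
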