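import Mathlib
import Groth.Prelude.Def_GrTwist
import Groth.Prelude.Def_GrMod3
import Groth.Agent.H24.PullSections
import Groth.Agent.H8.IsoCover
import Groth.Agent.H8.PullbackStalk
import Groth.Agent.H88.BCTwDefs

/-!
# (G1) for the S4406 squad: the adjunct of `α : F ⟶ h_* G` is an isomorphism if it is so over an
affine cover (stated elementwise)
-/

set_option autoImplicit false
universe u
open CategoryTheory CategoryTheory.Limits AlgebraicGeometry Opposite TopologicalSpace TensorProduct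
open Groth.Agent.H88.BCTw

namespace Groth.Agent.H62.BCTw_G1

open Groth.Agent.H39.PullTrack OmegaSh

variable {X Y : Scheme.{u}}

/-- the adjunct `β` of `α` sends a pulled back section `h^* x` to `α x`. -/
theorem adjunct_app_pullSectLE (h : Y ⟶ X) (F : X.Modules) (G : Y.Modules)
    (α : F ⟶ (Scheme.Modules.pushforward h).obj G) (U : X.Opens) (x : Γ(F, U)) :
    (((Scheme.Modules.pullbackPushforwardAdjunction h).homEquiv F G).symm α).app (h ⁻¹ᵁ U)
        (pullSectLE h F U (h ⁻¹ᵁ U) le_rfl x) = pushSec h G U (α.app U x) := by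
  rw [pullSectLE_self, ← Groth.Agent.H39.DerKit.homEquiv_app, Equiv.apply_symm_apply]

/-- (G1) the adjunct of `α : F ⟶ h_* G` is an isomorphism as soon as, over an affine cover of `Y`
by preimages of affine opens of `X`, the map `Γ(Y,h⁻¹U) ⊗_{Γ(X,U)} Γ(F,U) → Γ(G,h⁻¹U)` is bijective
(stated elementwise). -/
theorem isIso_adjunct_of_affine_cover (h : Y ⟶ X) (F : X.Modules) [F.IsQuasicoherent]
    (G : Y.Modules) [G.IsQuasicoherent]
    (α : F ⟶ (Scheme.Modules.pushforward h).obj G)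
    {ι : Type*} (U : ι → X.Opens) (hU : ∀ i, IsAffineOpen (U i))
    (hU' : ∀ i, IsAffineOpen (h ⁻¹ᵁ U i)) (hcov : IsOpenCover fun i => h ⁻¹ᵁ U i)
    (hsurj : ∀ (i : ι) (t : Γ(G, h ⁻¹ᵁ U i)), ∃ (l : ℕ) (c : Fin l → Γ(Y, h ⁻¹ᵁ U i))
      (x : Fin l → Γ(F, U i)), t = ∑ j, c j • pushSec h G (U i) (α.app (U i) (x j)))
    (hinj : ∀ (i : ι) (l : ℕ) (c : Fin l → Γ(Y, h ⁻¹ᵁ U i)) (x : Fin l → Γ(F, U i)),
      ∑ j, c j • pushSec h G (U i) (α.app (U i) (x j)) = 0 →
        Groth.Agent.H24.TensorStage.SumZero (h.appLE (U i) (h ⁻¹ᵁ U i) le_rfl).hom c x) :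
    IsIso (((Scheme.Modules.pullbackPushforwardAdjunction h).homEquiv F G).symm α) := by
  haveI : ((Scheme.Modules.pullback h).obj F).IsQuasicoherent :=
    Groth.Agent.H8.isQuasicoherent_pullback h F
  refine Groth.Agent.H8.isIso_of_bijective_affine_cover _ (fun i => h ⁻¹ᵁ U i) hcov hU' ?_
  intro i
  have hβ : ∀ (l : ℕ) (c : Fin l → Γ(Y, h ⁻¹ᵁ U i)) (x : Fin l → Γ(F, U i)),
      (((Scheme.Modules.pullbackPushforwardAdjunction h).homEquiv F G).symm α).app (h ⁻¹ᵁ U i)
        (∑ j, c j • pullSectLE h F (U i) (h ⁻¹ᵁ U i) le_rfl (x j)) =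
        ∑ j, c j • pushSec h G (U i) (α.app (U i) (x j)) := by
    intro l c x
    rw [map_sum]
    refine Finset.sum_congr rfl fun j _ => ?_
    rw [Scheme.Modules.Hom.app_smul, adjunct_app_pullSectLE]
  constructor
  · have key : ∀ z : Γ((Scheme.Modules.pullback h).obj F, h ⁻¹ᵁ U i),
        (((Scheme.Modules.pullbackPushforwardAdjunction h).homEquiv F G).symm α).app
          (h ⁻¹ᵁ U i) z = 0 → z = 0 := by
      intro z hz
      obtain ⟨l, c, x, rfl⟩ :=
        Groth.Agent.H24.PullSections.exists_sum_pullSectLE h F (hU i) (hU' i) le_rfl z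
      rw [hβ] at hz
      exact (Groth.Agent.H24.PullSections.sum_smul_pullSectLE_eq_zero_iff h F (hU i) (hU' i)
        le_rfl c x).2 (hinj i l c x hz)
    intro z₁ z₂ h12
    have : z₁ - z₂ = 0 := key _ (by rw [map_sub, h12, sub_self])
    exact sub_eq_zero.mp this
  · intro t
    obtain ⟨l, c, x, rfl⟩ := hsurj i t
    exact ⟨∑ j, c j • pullSectLE h F (U i) (h ⁻¹ᵁ U i) le_rfl (x j), hβ l c x⟩

end Groth.Agent.H62.BCTw_G1
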