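import Mathlib
import Groth.Prelude.Def_DDual2
set_option autoImplicit false
universe u
open CategoryTheory Limits MonoidalCategory
attribute [local instance] HasDerivedCategory.standard

namespace Groth.Agent.H62.Inv2_DB

/-- dual basis data on an object of `ModuleCat A`. -/
structure DBasis (A : Type u) [CommRing A] (M : ModuleCat.{u} A) where
  n : ℕ
  r : Fin n → (ModuleCat.of A A ⟶ M)
  ξ : Fin n → (M ⟶ ModuleCat.of A A)
  h : ∑ j, ξ j ≫ r j = 𝟙 M

theorem exists_dbasis (A : Type u) [CommRing A] (P : Type u) [AddCommGroup P] [Module A P]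
    [Module.Finite A P] [Module.Projective A P] : Nonempty (DBasis A (ModuleCat.of A P)) := by
  obtain ⟨n, f, g, -, -, hfg⟩ := Module.Finite.exists_comp_eq_id_of_projective A P
  refine ⟨⟨n, fun j => ModuleCat.ofHom (f ∘ₗ LinearMap.single A (fun _ : Fin n => A) j),
    fun j => ModuleCat.ofHom (LinearMap.proj j ∘ₗ g), ?_⟩⟩
  apply ModuleCat.hom_ext
  apply LinearMap.ext
  intro p
  rw [ModuleCat.hom_sum, LinearMap.sum_apply]
  have h1 : ∀ j : Fin n, ((ModuleCat.ofHom (LinearMap.proj j ∘ₗ g) ≫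
      ModuleCat.ofHom (f ∘ₗ LinearMap.single A (fun _ : Fin n => A) j)).hom) p =
      f (Pi.single j (g p j)) := fun j => rfl
  rw [Finset.sum_congr rfl (fun j _ => h1 j), ← map_sum, Finset.univ_sum_single]
  have := LinearMap.congr_fun hfg p
  simpa using this

theorem end_eq (A : Type u) [CommRing A] (e : ModuleCat.of A A ⟶ ModuleCat.of A A) :
    e = (e.hom (1 : A)) • 𝟙 (ModuleCat.of A A) := by
  let φ : A →ₗ[A] A := e.hom
  have h : ∀ x : A, φ x = φ 1 * x := fun x => by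
    have h0 := φ.map_smul x 1
    rw [smul_eq_mul, mul_one, smul_eq_mul] at h0
    rw [h0, mul_comm]
  apply ModuleCat.hom_ext
  apply LinearMap.ext
  intro x
  rw [ModuleCat.hom_smul, ModuleCat.hom_id]
  exact h x

section

variable {A : Type u} [CommRing A] {D : Type*} [Category D] [Preadditive D] [Linear A D]
  (X : ModuleCat.{u} A ⥤ D) [X.Additive] [X.Linear A]

theorem expand_left {M : ModuleCat.{u} A} (b : DBasis A M) {Z : D} (φ : X.obj M ⟶ Z) :
    φ = ∑ j, X.map (b.ξ j) ≫ X.map (b.r j) ≫ φ := by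
  calc φ = X.map (∑ j, b.ξ j ≫ b.r j) ≫ φ := by rw [b.h, X.map_id, Category.id_comp]
    _ = _ := by
      simp only [Functor.map_sum, Functor.map_comp, Preadditive.sum_comp, Category.assoc]

theorem expand_right {M' : ModuleCat.{u} A} (b' : DBasis A M') {Z : D} (φ : Z ⟶ X.obj M') :
    φ = ∑ l, (φ ≫ X.map (b'.ξ l)) ≫ X.map (b'.r l) := by
  calc φ = φ ≫ X.map (∑ l, b'.ξ l ≫ b'.r l) := by rw [b'.h, X.map_id, Category.comp_id]
    _ = _ := by
      simp only [Functor.map_sum, Functor.map_comp, Preadditive.comp_sum, Category.assoc]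

variable (hA : Function.Bijective (fun a : A => a • 𝟙 (X.obj (ModuleCat.of A A))))

include hA in
theorem map_surj {M M' : ModuleCat.{u} A} (b : DBasis A M) (b' : DBasis A M')
    (ψ : X.obj M ⟶ X.obj M') : ∃ f : M ⟶ M', X.map f = ψ := by
  choose a ha using fun j l => hA.2 ((X.map (b.r j) ≫ ψ) ≫ X.map (b'.ξ l))
  have ha' : ∀ j l, a j l • 𝟙 (X.obj (ModuleCat.of A A)) =
      (X.map (b.r j) ≫ ψ) ≫ X.map (b'.ξ l) := fun j l => ha j l
  have h1 : ∀ j, X.map (∑ l, a j l • b'.r l) = X.map (b.r j) ≫ ψ := by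
    intro j
    conv_rhs => rw [expand_right X b' (X.map (b.r j) ≫ ψ)]
    rw [Functor.map_sum]
    refine Finset.sum_congr rfl (fun l _ => ?_)
    rw [← ha' j l, Functor.map_smul, Linear.smul_comp, Category.id_comp]
  refine ⟨∑ j, b.ξ j ≫ ∑ l, a j l • b'.r l, ?_⟩
  rw [Functor.map_sum]
  conv_rhs => rw [expand_left X b ψ]
  refine Finset.sum_congr rfl (fun j _ => ?_)
  rw [Functor.map_comp, h1 j]

include hA in
theorem map_inj {M M' : ModuleCat.{u} A} (b : DBasis A M) (b' : DBasis A M')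
    (f : M ⟶ M') (hf : X.map f = 0) : f = 0 := by
  have hz : ∀ j l, b.r j ≫ f ≫ b'.ξ l = 0 := by
    intro j l
    have he := end_eq A (b.r j ≫ f ≫ b'.ξ l)
    have h0 : X.map (b.r j ≫ f ≫ b'.ξ l) = 0 := by
      rw [Functor.map_comp, Functor.map_comp, hf, zero_comp, comp_zero]
    have h1 : ((b.r j ≫ f ≫ b'.ξ l).hom (1 : A)) • 𝟙 (X.obj (ModuleCat.of A A)) = 0 := by
      rw [← h0]
      conv_rhs => rw [he]
      rw [Functor.map_smul, X.map_id]
    have h2 : ((b.r j ≫ f ≫ b'.ξ l).hom (1 : A)) = 0 := by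
      apply hA.1
      change _ • 𝟙 (X.obj (ModuleCat.of A A)) = (0 : A) • 𝟙 (X.obj (ModuleCat.of A A))
      rw [h1, zero_smul]
    rw [he, h2, zero_smul]
  have hf1 : ∀ j, b.r j ≫ f = 0 := by
    intro j
    calc b.r j ≫ f = (b.r j ≫ f) ≫ 𝟙 M' := (Category.comp_id _).symm
      _ = (b.r j ≫ f) ≫ ∑ l, b'.ξ l ≫ b'.r l := by rw [b'.h]
      _ = ∑ l, (b.r j ≫ f ≫ b'.ξ l) ≫ b'.r l := by
        simp only [Preadditive.comp_sum, Category.assoc]
      _ = 0 := by simp only [hz, zero_comp, Finset.sum_const_zero]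
  calc f = 𝟙 M ≫ f := (Category.id_comp _).symm
    _ = (∑ j, b.ξ j ≫ b.r j) ≫ f := by rw [b.h]
    _ = ∑ j, b.ξ j ≫ b.r j ≫ f := by simp only [Preadditive.sum_comp, Category.assoc]
    _ = 0 := by simp only [hf1, comp_zero, Finset.sum_const_zero]

end

/-- (DB) -/
theorem DB (A : Type u) [CommRing A] {D : Type*} [Category D] [Preadditive D] [Linear A D]
    (X : ModuleCat.{u} A ⥤ D) [X.Additive] [X.Linear A]
    (hA : Function.Bijective (fun a : A => a • 𝟙 (X.obj (ModuleCat.of A A))))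
    (P P' : Type u) [AddCommGroup P] [Module A P] [AddCommGroup P'] [Module A P']
    [Module.Finite A P] [Module.Projective A P] [Module.Finite A P'] [Module.Projective A P']
    (α : X.obj (ModuleCat.of A P) ≅ X.obj (ModuleCat.of A P')) : Nonempty (P ≃ₗ[A] P') := by
  obtain ⟨b⟩ := exists_dbasis A P
  obtain ⟨b'⟩ := exists_dbasis A P'
  obtain ⟨f, hf⟩ := map_surj X hA b b' α.hom
  obtain ⟨g, hg⟩ := map_surj X hA b' b α.inv
  have h1 : f ≫ g = 𝟙 _ := by
    have : f ≫ g - 𝟙 _ = 0 := by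
      apply map_inj X hA b b
      rw [Functor.map_sub, Functor.map_comp, hf, hg, α.hom_inv_id, X.map_id, sub_self]
    exact sub_eq_zero.mp this
  have h2 : g ≫ f = 𝟙 _ := by
    have : g ≫ f - 𝟙 _ = 0 := by
      apply map_inj X hA b' b'
      rw [Functor.map_sub, Functor.map_comp, hf, hg, α.inv_hom_id, X.map_id, sub_self]
    exact sub_eq_zero.mp this
  exact ⟨(Iso.mk f g h1 h2 : ModuleCat.of A P ≅ ModuleCat.of A P').toLinearEquiv⟩

end Groth.Agent.H62.Inv2_DB
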