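import Mathlib

/-!
# Localising an equaliser: pure algebra for categorical quotients

`j : C → B` an injective ring map whose range is the equaliser of `ρ ι : B → E`.  For `c : C`
we compare the localisations `C_c → B_c ⇉ E_c`.
-/

set_option autoImplicit false
universe u

namespace Groth.Agent.H62.CatQuotA

variable {C B E : Type u} [CommRing C] [CommRing B] [CommRing E]
  (j : C →+* B) (ρ ι : B →+* E)

/-- The localisation of `ρ` at an equalised element, with the same target as `awayMap ι`. -/
noncomputable def ρc (c : C) (hc : ρ (j c) = ι (j c)) :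
    Localization.Away (j c) →+* Localization.Away (ι (j c)) :=
  IsLocalization.Away.lift (j c) (g := (algebraMap E (Localization.Away (ι (j c)))).comp ρ)
    (by rw [RingHom.comp_apply, hc]; exact IsLocalization.Away.algebraMap_isUnit _)

theorem ρc_algebraMap (c : C) (hc : ρ (j c) = ι (j c)) (b : B) :
    ρc j ρ ι c hc (algebraMap B _ b) = algebraMap E _ (ρ b) :=
  IsLocalization.Away.lift_eq _ _ _

theorem ρc_comp (c : C) (hc : ρ (j c) = ι (j c)) :
    (ρc j ρ ι c hc).comp (algebraMap B _) = (algebraMap E _).comp ρ :=
  RingHom.ext (ρc_algebraMap j ρ ι c hc)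

theorem ιc_algebraMap (c : C) (b : B) :
    Localization.awayMap ι (j c) (algebraMap B _ b) = algebraMap E _ (ι b) :=
  IsLocalization.map_eq _ _

theorem ιc_comp (c : C) :
    (Localization.awayMap ι (j c)).comp (algebraMap B _) = (algebraMap E _).comp ι :=
  RingHom.ext (ιc_algebraMap j ι c)

theorem jc_algebraMap (c x : C) :
    Localization.awayMap j c (algebraMap C _ x) = algebraMap B _ (j x) :=
  IsLocalization.map_eq _ _

theorem jc_comp (c : C) :
    (Localization.awayMap j c).comp (algebraMap C _) = (algebraMap B _).comp j :=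
  RingHom.ext (jc_algebraMap j c)

theorem jc_injective (hj : Function.Injective j) (c : C) :
    Function.Injective (Localization.awayMap j c) := by
  rw [Localization.awayMap_injective_iff]
  intro a ha
  exact ⟨0, by rw [hj (ha.trans (map_zero j).symm)]; simp⟩

/-- Key: equalised elements of `B_c` come from `C_c`. -/
theorem mem_range_jc (hC : ∀ b : B, ρ b = ι b → b ∈ j.range) (c : C) (hc : ρ (j c) = ι (j c))
    (y : Localization.Away (j c))
    (hy : ρc j ρ ι c hc y = Localization.awayMap ι (j c) y) :
    y ∈ (Localization.awayMap j c).range := by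
  obtain ⟨n, b, hb⟩ := IsLocalization.Away.surj (j c) y
  have h1 : algebraMap E (Localization.Away (ι (j c))) (ρ b) = algebraMap E _ (ι b) := by
    rw [← ρc_algebraMap j ρ ι c hc, ← ιc_algebraMap j ι c, ← hb, map_mul, map_mul, map_pow,
      map_pow, ρc_algebraMap, ιc_algebraMap, hc, hy]
  obtain ⟨⟨_, m, rfl⟩, hm⟩ := IsLocalization.exists_of_eq (M := Submonoid.powers (ι (j c))) h1
  have h2 : ρ (j c ^ m * b) = ι (j c ^ m * b) := by
    rw [map_mul, map_mul, map_pow, map_pow, hc]; exact hm
  obtain ⟨x, hx⟩ := hC _ h2
  have hu : IsUnit (algebraMap C (Localization.Away c) c) := IsLocalization.Away.algebraMap_isUnit c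
  have huB : IsUnit (algebraMap B (Localization.Away (j c)) (j c)) :=
    IsLocalization.Away.algebraMap_isUnit (j c)
  obtain ⟨u, hu'⟩ := hu
  refine ⟨algebraMap C _ x * ((u⁻¹ : (Localization.Away c)ˣ) : Localization.Away c) ^ (n + m), ?_⟩
  apply (huB.pow (n + m)).mul_left_injective
  change Localization.awayMap j c _ * _ = y * _
  have e1 : Localization.awayMap j c (algebraMap C _ x *
      ((u⁻¹ : (Localization.Away c)ˣ) : Localization.Away c) ^ (n + m)) *
      algebraMap B (Localization.Away (j c)) (j c) ^ (n + m) = algebraMap B _ (j x) := by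
    rw [← jc_algebraMap j c c, ← map_pow, ← map_mul, mul_assoc, ← mul_pow, ← hu', Units.inv_mul,
      one_pow, mul_one, jc_algebraMap]
  rw [e1, hx, map_mul, map_pow, ← hb]
  ring

/-- A ring map into `B_c` equalised by `ρ_c, ι_c` lifts to `C_c`. -/
theorem exists_lift (hj : Function.Injective j) (hC : ∀ b : B, ρ b = ι b → b ∈ j.range) (c : C)
    (hc : ρ (j c) = ι (j c)) {R : Type u} [CommRing R] (φ : R →+* Localization.Away (j c))
    (hφ : (ρc j ρ ι c hc).comp φ = (Localization.awayMap ι (j c)).comp φ) :
    ∃ θ : R →+* Localization.Away c, (Localization.awayMap j c).comp θ = φ := by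
  have hr : ∀ r, φ r ∈ (Localization.awayMap j c).range := fun r =>
    mem_range_jc j ρ ι hC c hc _ (RingHom.congr_fun hφ r)
  have hinj := jc_injective j hj c
  choose θ hθ using hr
  refine ⟨{ toFun := θ
            map_one' := hinj (by rw [hθ, map_one, map_one])
            map_mul' := fun a b => hinj (by rw [hθ, map_mul, map_mul, hθ, hθ])
            map_zero' := hinj (by rw [hθ, map_zero, map_zero])
            map_add' := fun a b => hinj (by rw [hθ, map_add, map_add, hθ, hθ]) },
    RingHom.ext hθ⟩

theorem comap_jc_surjective (hs : Function.Surjective (PrimeSpectrum.comap j)) (c : C) :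
    Function.Surjective (PrimeSpectrum.comap (Localization.awayMap j c)) := by
  intro q
  obtain ⟨x, hx⟩ := hs (PrimeSpectrum.comap (algebraMap C (Localization.Away c)) q)
  have hxc : j c ∉ x.asIdeal := by
    intro h
    have h' : c ∈ (PrimeSpectrum.comap j x).asIdeal := h
    rw [hx] at h'
    exact q.2.ne_top (Ideal.eq_top_of_isUnit_mem _ h' (IsLocalization.Away.algebraMap_isUnit c))
  have hmem : x ∈ Set.range (PrimeSpectrum.comap (algebraMap B (Localization.Away (j c)))) := by
    rw [PrimeSpectrum.localization_away_comap_range (Localization.Away (j c)) (j c)]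
    exact hxc
  obtain ⟨x', rfl⟩ := hmem
  refine ⟨x', ?_⟩
  apply PrimeSpectrum.localization_comap_injective (Localization.Away c) (Submonoid.powers c)
  rw [← hx]
  apply PrimeSpectrum.ext
  ext z
  simp only [PrimeSpectrum.comap_asIdeal, Ideal.mem_comap]
  rw [jc_algebraMap]

end Groth.Agent.H62.CatQuotA
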