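import Mathlib
import Groth.Agent.H62.CatQuotA

/-!
# Categorical quotients of affine schemes: scheme-level part
-/

set_option autoImplicit false
universe u

open AlgebraicGeometry CategoryTheory CategoryTheory.Limits

namespace Groth.Agent.H62.CatQuotB

/-- A morphism from `Spec Q` into `Z` with range in an affine open `V` factors through
`hV.fromSpec` via `Spec` of a ring map. -/
theorem exists_factor {Z : Scheme.{u}} {V : Z.Opens} (hV : IsAffineOpen V) {Q : CommRingCat.{u}}
    (f : Spec Q ⟶ Z) (hf : ∀ x : Spec Q, f x ∈ V) :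
    ∃ α : Γ(Z, V) ⟶ Q, f = Spec.map α ≫ hV.fromSpec := by
  have hr : Set.range f ⊆ Set.range hV.fromSpec := by
    rw [hV.range_fromSpec]
    rintro _ ⟨x, rfl⟩
    exact hf x
  refine ⟨Spec.preimage (IsOpenImmersion.lift hV.fromSpec f hr), ?_⟩
  rw [Spec.map_preimage, IsOpenImmersion.lift_fac]

theorem factor_unique {Z : Scheme.{u}} {V : Z.Opens} (hV : IsAffineOpen V) {Q : CommRingCat.{u}}
    (α β : Γ(Z, V) ⟶ Q) (h : Spec.map α ≫ hV.fromSpec = Spec.map β ≫ hV.fromSpec) : α = β :=
  Spec.map_injective ((cancel_mono hV.fromSpec).mp h)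

/-- The localisation square for `Spec`. -/
theorem away_square {R S : Type u} [CommRing R] [CommRing S] (φ : R →+* S) (r : R) :
    Spec.map (CommRingCat.ofHom (Localization.awayMap φ r)) ≫
        Spec.map (CommRingCat.ofHom (algebraMap R (Localization.Away r))) =
      Spec.map (CommRingCat.ofHom (algebraMap S (Localization.Away (φ r)))) ≫
        Spec.map (CommRingCat.ofHom φ) := by
  rw [← Spec.map_comp, ← Spec.map_comp, ← CommRingCat.ofHom_comp, ← CommRingCat.ofHom_comp]
  congr 2
  exact IsLocalization.map_comp _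

theorem away_range {R : Type u} [CommRing R] (r : R)
    (x' : Spec (.of (Localization.Away r))) :
    (Spec.map (CommRingCat.ofHom (algebraMap R (Localization.Away r)))) x' ∈
      (PrimeSpectrum.basicOpen r : Set (PrimeSpectrum R)) := by
  have h := PrimeSpectrum.localization_away_comap_range (Localization.Away r) r
  rw [← h]
  exact ⟨x', rfl⟩

/-- `Spec` of an injective ring map which is surjective on spectra is an epimorphism of schemes. -/
theorem spec_map_epi {R S : Type u} [CommRing R] [CommRing S] (φ : R →+* S)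
    (hinj : Function.Injective φ) (hsurj : Function.Surjective (PrimeSpectrum.comap φ))
    {Z : Scheme.{u}} (a b : Spec (.of R) ⟶ Z)
    (hab : Spec.map (CommRingCat.ofHom φ) ≫ a = Spec.map (CommRingCat.ofHom φ) ≫ b) : a = b := by
  have hpt : ∀ y : Spec (.of R), a y = b y := by
    intro y
    obtain ⟨x, rfl⟩ := hsurj y
    exact congrArg (fun f : Spec (.of S) ⟶ Z => f x) hab
  have hloc : ∀ y : Spec (.of R), ∃ r : R, r ∉ y.asIdeal ∧
      Spec.map (CommRingCat.ofHom (algebraMap R (Localization.Away r))) ≫ a =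
        Spec.map (CommRingCat.ofHom (algebraMap R (Localization.Away r))) ≫ b := by
    intro y
    obtain ⟨_, ⟨V, hV, rfl⟩, hyV, -⟩ :=
      Z.isBasis_affineOpens.exists_subset_of_mem_open (Set.mem_univ (a y)) isOpen_univ
    have hyW : y ∈ ((a ⁻¹ᵁ V ⊓ b ⁻¹ᵁ V : (Spec (.of R)).Opens) : Set (Spec (.of R))) :=
      ⟨hyV, by change b y ∈ V; rw [← hpt y]; exact hyV⟩
    obtain ⟨_, ⟨_, ⟨r, rfl⟩, rfl⟩, hyr, hrW⟩ :=
      PrimeSpectrum.isBasis_basic_opens.exists_subset_of_mem_open hyW (a ⁻¹ᵁ V ⊓ b ⁻¹ᵁ V).isOpen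
    refine ⟨r, hyr, ?_⟩
    obtain ⟨α, hα⟩ := exists_factor hV
      (Spec.map (CommRingCat.ofHom (algebraMap R (Localization.Away r))) ≫ a)
      (fun x' => (hrW (away_range r x')).1)
    obtain ⟨β, hβ⟩ := exists_factor hV
      (Spec.map (CommRingCat.ofHom (algebraMap R (Localization.Away r))) ≫ b)
      (fun x' => (hrW (away_range r x')).2)
    have hαβ : α = β := by
      have hφr := Groth.Agent.H62.CatQuotA.jc_injective φ hinj r
      have h1 : Spec.map (CommRingCat.ofHom (Localization.awayMap φ r)) ≫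
            (Spec.map (CommRingCat.ofHom (algebraMap R (Localization.Away r))) ≫ a) =
          Spec.map (CommRingCat.ofHom (Localization.awayMap φ r)) ≫
            (Spec.map (CommRingCat.ofHom (algebraMap R (Localization.Away r))) ≫ b) := by
        rw [← Category.assoc, ← Category.assoc, away_square, Category.assoc, Category.assoc, hab]
      rw [hα, hβ, ← Category.assoc, ← Category.assoc, ← Spec.map_comp, ← Spec.map_comp] at h1
      have h2 := factor_unique hV _ _ h1
      ext x
      apply hφr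
      exact congrArg (fun f => f.hom x) h2
    rw [hα, hβ, hαβ]
  choose r hr1 hr2 using hloc
  have hspan : Ideal.span (Set.range r) = ⊤ := by
    by_contra hne
    obtain ⟨M, hM, hle⟩ := Ideal.exists_le_maximal _ hne
    exact hr1 ⟨M, hM.isPrime⟩ (hle (Ideal.subset_span ⟨_, rfl⟩))
  exact (Scheme.affineOpenCoverOfSpanRangeEqTop (R := .of R) r hspan).openCover.hom_ext a b
    (fun y => hr2 y)

theorem range_away {R : Type u} [CommRing R] (r : R) :
    Set.range (Spec.map (CommRingCat.ofHom (algebraMap R (Localization.Away r)))) =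
      (PrimeSpectrum.basicOpen r : Set (PrimeSpectrum R)) :=
  PrimeSpectrum.localization_away_comap_range (Localization.Away r) r

/-- Restriction to a smaller basic open. -/
noncomputable def awayLE {R : Type u} [CommRing R] (c d : R) (h : c ∣ d) :
    Localization.Away c →+* Localization.Away d :=
  IsLocalization.Away.lift c (g := algebraMap R (Localization.Away d))
    (isUnit_of_dvd_unit (map_dvd _ h) (IsLocalization.Away.algebraMap_isUnit d))

theorem awayLE_comp {R : Type u} [CommRing R] (c d : R) (h : c ∣ d) :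
    (awayLE c d h).comp (algebraMap R (Localization.Away c)) =
      algebraMap R (Localization.Away d) :=
  IsLocalization.Away.lift_comp _ _

theorem awayLE_algebraMap {R : Type u} [CommRing R] (c d : R) (h : c ∣ d) (x : R) :
    awayLE c d h (algebraMap R (Localization.Away c) x) = algebraMap R (Localization.Away d) x :=
  IsLocalization.Away.lift_eq _ _ _

theorem awayLE_square {C B : Type u} [CommRing C] [CommRing B] (j : C →+* B) (c d : C)
    (h : c ∣ d) :
    (Localization.awayMap j d).comp (awayLE c d h) =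
      (awayLE (j c) (j d) (map_dvd j h)).comp (Localization.awayMap j c) := by
  apply IsLocalization.ringHom_ext (Submonoid.powers c)
  ext x
  simp only [RingHom.comp_apply]
  rw [awayLE_algebraMap, CatQuotA.jc_algebraMap, CatQuotA.jc_algebraMap, awayLE_algebraMap]

section Main

variable {C B E : Type u} [CommRing C] [CommRing B] [CommRing E]
  (j : C →+* B) (ρ ι : B →+* E)
  (hj : Function.Injective j) (hjρ : ∀ x, ρ (j x) = ι (j x)) (hC : ∀ b, ρ b = ι b → b ∈ j.range)
  {Z : Scheme.{u}} (ψ : Spec (.of B) ⟶ Z)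
  (hψ : Spec.map (CommRingCat.ofHom ρ) ≫ ψ = Spec.map (CommRingCat.ofHom ι) ≫ ψ)

include hj hjρ hC hψ in
theorem exists_local (c : C) {V : Z.Opens} (hV : IsAffineOpen V)
    (hcV : ∀ x : Spec (.of B), j c ∉ x.asIdeal → ψ x ∈ V) :
    ∃ g : Spec (.of (Localization.Away c)) ⟶ Z,
      Spec.map (CommRingCat.ofHom (Localization.awayMap j c)) ≫ g =
        Spec.map (CommRingCat.ofHom (algebraMap B (Localization.Away (j c)))) ≫ ψ := by
  obtain ⟨φ, hφ⟩ := exists_factor hV
    (Spec.map (CommRingCat.ofHom (algebraMap B (Localization.Away (j c)))) ≫ ψ)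
    (fun x' => hcV _ (away_range (j c) x'))
  have heq : φ ≫ CommRingCat.ofHom (CatQuotA.ρc j ρ ι c (hjρ c)) =
      φ ≫ CommRingCat.ofHom (Localization.awayMap ι (j c)) := by
    apply factor_unique hV
    rw [Spec.map_comp, Spec.map_comp, Category.assoc, Category.assoc, ← hφ]
    rw [← Category.assoc, ← Category.assoc, away_square ι (j c), ← Spec.map_comp,
      ← CommRingCat.ofHom_comp, CatQuotA.ρc_comp, CommRingCat.ofHom_comp, Spec.map_comp,
      Category.assoc, Category.assoc, hψ]
  obtain ⟨θ, hθ⟩ := CatQuotA.exists_lift j ρ ι hj hC c (hjρ c) φ.hom (by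
    have := congrArg CommRingCat.Hom.hom heq
    simpa using this)
  refine ⟨Spec.map (CommRingCat.ofHom θ) ≫ hV.fromSpec, ?_⟩
  rw [hφ, ← Category.assoc, ← Spec.map_comp, ← CommRingCat.ofHom_comp, hθ]
  rfl

theorem restrict_local (c d : C) (h : c ∣ d) (g : Spec (.of (Localization.Away c)) ⟶ Z)
    (hg : Spec.map (CommRingCat.ofHom (Localization.awayMap j c)) ≫ g =
        Spec.map (CommRingCat.ofHom (algebraMap B (Localization.Away (j c)))) ≫ ψ) :
    Spec.map (CommRingCat.ofHom (Localization.awayMap j d)) ≫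
        Spec.map (CommRingCat.ofHom (awayLE c d h)) ≫ g =
      Spec.map (CommRingCat.ofHom (algebraMap B (Localization.Away (j d)))) ≫ ψ := by
  rw [← Category.assoc, ← Spec.map_comp, ← CommRingCat.ofHom_comp, awayLE_square,
    CommRingCat.ofHom_comp, Spec.map_comp, Category.assoc, hg, ← Category.assoc, ← Spec.map_comp,
    ← CommRingCat.ofHom_comp, awayLE_comp]

include hj hjρ hC hψ in
theorem main (hs : Function.Surjective (PrimeSpectrum.comap j))
    (hPU : ∀ (κ : Type u) (I : κ → Ideal B), (⨆ i, I i) = ⊤ →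
      (∀ i, ∀ x ∈ I i, ρ x ∈ (Ideal.map ι (I i)).radical) →
      ∃ (s : Finset κ) (c : κ → C), (∀ i ∈ s, j (c i) ∈ I i) ∧ ∑ i ∈ s, c i = 1) :
    ∃! χ : Spec (.of C) ⟶ Z, Spec.map (CommRingCat.ofHom j) ≫ χ = ψ := by
  let I : Z.affineOpens → Ideal B := fun V =>
    PrimeSpectrum.vanishingIdeal ((ψ ⁻¹ᵁ V.1 : Set (Spec (.of B))))ᶜ
  have hzl : ∀ V : Z.affineOpens,
      PrimeSpectrum.zeroLocus (I V : Set B) = ((ψ ⁻¹ᵁ V.1 : Set (Spec (.of B))))ᶜ := by
    intro V
    rw [PrimeSpectrum.zeroLocus_vanishingIdeal_eq_closure]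
    exact (ψ ⁻¹ᵁ V.1).isOpen.isClosed_compl.closure_eq
  have h1 : (⨆ V, I V) = ⊤ := by
    by_contra hne
    obtain ⟨M, hM, hle⟩ := Ideal.exists_le_maximal _ hne
    let x : Spec (.of B) := ⟨M, hM.isPrime⟩
    obtain ⟨_, ⟨V, hV, rfl⟩, hxV, -⟩ :=
      Z.isBasis_affineOpens.exists_subset_of_mem_open (Set.mem_univ (ψ x)) isOpen_univ
    have hx : x ∈ PrimeSpectrum.zeroLocus (I ⟨V, hV⟩ : Set B) :=
      (PrimeSpectrum.mem_zeroLocus (⟨M, hM.isPrime⟩ : PrimeSpectrum B) _).mpr
        ((le_iSup I ⟨V, hV⟩).trans hle)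
    rw [hzl] at hx
    exact hx hxV
  have h2 : ∀ V, ∀ x ∈ I V, ρ x ∈ (Ideal.map ι (I V)).radical := by
    intro V x hx
    rw [← PrimeSpectrum.vanishingIdeal_zeroLocus_eq_radical, PrimeSpectrum.mem_vanishingIdeal]
    intro Q hQ
    have hQ' : PrimeSpectrum.comap ι Q ∈ PrimeSpectrum.zeroLocus (I V : Set B) := by
      rw [PrimeSpectrum.mem_zeroLocus] at hQ ⊢
      intro z hz
      exact hQ (Ideal.mem_map_of_mem ι hz)
    rw [hzl] at hQ'
    have hpt : ψ (PrimeSpectrum.comap ρ Q) = ψ (PrimeSpectrum.comap ι Q) :=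
      congrArg (fun f : Spec (.of E) ⟶ Z => f Q) hψ
    have hQ'' : PrimeSpectrum.comap ρ Q ∈ ((ψ ⁻¹ᵁ V.1 : Set (Spec (.of B))))ᶜ := by
      intro hmem
      apply hQ'
      change ψ _ ∈ V.1
      rw [← hpt]
      exact hmem
    exact (PrimeSpectrum.mem_vanishingIdeal _ _).mp hx _ hQ''
  obtain ⟨s, c, hc, hsum⟩ := hPU _ I h1 h2
  have hloc : ∀ i : s, ∃ g : Spec (.of (Localization.Away (c i))) ⟶ Z,
      Spec.map (CommRingCat.ofHom (Localization.awayMap j (c i))) ≫ g =
        Spec.map (CommRingCat.ofHom (algebraMap B (Localization.Away (j (c i))))) ≫ ψ := by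
    intro i
    apply exists_local j ρ ι hj hjρ hC ψ hψ (c i) i.1.2
    intro x hx
    by_contra hxV
    have hx' : x ∈ ((ψ ⁻¹ᵁ i.1.1 : Set (Spec (.of B))))ᶜ := hxV
    exact hx ((PrimeSpectrum.mem_vanishingIdeal _ _).mp (hc i i.2) x hx')
  choose g hg using hloc
  have hspan : Ideal.span (Set.range (fun i : s => c i)) = ⊤ := by
    rw [Ideal.eq_top_iff_one, ← hsum, ← Finset.sum_coe_sort s]
    exact Ideal.sum_mem _ (fun i _ => Ideal.subset_span ⟨i, rfl⟩)
  have hspanB : Ideal.span (Set.range (fun i : s => j (c i))) = ⊤ := by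
    rw [Ideal.eq_top_iff_one, ← map_one j, ← hsum, map_sum, ← Finset.sum_coe_sort s]
    exact Ideal.sum_mem _ (fun i _ => Ideal.subset_span ⟨i, rfl⟩)
  let 𝒰 := (Scheme.affineOpenCoverOfSpanRangeEqTop (R := .of C) (fun i : s => c i) hspan).openCover
  have hcompat : ∀ i i' : s, pullback.fst (𝒰.f i) (𝒰.f i') ≫ g i =
      pullback.snd (𝒰.f i) (𝒰.f i') ≫ g i' := by
    intro i i'
    have hdi : c i ∣ c i * c i' := Dvd.intro _ rfl
    have hdi' : c i' ∣ c i * c i' := Dvd.intro_left _ rfl
    have hrange : Set.range (Spec.map (CommRingCat.ofHom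
          (algebraMap C (Localization.Away (c i * c i'))))) =
        Set.range (pullback.fst (𝒰.f i) (𝒰.f i') ≫ 𝒰.f i) := by
      rw [IsOpenImmersion.range_pullback_to_base_of_left]
      change _ = Set.range (Spec.map (CommRingCat.ofHom (algebraMap C (Localization.Away (c i))))) ∩
        Set.range (Spec.map (CommRingCat.ofHom (algebraMap C (Localization.Away (c i')))))
      rw [range_away, range_away, range_away, PrimeSpectrum.basicOpen_mul]
      rfl
    let e := IsOpenImmersion.isoOfRangeEq _ _ hrange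
    have he : e.hom ≫ (pullback.fst (𝒰.f i) (𝒰.f i') ≫ 𝒰.f i) =
        Spec.map (CommRingCat.ofHom (algebraMap C (Localization.Away (c i * c i')))) :=
      IsOpenImmersion.isoOfRangeEq_hom_fac _ _ _
    have hfst : e.hom ≫ pullback.fst (𝒰.f i) (𝒰.f i') =
        Spec.map (CommRingCat.ofHom (awayLE (c i) (c i * c i') hdi)) := by
      rw [← cancel_mono (𝒰.f i), Category.assoc, he]
      change _ = Spec.map _ ≫ Spec.map (CommRingCat.ofHom (algebraMap C _))
      rw [← Spec.map_comp, ← CommRingCat.ofHom_comp, awayLE_comp]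
    have hsnd : e.hom ≫ pullback.snd (𝒰.f i) (𝒰.f i') =
        Spec.map (CommRingCat.ofHom (awayLE (c i') (c i * c i') hdi')) := by
      rw [← cancel_mono (𝒰.f i'), Category.assoc, ← pullback.condition, he]
      change _ = Spec.map _ ≫ Spec.map (CommRingCat.ofHom (algebraMap C _))
      rw [← Spec.map_comp, ← CommRingCat.ofHom_comp, awayLE_comp]
    rw [← cancel_epi e.hom, ← Category.assoc, ← Category.assoc, hfst, hsnd]
    apply spec_map_epi (Localization.awayMap j (c i * c i'))
      (CatQuotA.jc_injective j hj _) (CatQuotA.comap_jc_surjective j hs _)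
    exact (restrict_local j ψ (c i) _ hdi (g i) (hg i)).trans
      (restrict_local j ψ (c i') _ hdi' (g i') (hg i')).symm
  obtain ⟨χ, hχ⟩ : ∃ χ : Spec (.of C) ⟶ Z, ∀ i : s,
      Spec.map (CommRingCat.ofHom (algebraMap C (Localization.Away (c i)))) ≫ χ = g i :=
    ⟨𝒰.glueMorphisms g hcompat, 𝒰.ι_glueMorphisms g hcompat⟩
  have hχψ : Spec.map (CommRingCat.ofHom j) ≫ χ = ψ := by
    apply (Scheme.affineOpenCoverOfSpanRangeEqTop (R := .of B) (fun i : s => j (c i))
      hspanB).openCover.hom_ext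
    intro (i : s)
    change Spec.map (CommRingCat.ofHom (algebraMap B (Localization.Away (j (c i))))) ≫ _ =
      Spec.map (CommRingCat.ofHom (algebraMap B (Localization.Away (j (c i))))) ≫ ψ
    rw [← hg i, ← hχ i, ← Category.assoc, ← Category.assoc, away_square]
  refine ⟨χ, hχψ, ?_⟩
  intro χ' hχ'
  exact spec_map_epi j hj hs χ' _ (hχ'.trans hχψ.symm)

end Main

end Groth.Agent.H62.CatQuotB
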