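import Groth.Prelude.Def_W4c1tameactTame
import Groth.Agent.H40.Comod
import Groth.Agent.H83.HopfAux
import Mathlib.RingTheory.Ideal.Maps
import Mathlib.RingTheory.Spectrum.Prime.Topology

/-!
# Total integrals and the Reynolds operator `m ↦ Σ α(S m₁) • m₀` — helper62
-/

set_option autoImplicit false
universe u v w w' w''
open TensorProduct

namespace Groth.Agent.H62.TotInt

section Basic

variable {k : Type u} [CommRing k] {A : Type v} [CommRing A] [HopfAlgebra k A]
variable {B : Type w} [CommRing B] [Algebra k B]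
variable (M : Type w') [AddCommGroup M] [Module k M] [Module B M] [IsScalarTower k B M]

local notation "𝓢" => HopfAlgebraStruct.antipode (R := k) (A := A)
local notation "Δₐ" => CoalgebraStruct.comul (R := k) (A := A)
local notation "εₐ" => CoalgebraStruct.counit (R := k) (A := A)

/-- `m ⊗ a ↦ α (S a) • m`. -/
noncomputable def L (α : A →ₗ[k] B) : M ⊗[k] A →ₗ[k] M :=
  TensorProduct.lift
    ((Algebra.lsmul k k M : B →ₐ[k] Module.End k M).toLinearMap ∘ₗ α ∘ₗ 𝓢).flip

@[simp] theorem L_tmul (α : A →ₗ[k] B) (m : M) (a : A) :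
    L M α (m ⊗ₜ[k] a) = α (𝓢 a) • m := by
  simp [L]

theorem reynolds_apply [HopfRep.Comod k A M] (α : A →ₗ[k] B) (m : M) :
    TameAct.reynolds k A B M α m = L M α (H40.ρ k A M m) := rfl

/-- `(m ⊗ a) ⊗ (b ⊗ c) ↦ α (S c) • m ⊗ S b * a`. -/
noncomputable def Θ (α : A →ₗ[k] B) : (M ⊗[k] A) ⊗[k] (A ⊗[k] A) →ₗ[k] M ⊗[k] A :=
  TensorProduct.lift
    (TameAct.hmSMul k A B M ∘ₗ TensorProduct.map (α ∘ₗ 𝓢) 𝓢 ∘ₗ
      (TensorProduct.comm k A A).toLinearMap).flip

theorem Θ_tmul' (α : A →ₗ[k] B) (y : M ⊗[k] A) (u : A ⊗[k] A) :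
    Θ M α (y ⊗ₜ[k] u) =
      TameAct.hmSMul k A B M (TensorProduct.map (α ∘ₗ 𝓢) 𝓢 (TensorProduct.comm k A A u)) y :=
  rfl

@[simp] theorem Θ_tmul (α : A →ₗ[k] B) (m : M) (a b c : A) :
    Θ M α ((m ⊗ₜ[k] a) ⊗ₜ[k] (b ⊗ₜ[k] c)) = (α (𝓢 c) • m) ⊗ₜ[k] (𝓢 b * a) := by
  rw [Θ_tmul']; simp

/-- `m ⊗ (x ⊗ c) ↦ α (S c) • m ⊗ x`. -/
noncomputable def K (α : A →ₗ[k] B) : M ⊗[k] (A ⊗[k] A) →ₗ[k] M ⊗[k] A :=
  (L M α).rTensor A ∘ₗ (TensorProduct.assoc k M A A).symm.toLinearMap ∘ₗ
    (TensorProduct.comm k A A).toLinearMap.lTensor M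

@[simp] theorem K_tmul (α : A →ₗ[k] B) (m : M) (x c : A) :
    K M α (m ⊗ₜ[k] (x ⊗ₜ[k] c)) = (α (𝓢 c) • m) ⊗ₜ[k] x := by
  simp [K]

variable {M}

omit [HopfAlgebra k A] in
theorem rTensor_map_apply [Bialgebra k A] (f : A →ₗ[k] B) (g h : A →ₗ[k] A) (x : A ⊗[k] A) :
    f.rTensor A (TensorProduct.map g h x) = TensorProduct.map (f ∘ₗ g) h x := by
  induction x using TensorProduct.induction_on with
  | zero => simp
  | tmul a b => simp
  | add x y hx hy => simp only [map_add, hx, hy]

theorem coact_alpha [HopfRep.Comod k A B] {α : A →ₗ[k] B} (hα : Hoch.IsComodHom A α) (x : A) :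
    H40.ρ k A B (α x) = α.rTensor A (Δₐ x) :=
  LinearMap.congr_fun hα x

theorem coact_L_tmul [HopfRep.Comod k A B] [HopfRep.Comod k A M] [TameAct.IsHopfMod k A B M]
    {α : A →ₗ[k] B} (hα : Hoch.IsComodHom A α) (m : M) (a : A) :
    H40.ρ k A M (L M α (m ⊗ₜ[k] a)) = Θ M α (H40.ρ k A M m ⊗ₜ[k] Δₐ a) := by
  rw [L_tmul, Θ_tmul']
  have h1 : H40.ρ k A M (α (𝓢 a) • m) =
      TameAct.hmSMul k A B M (H40.ρ k A B (α (𝓢 a))) (H40.ρ k A M m) :=
    TameAct.IsHopfMod.coact_smul (k := k) (A := A) (α (𝓢 a)) m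
  rw [h1, coact_alpha hα, H83.comul_antipode, rTensor_map_apply]

theorem map_coact_comul_coact [HopfRep.Comod k A M] (m : M) :
    TensorProduct.map (H40.ρ k A M) Δₐ (H40.ρ k A M m) =
      (Δₐ).lTensor (M ⊗[k] A)
        ((TensorProduct.assoc k M A A).symm ((Δₐ).lTensor M (H40.ρ k A M m))) := by
  have h := H40.coassoc_apply (k := k) (C := A) (V := M) m
  rw [← h, LinearEquiv.symm_apply_apply]
  generalize H40.ρ k A M m = y
  induction y using TensorProduct.induction_on with
  | zero => simp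
  | tmul x a => simp
  | add x y hx hy => simp only [map_add, hx, hy]

theorem lTensor_assoc_symm (m : M) (u : A ⊗[k] A) :
    (Δₐ).lTensor (M ⊗[k] A) ((TensorProduct.assoc k M A A).symm (m ⊗ₜ[k] u)) =
      (TensorProduct.assoc k M A (A ⊗[k] A)).symm (m ⊗ₜ[k] ((Δₐ).lTensor A u)) := by
  induction u using TensorProduct.induction_on with
  | zero => simp
  | tmul a b => simp
  | add x y hx hy => simp only [TensorProduct.tmul_add, map_add, hx, hy]

theorem Θ_assoc (α : A →ₗ[k] B) (m : M) (z : (A ⊗[k] A) ⊗[k] A) :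
    Θ M α ((TensorProduct.assoc k M A (A ⊗[k] A)).symm
        (m ⊗ₜ[k] (TensorProduct.assoc k A A A z))) =
      K M α (m ⊗ₜ[k] ((LinearMap.mul' k A ∘ₗ (𝓢).lTensor A).rTensor A z)) := by
  induction z using TensorProduct.induction_on with
  | zero => simp
  | tmul x c =>
    induction x using TensorProduct.induction_on with
    | zero => simp
    | tmul a b => simp [mul_comm]
    | add x y hx hy => simp only [TensorProduct.add_tmul, TensorProduct.tmul_add, map_add, hx, hy]
  | add x y hx hy => simp only [TensorProduct.tmul_add, map_add, hx, hy]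

theorem rTensor_mulS_comul (a : A) :
    (LinearMap.mul' k A ∘ₗ (𝓢).lTensor A).rTensor A ((Δₐ).rTensor A (Δₐ a)) = (1 : A) ⊗ₜ[k] a := by
  have h : (LinearMap.mul' k A ∘ₗ (𝓢).lTensor A) ∘ₗ Δₐ = Algebra.linearMap k A ∘ₗ εₐ := by
    rw [LinearMap.comp_assoc]; exact HopfAlgebra.mul_antipode_lTensor_comul
  have h2 : (LinearMap.mul' k A ∘ₗ (𝓢).lTensor A).rTensor A ((Δₐ).rTensor A (Δₐ a)) =
      ((LinearMap.mul' k A ∘ₗ (𝓢).lTensor A) ∘ₗ Δₐ).rTensor A (Δₐ a) :=
    (LinearMap.rTensor_comp_apply A _ _ _).symm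
  rw [h2, h, LinearMap.rTensor_comp_apply, Coalgebra.rTensor_counit_comul]
  simp

theorem key (α : A →ₗ[k] B) (y : M ⊗[k] A) :
    Θ M α ((Δₐ).lTensor (M ⊗[k] A) ((TensorProduct.assoc k M A A).symm ((Δₐ).lTensor M y))) =
      L M α y ⊗ₜ[k] (1 : A) := by
  induction y using TensorProduct.induction_on with
  | zero => simp
  | tmul m a =>
    rw [LinearMap.lTensor_tmul, lTensor_assoc_symm, ← Coalgebra.coassoc_apply, Θ_assoc,
      rTensor_mulS_comul, K_tmul, L_tmul]
  | add x y hx hy => simp only [map_add, TensorProduct.add_tmul, hx, hy]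

/-- The Reynolds operator of a total integral lands in the invariants. -/
theorem coact_reynolds [HopfRep.Comod k A B] [HopfRep.Comod k A M] [TameAct.IsHopfMod k A B M]
    {α : A →ₗ[k] B} (hα : Hoch.IsComodHom A α) (m : M) :
    H40.ρ k A M (TameAct.reynolds k A B M α m) =
      TameAct.reynolds k A B M α m ⊗ₜ[k] (1 : A) := by
  have h1 : ∀ y : M ⊗[k] A,
      H40.ρ k A M (L M α y) = Θ M α (TensorProduct.map (H40.ρ k A M) Δₐ y) := by
    intro y
    induction y using TensorProduct.induction_on with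
    | zero => simp
    | tmul m a => rw [TensorProduct.map_tmul]; exact coact_L_tmul hα m a
    | add x y hx hy => simp only [map_add, hx, hy]
  rw [reynolds_apply, h1, map_coact_comul_coact, key]

theorem reynolds_mem_fixedPts [HopfRep.Comod k A B] [HopfRep.Comod k A M]
    [TameAct.IsHopfMod k A B M]
    {α : A →ₗ[k] B} (hα : Hoch.IsComodHom A α) (m : M) :
    TameAct.reynolds k A B M α m ∈ HopfRep.fixedPts k A M :=
  coact_reynolds hα m

theorem reynolds_of_coact_eq [HopfRep.Comod k A M] {α : A →ₗ[k] B} (hα1 : α 1 = 1) {m : M}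
    (hm : H40.ρ k A M m = m ⊗ₜ[k] (1 : A)) : TameAct.reynolds k A B M α m = m := by
  rw [TameAct.reynolds_apply_of_coact_eq k A B M α m m 1 hm, HopfAlgebra.antipode_one, hα1,
    one_smul]

theorem reynolds_of_mem_fixedPts [HopfRep.Comod k A M] {α : A →ₗ[k] B} (hα1 : α 1 = 1) {m : M}
    (hm : m ∈ HopfRep.fixedPts k A M) : TameAct.reynolds k A B M α m = m :=
  reynolds_of_coact_eq hα1 hm

section Natural

variable {N : Type w''} [AddCommGroup N] [Module k N] [Module B N] [IsScalarTower k B N]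

theorem L_rTensor (α : A →ₗ[k] B) (f : M →ₗ[B] N) (y : M ⊗[k] A) :
    L N α ((f.restrictScalars k).rTensor A y) = f (L M α y) := by
  induction y using TensorProduct.induction_on with
  | zero => simp
  | tmul m a => simp
  | add x y hx hy => simp only [map_add, hx, hy]

theorem reynolds_natural [HopfRep.Comod k A M] [HopfRep.Comod k A N] (α : A →ₗ[k] B)
    (f : M →ₗ[B] N) (hf : Hoch.IsComodHom A (f.restrictScalars k)) (m : M) :
    f (TameAct.reynolds k A B M α m) = TameAct.reynolds k A B N α (f m) := by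
  rw [reynolds_apply, reynolds_apply, ← L_rTensor]
  have h : H40.ρ k A N (f m) = (f.restrictScalars k).rTensor A (H40.ρ k A M m) :=
    LinearMap.congr_fun hf m
  rw [h]

end Natural

/-- For a `B`-submodule which is a subcomodule, the Reynolds operator preserves it. -/
theorem L_mem_of_mem_range (α : A →ₗ[k] B) (b : Submodule B M) {y : M ⊗[k] A}
    (hy : y ∈ LinearMap.range ((b.restrictScalars k).subtype.rTensor A)) : L M α y ∈ b := by
  obtain ⟨t, rfl⟩ := hy
  induction t using TensorProduct.induction_on with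
  | zero => simp
  | tmul w a =>
    simp only [LinearMap.rTensor_tmul, Submodule.subtype_apply, L_tmul]
    exact b.smul_mem _ w.2
  | add x y hx hy => rw [map_add, map_add]; exact b.add_mem hx hy

theorem reynolds_mem_of_isSubcomod [HopfRep.Comod k A M] (α : A →ₗ[k] B) (b : Submodule B M)
    (hb : HopfRep.IsSubcomod (k := k) (A := A) (b.restrictScalars k)) {z : M} (hz : z ∈ b) :
    TameAct.reynolds k A B M α z ∈ b :=
  L_mem_of_mem_range α b (hb z hz)

end Basic

section Ring

variable {k : Type u} [CommRing k] {A : Type v} [CommRing A] [HopfAlgebra k A]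
variable {B : Type w} [CommRing B] [Algebra k B]

local notation "𝓢" => HopfAlgebraStruct.antipode (R := k) (A := A)

omit [HopfAlgebra k A] in
theorem hmSMul_self [Bialgebra k A] (x y : B ⊗[k] A) : TameAct.hmSMul k A B B x y = x * y := by
  induction x using TensorProduct.induction_on with
  | zero => simp
  | tmul b a =>
    induction y using TensorProduct.induction_on with
    | zero => simp
    | tmul b' a' => simp
    | add x y hx hy => simp only [map_add, mul_add, hx, hy]
  | add x y hx hy => simp only [map_add, LinearMap.add_apply, add_mul, hx, hy]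

variable [HopfRep.Comod k A B] [GLin.IsCoactAlg k A B]

theorem isHopfMod_self : TameAct.IsHopfMod k A B B :=
  ⟨fun b m => by
    rw [smul_eq_mul, GLin.IsCoactAlg.coact_mul (k := k) (A := A), hmSMul_self]⟩

omit [HopfRep.Comod k A B] [GLin.IsCoactAlg k A B] in
theorem L_mul_tmul_one (α : A →ₗ[k] B) (y : B ⊗[k] A) (c : B) :
    L B α (y * (c ⊗ₜ[k] (1 : A))) = L B α y * c := by
  induction y using TensorProduct.induction_on with
  | zero => simp
  | tmul b a => simp [mul_assoc]
  | add x y hx hy => simp only [add_mul, map_add, hx, hy]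

theorem reynolds_mul_of_mem (α : A →ₗ[k] B) (b : B) {c : B}
    (hc : c ∈ GLin.invariants k A B) :
    TameAct.reynolds k A B B α (b * c) = TameAct.reynolds k A B B α b * c := by
  rw [reynolds_apply, reynolds_apply]
  have h1 : H40.ρ k A B (b * c) = H40.ρ k A B b * H40.ρ k A B c :=
    GLin.IsCoactAlg.coact_mul (k := k) (A := A) b c
  have h2 : H40.ρ k A B c = c ⊗ₜ[k] (1 : A) := hc
  rw [h1, h2, L_mul_tmul_one]

theorem reynolds_mem_invariants {α : A →ₗ[k] B} (hα : Hoch.IsComodHom A α) (b : B) :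
    TameAct.reynolds k A B B α b ∈ GLin.invariants k A B := by
  have _ := isHopfMod_self (k := k) (A := A) (B := B)
  exact coact_reynolds hα b

theorem reynolds_of_mem_invariants {α : A →ₗ[k] B} (hα1 : α 1 = 1) {b : B}
    (hb : b ∈ GLin.invariants k A B) : TameAct.reynolds k A B B α b = b :=
  reynolds_of_coact_eq hα1 hb

/-- Elements of `cB` are sent by `E (b * ·)` into `c`. -/
theorem exists_mem_eq_reynolds_mul {α : A →ₗ[k] B} (hα : Hoch.IsComodHom A α)
    (c : Ideal (GLin.invariants k A B)) {y : B}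
    (hy : y ∈ c.map (algebraMap (GLin.invariants k A B) B)) (b : B) :
    ∃ x' ∈ c, (x' : B) = TameAct.reynolds k A B B α (b * y) := by
  have hy' : y ∈ Submodule.span B ((algebraMap (GLin.invariants k A B) B) '' (c : Set _)) := hy
  revert b
  refine Submodule.span_induction
    (p := fun y _ => ∀ b : B, ∃ x' ∈ c, (x' : B) = TameAct.reynolds k A B B α (b * y))
    ?_ ?_ ?_ ?_ hy'
  · rintro _ ⟨x0, hx0, rfl⟩ b
    refine ⟨⟨TameAct.reynolds k A B B α b, reynolds_mem_invariants hα b⟩ * x0,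
      c.mul_mem_left _ hx0, ?_⟩
    have : algebraMap (GLin.invariants k A B) B x0 = (x0 : B) := rfl
    rw [this, reynolds_mul_of_mem α b x0.2]
    rfl
  · intro b
    exact ⟨0, c.zero_mem, by simp⟩
  · intro y z _ _ hy hz b
    obtain ⟨y', hy', ey⟩ := hy b
    obtain ⟨z', hz', ez⟩ := hz b
    refine ⟨y' + z', c.add_mem hy' hz', ?_⟩
    rw [mul_add, map_add, ← ey, ← ez]
    rfl
  · intro r y _ hy b
    obtain ⟨y', hy', ey⟩ := hy (b * r)
    exact ⟨y', hy', by rw [ey, smul_eq_mul, mul_assoc]⟩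

/-- `cB ∩ C = c`. -/
theorem comap_map_invariants {α : A →ₗ[k] B} (hα : Hoch.IsComodHom A α) (hα1 : α 1 = 1)
    (c : Ideal (GLin.invariants k A B)) :
    (c.map (algebraMap (GLin.invariants k A B) B)).comap
      (algebraMap (GLin.invariants k A B) B) = c := by
  refine le_antisymm ?_ Ideal.le_comap_map
  intro x hx
  rw [Ideal.mem_comap] at hx
  obtain ⟨x', hx', e⟩ := exists_mem_eq_reynolds_mul hα c hx 1
  have hxB : algebraMap (GLin.invariants k A B) B x = (x : B) := rfl
  rw [one_mul, hxB, reynolds_of_mem_invariants hα1 x.2] at e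
  have : x' = x := Subtype.ext e
  exact this ▸ hx'

/-- `(pB + b) ∩ C ≤ p` when `b` is an invariant ideal with `b ∩ C ≤ p`. -/
theorem comap_sup_le {α : A →ₗ[k] B} (hα : Hoch.IsComodHom A α) (hα1 : α 1 = 1)
    (p : Ideal (GLin.invariants k A B)) (b : Ideal B)
    (hb : HopfRep.IsSubcomod (k := k) (A := A) (b.restrictScalars k))
    (hbp : b.comap (algebraMap (GLin.invariants k A B) B) ≤ p) :
    (p.map (algebraMap (GLin.invariants k A B) B) ⊔ b).comap
      (algebraMap (GLin.invariants k A B) B) ≤ p := by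
  intro x hx
  rw [Ideal.mem_comap] at hx
  obtain ⟨y, hy, z, hz, hyz⟩ := Submodule.mem_sup.mp hx
  obtain ⟨x', hx', e⟩ := exists_mem_eq_reynolds_mul hα p hy 1
  rw [one_mul] at e
  have hz' : TameAct.reynolds k A B B α z ∈ b := reynolds_mem_of_isSubcomod α b hb hz
  have hzp : (⟨TameAct.reynolds k A B B α z, reynolds_mem_invariants hα z⟩ :
      GLin.invariants k A B) ∈ p := hbp (by rw [Ideal.mem_comap]; exact hz')
  have hxB : algebraMap (GLin.invariants k A B) B x = (x : B) := rfl
  have hx2 : (x : B) = TameAct.reynolds k A B B α y + TameAct.reynolds k A B B α z := by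
    rw [← map_add, hyz, hxB, reynolds_of_mem_invariants hα1 x.2]
  have : x = x' + ⟨TameAct.reynolds k A B B α z, reynolds_mem_invariants hα z⟩ := by
    apply Subtype.ext
    rw [hx2, ← e]
    rfl
  rw [this]
  exact p.add_mem hx' hzp

end Ring

end Groth.Agent.H62.TotInt
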