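import Groth.Agent.H62.CatQuotB
import Groth.Agent.H62.TotInt
import Groth.Agent.S12922

/-!
# Categorical quotient by a tame action: `Spec B → Spec B^A`
-/

set_option autoImplicit false
universe u

open AlgebraicGeometry CategoryTheory TensorProduct

namespace Groth.Agent.H62.CatQuotC

variable {k : Type u} [CommRing k] {A : Type u} [CommRing A] [HopfAlgebra k A]
variable {B : Type u} [CommRing B] [Algebra k B] [HopfRep.Comod k A B] [GLin.IsCoactAlg k A B]

/-- Partition of unity by invariants subordinate to a family of radically-invariant ideals. -/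
theorem partition {α : A →ₗ[k] B} (hα : Hoch.IsComodHom A α) (hα1 : α 1 = 1)
    (κ : Type u) (I : κ → Ideal B) (h1 : (⨆ i, I i) = ⊤)
    (h2 : ∀ i, ∀ x ∈ I i, (GLin.coactAlgHom k A B).toRingHom x ∈
      (Ideal.map (Algebra.TensorProduct.includeLeftRingHom : B →+* B ⊗[k] A) (I i)).radical) :
    ∃ (s : Finset κ) (c : κ → GLin.invariants k A B),
      (∀ i ∈ s, algebraMap (GLin.invariants k A B) B (c i) ∈ I i) ∧ ∑ i ∈ s, c i = 1 := by
  classical
  let b : κ → Ideal B := fun i =>
    (Ideal.map (Algebra.TensorProduct.includeLeftRingHom : B →+* B ⊗[k] A) (I i)).comap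
      (GLin.coactAlgHom k A B).toRingHom
  have hle : ∀ i, I i ≤ (b i).radical := by
    intro i x hx
    obtain ⟨n, hn⟩ := h2 i x hx
    refine ⟨n, ?_⟩
    change (GLin.coactAlgHom k A B).toRingHom (x ^ n) ∈
      Ideal.map (Algebra.TensorProduct.includeLeftRingHom : B →+* B ⊗[k] A) (I i)
    rw [map_pow]
    exact hn
  have htop : (⨆ i, b i) = ⊤ := by
    rw [← Ideal.radical_eq_top, eq_top_iff, ← h1]
    exact iSup_le fun i => (hle i).trans (Ideal.radical_mono (le_iSup b i))
  have hone : (1 : B) ∈ ⨆ i, b i := by rw [htop]; trivial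
  obtain ⟨f, hf, hsum⟩ := (Submodule.mem_iSup_iff_exists_finsupp b 1).mp hone
  refine ⟨f.support, fun i => ⟨TameAct.reynolds k A B B α (f i),
    TotInt.reynolds_mem_invariants hα (f i)⟩, ?_, ?_⟩
  · intro i _
    change TameAct.reynolds k A B B α (f i) ∈ I i
    rw [TotInt.reynolds_apply]
    apply TotInt.L_mem_of_mem_range α (I i)
    have hfi : (GLin.coactAlgHom k A B).toRingHom (f i) ∈
        Ideal.map (Algebra.TensorProduct.includeLeftRingHom : B →+* B ⊗[k] A) (I i) := hf i
    have hEq := Ideal.map_includeLeft_eq (R := k) (A := B) (B := A) (I i)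
    have hmem : (GLin.coactAlgHom k A B).toRingHom (f i) ∈
        ((I i).map (Algebra.TensorProduct.includeLeft : B →ₐ[k] B ⊗[k] A)).restrictScalars k := hfi
    rw [hEq] at hmem
    exact hmem
  · apply Subtype.ext
    rw [AddSubmonoidClass.coe_finsetSum]
    change ∑ i ∈ f.support, TameAct.reynolds k A B B α (f i) = 1
    rw [← map_sum]
    have hs : ∑ i ∈ f.support, f i = 1 := hsum
    rw [hs]
    exact TotInt.reynolds_of_mem_invariants hα1 (one_mem _)

theorem main [Module.Flat k A]
    (htame : ∃ α : A →ₗ[k] B, Hoch.IsComodHom A α ∧ α 1 = 1)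
    (Z : Scheme.{u}) (ψ : Spec (CommRingCat.of B) ⟶ Z)
    (hψ : Spec.map (CommRingCat.ofHom (GLin.coactAlgHom k A B).toRingHom) ≫ ψ =
      Spec.map (CommRingCat.ofHom
        (Algebra.TensorProduct.includeLeftRingHom : B →+* TensorProduct k B A)) ≫ ψ) :
    ∃! χ : Spec (CommRingCat.of (GLin.invariants k A B)) ⟶ Z,
      Spec.map (CommRingCat.ofHom (algebraMap (GLin.invariants k A B) B)) ≫ χ = ψ := by
  obtain ⟨α, hα, hα1⟩ := htame
  refine CatQuotB.main (algebraMap (GLin.invariants k A B) B) (GLin.coactAlgHom k A B).toRingHom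
    (Algebra.TensorProduct.includeLeftRingHom : B →+* B ⊗[k] A) Subtype.val_injective ?_ ?_ ψ hψ
    (Groth.Agent.S12922.result k A B ⟨α, hα, hα1⟩) (partition hα hα1)
  · intro x
    exact x.2
  · intro b hb
    exact ⟨⟨b, hb⟩, rfl⟩

end Groth.Agent.H62.CatQuotC
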