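import Groth.Agent.H62.CoidealFlat
import Groth.Agent.H40.Cocomm

/-!
# Characters trivial on stabilisers of closed orbits: an open condition on the quotient
-/

set_option autoImplicit false
universe u
open TensorProduct

namespace Groth.Agent.H62.CharOpen

open Groth.Agent Groth.Agent.H62.CoidealFlat

section Orbit

variable {k : Type u} [Field k] {A : Type u} [CommRing A] [HopfAlgebra k A]
variable {R : Type u} [CommRing R] [Algebra k R] [HopfRep.Comod k A R] [GLin.IsCoactAlg k A R]

local notation "Δₐ" => CoalgebraStruct.comul (R := k) (A := A)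
local notation "εₐ" => CoalgebraStruct.counit (R := k) (A := A)

theorem isRightCoideal_range (x : R →ₐ[k] k) :
    IsRightCoideal (GLin.orbitHom k A x).range := by
  rintro _ ⟨r, rfl⟩
  have ho := S11794.isComodHom_oLin (A := A) x
  have h1 : Δₐ (GLin.orbitHom k A x r) =
      (S11794.oLin A x).rTensor A (HopfRep.Comod.coact (k := k) (A := A) r) := by
    rw [S11794.orbitHom_apply]
    exact H93.comodHom_apply ho r
  have h2 : S11794.oLin A x = (GLin.orbitHom k A x).range.val.toLinearMap ∘ₗ
      (GLin.orbitHom k A x).rangeRestrict.toLinearMap := by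
    apply LinearMap.ext
    intro f
    exact (S11794.orbitHom_apply x f).symm
  change Δₐ (GLin.orbitHom k A x r) ∈ _
  rw [h1, h2, LinearMap.rTensor_comp_apply]
  exact ⟨_, rfl⟩

theorem comap_surjective_of_isClosedOrbit (x : R →ₐ[k] k) (hx : GLin.IsClosedOrbit k A x) :
    Function.Surjective (PrimeSpectrum.comap
      (algebraMap (GLin.orbitHom k A x).range A)) := by
  intro P
  have hcl : Set.range (PrimeSpectrum.comap (GLin.orbitHom k A x).toRingHom) =
      PrimeSpectrum.zeroLocus (RingHom.ker (GLin.orbitHom k A x).toRingHom : Set R) := by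
    rw [← PrimeSpectrum.closure_range_comap]
    exact hx.closure_eq.symm
  have hsurj : Function.Surjective ((GLin.orbitHom k A x).rangeRestrict.toRingHom) :=
    (GLin.orbitHom k A x).rangeRestrict_surjective
  have hP : PrimeSpectrum.comap ((GLin.orbitHom k A x).rangeRestrict.toRingHom) P ∈
      Set.range (PrimeSpectrum.comap (GLin.orbitHom k A x).toRingHom) := by
    rw [hcl, PrimeSpectrum.mem_zeroLocus]
    intro r hr
    change ((GLin.orbitHom k A x).rangeRestrict r) ∈ P.asIdeal
    have h0 : (GLin.orbitHom k A x).rangeRestrict r = 0 := Subtype.ext hr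
    rw [h0]
    exact zero_mem _
  obtain ⟨Q, hQ⟩ := hP
  refine ⟨Q, ?_⟩
  apply PrimeSpectrum.comap_injective_of_surjective _ hsurj
  rw [← hQ]
  rfl

theorem stabIdeal_le (x : R →ₐ[k] k) :
    GLin.stabIdeal k A x ≤
      Ideal.span {a : A | a ∈ (GLin.orbitHom k A x).range ∧ εₐ a = 0} := by
  unfold GLin.stabIdeal
  rw [Ideal.map_le_iff_le_comap]
  intro r hr
  rw [Ideal.mem_comap]
  apply Ideal.subset_span
  refine ⟨⟨r, rfl⟩, ?_⟩
  rw [← S11794.apply_eq_counit_orbitHom]
  exact hr

/-- Lifting a group-like element in the orbit image to a semi-invariant. -/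
theorem exists_eigen_lift (hG : HopfRep.IsLinearlyReductive k A) (x : R →ₐ[k] k) {χ : A}
    (hχ : IsGroupLikeElem k χ) {r : R} (hr : GLin.orbitHom k A x r = χ) :
    ∃ f : R, HopfRep.Comod.coact (k := k) (A := A) f = f ⊗ₜ[k] χ ∧
      GLin.orbitHom k A x f = χ := by
  have ho := S11794.isComodHom_oLin (A := A) x
  obtain ⟨V, hVfin, hrV, hV⟩ := H40.exists_finite_subcomod_mem (k := k) (C := A) r
  haveI := hVfin
  have hU : HopfRep.IsSubcomod (k := k) (A := A) (LinearMap.ker (S11794.oLin A x)) :=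
    H93.isSubcomod_ker ho
  obtain ⟨U', hU', -, hinf, hsup⟩ :=
    H40.exists_compl_in_subcomod hG V (LinearMap.ker (S11794.oLin A x)) hV hU
  obtain ⟨u, hu, f, hf, huf⟩ := Submodule.mem_sup.mp (hsup hrV)
  have hof : S11794.oLin A x f = χ := by
    have h1 := congrArg (S11794.oLin A x) huf
    rw [map_add, LinearMap.mem_ker.mp hu, zero_add] at h1
    rw [h1, ← S11794.orbitHom_apply, hr]
  refine ⟨f, ?_, by rw [S11794.orbitHom_apply]; exact hof⟩
  obtain ⟨t, ht⟩ := hU' f hf
  let φ : U' →ₗ[k] A := S11794.oLin A x ∘ₗ U'.subtype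
  have hφinj : Function.Injective φ := by
    rw [← LinearMap.ker_eq_bot, eq_bot_iff]
    intro w hw
    have hw' : (w : R) ∈ LinearMap.ker (S11794.oLin A x) ⊓ U' := ⟨hw, w.2⟩
    rw [hinf] at hw'
    exact Subtype.ext ((Submodule.mem_bot k).mp hw')
  have hφt : φ.rTensor A t = φ.rTensor A ((⟨f, hf⟩ : U') ⊗ₜ[k] χ) := by
    rw [LinearMap.rTensor_comp_apply, ht, ← H93.comodHom_apply ho, hof, LinearMap.rTensor_tmul]
    change Δₐ χ = S11794.oLin A x f ⊗ₜ[k] χ
    rw [hof, hχ.comul_eq_tmul_self]
  have htt := H62.rTensor_injective φ hφinj A hφt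
  rw [← ht, htt, LinearMap.rTensor_tmul]
  rfl

/-- The orbit map on a semi-invariant. -/
theorem orbitHom_of_eigen (x : R →ₐ[k] k) {f : R} {χ : A}
    (hf : HopfRep.Comod.coact (k := k) (A := A) f = f ⊗ₜ[k] χ) :
    GLin.orbitHom k A x f = x f • χ := by
  rw [S11794.orbitHom_apply, S11794.oLin_apply]
  change TensorProduct.lid k A
    (x.toLinearMap.rTensor A (HopfRep.Comod.coact (k := k) (A := A) f)) = _
  rw [hf, LinearMap.rTensor_tmul, TensorProduct.lid_tmul]
  rfl

end Orbit

section Main

theorem main (k : Type u) [Field k] [IsAlgClosed k] [CharZero k]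
    (A : Type u) [CommRing A] [IsDomain A] [HopfAlgebra k A] [Algebra.FiniteType k A]
    (hG : HopfRep.IsLinearlyReductive k A)
    (R : Type u) [CommRing R] [IsReduced R] [Algebra k R] [Algebra.FiniteType k R]
    [HopfRep.Comod k A R] [GLin.IsCoactAlg k A R]
    (χ : A) (hχ : IsGroupLikeElem k χ) :
    ∃ E : Set R, E ⊆ GLin.invariants k A R ∧
      ∀ x : R →ₐ[k] k, GLin.IsClosedOrbit k A x →
        (χ - 1 ∈ GLin.stabIdeal k A x ↔ ∃ f ∈ E, x f ≠ 0) := by
  refine ⟨{e | ∃ f f' : R, HopfRep.Comod.coact (k := k) (A := A) f = f ⊗ₜ[k] χ ∧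
      HopfRep.Comod.coact (k := k) (A := A) f' = f' ⊗ₜ[k] (HopfAlgebra.antipode k χ) ∧
      e = f * f'}, ?_, ?_⟩
  · rintro _ ⟨f, f', hf, hf', rfl⟩
    change HopfRep.Comod.coact (k := k) (A := A) (f * f') = (f * f') ⊗ₜ[k] (1 : A)
    rw [GLin.IsCoactAlg.coact_mul, hf, hf', Algebra.TensorProduct.tmul_mul_tmul,
      hχ.mul_antipode_cancel]
  · intro x hx
    constructor
    · intro hmem
      have h1 : χ ∈ (GLin.orbitHom k A x).range :=
        mem_of_sub_one_mem (isRightCoideal_range x) (comap_surjective_of_isClosedOrbit x hx) hχ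
          (stabIdeal_le x hmem)
      obtain ⟨r, hr⟩ := h1
      obtain ⟨f, hf, hfo⟩ := exists_eigen_lift hG x hχ hr
      have hSmem : HopfAlgebra.antipode k χ - 1 ∈ GLin.stabIdeal k A x := by
        have e : HopfAlgebra.antipode k χ - 1 = -(HopfAlgebra.antipode k χ) * (χ - 1) := by
          rw [mul_sub, neg_mul, hχ.antipode_mul_cancel]
          ring
        rw [e]
        exact Ideal.mul_mem_left _ _ hmem
      have hSχ := hχ.antipode
      have h2 : HopfAlgebra.antipode k χ ∈ (GLin.orbitHom k A x).range :=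
        mem_of_sub_one_mem (isRightCoideal_range x) (comap_surjective_of_isClosedOrbit x hx) hSχ
          (stabIdeal_le x hSmem)
      obtain ⟨r', hr'⟩ := h2
      obtain ⟨f', hf', hfo'⟩ := exists_eigen_lift hG x hSχ hr'
      refine ⟨f * f', ⟨f, f', hf, hf', rfl⟩, ?_⟩
      have e1 : x f = 1 := by
        rw [S11794.apply_eq_counit_orbitHom (A := A), hfo, hχ.counit_eq_one]
      have e2 : x f' = 1 := by
        rw [S11794.apply_eq_counit_orbitHom (A := A), hfo', hSχ.counit_eq_one]
      rw [map_mul, e1, e2]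
      simp
    · rintro ⟨_, ⟨f, f', hf, hf', rfl⟩, hne⟩
      rw [map_mul] at hne
      have hxf : x f ≠ 0 := left_ne_zero_of_mul hne
      have h1 : GLin.orbitHom k A x (f - algebraMap k R (x f)) = x f • (χ - 1) := by
        rw [map_sub, orbitHom_of_eigen x hf, AlgHom.commutes, smul_sub,
          Algebra.algebraMap_eq_smul_one]
      have h2 : f - algebraMap k R (x f) ∈ RingHom.ker x := by
        rw [RingHom.mem_ker, map_sub, AlgHom.commutes]
        simp
      have h3 : x f • (χ - 1) ∈ GLin.stabIdeal k A x := by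
        rw [← h1]
        exact Ideal.mem_map_of_mem _ h2
      have h4 : χ - 1 = algebraMap k A (x f)⁻¹ * (x f • (χ - 1)) := by
        rw [← Algebra.smul_def, smul_smul, inv_mul_cancel₀ hxf, one_smul]
      rw [h4]
      exact Ideal.mul_mem_left _ _ h3

end Main

end Groth.Agent.H62.CharOpen
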