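import Groth.Agent.H11.Chevalley
import Groth.Agent.H87.ComplExact

/-!
# helper62: Chevalley's lemma for finite modules over a complete Noetherian local ring

`chevalley_module`: `R` complete Noetherian local, `N` a finite `R`-module, `F` a decreasing sequence
of submodules with zero intersection.  Then for every `t` some `F m` lies in `𝔪 ^ t • ⊤`.
(Module version of `Groth.Agent.H11.Chevalley.chevalley`, same proof.)
-/

set_option autoImplicit false
set_option linter.style.haveILetI false
set_option linter.unusedSectionVars false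

universe u v

namespace Groth.Agent.H62.ChevalleyMod

open IsLocalRing

variable {R : Type u} [CommRing R] [IsLocalRing R] [IsNoetherianRing R]
variable {N : Type v} [AddCommGroup N] [Module R N] [Module.Finite R N]

/-- Submodules of a finite module over a Noetherian local ring are closed for the adic topology. -/
theorem mem_of_forall_mem_sup_pow (K : Submodule R N) (x : N)
    (h : ∀ k, x ∈ K ⊔ (maximalIdeal R ^ k • ⊤ : Submodule R N)) : x ∈ K := by
  have h0 : K.mkQ x = 0 := by
    apply IsHausdorff.haus (inferInstance : IsHausdorff (maximalIdeal R) (N ⧸ K))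
    intro k
    rw [SModEq.zero]
    obtain ⟨a, ha, b, hb, hab⟩ := Submodule.mem_sup.mp (h k)
    rw [← hab, map_add, Submodule.mkQ_apply, (Submodule.Quotient.mk_eq_zero K).mpr ha, zero_add]
    have hle : (maximalIdeal R ^ k • ⊤ : Submodule R N).map K.mkQ ≤
        (maximalIdeal R ^ k • ⊤ : Submodule R (N ⧸ K)) := by
      rw [Submodule.map_smul'']
      exact Submodule.smul_mono le_rfl le_top
    exact hle ⟨b, hb, rfl⟩
  exact (Submodule.Quotient.mk_eq_zero K).mp h0

/-- `N / 𝔪^k N` is Artinian. -/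
theorem isArtinian_quot_pow (k : ℕ) :
    IsArtinian R (N ⧸ (maximalIdeal R ^ k • ⊤ : Submodule R N)) := by
  by_cases hk : k = 0
  · subst hk
    haveI : Subsingleton (N ⧸ (maximalIdeal R ^ 0 • ⊤ : Submodule R N)) := by
      rw [pow_zero, Ideal.one_eq_top, Submodule.top_smul]
      exact Submodule.Quotient.subsingleton_iff.mpr rfl
    exact isArtinian_of_finite
  haveI := Groth.Agent.H11.Chevalley.isArtinianRing_quot_pow (A := R) k hk
  haveI : Module.Finite (R ⧸ maximalIdeal R ^ k)
      (N ⧸ (maximalIdeal R ^ k • ⊤ : Submodule R N)) :=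
    Module.Finite.of_restrictScalars_finite R _ _
  haveI : IsArtinian (R ⧸ maximalIdeal R ^ k)
      (N ⧸ (maximalIdeal R ^ k • ⊤ : Submodule R N)) := inferInstance
  exact isArtinian_of_surjective_algebraMap (R := R ⧸ maximalIdeal R ^ k) (S := R)
    Ideal.Quotient.mk_surjective

/-- Stabilization of a decreasing chain modulo a power of the maximal ideal. -/
theorem exists_stab (F : ℕ → Submodule R N) (hF : Antitone F) (k : ℕ) :
    ∃ s, ∀ m, s ≤ m → F m ⊔ (maximalIdeal R ^ k • ⊤ : Submodule R N) =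
      F s ⊔ (maximalIdeal R ^ k • ⊤ : Submodule R N) := by
  haveI := isArtinian_quot_pow (R := R) (N := N) k
  let f : ℕ →o (Submodule R (N ⧸ (maximalIdeal R ^ k • ⊤ : Submodule R N)))ᵒᵈ :=
    ⟨fun m => OrderDual.toDual ((F m).map (Submodule.mkQ _)),
      fun a b hab => OrderDual.toDual_le_toDual.mpr (Submodule.map_mono (hF hab))⟩
  obtain ⟨s, hs⟩ := IsArtinian.monotone_stabilizes f
  refine ⟨s, fun m hm => ?_⟩
  have h1 : (F s).map (Submodule.mkQ (maximalIdeal R ^ k • ⊤ : Submodule R N)) =
      (F m).map (Submodule.mkQ (maximalIdeal R ^ k • ⊤ : Submodule R N)) := hs m hm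
  have h2 := congrArg (Submodule.comap (Submodule.mkQ (maximalIdeal R ^ k • ⊤ : Submodule R N))) h1
  rw [Submodule.comap_map_mkQ, Submodule.comap_map_mkQ] at h2
  rw [sup_comm, ← h2, sup_comm]

/-- **Chevalley's lemma** for finite modules. -/
theorem chevalley_module [IsAdicComplete (maximalIdeal R) R] (F : ℕ → Submodule R N)
    (hF : Antitone F) (h0 : ∀ x, (∀ m, x ∈ F m) → x = 0) (t : ℕ) :
    ∃ m, F m ≤ (maximalIdeal R ^ t • ⊤ : Submodule R N) := by
  haveI : IsAdicComplete (maximalIdeal R) N :=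
    Groth.Agent.H87.ComplExact.isAdicComplete_of_finite (maximalIdeal R) N
  have hpow : ∀ {a b : ℕ}, a ≤ b → (maximalIdeal R ^ b • ⊤ : Submodule R N) ≤
      (maximalIdeal R ^ a • ⊤ : Submodule R N) := fun hab =>
    Submodule.smul_mono_left (Ideal.pow_le_pow_right hab)
  choose s hs using exists_stab F hF
  let J : ℕ → Submodule R N := fun k => F (s k) ⊔ (maximalIdeal R ^ k • ⊤ : Submodule R N)
  have P1 : ∀ k m, J k ≤ F m ⊔ (maximalIdeal R ^ k • ⊤ : Submodule R N) := by
    intro k m
    by_cases hm : s k ≤ m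
    · exact (hs k m hm).ge
    · exact sup_le_sup_right (hF (le_of_not_ge hm)) _
  have P2 : ∀ k, J k ≤ J (k + 1) ⊔ (maximalIdeal R ^ k • ⊤ : Submodule R N) := by
    intro k
    have e1 : J k = F (max (s k) (s (k + 1))) ⊔ (maximalIdeal R ^ k • ⊤ : Submodule R N) :=
      (hs k _ (le_max_left _ _)).symm
    have e2 : J (k + 1) =
        F (max (s k) (s (k + 1))) ⊔ (maximalIdeal R ^ (k + 1) • ⊤ : Submodule R N) :=
      (hs (k + 1) _ (le_max_right _ _)).symm
    rw [e1, e2]
    exact sup_le (le_sup_left.trans le_sup_left) le_sup_right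
  have step : ∀ k, ∀ x : {x // x ∈ J k}, ∃ x' : {x // x ∈ J (k + 1)},
      (x : N) - x' ∈ (maximalIdeal R ^ k • ⊤ : Submodule R N) := by
    intro k x
    obtain ⟨a, ha, b, hb, hab⟩ := Submodule.mem_sup.mp (P2 k x.2)
    exact ⟨⟨a, ha⟩, by rw [← hab]; simpa using hb⟩
  choose nxt hnxt using step
  refine ⟨s t, ?_⟩
  refine le_trans (le_sup_left : F (s t) ≤ J t) ?_
  intro x₀ hx₀
  let g : ∀ j, {x // x ∈ J (t + j)} := fun j =>
    Nat.rec (motive := fun j => {x // x ∈ J (t + j)}) ⟨x₀, hx₀⟩ (fun j y => nxt (t + j) y) j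
  have hg0 : ((g 0 : {x // x ∈ J (t + 0)}) : N) = x₀ := rfl
  have hgs : ∀ j, ((g j : N) - (g (j + 1) : N)) ∈
      (maximalIdeal R ^ (t + j) • ⊤ : Submodule R N) := by
    intro j
    exact hnxt (t + j) (g j)
  have hcauchy : ∀ j d, ((g j : N) - (g (j + d) : N)) ∈
      (maximalIdeal R ^ (t + j) • ⊤ : Submodule R N) := by
    intro j d
    induction d with
    | zero => simp
    | succ d ih =>
      have h1 := hgs (j + d)
      have h2 : (maximalIdeal R ^ (t + (j + d)) • ⊤ : Submodule R N) ≤
          (maximalIdeal R ^ (t + j) • ⊤ : Submodule R N) := hpow (by omega)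
      change ((g j : N) - (g (j + d + 1) : N)) ∈ (maximalIdeal R ^ (t + j) • ⊤ : Submodule R N)
      have h3 : ((g j : N) - (g (j + d + 1) : N)) =
          ((g j : N) - (g (j + d) : N)) + ((g (j + d) : N) - (g (j + d + 1) : N)) := by
        abel
      rw [h3]
      exact Submodule.add_mem _ ih (h2 h1)
  obtain ⟨L, hL⟩ := IsPrecomplete.prec (IsAdicComplete.toIsPrecomplete
    (I := maximalIdeal R) (M := N)) (f := fun j => (g j : N)) (by
      intro m n hmn
      rw [SModEq.sub_mem]
      obtain ⟨d, rfl⟩ := Nat.exists_eq_add_of_le hmn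
      exact hpow (by omega) (hcauchy m d))
  have hL' : ∀ n, ((g n : N) - L) ∈ (maximalIdeal R ^ n • ⊤ : Submodule R N) := by
    intro n
    have := hL n
    rwa [SModEq.sub_mem] at this
  have hL2 : ∀ j, ((g j : N) - L) ∈ (maximalIdeal R ^ (t + j) • ⊤ : Submodule R N) := by
    intro j
    have h1 := hcauchy j t
    have h2 := hL' (j + t)
    rw [add_comm j t] at h2
    have h3 : ((g j : N) - L) = ((g j : N) - (g (j + t) : N)) + ((g (j + t) : N) - L) := by abel
    rw [h3]
    exact Submodule.add_mem _ h1 (by rwa [add_comm j t])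
  have hLI : ∀ m, L ∈ F m := by
    intro m
    apply mem_of_forall_mem_sup_pow
    intro k
    have hle : F m ⊔ (maximalIdeal R ^ (t + k) • ⊤ : Submodule R N) ≤
        F m ⊔ (maximalIdeal R ^ k • ⊤ : Submodule R N) :=
      sup_le_sup_left (hpow (Nat.le_add_left k t)) _
    have h1 : (g k : N) ∈ F m ⊔ (maximalIdeal R ^ k • ⊤ : Submodule R N) :=
      hle (P1 (t + k) m (g k).2)
    have h2 : ((g k : N) - L) ∈ F m ⊔ (maximalIdeal R ^ k • ⊤ : Submodule R N) :=
      Submodule.mem_sup_right (hpow (Nat.le_add_left k t) (hL2 k))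
    have h3 : L = (g k : N) - ((g k : N) - L) := by abel
    rw [h3]
    exact Submodule.sub_mem _ h1 h2
  have hL0 : L = 0 := h0 L hLI
  have := hL2 0
  rw [hL0, sub_zero, hg0, add_zero] at this
  exact this

end Groth.Agent.H62.ChevalleyMod
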