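import Groth.Agent.H62.RelHilbertU
import Groth.Agent.H62.Shear
import Groth.Agent.H74.Cofree

/-!
# helper62: `A` is of finite type over `A^G` (A Noetherian, G linearly reductive)

`T k H A = A ⊗ H` (functions on `X × G`) with the cofree coaction `id ⊗ Δ`, seen as an `A`-algebra
through the coaction `ρ : A → A ⊗ H`.  It is an equivariant `A`-algebra of finite type (shear map),
and `a ⊗ 1` is invariant; the relative Hilbert finiteness theorem then gives generators of `A` over
`A^G`.
-/

set_option autoImplicit false
set_option linter.unusedSectionVars false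
universe u v w
open TensorProduct

namespace Groth.Agent.H62.CoInd

section Def

variable (k : Type u) [Field k] (H : Type v) [CommRing H] [HopfAlgebra k H]
  (A : Type w) [CommRing A] [Algebra k A]

/-- `A ⊗ H` (functions on `X × G`), as a type synonym. -/
def T : Type (max w v) := A ⊗[k] H

noncomputable instance : CommRing (T k H A) := inferInstanceAs (CommRing (A ⊗[k] H))
noncomputable instance : Algebra k (T k H A) := inferInstanceAs (Algebra k (A ⊗[k] H))

noncomputable instance instComod : HopfRep.Comod k H (T k H A) :=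
  (H74.Coeff.cofreeComod (k := k) (C := H) A : HopfRep.Comod k H (A ⊗[k] H))

theorem coact_T (t : A ⊗[k] H) :
    HopfRep.Comod.coact (k := k) (A := H) (V := T k H A) t =
      H74.Coeff.cofreeCoact (k := k) (C := H) A t := rfl

theorem algAssoc_symm_eq (x : A ⊗[k] (H ⊗[k] H)) :
    (Algebra.TensorProduct.assoc k k k A H H).symm x = (TensorProduct.assoc k A H H).symm x := by
  rw [AlgEquiv.symm_apply_eq, RelPoly.algAssoc_eq, LinearEquiv.apply_symm_apply]

/-- The cofree coaction as an algebra map. -/
noncomputable def coactT : A ⊗[k] H →ₐ[k] (A ⊗[k] H) ⊗[k] H :=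
  (Algebra.TensorProduct.assoc k k k A H H).symm.toAlgHom.comp
    (Algebra.TensorProduct.map (AlgHom.id k A) (Bialgebra.comulAlgHom k H))

theorem coactT_apply (t : A ⊗[k] H) :
    coactT k H A t = H74.Coeff.cofreeCoact (k := k) (C := H) A t := by
  rw [coactT, AlgHom.comp_apply, RelPoly.map_id_eq_lTensor]
  exact algAssoc_symm_eq k H A _

theorem cofreeCoact_one : H74.Coeff.cofreeCoact (k := k) (C := H) A (1 : A ⊗[k] H) = 1 := by
  rw [← coactT_apply, map_one]

theorem cofreeCoact_mul (f g : A ⊗[k] H) :
    H74.Coeff.cofreeCoact (k := k) (C := H) A (f * g) =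
      H74.Coeff.cofreeCoact (k := k) (C := H) A f * H74.Coeff.cofreeCoact (k := k) (C := H) A g := by
  rw [← coactT_apply, ← coactT_apply, ← coactT_apply, map_mul]

instance instIsCoactAlg : GLin.IsCoactAlg k H (T k H A) where
  coact_one := cofreeCoact_one k H A
  coact_mul := fun f g => cofreeCoact_mul k H A f g

/-- `id ⊗ ε : A ⊗ H → A`. -/
noncomputable def π₀ : A ⊗[k] H →ₐ[k] A :=
  Algebra.TensorProduct.lift (AlgHom.id k A) ((Algebra.ofId k A).comp (Bialgebra.counitAlgHom k H))
    (fun _ _ => Commute.all _ _)

theorem π₀_tmul (a : A) (h : H) :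
    π₀ k H A (a ⊗ₜ[k] h) = CoalgebraStruct.counit (R := k) h • a := by
  rw [π₀, Algebra.TensorProduct.lift_tmul, AlgHom.id_apply, AlgHom.comp_apply,
    Bialgebra.counitAlgHom_apply, Algebra.ofId_apply, Algebra.smul_def, mul_comm]

theorem π₀_eq_contr (t : A ⊗[k] H) :
    π₀ k H A t = H40.contr A (CoalgebraStruct.counit (R := k) (A := H)) t := by
  induction t using TensorProduct.induction_on with
  | zero => simp
  | tmul a h => rw [π₀_tmul]; simp [H40.contr]
  | add x y hx hy => rw [map_add, map_add, hx, hy]

/-- `id ⊗ ε` on the synonym. -/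
noncomputable def π : T k H A →ₐ[k] A := π₀ k H A

/-- `a ⊗ 1` in the synonym. -/
def inl (a : A) : T k H A := (a ⊗ₜ[k] (1 : H) : A ⊗[k] H)

theorem π_inl (a : A) : π k H A (inl k H A a) = a := by
  change π₀ k H A (a ⊗ₜ[k] (1 : H)) = a
  rw [π₀_tmul, Bialgebra.counit_one, one_smul]

theorem inl_mem_invariants (a : A) : inl k H A a ∈ GLin.invariants k H (T k H A) := by
  change H74.Coeff.cofreeCoact (k := k) (C := H) A (a ⊗ₜ[k] (1 : H)) =
    (a ⊗ₜ[k] (1 : H)) ⊗ₜ[k] (1 : H)
  rw [H74.Coeff.cofreeCoact_tmul, Bialgebra.comul_one, Algebra.TensorProduct.one_def,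
    TensorProduct.assoc_symm_tmul]

end Def

section Str

variable (k : Type u) [Field k] (H : Type v) [CommRing H] [HopfAlgebra k H]
  (A : Type w) [CommRing A] [Algebra k A] [HopfRep.Comod k H A] [GLin.IsCoactAlg k H A]

/-- `A ⊗ H` as an `A`-algebra through the coaction. -/
noncomputable instance instAlgebra : Algebra A (T k H A) :=
  (GLin.coactAlgHom k H A).toRingHom.toAlgebra

theorem algebraMap_T (a : A) : algebraMap A (T k H A) a = H40.ρ k H A a := rfl

instance instIsScalarTower : IsScalarTower k A (T k H A) :=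
  IsScalarTower.of_algebraMap_eq' (by
    ext c
    exact ((GLin.coactAlgHom k H A).commutes c).symm)

theorem isComodHom_algebraMap :
    Hoch.IsComodHom H (IsScalarTower.toAlgHom k A (T k H A)).toLinearMap := by
  refine LinearMap.ext fun a => ?_
  exact LinearMap.congr_fun (H74.Coeff.isComodHom_coact_cofree (k := k) (C := H) (V := A)) a

theorem π_algebraMap (a : A) : π k H A (algebraMap A (T k H A) a) = a := by
  change π₀ k H A (H40.ρ k H A a) = a
  rw [π₀_eq_contr]
  exact H40.contr_counit_coact (k := k) (C := H) a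

/-- The shear map as an `A`-algebra map from `A ⊗ H` (base change of `H`) onto `T`. -/
noncomputable def shearA : A ⊗[k] H →ₐ[A] T k H A :=
  { (Shear.shear (k := k) (H := H) (S := A) (GLin.IsCoactAlg.coact_mul (k := k) (A := H))
      (GLin.IsCoactAlg.coact_one (k := k) (A := H)) : A ⊗[k] H →ₐ[k] A ⊗[k] H).toRingHom with
    commutes' := fun a => by
      change Shear.shear (k := k) (H := H) (S := A) _ _ (algebraMap A (A ⊗[k] H) a) = H40.ρ k H A a
      rw [Algebra.TensorProduct.algebraMap_apply, Algebra.algebraMap_self, RingHom.id_apply,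
        Shear.shear, Algebra.TensorProduct.lift_tmul, Shear.coactAlg_apply,
        Algebra.TensorProduct.includeRight_apply, ← Algebra.TensorProduct.one_def, mul_one] }

theorem shearA_surjective : Function.Surjective (shearA k H A) := fun t =>
  ⟨Shear.shear' (k := k) (H := H) (S := A) (GLin.IsCoactAlg.coact_mul (k := k) (A := H))
      (GLin.IsCoactAlg.coact_one (k := k) (A := H)) t,
    Shear.shear_shear' (k := k) (H := H) (S := A) _ _ t⟩

instance instFiniteType [Algebra.FiniteType k H] : Algebra.FiniteType A (T k H A) :=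
  Algebra.FiniteType.of_surjective (shearA k H A) (shearA_surjective k H A)

/-- A Noetherian comodule algebra over a linearly reductive group is of finite type over its
invariants. -/
theorem finiteType_over_invariants [Algebra.FiniteType k H] [IsNoetherianRing A]
    (hG : HopfRep.IsLinearlyReductive k H) :
    Algebra.FiniteType ↥(GLin.invariants k H A) A := by
  classical
  obtain ⟨s, hs⟩ := U.exists_finset_invariants_eq_adjoin (B := A) (T := T k H A) hG
    (isComodHom_algebraMap k H A)
  refine ⟨⟨s.image (π k H A), ?_⟩⟩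
  rw [eq_top_iff]
  intro a _
  have h1 : inl k H A a ∈ GLin.invariants k H (T k H A) := inl_mem_invariants k H A a
  rw [hs] at h1
  have h2 : π k H A (inl k H A a) ∈
      (Algebra.adjoin k (⇑(algebraMap A (T k H A)) '' ↑(GLin.invariants k H A) ∪ ↑s)).map
        (π k H A) := Subalgebra.mem_map.mpr ⟨_, h1, rfl⟩
  rw [AlgHom.map_adjoin, Set.image_union, Set.image_image, π_inl] at h2
  have h3 : Algebra.adjoin k ((fun x => π k H A (algebraMap A (T k H A) x)) ''
        (GLin.invariants k H A : Set A) ∪ ⇑(π k H A) '' (s : Set (T k H A))) ≤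
      (Algebra.adjoin ↥(GLin.invariants k H A)
        ((s.image (π k H A) : Finset A) : Set A)).restrictScalars k := by
    rw [Algebra.adjoin_le_iff]
    rintro x (⟨b, hb, rfl⟩ | ⟨y, hy, rfl⟩)
    · change π k H A (algebraMap A (T k H A) b) ∈ _
      rw [π_algebraMap]
      exact Subalgebra.algebraMap_mem
        (Algebra.adjoin ↥(GLin.invariants k H A) ((s.image (π k H A) : Finset A) : Set A))
        (⟨b, hb⟩ : ↥(GLin.invariants k H A))
    · exact Algebra.subset_adjoin (Finset.mem_coe.mpr (Finset.mem_image_of_mem _ hy))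
  exact h3 h2

end Str

end Groth.Agent.H62.CoInd
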