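import Groth.Agent.H62.Coconn
import Groth.Agent.S3272
import Groth.Prelude.Def_SGA3t2b
import Mathlib.RingTheory.Bialgebra.TensorProduct
import Mathlib.RingTheory.HopfAlgebra.TensorProduct
import Mathlib.RingTheory.Flat.Basic
import Mathlib.FieldTheory.IsAlgClosed.AlgebraicClosure

/-!
# Homomorphisms between groups of multiplicative type and unipotent groups are trivial — helper62
-/

set_option autoImplicit false
universe u v w
open TensorProduct

namespace Groth.Agent.H62.MultUnip
open Groth.Agent Groth.Agent.H40 Groth.Agent.H62.Coconn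

section Diag
variable {K : Type u} [Field K] {B : Type v} [CommRing B] [Bialgebra K B]

/-- A diagonalizable bialgebra over a field has no nonzero primitive element. -/
theorem eq_zero_of_primitive_of_isDiagonalizable (hB : HopfRep.IsDiagonalizable K B) {x : B}
    (hx : CoalgebraStruct.comul (R := K) x = x ⊗ₜ[K] (1 : B) + (1 : B) ⊗ₜ[K] x) : x = 0 := by
  classical
  let g₁ : GroupLike K B := ⟨1, IsGroupLikeElem.one⟩
  let b := S3272.B hB
  have h := LinearMap.congr_fun (S3272.contr_comul hB g₁) x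
  rw [LinearMap.comp_apply, LinearMap.comp_apply, hx, map_add, contr_tmul, contr_tmul,
    LinearMap.toSpanSingleton_apply] at h
  have h1 : b.coord g₁ (1 : B) = 1 := by
    have : b g₁ = (1 : B) := S3272.B_apply hB g₁
    rw [← this, Module.Basis.coord_apply, Module.Basis.repr_self, Finsupp.single_eq_same]
  change b.coord g₁ 1 • x + b.coord g₁ x • (1 : B) = b.coord g₁ x • (1 : B) at h
  rw [h1, one_smul] at h
  exact add_eq_right.mp h

end Diag

section Prim
variable (k : Type u) [Field k] (R : Type v) [CommRing R] [Algebra k R]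
  (AM : Type w) [CommRing AM] [Bialgebra k AM]

/-- The defect of primitivity. -/
noncomputable def T : AM →ₗ[k] AM ⊗[k] AM :=
  CoalgebraStruct.comul (R := k) (A := AM) - (TensorProduct.mk k AM AM).flip 1 -
    TensorProduct.mk k AM AM 1

theorem T_apply (a : AM) :
    T k AM a = CoalgebraStruct.comul (R := k) a - a ⊗ₜ[k] (1 : AM) - (1 : AM) ⊗ₜ[k] a := rfl

/-- `r ↦ 1 ⊗ r`. -/
noncomputable def cR : R →ₗ[k] R ⊗[R] R :=
  ((TensorProduct.mk R R R) 1).restrictScalars k

/-- The comparison map `R ⊗ (AM ⊗ AM) → (R ⊗ AM) ⊗_R (R ⊗ AM)`. -/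
noncomputable def Θ : R ⊗[k] (AM ⊗[k] AM) →ₗ[k] (R ⊗[k] AM) ⊗[R] (R ⊗[k] AM) :=
  ((TensorProduct.AlgebraTensorModule.tensorTensorTensorComm k R k R R R AM AM).toLinearMap.restrictScalars
    k) ∘ₗ (cR k R).rTensor (AM ⊗[k] AM)

theorem Θ_tmul_tmul (r : R) (a b : AM) :
    Θ k R AM (r ⊗ₜ[k] (a ⊗ₜ[k] b)) = ((1 : R) ⊗ₜ[k] a) ⊗ₜ[R] (r ⊗ₜ[k] b) := by
  simp [Θ, cR]

theorem Θ_injective : Function.Injective (Θ k R AM) := by
  unfold Θ
  rw [LinearMap.coe_comp]
  refine Function.Injective.comp ?_ ?_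
  · exact (TensorProduct.AlgebraTensorModule.tensorTensorTensorComm k R k R R R AM AM).injective
  · apply Module.Flat.rTensor_preserves_injective_linearMap
    intro x y hxy
    have := congrArg (TensorProduct.lid R R) hxy
    simpa [cR] using this

theorem comul_tmul_eq (r : R) (a : AM) :
    CoalgebraStruct.comul (R := R) (r ⊗ₜ[k] a : R ⊗[k] AM) =
      Θ k R AM (r ⊗ₜ[k] CoalgebraStruct.comul (R := k) a) := by
  rw [TensorProduct.comul_tmul]
  rfl

theorem prim_identity (z : R ⊗[k] AM) :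
    CoalgebraStruct.comul (R := R) z - z ⊗ₜ[R] (1 : R ⊗[k] AM) - (1 : R ⊗[k] AM) ⊗ₜ[R] z =
      Θ k R AM ((T k AM).lTensor R z) := by
  induction z using TensorProduct.induction_on with
  | zero => simp
  | tmul r a =>
    rw [LinearMap.lTensor_tmul, T_apply, TensorProduct.tmul_sub, TensorProduct.tmul_sub, map_sub,
      map_sub, ← comul_tmul_eq, Θ_tmul_tmul, Θ_tmul_tmul, Algebra.TensorProduct.one_def]
    congr 2
    have h1 : (r ⊗ₜ[k] (1 : AM) : R ⊗[k] AM) = r • ((1 : R) ⊗ₜ[k] (1 : AM)) := by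
      rw [TensorProduct.smul_tmul', smul_eq_mul, mul_one]
    have h2 : (r ⊗ₜ[k] a : R ⊗[k] AM) = r • ((1 : R) ⊗ₜ[k] a) := by
      rw [TensorProduct.smul_tmul', smul_eq_mul, mul_one]
    rw [h1, h2, TensorProduct.smul_tmul]
  | add x y hx hy =>
    rw [map_add, map_add, map_add, TensorProduct.add_tmul, TensorProduct.tmul_add, ← hx, ← hy]
    abel

/-- If `AM` has no nonzero primitive element then neither has `R ⊗ AM` over `R`. -/
theorem eq_zero_of_primitive_baseChange (hT : Function.Injective (T k AM)) {z : R ⊗[k] AM}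
    (hz : CoalgebraStruct.comul (R := R) z =
      z ⊗ₜ[R] (1 : R ⊗[k] AM) + (1 : R ⊗[k] AM) ⊗ₜ[R] z) : z = 0 := by
  have h1 := prim_identity k R AM z
  rw [hz, add_sub_cancel_left, sub_self] at h1
  have h2 : (T k AM).lTensor R z = 0 := Θ_injective k R AM (by rw [← h1, map_zero])
  have h3 : Function.Injective ((T k AM).lTensor R) :=
    Module.Flat.lTensor_preserves_injective_linearMap _ hT
  exact h3 (by rw [h2, map_zero])

/-- If `K ⊗ AM` is diagonalizable for a field extension `K` then `AM` has no nonzero primitive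
element. -/
theorem T_injective_of_isDiagonalizable (K : Type v) [Field K] [Algebra k K]
    (hM : HopfRep.IsDiagonalizable K (K ⊗[k] AM)) : Function.Injective (T k AM) := by
  rw [injective_iff_map_eq_zero]
  intro a ha
  have h1 := prim_identity k K AM ((1 : K) ⊗ₜ[k] a)
  rw [LinearMap.lTensor_tmul, ha, TensorProduct.tmul_zero, map_zero, sub_sub, sub_eq_zero] at h1
  have h2 : ((1 : K) ⊗ₜ[k] a : K ⊗[k] AM) = 0 := eq_zero_of_primitive_of_isDiagonalizable hM h1
  have hinj : Function.Injective (Algebra.TensorProduct.includeRight : AM →ₐ[k] K ⊗[k] AM) :=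
    Algebra.TensorProduct.includeRight_injective (algebraMap k K).injective
  exact hinj (by rw [map_zero]; exact h2)

end Prim

section Triv
variable {k : Type u} [Field k] {R : Type u} [CommRing R] [Algebra k R]
  {AU AM : Type u} [CommRing AU] [CommRing AM] [Bialgebra k AU] [Bialgebra k AM]

/-- `a ↦ φ (1 ⊗ a)`. -/
noncomputable def phi0 (φ : R ⊗[k] AU →ₐc[R] R ⊗[k] AM) : AU →ₗ[k] R ⊗[k] AM :=
  ((φ : R ⊗[k] AU →ₐ[R] R ⊗[k] AM).toLinearMap.restrictScalars k) ∘ₗ TensorProduct.mk k R AU 1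

theorem phi0_apply (φ : R ⊗[k] AU →ₐc[R] R ⊗[k] AM) (a : AU) :
    phi0 φ a = φ ((1 : R) ⊗ₜ[k] a) := rfl

/-- `a ↦ φ (1 ⊗ a) - ε(a)`. -/
noncomputable def psi (φ : R ⊗[k] AU →ₐc[R] R ⊗[k] AM) : AU →ₗ[k] R ⊗[k] AM :=
  phi0 φ - (Algebra.linearMap k (R ⊗[k] AM)) ∘ₗ CoalgebraStruct.counit (R := k) (A := AU)

theorem psi_apply (φ : R ⊗[k] AU →ₐc[R] R ⊗[k] AM) (a : AU) :
    psi φ a = φ ((1 : R) ⊗ₜ[k] a) -
      algebraMap k (R ⊗[k] AM) (CoalgebraStruct.counit (R := k) a) := rfl

/-- `a ⊗ b ↦ (1 ⊗ a) ⊗_R (1 ⊗ b)`. -/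
noncomputable def jj : AU ⊗[k] AU →ₗ[k] (R ⊗[k] AU) ⊗[R] (R ⊗[k] AU) :=
  (TensorProduct.mapOfCompatibleSMul R k k (R ⊗[k] AU) (R ⊗[k] AU)) ∘ₗ
    TensorProduct.map (TensorProduct.mk k R AU 1) (TensorProduct.mk k R AU 1)

theorem comul_one_tmul (a : AU) :
    CoalgebraStruct.comul (R := R) ((1 : R) ⊗ₜ[k] a : R ⊗[k] AU) =
      jj (R := R) (CoalgebraStruct.comul (R := k) a) := by
  rw [TensorProduct.comul_tmul, CommSemiring.comul_apply]
  generalize CoalgebraStruct.comul (R := k) a = t
  induction t using TensorProduct.induction_on with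
  | zero => simp
  | tmul x y => simp [jj]
  | add x y hx hy => rw [TensorProduct.tmul_add, map_add, map_add, hx, hy]

/-- `μ ∘ (f ⊗ g)` -/
noncomputable def mu : (R ⊗[k] AM) ⊗[k] (R ⊗[k] AM) →ₗ[k] (R ⊗[k] AM) ⊗[R] (R ⊗[k] AM) :=
  TensorProduct.mapOfCompatibleSMul R k k (R ⊗[k] AM) (R ⊗[k] AM)

theorem comul_phi0 (φ : R ⊗[k] AU →ₐc[R] R ⊗[k] AM) (a : AU) :
    CoalgebraStruct.comul (R := R) (phi0 φ a) =
      mu (R := R) (TensorProduct.map (phi0 φ) (phi0 φ) (CoalgebraStruct.comul (R := k) a)) := by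
  rw [phi0_apply, ← CoalgHomClass.map_comp_comul_apply, comul_one_tmul]
  generalize CoalgebraStruct.comul (R := k) a = t
  induction t using TensorProduct.induction_on with
  | zero => simp
  | tmul x y => simp [jj, mu, phi0_apply]
  | add x y hx hy => rw [map_add, map_add, map_add, map_add, hx, hy]

theorem psi_apply' (φ : R ⊗[k] AU →ₐc[R] R ⊗[k] AM) (a : AU) :
    psi φ a = phi0 φ a - CoalgebraStruct.counit (R := k) a • (1 : R ⊗[k] AM) := by
  rw [psi_apply, Algebra.algebraMap_eq_smul_one]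
  rfl

theorem mu_map_psi_expand (φ : R ⊗[k] AU →ₐc[R] R ⊗[k] AM) (t : AU ⊗[k] AU) :
    mu (R := R) (TensorProduct.map (psi φ) (psi φ) t) =
      mu (R := R) (TensorProduct.map (phi0 φ) (phi0 φ) t) -
        phi0 φ (TensorProduct.rid k AU ((CoalgebraStruct.counit (R := k) (A := AU)).lTensor AU t))
          ⊗ₜ[R] (1 : R ⊗[k] AM) -
        (1 : R ⊗[k] AM) ⊗ₜ[R]
          phi0 φ (TensorProduct.lid k AU ((CoalgebraStruct.counit (R := k) (A := AU)).rTensor AU t)) +
        CoalgebraStruct.counit (R := k) (TensorProduct.rid k AU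
          ((CoalgebraStruct.counit (R := k) (A := AU)).lTensor AU t)) •
          ((1 : R ⊗[k] AM) ⊗ₜ[R] (1 : R ⊗[k] AM)) := by
  induction t using TensorProduct.induction_on with
  | zero => simp
  | tmul x y =>
    simp only [TensorProduct.map_tmul, mu, TensorProduct.mapOfCompatibleSMul_tmul,
      LinearMap.lTensor_tmul, LinearMap.rTensor_tmul, TensorProduct.rid_tmul,
      TensorProduct.lid_tmul, map_smul, psi_apply']
    simp only [TensorProduct.sub_tmul, TensorProduct.tmul_sub, TensorProduct.smul_tmul',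
      TensorProduct.tmul_smul, smul_sub, smul_smul, smul_eq_mul]
    rw [mul_comm (CoalgebraStruct.counit (R := k) y) (CoalgebraStruct.counit (R := k) x)]
    abel
  | add x y hx hy =>
    simp only [map_add, hx, hy, TensorProduct.add_tmul, TensorProduct.tmul_add, add_smul]
    abel

theorem mu_map_psi (φ : R ⊗[k] AU →ₐc[R] R ⊗[k] AM) (a : AU) :
    mu (R := R) (TensorProduct.map (psi φ) (psi φ) (CoalgebraStruct.comul (R := k) a)) =
      CoalgebraStruct.comul (R := R) (psi φ a) - psi φ a ⊗ₜ[R] (1 : R ⊗[k] AM) -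
        (1 : R ⊗[k] AM) ⊗ₜ[R] psi φ a := by
  rw [mu_map_psi_expand, ← comul_phi0, Coalgebra.lTensor_counit_comul,
    Coalgebra.rTensor_counit_comul, TensorProduct.rid_tmul, TensorProduct.lid_tmul, psi_apply']
  have h1 : CoalgebraStruct.comul (R := R)
      (CoalgebraStruct.counit (R := k) a • (1 : R ⊗[k] AM)) =
      CoalgebraStruct.counit (R := k) a • ((1 : R ⊗[k] AM) ⊗ₜ[R] (1 : R ⊗[k] AM)) := by
    rw [LinearMap.map_smul_of_tower, Bialgebra.comul_one, Algebra.TensorProduct.one_def]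
  rw [map_sub, h1]
  simp only [TensorProduct.sub_tmul, TensorProduct.tmul_sub, TensorProduct.smul_tmul',
    TensorProduct.tmul_smul, one_smul]
  abel

theorem psi_eq_zero {C : ℕ → Submodule k AU} (hC : IsCoconn C)
    (hprim : ∀ z : R ⊗[k] AM, CoalgebraStruct.comul (R := R) z =
      z ⊗ₜ[R] (1 : R ⊗[k] AM) + (1 : R ⊗[k] AM) ⊗ₜ[R] z → z = 0)
    (φ : R ⊗[k] AU →ₐc[R] R ⊗[k] AM) : ∀ r, ∀ a ∈ C r, psi φ a = 0 := by
  have h1 : psi φ 1 = 0 := by
    rw [psi_apply, ← Algebra.TensorProduct.one_def, map_one, Bialgebra.counit_one, map_one,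
      sub_self]
  have h0 : ∀ a ∈ C 0, psi φ a = 0 := by
    intro a ha
    rw [hC.zero, Submodule.mem_span_singleton] at ha
    obtain ⟨κ, rfl⟩ := ha
    rw [map_smul, h1, smul_zero]
  intro r
  induction r using Nat.strong_induction_on with
  | _ r ih =>
    intro a ha
    have hΔ : CoalgebraStruct.comul (R := k) a ∈
        ⨆ i ∈ Finset.range (r + 1), LinearMap.range (TensorProduct.mapIncl (C i) (C (r - i))) :=
      hC.comul r (Submodule.mem_map_of_mem ha)
    have hle : (⨆ i ∈ Finset.range (r + 1),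
        LinearMap.range (TensorProduct.mapIncl (C i) (C (r - i)))) ≤
        LinearMap.ker (TensorProduct.map (psi φ) (psi φ)) := by
      refine iSup₂_le fun i hi => ?_
      rintro _ ⟨t, rfl⟩
      rw [LinearMap.mem_ker]
      induction t using TensorProduct.induction_on with
      | zero => simp
      | tmul c c' =>
        rw [TensorProduct.mapIncl, TensorProduct.map_tmul, TensorProduct.map_tmul]
        by_cases hir : i < r
        · rw [Submodule.subtype_apply, ih i hir c c.2, TensorProduct.zero_tmul]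
        · have hi' := Finset.mem_range.mp hi
          have h00 : r - i = 0 := by omega
          have hc' : (c' : AU) ∈ C 0 := h00 ▸ c'.2
          rw [Submodule.subtype_apply, Submodule.subtype_apply, h0 _ hc', TensorProduct.tmul_zero]
      | add x y hx hy => rw [map_add, map_add, hx, hy, add_zero]
    have hz := mu_map_psi φ a
    rw [LinearMap.mem_ker.mp (hle hΔ), map_zero] at hz
    apply hprim
    rw [sub_sub, eq_comm, sub_eq_zero] at hz
    exact hz

theorem isTrivial_of_isCoconn {C : ℕ → Submodule k AU} (hC : IsCoconn C)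
    (hprim : ∀ z : R ⊗[k] AM, CoalgebraStruct.comul (R := R) z =
      z ⊗ₜ[R] (1 : R ⊗[k] AM) + (1 : R ⊗[k] AM) ⊗ₜ[R] z → z = 0)
    (φ : R ⊗[k] AU →ₐc[R] R ⊗[k] AM) : SGA3t2b.IsTrivialBialgHom φ := by
  have hC' : ∀ a : AU, psi φ a = 0 := by
    intro a
    have hmem : a ∈ ⨆ r, C r := by rw [hC.top]; trivial
    obtain ⟨r, hr⟩ := (Submodule.mem_iSup_of_directed C hC.mono.directed_le).mp hmem
    exact psi_eq_zero hC hprim φ r a hr
  intro z
  induction z using TensorProduct.induction_on with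
  | zero => simp
  | tmul r a =>
    have h1 : (r ⊗ₜ[k] a : R ⊗[k] AU) = r • ((1 : R) ⊗ₜ[k] a) := by
      rw [TensorProduct.smul_tmul', smul_eq_mul, mul_one]
    have h2 := hC' a
    rw [psi_apply, sub_eq_zero] at h2
    rw [h1, map_smul, h2, map_smul, TensorProduct.counit_tmul, CommSemiring.counit_apply,
      Algebra.algebraMap_eq_smul_one, Algebra.algebraMap_eq_smul_one, smul_assoc, smul_assoc,
      one_smul]
  | add x y hx hy => rw [map_add, map_add, map_add, hx, hy]

end Triv

section BaseChange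
variable {k : Type u} [Field k] (K : Type u) [Field K] [Algebra k K]
  {A : Type u} [CommRing A] [Bialgebra k A]

/-- Base change of a filtration. -/
noncomputable def bc (C : ℕ → Submodule k A) (r : ℕ) : Submodule K (K ⊗[k] A) :=
  Submodule.span K ((fun a => (1 : K) ⊗ₜ[k] a) '' (C r : Set A))

theorem one_tmul_mem_bc {C : ℕ → Submodule k A} {r : ℕ} {a : A} (ha : a ∈ C r) :
    ((1 : K) ⊗ₜ[k] a : K ⊗[k] A) ∈ bc K C r :=
  Submodule.subset_span ⟨a, ha, rfl⟩

theorem isCoconn_bc {C : ℕ → Submodule k A} (hC : IsCoconn C) : IsCoconn (bc K C) := by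
  refine ⟨fun r r' h => Submodule.span_mono (Set.image_mono (hC.mono h)), ?_, ?_, ?_⟩
  · apply le_antisymm
    · unfold bc
      rw [Submodule.span_le]
      rintro _ ⟨a, ha, rfl⟩
      have ha' : a ∈ C 0 := ha
      rw [hC.zero, Submodule.mem_span_singleton] at ha'
      obtain ⟨κ, rfl⟩ := ha'
      have : ((1 : K) ⊗ₜ[k] (κ • (1 : A)) : K ⊗[k] A) = algebraMap k K κ • (1 : K ⊗[k] A) := by
        rw [TensorProduct.tmul_smul, Algebra.TensorProduct.one_def, algebraMap_smul]
      change ((1 : K) ⊗ₜ[k] (κ • (1 : A)) : K ⊗[k] A) ∈ Submodule.span K {(1 : K ⊗[k] A)}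
      rw [this]
      exact Submodule.smul_mem _ _ (Submodule.subset_span rfl)
    · rw [Submodule.span_le, Set.singleton_subset_iff]
      have h1 : (1 : A) ∈ C 0 := by rw [hC.zero]; exact Submodule.subset_span rfl
      have := one_tmul_mem_bc K h1
      rwa [← Algebra.TensorProduct.one_def] at this
  · rw [eq_top_iff]
    rintro x -
    induction x using TensorProduct.induction_on with
    | zero => exact Submodule.zero_mem _
    | tmul c a =>
      have ha : a ∈ ⨆ r, C r := by rw [hC.top]; trivial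
      obtain ⟨r, hr⟩ := (Submodule.mem_iSup_of_directed C hC.mono.directed_le).mp ha
      have h1 : (c ⊗ₜ[k] a : K ⊗[k] A) = c • ((1 : K) ⊗ₜ[k] a) := by
        rw [TensorProduct.smul_tmul', smul_eq_mul, mul_one]
      rw [h1]
      exact Submodule.mem_iSup_of_mem r (Submodule.smul_mem _ _ (one_tmul_mem_bc K hr))
    | add x y hx hy => exact Submodule.add_mem _ hx hy
  · intro r
    unfold bc
    rw [Submodule.map_span, Submodule.span_le]
    rintro _ ⟨_, ⟨a, ha, rfl⟩, rfl⟩
    have hΔ : CoalgebraStruct.comul (R := k) a ∈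
        ⨆ i ∈ Finset.range (r + 1), LinearMap.range (TensorProduct.mapIncl (C i) (C (r - i))) :=
      hC.comul r (Submodule.mem_map_of_mem ha)
    let tgt : Submodule K ((K ⊗[k] A) ⊗[K] (K ⊗[k] A)) :=
      ⨆ i ∈ Finset.range (r + 1), LinearMap.range (TensorProduct.mapIncl
        (Submodule.span K ((fun a => (1 : K) ⊗ₜ[k] a) '' (C i : Set A)))
        (Submodule.span K ((fun a => (1 : K) ⊗ₜ[k] a) '' (C (r - i) : Set A))))
    have hle : (⨆ i ∈ Finset.range (r + 1),
        LinearMap.range (TensorProduct.mapIncl (C i) (C (r - i)))) ≤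
        Submodule.comap (jj (R := K) (AU := A)) (tgt.restrictScalars k) := by
      refine iSup₂_le fun i hi => ?_
      rintro _ ⟨t, rfl⟩
      rw [Submodule.mem_comap, Submodule.restrictScalars_mem]
      induction t using TensorProduct.induction_on with
      | zero => simp
      | tmul c c' =>
        refine Submodule.mem_iSup_of_mem i (Submodule.mem_iSup_of_mem hi
          ⟨(⟨(1 : K) ⊗ₜ[k] (c : A), one_tmul_mem_bc K c.2⟩ : bc K C i) ⊗ₜ[K]
            (⟨(1 : K) ⊗ₜ[k] (c' : A), one_tmul_mem_bc K c'.2⟩ : bc K C (r - i)), ?_⟩)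
        simp [jj, TensorProduct.mapIncl]
      | add x y hx hy =>
        rw [map_add, map_add]
        exact Submodule.add_mem _ hx hy
    change CoalgebraStruct.comul (R := K) ((1 : K) ⊗ₜ[k] a : K ⊗[k] A) ∈ tgt
    rw [comul_one_tmul]
    exact hle hΔ

/-- Bialgebra maps from a bialgebra which becomes diagonalizable over `K` to a coconnected
bialgebra are trivial. -/
theorem isTrivial_to_coconn {AM : Type u} [CommRing AM] [Bialgebra k AM]
    (hM : HopfRep.IsDiagonalizable K (K ⊗[k] AM)) {C : ℕ → Submodule k A} (hC : IsCoconn C)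
    (ψ : AM →ₐc[k] A) : SGA3t2b.IsTrivialBialgHom ψ := by
  let ψK : K ⊗[k] AM →ₐc[K] K ⊗[k] A := Bialgebra.TensorProduct.map (BialgHom.id K K) ψ
  have hCK := isCoconn_bc K hC
  have key : ∀ y : K ⊗[k] AM, ψK y =
      algebraMap K (K ⊗[k] A) (CoalgebraStruct.counit (R := K) y) := by
    intro y
    have hy : y ∈ Submodule.span K {a : K ⊗[k] AM | IsGroupLikeElem K a} := by
      rw [hM]; trivial
    induction hy using Submodule.span_induction with
    | mem g hg =>
      have hg' : IsGroupLikeElem K g := hg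
      have h1 : IsGroupLikeElem K (ψK g) := hg'.map ψK
      rw [Coconn.eq_one_of_isGroupLikeElem hCK h1, hg'.counit_eq_one, map_one]
    | zero => simp
    | add x y _ _ hx hy => rw [map_add, map_add, map_add, hx, hy]
    | smul c x _ hx =>
      rw [map_smul, map_smul, smul_eq_mul, map_mul, hx, Algebra.smul_def]
  intro a
  have h1 := key ((1 : K) ⊗ₜ[k] a)
  have h2 : ψK ((1 : K) ⊗ₜ[k] a) = (1 : K) ⊗ₜ[k] ψ a := by
    simp [ψK]
  have hinj : Function.Injective (Algebra.TensorProduct.includeRight : A →ₐ[k] K ⊗[k] A) :=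
    Algebra.TensorProduct.includeRight_injective (algebraMap k K).injective
  apply hinj
  change (1 : K) ⊗ₜ[k] ψ a = (1 : K) ⊗ₜ[k] algebraMap k A (CoalgebraStruct.counit (R := k) a)
  rw [← h2, h1, TensorProduct.counit_tmul, CommSemiring.counit_apply,
    Algebra.algebraMap_eq_smul_one, Algebra.algebraMap_eq_smul_one, TensorProduct.tmul_smul,
    smul_assoc, one_smul, Algebra.TensorProduct.one_def]

end BaseChange

end Groth.Agent.H62.MultUnip
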