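import Groth.Agent.H62.TriCrit
import Mathlib.LinearAlgebra.Eigenspace.Triangularizable
import Mathlib.LinearAlgebra.Eigenspace.Pi
import Mathlib.RingTheory.HopfAlgebra.GroupLike

/-!
# Cocommutative coalgebras: commuting operators of functionals, trigonalizability (helper62)

* `actF V ψ`: the operator `v ↦ Σ ψ(v₁) v₀` of a functional `ψ` on a comodule `V`.
* `isSubcomod_of_actF`: a subspace stable under all `actF ψ` is a subcomodule.
* `actF_comm`: over a cocommutative coalgebra these operators commute.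
* `isTrigonalizable_of_isCocomm`: over an algebraically closed field a cocommutative bialgebra is
  trigonalizable.
* `exists_groupLike_of_span`, `exists_step_groupLike`: one-dimensional steps carry group-likes.
-/

set_option autoImplicit false
universe u v w
open TensorProduct

namespace Groth.Agent.H62.Cocomm
open Groth.Agent Groth.Agent.H40

section Act
variable {k : Type u} [Field k] {C : Type v} [AddCommGroup C] [Module k C] [Coalgebra k C]
variable {V : Type w} [AddCommGroup V] [Module k V] [HopfRep.Comod k C V]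

variable (V) in
/-- The operator `v ↦ Σ ψ(v₁) v₀` attached to a functional on the coalgebra. -/
noncomputable def actF (ψ : C →ₗ[k] k) : V →ₗ[k] V := contr V ψ ∘ₗ ρ k C V

theorem actF_apply (ψ : C →ₗ[k] k) (v : V) : actF V ψ v = contr V ψ (ρ k C V v) := rfl

theorem isSubcomod_of_actF {W : Submodule k V}
    (h : ∀ (ψ : C →ₗ[k] k), ∀ w ∈ W, actF V ψ w ∈ W) :
    HopfRep.IsSubcomod (k := k) (A := C) W := by
  intro w hw
  rw [IsoComp.mem_range_rTensor_iff_contr]
  intro f
  exact h f w hw

theorem actF_mem {W : Submodule k V} (hW : HopfRep.IsSubcomod (k := k) (A := C) W)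
    (ψ : C →ₗ[k] k) {w : V} (hw : w ∈ W) : actF V ψ w ∈ W :=
  IsoComp.contr_mem W ψ (hW w hw)

theorem actF_sub_mem {W₀ : Submodule k V} {v : V} {g : C}
    (h : ρ k C V v - v ⊗ₜ[k] g ∈ LinearMap.range (W₀.subtype.rTensor C)) (ψ : C →ₗ[k] k) :
    actF V ψ v - ψ g • v ∈ W₀ := by
  have h1 := IsoComp.contr_mem W₀ ψ h
  rw [map_sub, contr_tmul] at h1
  exact h1

theorem conv_comm [Coalgebra.IsCocomm k C] (ψ ψ' : C →ₗ[k] k) :
    ψ ∘ₗ contr C ψ' ∘ₗ (CoalgebraStruct.comul (R := k) (A := C)) =
      ψ' ∘ₗ contr C ψ ∘ₗ (CoalgebraStruct.comul (R := k) (A := C)) := by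
  have h1 : ∀ t : C ⊗[k] C, ψ (contr C ψ' t) = ψ' (contr C ψ (TensorProduct.comm k C C t)) := by
    intro t
    induction t using TensorProduct.induction_on with
    | zero => simp
    | tmul x y =>
      rw [contr_tmul, TensorProduct.comm_tmul, contr_tmul, map_smul, map_smul, smul_eq_mul,
        smul_eq_mul, mul_comm]
    | add a b ha hb => simp only [map_add, ha, hb]
  ext c
  simp only [LinearMap.comp_apply]
  rw [h1, Coalgebra.comm_comul]

omit [Coalgebra k C] [HopfRep.Comod k C V] in
theorem contr_lTensor (ψ : C →ₗ[k] k) (T : C →ₗ[k] C) (y : V ⊗[k] C) :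
    contr V ψ (T.lTensor V y) = contr V (ψ ∘ₗ T) y := by
  induction y using TensorProduct.induction_on with
  | zero => simp
  | tmul m c => simp
  | add a b ha hb => simp only [map_add, ha, hb]

theorem actF_actF (ψ ψ' : C →ₗ[k] k) (v : V) :
    actF V ψ (actF V ψ' v) =
      actF V (ψ ∘ₗ contr C ψ' ∘ₗ (CoalgebraStruct.comul (R := k) (A := C))) v := by
  rw [actF_apply, actF_apply, coact_contr_coact, contr_lTensor]
  rfl

theorem actF_comm [Coalgebra.IsCocomm k C] (ψ ψ' : C →ₗ[k] k) (v : V) :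
    actF V ψ (actF V ψ' v) = actF V ψ' (actF V ψ v) := by
  rw [actF_actF, actF_actF, conv_comm]

theorem commute_actF [Coalgebra.IsCocomm k C] (ψ ψ' : C →ₗ[k] k) :
    Commute (actF V ψ) (actF V ψ') := by
  change actF V ψ * actF V ψ' = actF V ψ' * actF V ψ
  ext v
  exact actF_comm ψ ψ' v

/-- Powers of `actF ψ - μ` modulo a subcomodule on which `v` is an eigenvector. -/
theorem pow_sub_mem {W₀ : Submodule k V} (hW₀ : HopfRep.IsSubcomod (k := k) (A := C) W₀)
    {v : V} {g : C}
    (h : ρ k C V v - v ⊗ₜ[k] g ∈ LinearMap.range (W₀.subtype.rTensor C)) (ψ : C →ₗ[k] k)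
    (μ : k) (m : ℕ) :
    ((actF V ψ - μ • (1 : Module.End k V)) ^ m) v - (ψ g - μ) ^ m • v ∈ W₀ := by
  induction m with
  | zero => simp
  | succ m ih =>
    set f : Module.End k V := actF V ψ - μ • (1 : Module.End k V) with hf
    have hfW : ∀ u ∈ W₀, f u ∈ W₀ := by
      intro u hu
      rw [hf, LinearMap.sub_apply, LinearMap.smul_apply, Module.End.one_apply]
      exact W₀.sub_mem (actF_mem hW₀ ψ hu) (W₀.smul_mem _ hu)
    have hfv : f v - (ψ g - μ) • v ∈ W₀ := by
      have := actF_sub_mem h ψ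
      rw [hf, LinearMap.sub_apply, LinearMap.smul_apply, Module.End.one_apply]
      have e : actF V ψ v - μ • v - (ψ g - μ) • v = actF V ψ v - ψ g • v := by
        rw [sub_smul]; abel
      rw [e]
      exact this
    have e : (f ^ (m + 1)) v - (ψ g - μ) ^ (m + 1) • v =
        f ((f ^ m) v - (ψ g - μ) ^ m • v) + (ψ g - μ) ^ m • (f v - (ψ g - μ) • v) := by
      rw [pow_succ', Module.End.mul_apply, map_sub, map_smul, smul_sub, smul_smul, pow_succ]
      abel
    rw [e]
    exact W₀.add_mem (hfW _ ih) (W₀.smul_mem _ hfv)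

end Act

section Tri
variable {K : Type u} [Field K] {H : Type v} [CommRing H] [Bialgebra K H]

theorem exists_dual_eq_one {V : Type w} [AddCommGroup V] [Module K V] {v : V} (hv : v ≠ 0) :
    ∃ lam : Module.Dual K V, lam v = 1 := by
  obtain ⟨f, hf⟩ : ∃ f : Module.Dual K V, f v ≠ 0 := by
    by_contra hcon
    push Not at hcon
    exact hv ((Module.forall_dual_apply_eq_zero_iff K v).mp hcon)
  exact ⟨(f v)⁻¹ • f, by rw [LinearMap.smul_apply, smul_eq_mul, inv_mul_cancel₀ hf]⟩

/-- Over an algebraically closed field a cocommutative bialgebra is trigonalizable. -/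
theorem isTrigonalizable_of_isCocomm [IsAlgClosed K] [Coalgebra.IsCocomm K H] :
    HopfRep.IsTrigonalizable K H := by
  intro V _ _ _ hfin hsimple
  haveI := hfin
  haveI := hsimple.1
  have hscal : ∀ ψ : H →ₗ[K] K, ∃ μ : K, ∀ v : V, actF V ψ v = μ • v := by
    intro ψ
    obtain ⟨μ, hμ⟩ := Module.End.exists_eigenvalue (actF V ψ)
    refine ⟨μ, ?_⟩
    have hsub : HopfRep.IsSubcomod (k := K) (A := H) (Module.End.eigenspace (actF V ψ) μ) := by
      apply isSubcomod_of_actF
      intro ψ' w hw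
      rw [Module.End.mem_eigenspace_iff] at hw ⊢
      rw [actF_comm, hw, map_smul]
    rcases hsimple.2 _ hsub with h | h
    · exfalso
      obtain ⟨w, hw⟩ := hμ.exists_hasEigenvector
      have h1 : w ∈ Module.End.eigenspace (actF V ψ) μ := hw.1
      rw [h, Submodule.mem_bot] at h1
      exact hw.2 h1
    · intro v
      have : v ∈ Module.End.eigenspace (actF V ψ) μ := by rw [h]; trivial
      exact Module.End.mem_eigenspace_iff.mp this
  obtain ⟨v, hv⟩ := exists_ne (0 : V)
  have hspan : HopfRep.IsSubcomod (k := K) (A := H) (Submodule.span K {v}) := by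
    apply isSubcomod_of_actF
    intro ψ w hw
    obtain ⟨μ, hμ⟩ := hscal ψ
    rw [hμ]
    exact Submodule.smul_mem _ _ hw
  rcases hsimple.2 _ hspan with h | h
  · exfalso
    apply hv
    have : v ∈ Submodule.span K {v} := Submodule.mem_span_singleton_self v
    rw [h, Submodule.mem_bot] at this
    exact this
  · rw [← finrank_top K V, ← h, finrank_span_singleton hv]

/-- A vector spanning a subcomodule is an eigenvector for a group-like element. -/
theorem exists_groupLike_of_span {V : Type w} [AddCommGroup V] [Module K V]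
    [HopfRep.Comod K H V] {v : V} (hv : v ≠ 0)
    (h : ρ K H V v ∈ LinearMap.range ((Submodule.span K {v}).subtype.rTensor H)) :
    ∃ g : H, IsGroupLikeElem K g ∧ ρ K H V v = v ⊗ₜ[K] g := by
  have h1 : ∀ t : ↥(Submodule.span K {v}) ⊗[K] H, ∃ a : H,
      (Submodule.span K {v}).subtype.rTensor H t = v ⊗ₜ[K] a := by
    intro t
    induction t using TensorProduct.induction_on with
    | zero => exact ⟨0, by simp⟩
    | tmul w a =>
      obtain ⟨c, hc⟩ := Submodule.mem_span_singleton.mp w.2
      refine ⟨c • a, ?_⟩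
      rw [LinearMap.rTensor_tmul, Submodule.subtype_apply, ← hc, TensorProduct.smul_tmul]
    | add x y hx hy =>
      obtain ⟨a, ha⟩ := hx
      obtain ⟨b, hb⟩ := hy
      exact ⟨a + b, by rw [map_add, ha, hb, TensorProduct.tmul_add]⟩
  obtain ⟨t, ht⟩ := h
  obtain ⟨g, hg⟩ := h1 t
  rw [ht] at hg
  obtain ⟨lam, hlam⟩ := exists_dual_eq_one (K := K) hv
  have hcf : Cf.cf (k := K) (A := H) (V := V) inferInstance lam v = g := by
    rw [Cf.cf_apply]
    change Cf.lc H lam (ρ K H V v) = g
    rw [hg, Cf.lc_tmul, hlam, one_smul]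
  refine ⟨g, ⟨?_, ?_⟩, hg⟩
  · rw [← hcf, Cf.counit_cf, hlam]
  · have h2 := Cf.comul_cf (k := K) (A := H) (V := V) inferInstance lam v
    rw [hcf] at h2
    rw [h2]
    change (Cf.cf (k := K) (A := H) (V := V) inferInstance lam).rTensor H (ρ K H V v) = _
    rw [hg, LinearMap.rTensor_tmul, hcf]

/-- In a comodule over a trigonalizable bialgebra, between subcomodules `W₀ < W` with `W`
finite-dimensional there is a step of dimension one, carried by a group-like element. -/
theorem exists_step_groupLike (hT : HopfRep.IsTrigonalizable K H)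
    {V : Type v} [AddCommGroup V] [Module K V] [HopfRep.Comod K H V]
    {W₀ W : Submodule K V} (hW₀ : HopfRep.IsSubcomod (k := K) (A := H) W₀)
    (hW : HopfRep.IsSubcomod (k := K) (A := H) W) [Module.Finite K ↥W] (hle : W₀ ≤ W)
    (hne : W₀ ≠ W) :
    ∃ w ∈ W, w ∉ W₀ ∧ ∃ g : H, IsGroupLikeElem K g ∧
      ρ K H V w - w ⊗ₜ[K] g ∈ LinearMap.range (W₀.subtype.rTensor H) := by
  classical
  letI := H93.quotComod W₀ hW₀
  have hmk : Hoch.IsComodHom H W₀.mkQ := H93.isComodHom_mkQ W₀ hW₀
  have hWbar : HopfRep.IsSubcomod (k := K) (A := H) (W.map W₀.mkQ) := H62.isSubcomod_map hmk hW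
  have hne' : W.map W₀.mkQ ≠ ⊥ := by
    intro h0
    apply hne
    apply le_antisymm hle
    intro w hw
    have : W₀.mkQ w ∈ W.map W₀.mkQ := Submodule.mem_map_of_mem hw
    rw [h0, Submodule.mem_bot, Submodule.mkQ_apply, Submodule.Quotient.mk_eq_zero] at this
    exact this
  obtain ⟨L, hLW, hL⟩ := H74.Coeff.exists_isSimpleSub_le (C := H) hWbar hne'
  letI := H62.subComod L hL.1
  have hsimple := H74.Coeff.isSimpleComod_sub hL
  haveI : Module.Finite K ↥(W.map W₀.mkQ) := Module.Finite.map W W₀.mkQ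
  haveI : Module.Finite K ↥L := Submodule.finiteDimensional_of_le hLW
  have hfr : Module.finrank K ↥L = 1 := hT ↥L inferInstance hsimple
  obtain ⟨l, hl0, hl⟩ := finrank_eq_one_iff'.mp hfr
  have hl0' : (l : V ⧸ W₀) ≠ 0 := fun h => hl0 (Subtype.ext h)
  have hLspan : L = Submodule.span K {(l : V ⧸ W₀)} := by
    apply le_antisymm
    · intro x hx
      obtain ⟨c, hc⟩ := hl ⟨x, hx⟩
      have := congrArg Subtype.val hc
      rw [Submodule.mem_span_singleton]
      exact ⟨c, by simpa using this⟩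
    · rw [Submodule.span_singleton_le_iff_mem]
      exact l.2
  have hρ : ρ K H (V ⧸ W₀) (l : V ⧸ W₀) ∈
      LinearMap.range ((Submodule.span K {(l : V ⧸ W₀)}).subtype.rTensor H) := by
    rw [← hLspan]
    exact hL.1 _ l.2
  obtain ⟨g, hg, hρg⟩ := exists_groupLike_of_span hl0' hρ
  obtain ⟨w, hwW, hwl⟩ := hLW l.2
  refine ⟨w, hwW, ?_, g, hg, ?_⟩
  · intro hw0
    apply hl0'
    rw [← hwl, Submodule.mkQ_apply, Submodule.Quotient.mk_eq_zero]
    exact hw0
  · have h1 : W₀.mkQ.rTensor H (ρ K H V w - w ⊗ₜ[K] g) = 0 := by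
      rw [map_sub, LinearMap.rTensor_tmul, ← (isComodHom_iff _).mp hmk w, hwl, hρg, sub_self]
    have hex : Function.Exact (W₀.subtype.rTensor H) (W₀.mkQ.rTensor H) :=
      rTensor_exact H (LinearMap.exact_subtype_mkQ W₀) (Submodule.mkQ_surjective W₀)
    exact (hex _).mp h1

end Tri

end Groth.Agent.H62.Cocomm
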