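import Groth.Agent.H62.OrbitPts
import Groth.Agent.H54.AffineTrdeg
import Mathlib.RingTheory.Ideal.KrullsHeightTheorem
import Mathlib.RingTheory.Ideal.MinimalPrime.Noetherian
import Mathlib.RingTheory.KrullDimension.NonZeroDivisors

/-!
# helper62: dimension of orbits (coordinate-ring form)

If `z` lies in the closure of the orbit of `y` and `z` has finite stabiliser then `z` lies in the
orbit of `y` (`orb_of_le_of_finite_stab`).  Via `dim = trdeg` for finite type domains (helper54) and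
Mathlib's dimension inequality.
-/

set_option autoImplicit false
set_option linter.unusedSectionVars false
universe u
open TensorProduct Topology

namespace Groth.Agent.H62.OrbitDim

open Groth.Agent Groth.Agent.H62.OrbitPts

section QuotDim

variable {k : Type u} [Field k] {R : Type u} [CommRing R] [Algebra k R] [Algebra.FiniteType k R]
variable {A : Type u} [CommRing A] [Algebra k A] [Algebra.FiniteType k A]

instance finiteType_quot (P : Ideal R) : Algebra.FiniteType k (R ⧸ P) :=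
  Algebra.FiniteType.of_surjective (Ideal.Quotient.mkₐ k P) (Ideal.Quotient.mkₐ_surjective k P)

theorem exists_dim_nat (P : Ideal R) [P.IsPrime] :
    ∃ n : ℕ, Algebra.trdeg k (R ⧸ P) = (n : Cardinal.{u}) ∧
      ringKrullDim (R ⧸ P) = (n : WithBot ℕ∞) :=
  H54.exists_ringKrullDim_eq_trdeg k (R ⧸ P)

/-- the dimension of the quotient by a contracted prime is at most that of the prime -/
theorem dim_comap_le (φ : R →ₐ[k] A) (𝔮 : Ideal A) [𝔮.IsPrime] :
    ringKrullDim (R ⧸ 𝔮.comap φ) ≤ ringKrullDim (A ⧸ 𝔮) := by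
  haveI : (𝔮.comap φ).IsPrime := Ideal.comap_isPrime φ 𝔮
  obtain ⟨n₁, ht₁, hd₁⟩ := exists_dim_nat (k := k) (𝔮.comap φ)
  obtain ⟨n₂, ht₂, hd₂⟩ := exists_dim_nat (k := k) 𝔮
  let f : (R ⧸ 𝔮.comap φ) →ₐ[k] (A ⧸ 𝔮) := Ideal.quotientMapₐ 𝔮 φ le_rfl
  have hf : Function.Injective f := Ideal.quotientMap_injective
  have h := trdeg_le_of_injective f hf
  rw [ht₁, ht₂] at h
  have h' : n₁ ≤ n₂ := by exact_mod_cast h
  rw [hd₁, hd₂]
  exact_mod_cast h'

section
variable (k)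
include k
/-- strictness: a prime with at least the dimension of a smaller prime equals it -/
theorem eq_of_le_of_dim_le (P P' : Ideal R) [P.IsPrime] [P'.IsPrime] (hle : P ≤ P')
    (hdim : ringKrullDim (R ⧸ P) ≤ ringKrullDim (R ⧸ P')) : P = P' := by
  by_contra hne
  have hlt : P < P' := lt_of_le_of_ne hle hne
  obtain ⟨r, hrP', hrP⟩ := Set.exists_of_ssubset hlt
  obtain ⟨n', -, hd'⟩ := exists_dim_nat (k := k) P'
  let rb : R ⧸ P := Ideal.Quotient.mk P r
  have hrb : rb ≠ 0 := by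
    intro h0
    exact hrP (Ideal.Quotient.eq_zero_iff_mem.mp h0)
  have hnzd : rb ∈ nonZeroDivisors (R ⧸ P) := mem_nonZeroDivisors_of_ne_zero hrb
  have h1 := ringKrullDim_quotient_succ_le_of_nonZeroDivisor hnzd
  -- surjection (R/P)/(rb) → R/P'
  let g₁ : R ⧸ P →+* R ⧸ P' := Ideal.Quotient.factor hle
  have hg₁ : Function.Surjective g₁ := Ideal.Quotient.factor_surjective hle
  have hker : Ideal.span {rb} ≤ RingHom.ker g₁ := by
    rw [Ideal.span_le, Set.singleton_subset_iff]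
    change g₁ rb = 0
    change Ideal.Quotient.factor hle (Ideal.Quotient.mk P r) = 0
    rw [Ideal.Quotient.factor_mk]
    exact Ideal.Quotient.eq_zero_iff_mem.mpr hrP'
  let g₂ : (R ⧸ P) ⧸ Ideal.span {rb} →+* R ⧸ P' := Ideal.Quotient.lift _ g₁ (fun a ha => hker ha)
  have hg₂ : Function.Surjective g₂ := by
    intro x
    obtain ⟨a, rfl⟩ := hg₁ x
    exact ⟨Ideal.Quotient.mk _ a, by simp [g₂]⟩
  have h2 := ringKrullDim_le_of_surjective g₂ hg₂
  have h3 : ringKrullDim (R ⧸ P') + 1 ≤ ringKrullDim (R ⧸ P') :=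
    le_trans (add_le_add_left h2 1) (le_trans h1 hdim)
  rw [hd'] at h3
  have h4 : ((n' + 1 : ℕ) : WithBot ℕ∞) ≤ (n' : WithBot ℕ∞) := by
    have : ((n' + 1 : ℕ) : WithBot ℕ∞) = (n' : WithBot ℕ∞) + 1 := by push_cast; rfl
    rw [this]; exact h3
  have h5 : n' + 1 ≤ n' := by exact_mod_cast h4
  omega
end

end QuotDim

section Trans

variable {k : Type u} [Field k] {A : Type u} [CommRing A] [HopfAlgebra k A]

theorem counit_trans (g : A →ₐ[k] k) (a : A) :
    CoalgebraStruct.counit (R := k) (trans g a) = g a := by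
  haveI := isCoactAlg_regular k A
  exact (S11794.apply_eq_counit_orbitHom (A := A) (R := A) g a).symm

theorem trans_comp (g h : A →ₐ[k] k) (a : A) :
    trans (h.comp (trans g)) a = trans h (trans g a) := by
  haveI := isCoactAlg_regular k A
  exact orbitHom_comp (R := A) g h a

theorem trans_counit (a : A) : trans (Bialgebra.counitAlgHom k A) a = a := by
  rw [trans_apply]
  change TensorProduct.lid k A ((CoalgebraStruct.counit (R := k) (A := A)).rTensor A
    (CoalgebraStruct.comul (R := k) a)) = a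
  rw [Coalgebra.rTensor_counit_comul, TensorProduct.lid_tmul, one_smul]

theorem inv_aux' (g : A →ₐ[k] k) (t : A ⊗[k] A) :
    g (TensorProduct.lid k A ((g.comp (HopfAlgebra.antipodeAlgHom k A)).toLinearMap.rTensor A t)) =
      g (LinearMap.mul' k A ((HopfAlgebraStruct.antipode (R := k) (A := A)).rTensor A t)) := by
  induction t using TensorProduct.induction_on with
  | zero => simp
  | add s t hs ht => simp only [map_add, hs, ht]
  | tmul a b =>
    simp only [LinearMap.rTensor_tmul, AlgHom.toLinearMap_apply, TensorProduct.lid_tmul,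
      map_smul, smul_eq_mul, LinearMap.mul'_apply, map_mul, AlgHom.comp_apply]
    rfl

theorem comp_inv_trans (g : A →ₐ[k] k) (a : A) :
    g (trans (g.comp (HopfAlgebra.antipodeAlgHom k A)) a) = CoalgebraStruct.counit (R := k) a := by
  rw [trans_apply, inv_aux', HopfAlgebra.mul_antipode_rTensor_comul_apply, AlgHom.commutes,
    Algebra.algebraMap_self_apply]

/-- left translation as an algebra automorphism -/
noncomputable def transEquiv (g : A →ₐ[k] k) : A ≃ₐ[k] A :=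
  AlgEquiv.ofAlgHom (trans g) (trans (g.comp (HopfAlgebra.antipodeAlgHom k A)))
    (by
      apply AlgHom.ext
      intro a
      rw [AlgHom.comp_apply, ← trans_comp]
      have h : g.comp (trans (g.comp (HopfAlgebra.antipodeAlgHom k A))) =
          Bialgebra.counitAlgHom k A := AlgHom.ext fun b => comp_inv_trans g b
      rw [h, trans_counit]
      rfl)
    (by
      apply AlgHom.ext
      intro a
      rw [AlgHom.comp_apply, ← trans_comp]
      have h : (g.comp (HopfAlgebra.antipodeAlgHom k A)).comp (trans g) =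
          Bialgebra.counitAlgHom k A := AlgHom.ext fun b => inv_comp_trans g b
      rw [h, trans_counit]
      rfl)

theorem transEquiv_apply (g : A →ₐ[k] k) (a : A) : transEquiv g a = trans g a := rfl

section
variable (k)
include k
theorem nontrivial_of_hopf : Nontrivial A := by
  refine ⟨⟨0, 1, fun h01 => ?_⟩⟩
  have := congrArg (CoalgebraStruct.counit (R := k) (A := A)) h01
  rw [map_zero, Bialgebra.counit_one] at this
  exact zero_ne_one this
end

variable (k A) in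
/-- a minimal prime of maximal dimension contained in the augmentation ideal -/
theorem exists_minimalPrime_max [IsAlgClosed k] [Algebra.FiniteType k A] :
    ∃ 𝔮 ∈ minimalPrimes A, 𝔮 ≤ RingHom.ker (Bialgebra.counitAlgHom k A) ∧
      ∀ 𝔮₂ : Ideal A, 𝔮₂.IsPrime → ringKrullDim (A ⧸ 𝔮₂) ≤ ringKrullDim (A ⧸ 𝔮) := by
  haveI : Nontrivial A := nontrivial_of_hopf k
  haveI hN : IsNoetherianRing A := Algebra.FiniteType.isNoetherianRing k A
  have hfin : (minimalPrimes A).Finite := Ideal.finite_minimalPrimes_of_isNoetherianRing A (⊥ : Ideal A)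
  have hne : (minimalPrimes A).Nonempty := by
    obtain ⟨⟨p, hp⟩⟩ := Ideal.nonempty_minimalPrimes (bot_ne_top (α := Ideal A))
    exact ⟨p, hp⟩
  obtain ⟨𝔮₀, h𝔮₀, hmax⟩ :=
    Set.exists_max_image (minimalPrimes A) (fun 𝔮 => ringKrullDim (A ⧸ 𝔮)) hfin hne
  haveI h𝔮₀p : 𝔮₀.IsPrime := h𝔮₀.1.1
  obtain ⟨𝔫, h𝔫, hle⟩ := Ideal.exists_le_maximal 𝔮₀ h𝔮₀p.ne_top
  obtain ⟨g, hg⟩ := S11795.exists_point_of_isMaximal k A 𝔫 h𝔫
  let τ : A ≃ₐ[k] A := transEquiv g
  let 𝔮 : Ideal A := 𝔮₀.comap (τ.symm : A →ₐ[k] A)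
  haveI h𝔮p : 𝔮.IsPrime := Ideal.comap_isPrime _ _
  have hcc : 𝔮.comap (τ : A →ₐ[k] A) = 𝔮₀ := by
    ext a
    simp only [𝔮, Ideal.mem_comap, AlgEquiv.coe_algHom, AlgEquiv.symm_apply_apply]
  have hd1 : ringKrullDim (A ⧸ 𝔮) ≤ ringKrullDim (A ⧸ 𝔮₀) :=
    dim_comap_le (k := k) (τ.symm : A →ₐ[k] A) 𝔮₀
  have hd2 : ringKrullDim (A ⧸ 𝔮₀) ≤ ringKrullDim (A ⧸ 𝔮) := by
    have := dim_comap_le (k := k) (τ : A →ₐ[k] A) 𝔮
    rwa [hcc] at this
  refine ⟨𝔮, ⟨⟨h𝔮p, bot_le⟩, ?_⟩, ?_, ?_⟩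
  · rintro Q ⟨hQp, -⟩ hQle
    -- Q ≤ 𝔮 ; comap τ Q ≤ 𝔮₀
    have h1 : Q.comap (τ : A →ₐ[k] A) ≤ 𝔮₀ := by
      rw [← hcc]; exact Ideal.comap_mono hQle
    have h2 : 𝔮₀ ≤ Q.comap (τ : A →ₐ[k] A) :=
      h𝔮₀.2 ⟨Ideal.comap_isPrime _ _, bot_le⟩ h1
    intro a ha
    have h3 : τ.symm a ∈ Q.comap (τ : A →ₐ[k] A) := h2 ha
    simpa only [Ideal.mem_comap, AlgEquiv.coe_algHom, AlgEquiv.apply_symm_apply] using h3
  · intro a ha
    have h1 : τ.symm a ∈ 𝔫 := hle ha
    have h2 : g (τ.symm a) = 0 := hg _ h1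
    rw [RingHom.mem_ker]
    change CoalgebraStruct.counit (R := k) a = 0
    have h3 : CoalgebraStruct.counit (R := k) (τ (τ.symm a)) = g (τ.symm a) :=
      counit_trans g (τ.symm a)
    rw [AlgEquiv.apply_symm_apply] at h3
    rw [h3, h2]
  · intro 𝔮₂ h𝔮₂
    obtain ⟨𝔮₃, h𝔮₃, h32⟩ := Ideal.exists_minimalPrimes_le (bot_le : (⊥ : Ideal A) ≤ 𝔮₂)
    have h4 : ringKrullDim (A ⧸ 𝔮₂) ≤ ringKrullDim (A ⧸ 𝔮₃) :=
      ringKrullDim_le_of_surjective (Ideal.Quotient.factor h32)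
        (Ideal.Quotient.factor_surjective h32)
    exact le_trans h4 (le_trans (hmax 𝔮₃ h𝔮₃) hd2)

end Trans

section Main

variable {k : Type u} [Field k] [IsAlgClosed k] {A : Type u} [CommRing A] [HopfAlgebra k A]
  [Algebra.FiniteType k A]
variable {R : Type u} [CommRing R] [Algebra k R] [Algebra.FiniteType k R]

/-- fibre dimension zero: in `(A/𝔮)/J` the image of the augmentation ideal is a minimal prime,
when only finitely many points of `A` restrict along `ψ` to the base point -/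
theorem fibre_aux (ψ : R →ₐ[k] A)
    (hfin : {h : A →ₐ[k] k | h.comp ψ = (Bialgebra.counitAlgHom k A).comp ψ}.Finite)
    {B : Type u} [CommRing B] (π : A →+* B) (hπ : Function.Surjective π)
    (hker : ∀ r : R, (Bialgebra.counitAlgHom k A) (ψ r) = 0 → π (ψ r) = 0)
    (Q : Ideal B) [hQ : Q.IsPrime] : Q.IsMaximal := by
  haveI hJac : IsJacobsonRing A := isJacobsonRing_of_finiteType (A := k) (B := A)
  let z : R →ₐ[k] k := (Bialgebra.counitAlgHom k A).comp ψ
  have hzmax : (RingHom.ker z).IsMaximal := RingHom.ker_isMaximal_of_surjective z (fun c =>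
    ⟨algebraMap k R c, by rw [AlgHom.commutes]; rfl⟩)
  let QA : Ideal A := Q.comap π
  haveI hQA : QA.IsPrime := Ideal.comap_isPrime π Q
  have hkerle : RingHom.ker π ≤ QA := by
    intro a ha
    change π a ∈ Q
    rw [(RingHom.mem_ker).mp ha]; exact Q.zero_mem
  have hjac : QA.jacobson = QA := hJac.out hQA.isRadical
  let Sg : Finset (A →ₐ[k] k) := hfin.toFinset
  have hI : (Sg.inf fun h => RingHom.ker h) ≤ QA := by
    intro a ha
    rw [← hjac, Ideal.jacobson, Submodule.mem_sInf]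
    rintro 𝔫 ⟨h𝔫le, h𝔫max⟩
    obtain ⟨h, hh⟩ := S11795.exists_point_of_isMaximal k A 𝔫 h𝔫max
    have h𝔫eq : 𝔫 = RingHom.ker (h : A →+* k) :=
      h𝔫max.eq_of_le (RingHom.ker_ne_top _) (fun f hf => hh f hf)
    have hmem : h ∈ Sg := by
      rw [Set.Finite.mem_toFinset]
      change h.comp ψ = z
      apply algHom_eq_of_le_ker (RingHom.ker z) hzmax
      · intro r hr
        have h1 : π (ψ r) = 0 := hker r ((RingHom.mem_ker).mp hr)
        have h2 : ψ r ∈ 𝔫 := h𝔫le (hkerle ((RingHom.mem_ker).mpr h1))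
        exact hh _ h2
      · intro r hr
        exact (RingHom.mem_ker).mp hr
    have h3 : a ∈ RingHom.ker h := by
      have := (Finset.inf_le hmem : (Sg.inf fun h => RingHom.ker h) ≤ RingHom.ker h) ha
      exact this
    rw [h𝔫eq]
    exact h3
  obtain ⟨h, -, hle⟩ := (Ideal.IsPrime.inf_le' hQA).mp hI
  have hmaxh : (RingHom.ker h).IsMaximal := RingHom.ker_isMaximal_of_surjective h (fun c =>
    ⟨algebraMap k A c, by rw [AlgHom.commutes]; rfl⟩)
  have hQAmax : QA.IsMaximal := by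
    have : RingHom.ker h = QA := hmaxh.eq_of_le hQA.ne_top hle
    rw [← this]; exact hmaxh
  have hmap : QA.map π = Q := Ideal.map_comap_of_surjective π hπ Q
  rw [← hmap]
  exact Ideal.IsMaximal.map_of_surjective_of_ker_le hπ hkerle

/-- **dimension lemma**: if `ker φ ≤ ker ψ` and only finitely many points of `A` restrict along
`ψ` to the base point, then `ker φ` and `ker ψ` have a common minimal prime. -/
theorem exists_common_minimalPrime (φ ψ : R →ₐ[k] A) (hle : RingHom.ker φ ≤ RingHom.ker ψ)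
    (hfin : {h : A →ₐ[k] k | h.comp ψ = (Bialgebra.counitAlgHom k A).comp ψ}.Finite) :
    ∃ η : Ideal R, η ∈ (RingHom.ker φ).minimalPrimes ∧ η ∈ (RingHom.ker ψ).minimalPrimes := by
  haveI hNA : IsNoetherianRing A := Algebra.FiniteType.isNoetherianRing k A
  haveI hNR : IsNoetherianRing R := Algebra.FiniteType.isNoetherianRing k R
  obtain ⟨𝔮, h𝔮min, h𝔮e, h𝔮max⟩ := exists_minimalPrime_max k A
  haveI h𝔮p : 𝔮.IsPrime := h𝔮min.1.1
  let ε : A →ₐ[k] k := Bialgebra.counitAlgHom k A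
  let 𝔪e : Ideal A := RingHom.ker ε
  haveI h𝔪e : 𝔪e.IsMaximal := RingHom.ker_isMaximal_of_surjective ε (fun c =>
    ⟨algebraMap k A c, by rw [AlgHom.commutes]; rfl⟩)
  let z : R →ₐ[k] k := ε.comp ψ
  let 𝔪 : Ideal R := RingHom.ker z
  haveI h𝔪 : 𝔪.IsMaximal := RingHom.ker_isMaximal_of_surjective z (fun c =>
    ⟨algebraMap k R c, by rw [AlgHom.commutes]; rfl⟩)
  let P₀ : Ideal R := 𝔮.comap ψ
  haveI hP₀ : P₀.IsPrime := Ideal.comap_isPrime ψ 𝔮
  have hP₀𝔪 : P₀ ≤ 𝔪 := by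
    intro a ha
    have h1 : ψ a ∈ 𝔪e := h𝔮e ha
    exact (RingHom.mem_ker).mpr ((RingHom.mem_ker).mp h1)
  -- Step A
  have stepA : ringKrullDim (A ⧸ 𝔮) ≤ ringKrullDim (R ⧸ P₀) := by
    let f : R ⧸ P₀ →+* A ⧸ 𝔮 := Ideal.quotientMap 𝔮 (ψ : R →+* A) le_rfl
    letI : Algebra (R ⧸ P₀) (A ⧸ 𝔮) := f.toAlgebra
    let p : Ideal (R ⧸ P₀) := 𝔪.map (Ideal.Quotient.mk P₀)
    let Pb : Ideal (A ⧸ 𝔮) := 𝔪e.map (Ideal.Quotient.mk 𝔮)
    haveI hpmax : p.IsMaximal :=
      Ideal.IsMaximal.map_of_surjective_of_ker_le Ideal.Quotient.mk_surjective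
        (by rw [Ideal.mk_ker]; exact hP₀𝔪)
    haveI hPbmax : Pb.IsMaximal :=
      Ideal.IsMaximal.map_of_surjective_of_ker_le Ideal.Quotient.mk_surjective
        (by rw [Ideal.mk_ker]; exact h𝔮e)
    have hpPb : p ≤ Pb.comap f := by
      rw [Ideal.map_le_iff_le_comap]
      intro r hr
      change f (Ideal.Quotient.mk P₀ r) ∈ Pb
      have : f (Ideal.Quotient.mk P₀ r) = Ideal.Quotient.mk 𝔮 (ψ r) := rfl
      rw [this]
      exact Ideal.mem_map_of_mem _ ((RingHom.mem_ker).mpr ((RingHom.mem_ker).mp hr))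
    haveI hover : Pb.LiesOver p :=
      ⟨hpmax.eq_of_le (Ideal.comap_ne_top f hPbmax.ne_top) hpPb⟩
    have hineq := Ideal.height_le_height_add_of_liesOver p Pb
    let J : Ideal (A ⧸ 𝔮) := p.map (algebraMap (R ⧸ P₀) (A ⧸ 𝔮))
    have hJPb : J ≤ Pb := Ideal.map_le_iff_le_comap.mpr hpPb
    let Qb : Ideal ((A ⧸ 𝔮) ⧸ J) := Pb.map (Ideal.Quotient.mk J)
    haveI hQbp : Qb.IsPrime :=
      Ideal.map_isPrime_of_surjective Ideal.Quotient.mk_surjective
        (by rw [Ideal.mk_ker]; exact hJPb)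
    have hfib : Qb.height = 0 := by
      rw [Ideal.height_eq_zero_iff]
      refine ⟨⟨hQbp, bot_le⟩, ?_⟩
      rintro Q ⟨hQp, -⟩ hQle
      let π : A →+* (A ⧸ 𝔮) ⧸ J := (Ideal.Quotient.mk J).comp (Ideal.Quotient.mk 𝔮)
      have hπ : Function.Surjective π :=
        Ideal.Quotient.mk_surjective.comp Ideal.Quotient.mk_surjective
      have hker : ∀ r : R, (Bialgebra.counitAlgHom k A) (ψ r) = 0 → π (ψ r) = 0 := by
        intro r hr
        change Ideal.Quotient.mk J (Ideal.Quotient.mk 𝔮 (ψ r)) = 0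
        rw [Ideal.Quotient.eq_zero_iff_mem]
        have h1 : Ideal.Quotient.mk P₀ r ∈ p :=
          Ideal.mem_map_of_mem _ ((RingHom.mem_ker).mpr hr)
        have h2 : algebraMap (R ⧸ P₀) (A ⧸ 𝔮) (Ideal.Quotient.mk P₀ r) ∈ J :=
          Ideal.mem_map_of_mem _ h1
        exact h2
      haveI := hQp
      have hQmax : Q.IsMaximal := fibre_aux ψ hfin π hπ hker Q
      have : Q = Qb := hQmax.eq_of_le hQbp.ne_top hQle
      rw [this]
    change (Pb.map (Ideal.Quotient.mk J)).height = 0 at hfib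
    rw [hfib, add_zero] at hineq
    have e1 := H54.height_eq_ringKrullDim_of_isMaximal k (A ⧸ 𝔮) Pb
    have e2 := H54.height_eq_ringKrullDim_of_isMaximal k (R ⧸ P₀) p
    rw [← e1, ← e2]
    exact_mod_cast hineq
  -- Step B
  have hφP₀ : RingHom.ker φ ≤ P₀ := by
    intro a ha
    have h1 : ψ a = 0 := (RingHom.mem_ker).mp (hle ha)
    change ψ a ∈ 𝔮
    rw [h1]; exact 𝔮.zero_mem
  obtain ⟨𝔭, h𝔭min, h𝔭P₀⟩ := Ideal.exists_minimalPrimes_le hφP₀
  haveI h𝔭p : 𝔭.IsPrime := h𝔭min.1.1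
  have h𝔭min' : 𝔭 ∈ ((⊥ : Ideal A).comap (φ : R →+* A)).minimalPrimes := by
    rw [← RingHom.ker_eq_comap_bot]; exact h𝔭min
  obtain ⟨𝔮₂, h𝔮₂min, h𝔮₂𝔭⟩ := Ideal.exists_minimalPrimes_comap_eq (φ : R →+* A) 𝔭 h𝔭min'
  haveI h𝔮₂p : 𝔮₂.IsPrime := h𝔮₂min.1.1
  have hd1 : ringKrullDim (R ⧸ 𝔭) ≤ ringKrullDim (A ⧸ 𝔮₂) := by
    have := dim_comap_le (k := k) φ 𝔮₂
    have h𝔮₂𝔭' : 𝔮₂.comap φ = 𝔭 := h𝔮₂𝔭
    rwa [h𝔮₂𝔭'] at this
  have hd : ringKrullDim (R ⧸ 𝔭) ≤ ringKrullDim (R ⧸ P₀) :=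
    le_trans hd1 (le_trans (h𝔮max 𝔮₂ h𝔮₂p) stepA)
  have heq : 𝔭 = P₀ := eq_of_le_of_dim_le k 𝔭 P₀ h𝔭P₀ hd
  refine ⟨P₀, heq ▸ h𝔭min, ⟨⟨hP₀, ?_⟩, ?_⟩⟩
  · intro a ha
    have h1 : ψ a = 0 := (RingHom.mem_ker).mp ha
    change ψ a ∈ 𝔮
    rw [h1]; exact 𝔮.zero_mem
  · rintro Q ⟨hQp, hQψ⟩ hQle
    have h1 : 𝔭 ≤ Q := h𝔭min.2 ⟨hQp, le_trans hle hQψ⟩ (heq ▸ hQle)
    rw [← heq]; exact h1

end Main

section Common

/-- two algebra maps between finite type algebras over an algebraically closed field whose kernels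
have a common minimal prime have a common point in their images on `k`-points. -/
theorem exists_common_point' {k : Type u} [Field k] [IsAlgClosed k] {R A : Type u} [CommRing R]
    [CommRing A] [Algebra k R] [Algebra k A] [Algebra.FiniteType k R] [Algebra.FiniteType k A]
    (φ ψ : R →ₐ[k] A) (η : Ideal R) (hη1' : η ∈ (RingHom.ker φ).minimalPrimes)
    (hη2' : η ∈ (RingHom.ker ψ).minimalPrimes) :
    ∃ g₁ g₂ : A →ₐ[k] k, g₁.comp φ = g₂.comp ψ := by
  have hN : IsNoetherianRing R := Algebra.FiniteType.isNoetherianRing k R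
  have hJ : IsJacobsonRing R := isJacobsonRing_of_finiteType (A := k) (B := R)
  have hfp : ∀ χ : R →ₐ[k] A, (χ : R →+* A).FinitePresentation := by
    intro χ
    apply RingHom.FinitePresentation.of_finiteType.mp
    have h1 : ((χ : R →+* A).comp (algebraMap k R)).FiniteType := by
      rw [AlgHom.comp_algebraMap]
      exact RingHom.finiteType_algebraMap.mpr inferInstance
    exact RingHom.FiniteType.of_comp_finiteType h1
  have hη1 : η ∈ ((⊥ : Ideal A).comap (φ : R →+* A)).minimalPrimes := by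
    rw [← RingHom.ker_eq_comap_bot]; exact hη1'
  have hη2 : η ∈ ((⊥ : Ideal A).comap (ψ : R →+* A)).minimalPrimes := by
    rw [← RingHom.ker_eq_comap_bot]; exact hη2'
  obtain ⟨P₁, hP₁, -, hP₁η⟩ := Ideal.exists_comap_eq_of_mem_minimalPrimes (φ : R →+* A) η hη1
  obtain ⟨P₂, hP₂, -, hP₂η⟩ := Ideal.exists_comap_eq_of_mem_minimalPrimes (ψ : R →+* A) η hη2
  have hηp : η.IsPrime := hη1'.1.1
  let T₁ : Set (PrimeSpectrum R) := Set.range (PrimeSpectrum.comap (φ : R →+* A))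
  let T₂ : Set (PrimeSpectrum R) := Set.range (PrimeSpectrum.comap (ψ : R →+* A))
  have hT : IsConstructible (T₁ ∩ T₂) :=
    (PrimeSpectrum.isConstructible_range_comap (hfp φ)).inter
      (PrimeSpectrum.isConstructible_range_comap (hfp ψ))
  have hTne : (T₁ ∩ T₂).Nonempty := by
    refine ⟨⟨η, hηp⟩, ⟨⟨P₁, hP₁⟩, ?_⟩, ⟨⟨P₂, hP₂⟩, ?_⟩⟩
    · exact PrimeSpectrum.ext hP₁η
    · exact PrimeSpectrum.ext hP₂η
  obtain ⟨w, ⟨⟨Q₁, hQ₁⟩, ⟨Q₂, hQ₂⟩⟩, hwmax⟩ := exists_isMaximal_of_isConstructible hT hTne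
  have key : ∀ (χ : R →ₐ[k] A) (Q : PrimeSpectrum A),
      PrimeSpectrum.comap (χ : R →+* A) Q = w → ∃ g : A →ₐ[k] k, ∀ f ∈ w.asIdeal, g (χ f) = 0 := by
    intro χ Q hQ
    obtain ⟨𝔪, h𝔪, hQ𝔪⟩ := Ideal.exists_le_maximal Q.asIdeal Q.2.ne_top
    obtain ⟨g, hg⟩ := S11795.exists_point_of_isMaximal k A 𝔪 h𝔪
    refine ⟨g, fun f hf => hg _ (hQ𝔪 ?_)⟩
    rw [← hQ] at hf
    exact hf
  obtain ⟨g₁, hg₁⟩ := key φ Q₁ hQ₁
  obtain ⟨g₂, hg₂⟩ := key ψ Q₂ hQ₂
  exact ⟨g₁, g₂, algHom_eq_of_le_ker w.asIdeal hwmax _ _ hg₁ hg₂⟩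

end Common

section Final

variable {k : Type u} [Field k] [IsAlgClosed k] {A : Type u} [CommRing A] [HopfAlgebra k A]
  [Algebra.FiniteType k A]
variable {R : Type u} [CommRing R] [Algebra k R] [Algebra.FiniteType k R]
  [HopfRep.Comod k A R] [GLin.IsCoactAlg k A R]

/-- a point with finite stabiliser in the closure of an orbit lies in that orbit -/
theorem orb_of_le_of_finite_stab (y z : R →ₐ[k] k)
    (hle : RingHom.ker (GLin.orbitHom k A y) ≤ RingHom.ker z)
    (hfin : {g : A →ₐ[k] k | ∀ f : R, z (HopfRep.Comod.act k A R g f) = z f}.Finite) :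
    Orb (A := A) y z := by
  have hle' := ker_orbitHom_le_of_le y z hle
  have hεψ : (Bialgebra.counitAlgHom k A).comp (GLin.orbitHom k A z) = z := by
    apply AlgHom.ext
    intro f
    exact (S11794.apply_eq_counit_orbitHom (A := A) z f).symm
  have hfin' : {h : A →ₐ[k] k | h.comp (GLin.orbitHom k A z) =
      (Bialgebra.counitAlgHom k A).comp (GLin.orbitHom k A z)}.Finite := by
    apply hfin.subset
    intro h hh f
    rw [Set.mem_ofPred_eq, hεψ] at hh
    rw [S11794.apply_act]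
    exact AlgHom.congr_fun hh f
  obtain ⟨η, hη1, hη2⟩ := exists_common_minimalPrime (GLin.orbitHom k A y)
    (GLin.orbitHom k A z) hle' hfin'
  obtain ⟨g₁, g₂, h12⟩ := exists_common_point' (GLin.orbitHom k A y) (GLin.orbitHom k A z) η
    hη1 hη2
  have h1 : Orb (A := A) y (g₁.comp (GLin.orbitHom k A y)) := ⟨g₁, rfl⟩
  have h2 : Orb (A := A) z (g₁.comp (GLin.orbitHom k A y)) := ⟨g₂, h12⟩
  exact Orb.trans' A h1 (Orb.symm' A h2)

end Final

end Groth.Agent.H62.OrbitDim
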