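import Groth.Agent.H62.Reynolds2
import Mathlib.RingTheory.TensorProduct.MvPolynomial
import Mathlib.RingTheory.MvPolynomial.Homogeneous
import Mathlib.RingTheory.Polynomial.Basic

/-!
# Invariants of a linear coaction of a linearly reductive group on a polynomial ring are finitely
generated (Hilbert) — helper62
-/

set_option autoImplicit false
universe u v
open TensorProduct MvPolynomial

namespace Groth.Agent.H62.Hilbert

section Graded

variable {k : Type u} [CommRing k] {A : Type v} [CommRing A] [Algebra k A] {σ τ : Type*}

theorem map_homogeneousComponent_of_graded (F : MvPolynomial σ k →ₗ[k] MvPolynomial τ A)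
    (hF : ∀ (i : ℕ) (p : MvPolynomial σ k), p.IsHomogeneous i → (F p).IsHomogeneous i)
    (d : ℕ) (p : MvPolynomial σ k) :
    F (homogeneousComponent d p) = homogeneousComponent d (F p) := by
  classical
  have hp : F p = ∑ i ∈ Finset.range (p.totalDegree + 1), F (homogeneousComponent i p) := by
    rw [← map_sum, sum_homogeneousComponent]
  rw [hp, map_sum]
  have h : ∀ i ∈ Finset.range (p.totalDegree + 1),
      homogeneousComponent d (F (homogeneousComponent i p)) =
        if d = i then F (homogeneousComponent d p) else 0 := by
    intro i _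
    rw [homogeneousComponent_of_mem (hF i _ (homogeneousComponent_isHomogeneous i p))]
    split_ifs with h
    · rw [h]
    · rfl
  rw [Finset.sum_congr rfl h, Finset.sum_ite_eq]
  split_ifs with h
  · rfl
  · rw [Finset.mem_range, not_lt] at h
    rw [homogeneousComponent_eq_zero _ _ (by omega), map_zero]

end Graded

section Inv

variable (k : Type u) [CommRing k] (A : Type v) [CommRing A] [Bialgebra k A] (n : ℕ)

/-- `k[x] ⊗ A ≃ A[x]`. -/
noncomputable def τ : MvPolynomial (Fin n) k ⊗[k] A ≃ₐ[k] MvPolynomial (Fin n) A :=
  (Algebra.TensorProduct.comm k (MvPolynomial (Fin n) k) A).trans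
    ((MvPolynomial.algebraTensorAlgEquiv k A).restrictScalars k)

theorem τ_tmul (p : MvPolynomial (Fin n) k) (a : A) :
    τ k A n (p ⊗ₜ[k] a) = a • MvPolynomial.map (algebraMap k A) p := by
  simp [τ]

variable [HopfRep.Comod k A (MvPolynomial (Fin n) k)]
  [GLin.IsCoactAlg k A (MvPolynomial (Fin n) k)]

/-- The coaction read in `A[x]`. -/
noncomputable def σ : MvPolynomial (Fin n) k →ₐ[k] MvPolynomial (Fin n) A :=
  (τ k A n).toAlgHom.comp (GLin.coactAlgHom k A (MvPolynomial (Fin n) k))

theorem σ_apply (p : MvPolynomial (Fin n) k) :
    σ k A n p = τ k A n (H40.ρ k A (MvPolynomial (Fin n) k) p) := rfl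

theorem σ_X_isHomogeneous (hlin : GLin.IsLinear k A (Fin n)) (i : Fin n) :
    (σ k A n (X i)).IsHomogeneous 1 := by
  obtain ⟨m, hm⟩ := hlin i
  have h : σ k A n (X i) = ∑ j, m j • (X j : MvPolynomial (Fin n) A) := by
    rw [σ_apply]
    have hm' : H40.ρ k A (MvPolynomial (Fin n) k) (X i) =
        ∑ j, (X j : MvPolynomial (Fin n) k) ⊗ₜ[k] m j := hm
    rw [hm', map_sum]
    refine Finset.sum_congr rfl fun j _ => ?_
    rw [τ_tmul, MvPolynomial.map_X]
  rw [h]
  refine IsHomogeneous.sum _ _ _ fun j _ => ?_
  rw [MvPolynomial.smul_eq_C_mul]
  exact (isHomogeneous_X A j).C_mul _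

theorem σ_isHomogeneous (hlin : GLin.IsLinear k A (Fin n)) {p : MvPolynomial (Fin n) k} {d : ℕ}
    (hp : p.IsHomogeneous d) : (σ k A n p).IsHomogeneous d := by
  have hσ : σ k A n = MvPolynomial.aeval (fun i => σ k A n (X i)) := by
    apply MvPolynomial.algHom_ext
    intro i
    rw [MvPolynomial.aeval_X]
  have h := hp.aeval (fun i => σ k A n (X i)) (σ_X_isHomogeneous k A n hlin)
  rw [← hσ, one_mul] at h
  exact h

theorem homogeneousComponent_mem_invariants (hlin : GLin.IsLinear k A (Fin n))
    {p : MvPolynomial (Fin n) k} (hp : p ∈ GLin.invariants k A (MvPolynomial (Fin n) k))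
    (d : ℕ) :
    homogeneousComponent d p ∈ GLin.invariants k A (MvPolynomial (Fin n) k) := by
  have h1 : σ k A n (homogeneousComponent d p) = homogeneousComponent d (σ k A n p) :=
    map_homogeneousComponent_of_graded (σ k A n).toLinearMap
      (fun i q hq => σ_isHomogeneous k A n hlin hq) d p
  have h2 : MvPolynomial.map (algebraMap k A) (homogeneousComponent d p) =
      homogeneousComponent d (MvPolynomial.map (algebraMap k A) p) :=
    map_homogeneousComponent_of_graded (MvPolynomial.mapAlgHom (Algebra.ofId k A)).toLinearMap
      (fun i q hq => hq.map _) d p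
  have h3 : σ k A n p = MvPolynomial.map (algebraMap k A) p := by
    rw [σ_apply, show H40.ρ k A _ p = p ⊗ₜ[k] (1 : A) from hp, τ_tmul, one_smul]
  change HopfRep.Comod.coact (k := k) (A := A) (homogeneousComponent d p) =
    homogeneousComponent d p ⊗ₜ[k] (1 : A)
  apply (τ k A n).injective
  rw [τ_tmul, one_smul, h2, ← h3, ← h1]
  rfl

end Inv

section Main

variable {k : Type u} [Field k] {A : Type u} [CommRing A] [Bialgebra k A] {n : ℕ}
  [HopfRep.Comod k A (MvPolynomial (Fin n) k)] [GLin.IsCoactAlg k A (MvPolynomial (Fin n) k)]

theorem exists_finset_adjoin_invariants (hG : HopfRep.IsLinearlyReductive k A)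
    (hlin : GLin.IsLinear k A (Fin n)) :
    ∃ s : Finset (MvPolynomial (Fin n) k),
      (∀ f ∈ s, f ∈ GLin.invariants k A (MvPolynomial (Fin n) k)) ∧
      ∀ f ∈ GLin.invariants k A (MvPolynomial (Fin n) k),
        f ∈ Algebra.adjoin k (s : Set (MvPolynomial (Fin n) k)) := by
  classical
  have hN : IsNoetherianRing (GLin.invariants k A (MvPolynomial (Fin n) k)) :=
    H62.isNoetherianRing_invariants hG
  let gens : Set (GLin.invariants k A (MvPolynomial (Fin n) k)) :=
    {c | ∃ d : ℕ, 0 < d ∧ (c : MvPolynomial (Fin n) k).IsHomogeneous d}
  have hfg : (Submodule.span (GLin.invariants k A (MvPolynomial (Fin n) k)) gens).FG :=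
    IsNoetherian.noetherian _
  obtain ⟨t, ht, hspan⟩ := (Submodule.fg_span_iff_fg_span_finset_subset gens).mp hfg
  have hy : ∀ y : GLin.invariants k A (MvPolynomial (Fin n) k), y ∈ t →
      ∃ e : ℕ, 0 < e ∧ (y : MvPolynomial (Fin n) k).IsHomogeneous e := fun y hy => ht hy
  choose! e he0 heh using hy
  refine ⟨t.image (Subtype.val : GLin.invariants k A (MvPolynomial (Fin n) k) → MvPolynomial (Fin n) k), ?_, ?_⟩
  · intro f hf
    obtain ⟨c, -, rfl⟩ := Finset.mem_image.mp hf
    exact c.2
  · have key : ∀ (d : ℕ) (p : MvPolynomial (Fin n) k),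
        p ∈ GLin.invariants k A (MvPolynomial (Fin n) k) → p.IsHomogeneous d →
        p ∈ Algebra.adjoin k
          ((t.image (Subtype.val : GLin.invariants k A (MvPolynomial (Fin n) k) → MvPolynomial (Fin n) k) : Finset _) :
            Set (MvPolynomial (Fin n) k)) := by
      intro d
      induction d using Nat.strong_induction_on with
      | _ d ih =>
        intro p hpC hp
        rcases Nat.eq_zero_or_pos d with rfl | hd
        · have hpc : p = C (coeff 0 p) := by
            rw [← homogeneousComponent_zero, homogeneousComponent_eq_self hp]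
          rw [hpc]
          exact Subalgebra.algebraMap_mem _ _
        · have hmem : (⟨p, hpC⟩ : GLin.invariants k A (MvPolynomial (Fin n) k)) ∈
              Submodule.span (GLin.invariants k A (MvPolynomial (Fin n) k)) gens :=
            Submodule.subset_span ⟨d, hd, hp⟩
          rw [hspan] at hmem
          obtain ⟨c, -, hc⟩ := Submodule.mem_span_finset.mp hmem
          have hc' : p = ∑ y ∈ t, (c y : MvPolynomial (Fin n) k) * (y : MvPolynomial (Fin n) k) := by
            have h1 := congrArg (GLin.invariants k A (MvPolynomial (Fin n) k)).val hc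
            rw [map_sum] at h1
            have h2 : ∀ y ∈ t, (GLin.invariants k A (MvPolynomial (Fin n) k)).val (c y • y) =
                (c y : MvPolynomial (Fin n) k) * (y : MvPolynomial (Fin n) k) := fun y _ => rfl
            rw [Finset.sum_congr rfl h2] at h1
            exact h1.symm
          have hp_eq : p = ∑ y ∈ t,
              ∑ j ∈ Finset.range ((c y : MvPolynomial (Fin n) k).totalDegree + 1),
                homogeneousComponent d
                  (homogeneousComponent j (c y : MvPolynomial (Fin n) k) *
                    (y : MvPolynomial (Fin n) k)) := by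
            have h1 : p = homogeneousComponent d p := (homogeneousComponent_eq_self hp).symm
            have h2 : homogeneousComponent d p = ∑ y ∈ t, homogeneousComponent d
                ((c y : MvPolynomial (Fin n) k) * (y : MvPolynomial (Fin n) k)) := by
              conv_lhs => rw [hc']
              rw [map_sum]
            rw [h1, h2]
            refine Finset.sum_congr rfl fun y _ => ?_
            have h3 : (c y : MvPolynomial (Fin n) k) * (y : MvPolynomial (Fin n) k) =
                ∑ j ∈ Finset.range ((c y : MvPolynomial (Fin n) k).totalDegree + 1),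
                  homogeneousComponent j (c y : MvPolynomial (Fin n) k) *
                    (y : MvPolynomial (Fin n) k) := by
              rw [← Finset.sum_mul, sum_homogeneousComponent]
            rw [h3, map_sum]
          rw [hp_eq]
          refine Subalgebra.sum_mem _ fun y hy => Subalgebra.sum_mem _ fun j _ => ?_
          have hmem2 : homogeneousComponent j (c y : MvPolynomial (Fin n) k) *
              (y : MvPolynomial (Fin n) k) ∈ homogeneousSubmodule (Fin n) k (j + e y) :=
            (homogeneousComponent_isHomogeneous j _).mul (heh y hy)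
          rw [homogeneousComponent_of_mem hmem2]
          split_ifs with hdj
          · have hlt : j < d := by have := he0 y hy; omega
            refine Subalgebra.mul_mem _
              (ih j hlt _ (homogeneousComponent_mem_invariants k A n hlin (c y).2 j)
                (homogeneousComponent_isHomogeneous j _))
              (Algebra.subset_adjoin ?_)
            exact Finset.mem_coe.mpr (Finset.mem_image_of_mem _ hy)
          · exact Subalgebra.zero_mem _
    intro f hf
    rw [← sum_homogeneousComponent f]
    exact Subalgebra.sum_mem _ fun i _ =>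
      key i _ (homogeneousComponent_mem_invariants k A n hlin hf i)
        (homogeneousComponent_isHomogeneous i f)

end Main

end Groth.Agent.H62.Hilbert
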