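import Groth.Agent.S11794
import Groth.Agent.S11795
import Groth.Agent.H62.Reynolds2
import Groth.Agent.H62.Hilbert1
import Mathlib.RingTheory.HopfAlgebra.Convolution
import Mathlib.RingTheory.Spectrum.Prime.RingHom

/-!
# Orbit closures and invariants for linearly reductive groups (coaction form) — helper62
-/

set_option autoImplicit false
universe u v
open TensorProduct

namespace Groth.Agent.H62.OrbitSep

open Groth.Agent

section Basic

variable {k : Type u} [Field k] {A : Type u} [CommRing A] [Bialgebra k A]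
  {R : Type u} [CommRing R] [Algebra k R] [HopfRep.Comod k A R] [GLin.IsCoactAlg k A R]

theorem orbitHom_of_mem_invariants (x : R →ₐ[k] k) {f : R} (hf : f ∈ GLin.invariants k A R) :
    GLin.orbitHom k A x f = algebraMap k A (x f) := by
  rw [S11794.orbitHom_apply, S11794.oLin_apply]
  have h : H40.ρ k A R f = f ⊗ₜ[k] (1 : A) := hf
  rw [h, LinearMap.rTensor_tmul, TensorProduct.lid_tmul, Algebra.algebraMap_eq_smul_one]
  rfl

theorem apply_eq_of_inOrbitClosure {x z : R →ₐ[k] k} (h : GLin.InOrbitClosure k A x z) {f : R}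
    (hf : f ∈ GLin.invariants k A R) : z f = x f := by
  have h1 : f - algebraMap k R (x f) ∈ RingHom.ker (GLin.orbitHom k A x) := by
    rw [RingHom.mem_ker, map_sub, orbitHom_of_mem_invariants x hf, AlgHom.commutes, sub_self]
  have h2 := h h1
  rw [RingHom.mem_ker, map_sub, AlgHom.commutes, Algebra.algebraMap_self_apply, sub_eq_zero] at h2
  exact h2

theorem inOrbitClosure_refl (x : R →ₐ[k] k) : GLin.InOrbitClosure k A x x := by
  intro f hf
  rw [RingHom.mem_ker] at hf ⊢
  rw [S11794.apply_eq_counit_orbitHom (A := A) x, hf, map_zero]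

theorem exists_common_point [IsAlgClosed k] [Algebra.FiniteType k R]
    (hG : HopfRep.IsLinearlyReductive k A) (x y : R →ₐ[k] k)
    (hinv : ∀ f ∈ GLin.invariants k A R, x f = y f) :
    ∃ z : R →ₐ[k] k, GLin.InOrbitClosure k A x z ∧ GLin.InOrbitClosure k A y z := by
  have h1fix : (1 : R) ∈ HopfRep.fixedPts k A R :=
    (H62.mem_invariants_iff_mem_fixedPts (1 : R)).mp (GLin.invariants k A R).one_mem
  have hne : RingHom.ker (GLin.orbitHom k A x) ⊔ RingHom.ker (GLin.orbitHom k A y) ≠ ⊤ := by
    intro htop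
    have h1 : (1 : R) ∈ RingHom.ker (GLin.orbitHom k A x) ⊔ RingHom.ker (GLin.orbitHom k A y) := by
      rw [htop]; trivial
    obtain ⟨a, ha, b, hb, hab⟩ := Submodule.mem_sup.mp h1
    have hEa : H62.reynolds R hG a ∈ RingHom.ker (GLin.orbitHom k A x) :=
      H62.reynolds_mem_of_isSubcomod hG (S11794.isSubcomod_ker_orbitHom x) ha
    have hEb : H62.reynolds R hG b ∈ RingHom.ker (GLin.orbitHom k A y) :=
      H62.reynolds_mem_of_isSubcomod hG (S11794.isSubcomod_ker_orbitHom y) hb
    have hxa : x (H62.reynolds R hG a) = 0 := by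
      rw [S11794.apply_eq_counit_orbitHom (A := A) x, (RingHom.mem_ker).mp hEa, map_zero]
    have hyb : y (H62.reynolds R hG b) = 0 := by
      rw [S11794.apply_eq_counit_orbitHom (A := A) y, (RingHom.mem_ker).mp hEb, map_zero]
    have hxb : x (H62.reynolds R hG b) = 0 := by
      rw [hinv _ ((H62.mem_invariants_iff_mem_fixedPts _).mpr (H62.reynolds_mem hG b)), hyb]
    have hE1 : H62.reynolds R hG (a + b) = 1 := by
      rw [hab]; exact H62.reynolds_of_mem_fixedPts hG h1fix
    have h2 : x (H62.reynolds R hG (a + b)) = 1 := by rw [hE1, map_one]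
    rw [map_add, map_add, hxa, hxb, add_zero] at h2
    exact zero_ne_one h2
  obtain ⟨𝔫, h𝔫max, hJ𝔫⟩ := Ideal.exists_le_maximal _ hne
  obtain ⟨z, hz⟩ := S11795.exists_point_of_isMaximal k R 𝔫 h𝔫max
  exact ⟨z, fun f hf => (RingHom.mem_ker).mpr (hz f (hJ𝔫 (Submodule.mem_sup_left hf))),
    fun f hf => (RingHom.mem_ker).mpr (hz f (hJ𝔫 (Submodule.mem_sup_right hf)))⟩

theorem exists_point_over [IsAlgClosed k] [Algebra.FiniteType k R]
    (hG : HopfRep.IsLinearlyReductive k A) (φ : GLin.invariants k A R →ₐ[k] k) :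
    ∃ x : R →ₐ[k] k, x.comp (GLin.invariants k A R).val = φ := by
  let Einv : R → GLin.invariants k A R := fun z =>
    ⟨H62.reynolds R hG z, H62.reynolds_mem_invariants hG z⟩
  have hEadd : ∀ a b : R, Einv (a + b) = Einv a + Einv b := fun a b =>
    Subtype.ext (map_add (H62.reynolds R hG) a b)
  have hEzero : Einv 0 = 0 := Subtype.ext (map_zero (H62.reynolds R hG))
  have hEmul : ∀ (a : R) (f : GLin.invariants k A R), Einv (a * f) = Einv a * f :=
    fun a f => Subtype.ext (H62.reynolds_mul hG a f.2)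
  have hEone : Einv 1 = 1 := Subtype.ext (H62.reynolds_of_mem_invariants hG
    (GLin.invariants k A R).one_mem)
  let T : Set R := (fun f : GLin.invariants k A R => (f : R)) '' {f | φ f = 0}
  have key : ∀ z ∈ Ideal.span T, ∀ r : R, φ (Einv (r * z)) = 0 := by
    intro z hz
    refine Submodule.span_induction
      (p := fun z _ => ∀ r : R, φ (Einv (r * z)) = 0) ?_ ?_ ?_ ?_ hz
    · rintro _ ⟨f, hf, rfl⟩ r
      rw [hEmul, map_mul, hf, mul_zero]
    · intro r
      rw [mul_zero, hEzero, map_zero]
    · intro z1 z2 _ _ h1 h2 r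
      rw [mul_add, hEadd, map_add, h1 r, h2 r, add_zero]
    · intro c z _ h r
      rw [smul_eq_mul, ← mul_assoc]
      exact h (r * c)
  have hJne : Ideal.span T ≠ ⊤ := by
    intro htop
    have h1 : (1 : R) ∈ Ideal.span T := by rw [htop]; trivial
    have h2 : φ (Einv (1 * 1)) = 0 := key 1 h1 1
    rw [one_mul, hEone, map_one] at h2
    exact one_ne_zero h2
  obtain ⟨𝔫, h𝔫max, hJ𝔫⟩ := Ideal.exists_le_maximal _ hJne
  obtain ⟨x, hx⟩ := S11795.exists_point_of_isMaximal k R 𝔫 h𝔫max
  refine ⟨x, ?_⟩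
  apply AlgHom.ext
  intro f
  have h5 : φ (f - algebraMap k _ (φ f)) = 0 := by
    rw [map_sub, AlgHom.commutes, Algebra.algebraMap_self_apply, sub_self]
  have h6 : ((f - algebraMap k _ (φ f) : GLin.invariants k A R) : R) ∈ Ideal.span T :=
    Ideal.subset_span ⟨_, h5, rfl⟩
  have h7 := hx _ (hJ𝔫 h6)
  have h8 : ((f - algebraMap k _ (φ f) : GLin.invariants k A R) : R) =
      (f : R) - algebraMap k R (φ f) := rfl
  rw [h8, map_sub, AlgHom.commutes, Algebra.algebraMap_self_apply, sub_eq_zero] at h7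
  exact h7

theorem comp_val_eq_iff (x y : R →ₐ[k] k) :
    x.comp (GLin.invariants k A R).val = y.comp (GLin.invariants k A R).val ↔
      ∀ f ∈ GLin.invariants k A R, x f = y f := by
  constructor
  · intro h f hf
    exact congrArg (fun φ : GLin.invariants k A R →ₐ[k] k => φ ⟨f, hf⟩) h
  · intro h
    apply AlgHom.ext
    intro f
    exact h f.1 f.2

/-- Points with a common point in their orbit closures have the same invariants. -/
theorem eq_of_common_point {x y z : R →ₐ[k] k} (hx : GLin.InOrbitClosure k A x z)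
    (hy : GLin.InOrbitClosure k A y z) {f : R} (hf : f ∈ GLin.invariants k A R) : x f = y f := by
  rw [← apply_eq_of_inOrbitClosure hx hf, ← apply_eq_of_inOrbitClosure hy hf]

/-- closed orbit: a point of the orbit closure is in the orbit. -/
theorem exists_actPt_eq_of_isClosedOrbit [IsAlgClosed k] [Algebra.FiniteType k A]
    {x z : R →ₐ[k] k} (hcl : GLin.IsClosedOrbit k A x) (hz : GLin.InOrbitClosure k A x z) :
    ∃ g : A →ₐ[k] k, z = GLin.actPt k g x := by
  let mz : PrimeSpectrum R := ⟨RingHom.ker z, RingHom.ker_isPrime z⟩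
  have hmem : mz ∈ closure (Set.range (PrimeSpectrum.comap (GLin.orbitHom k A x).toRingHom)) := by
    rw [PrimeSpectrum.closure_range_comap, PrimeSpectrum.mem_zeroLocus]
    exact hz
  rw [hcl.closure_eq] at hmem
  obtain ⟨q, hq⟩ := hmem
  obtain ⟨𝔫, h𝔫max, hq𝔫⟩ := Ideal.exists_le_maximal q.asIdeal q.2.ne_top
  obtain ⟨g, hg⟩ := S11795.exists_point_of_isMaximal k A 𝔫 h𝔫max
  refine ⟨g, ?_⟩
  apply AlgHom.ext
  intro f
  have h1 : f - algebraMap k R (z f) ∈ mz.asIdeal := by
    change f - algebraMap k R (z f) ∈ RingHom.ker z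
    rw [RingHom.mem_ker, map_sub, AlgHom.commutes, Algebra.algebraMap_self_apply, sub_self]
  rw [← hq] at h1
  have h2 : GLin.orbitHom k A x (f - algebraMap k R (z f)) ∈ q.asIdeal := h1
  have h3 := hg _ (hq𝔫 h2)
  rw [map_sub, AlgHom.commutes, map_sub, AlgHom.commutes, Algebra.algebraMap_self_apply,
    sub_eq_zero] at h3
  exact h3.symm

end Basic

section Group

variable {k : Type u} [Field k] {A : Type u} [CommRing A] [HopfAlgebra k A]
  {R : Type u} [CommRing R] [Algebra k R] [HopfRep.Comod k A R] [GLin.IsCoactAlg k A R]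

/-- The product of two points of the group. -/
noncomputable def conv (g h : A →ₐ[k] k) : A →ₐ[k] k :=
  (Algebra.TensorProduct.lmul' k).comp
    ((Algebra.TensorProduct.map g h).comp (Bialgebra.comulAlgHom k A))

omit [GLin.IsCoactAlg k A R] [HopfRep.Comod k A R] in
theorem conv_aux (g h : A →ₐ[k] k) (t : A ⊗[k] A) :
    h (TensorProduct.lid k A (g.toLinearMap.rTensor A t)) =
      Algebra.TensorProduct.lmul' k (Algebra.TensorProduct.map g h t) := by
  induction t using TensorProduct.induction_on with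
  | zero => simp
  | tmul a b => simp
  | add s t hs ht => simp only [map_add, hs, ht]

theorem actPt_actPt (g h : A →ₐ[k] k) (x : R →ₐ[k] k) :
    GLin.actPt k h (GLin.actPt k g x) = GLin.actPt k (conv g h) x := by
  apply AlgHom.ext
  intro f
  change h (GLin.orbitHom k A (GLin.actPt k g x) f) = conv g h (GLin.orbitHom k A x f)
  rw [S11794.orbitHom_apply, S11794.oLin_apply]
  have h1 : (GLin.actPt k g x).toLinearMap = g.toLinearMap ∘ₗ S11794.oLin A x := by
    apply LinearMap.ext
    intro r
    change g (GLin.orbitHom k A x r) = g (S11794.oLin A x r)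
    rw [S11794.orbitHom_apply]
  have h2 : (GLin.actPt k g x).toLinearMap.rTensor A (H40.ρ k A R f) =
      g.toLinearMap.rTensor A ((S11794.oLin A x).rTensor A (H40.ρ k A R f)) := by
    rw [h1, LinearMap.rTensor_comp_apply]
  have h3 : (S11794.oLin A x).rTensor A (H40.ρ k A R f) =
      CoalgebraStruct.comul (R := k) (S11794.oLin A x f) := by
    have := S11794.isComodHom_oLin (A := A) x
    have h4 := LinearMap.congr_fun this f
    exact h4.symm
  rw [h2, h3, conv_aux, ← S11794.orbitHom_apply]
  rfl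

omit [GLin.IsCoactAlg k A R] [HopfRep.Comod k A R] in
theorem conv_inv_aux (g : A →ₐ[k] k) (t : A ⊗[k] A) :
    Algebra.TensorProduct.lmul' k
        (Algebra.TensorProduct.map g (g.comp (HopfAlgebra.antipodeAlgHom k A)) t) =
      g (LinearMap.mul' k A ((HopfAlgebra.antipode k (A := A)).lTensor A t)) := by
  induction t using TensorProduct.induction_on with
  | zero => simp
  | tmul a b => simp
  | add s t hs ht => simp only [map_add, hs, ht]

omit [GLin.IsCoactAlg k A R] [HopfRep.Comod k A R] in
theorem conv_inv (g : A →ₐ[k] k) :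
    conv g (g.comp (HopfAlgebra.antipodeAlgHom k A)) = Bialgebra.counitAlgHom k A := by
  apply AlgHom.ext
  intro a
  change Algebra.TensorProduct.lmul' k
    (Algebra.TensorProduct.map g (g.comp (HopfAlgebra.antipodeAlgHom k A))
      (CoalgebraStruct.comul (R := k) a)) = CoalgebraStruct.counit (R := k) a
  rw [conv_inv_aux, HopfAlgebra.mul_antipode_lTensor_comul_apply, AlgHom.commutes]
  rfl

theorem actPt_counit (x : R →ₐ[k] k) : GLin.actPt k (Bialgebra.counitAlgHom k A) x = x := by
  apply AlgHom.ext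
  intro f
  exact (S11794.apply_eq_counit_orbitHom (A := A) x f).symm

theorem actPt_inv (g : A →ₐ[k] k) (x : R →ₐ[k] k) :
    GLin.actPt k (g.comp (HopfAlgebra.antipodeAlgHom k A)) (GLin.actPt k g x) = x := by
  rw [actPt_actPt, conv_inv, actPt_counit]

end Group

section Linear

variable (k : Type u) [CommRing k] (A : Type v) [CommRing A] [Bialgebra k A] (ι : Type*)

open MvPolynomial

/-- `k[x] ⊗ A ≃ A[x]`. -/
noncomputable def τ : MvPolynomial ι k ⊗[k] A ≃ₐ[k] MvPolynomial ι A :=
  (Algebra.TensorProduct.comm k (MvPolynomial ι k) A).trans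
    ((MvPolynomial.algebraTensorAlgEquiv k A).restrictScalars k)

theorem τ_tmul (p : MvPolynomial ι k) (a : A) :
    τ k A ι (p ⊗ₜ[k] a) = a • MvPolynomial.map (algebraMap k A) p := by
  simp [τ]

variable [HopfRep.Comod k A (MvPolynomial ι k)]
  [GLin.IsCoactAlg k A (MvPolynomial ι k)]

/-- The coaction read in `A[x]`. -/
noncomputable def σ : MvPolynomial ι k →ₐ[k] MvPolynomial ι A :=
  (τ k A ι).toAlgHom.comp (GLin.coactAlgHom k A (MvPolynomial ι k))

theorem σ_apply (p : MvPolynomial ι k) :
    σ k A ι p = τ k A ι (H40.ρ k A (MvPolynomial ι k) p) := rfl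

variable [Fintype ι]

theorem σ_X_isHomogeneous (hlin : GLin.IsLinear k A ι) (i : ι) :
    (σ k A ι (X i)).IsHomogeneous 1 := by
  obtain ⟨m, hm⟩ := hlin i
  have h : σ k A ι (X i) = ∑ j, m j • (X j : MvPolynomial ι A) := by
    rw [σ_apply]
    have hm' : H40.ρ k A (MvPolynomial ι k) (X i) =
        ∑ j, (X j : MvPolynomial ι k) ⊗ₜ[k] m j := hm
    rw [hm', map_sum]
    refine Finset.sum_congr rfl fun j _ => ?_
    rw [τ_tmul, MvPolynomial.map_X]
  rw [h]
  refine IsHomogeneous.sum _ _ _ fun j _ => ?_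
  rw [MvPolynomial.smul_eq_C_mul]
  exact (isHomogeneous_X A j).C_mul _

theorem σ_isHomogeneous (hlin : GLin.IsLinear k A ι) {p : MvPolynomial ι k} {d : ℕ}
    (hp : p.IsHomogeneous d) : (σ k A ι p).IsHomogeneous d := by
  have hσ : σ k A ι = MvPolynomial.aeval (fun i => σ k A ι (X i)) := by
    apply MvPolynomial.algHom_ext
    intro i
    rw [MvPolynomial.aeval_X]
  have h := hp.aeval (fun i => σ k A ι (X i)) (σ_X_isHomogeneous k A ι hlin)
  rw [← hσ, one_mul] at h
  exact h

theorem homogeneousComponent_mem_invariants (hlin : GLin.IsLinear k A ι)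
    {p : MvPolynomial ι k} (hp : p ∈ GLin.invariants k A (MvPolynomial ι k))
    (d : ℕ) :
    homogeneousComponent d p ∈ GLin.invariants k A (MvPolynomial ι k) := by
  have h1 : σ k A ι (homogeneousComponent d p) = homogeneousComponent d (σ k A ι p) :=
    Hilbert.map_homogeneousComponent_of_graded (σ k A ι).toLinearMap
      (fun i q hq => σ_isHomogeneous k A ι hlin hq) d p
  have h2 : MvPolynomial.map (algebraMap k A) (homogeneousComponent d p) =
      homogeneousComponent d (MvPolynomial.map (algebraMap k A) p) :=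
    Hilbert.map_homogeneousComponent_of_graded
      (MvPolynomial.mapAlgHom (Algebra.ofId k A)).toLinearMap
      (fun i q hq => hq.map _) d p
  have h3 : σ k A ι p = MvPolynomial.map (algebraMap k A) p := by
    rw [σ_apply, show H40.ρ k A _ p = p ⊗ₜ[k] (1 : A) from hp, τ_tmul, one_smul]
  change HopfRep.Comod.coact (k := k) (A := A) (homogeneousComponent d p) =
    homogeneousComponent d p ⊗ₜ[k] (1 : A)
  apply (τ k A ι).injective
  rw [τ_tmul, one_smul, h2, ← h3, ← h1]
  rfl

end Linear

end Groth.Agent.H62.OrbitSep
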