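import Mathlib
import Groth.Agent.H62.OrbitDim
import Groth.Agent.H62.OrbitSep
import Groth.Agent.H80.GenFlatRed
import Groth.Agent.S11794
import Groth.Agent.S11795

/-!
# A Hopf algebra is faithfully flat over a coideal subalgebra with surjective spectrum map

`A` a finitely generated reduced commutative Hopf algebra over an algebraically closed field,
`O ⊆ A` a right coideal subalgebra (`Δ O ⊆ O ⊗ A`) with `Spec A → Spec O` surjective.  Then `A` is
faithfully flat over `O`, and a group-like `χ` with `χ - 1 ∈ O₊ A` lies in `O`.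
-/

set_option autoImplicit false
universe u
open TensorProduct

namespace Groth.Agent.H62.CoidealFlat

open Groth.Agent Groth.Agent.H62.OrbitPts Groth.Agent.H62.OrbitDim Groth.Agent.H62.OrbitSep

section Translation

variable {k : Type u} [Field k] {A : Type u} [CommRing A] [HopfAlgebra k A]

local notation "Δₐ" => CoalgebraStruct.comul (R := k) (A := A)
local notation "εₐ" => CoalgebraStruct.counit (R := k) (A := A)

/-- `a ⊗ b ↦ g b • a`. -/
noncomputable def E (g : A →ₗ[k] k) : A ⊗[k] A →ₗ[k] A :=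
  (TensorProduct.rid k A).toLinearMap ∘ₗ g.lTensor A

@[simp] theorem E_tmul (g : A →ₗ[k] k) (a b : A) : E g (a ⊗ₜ[k] b) = g b • a := by
  simp [E]

/-- Right translation by a point: `a ↦ Σ a₁ g(a₂)`. -/
noncomputable def Rt (g : A →ₐ[k] k) : A →ₐ[k] A :=
  (Algebra.TensorProduct.rid k k A).toAlgHom.comp
    ((Algebra.TensorProduct.map (AlgHom.id k A) g).comp (Bialgebra.comulAlgHom k A))

theorem map_id_eq_lTensor (g : A →ₐ[k] k) (t : A ⊗[k] A) :
    Algebra.TensorProduct.rid k k A (Algebra.TensorProduct.map (AlgHom.id k A) g t) =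
      E g.toLinearMap t := by
  induction t using TensorProduct.induction_on with
  | zero => simp
  | tmul a b => simp
  | add s t hs ht => simp only [map_add, hs, ht]

theorem Rt_apply (g : A →ₐ[k] k) (a : A) : Rt g a = E g.toLinearMap (Δₐ a) :=
  map_id_eq_lTensor g (Δₐ a)

/-- `p (Rt g a) = Σ p(a₁) g(a₂)`. -/
theorem point_E (p g : A →ₐ[k] k) (t : A ⊗[k] A) :
    p (E g.toLinearMap t) = Algebra.TensorProduct.lmul' k (Algebra.TensorProduct.map p g t) := by
  induction t using TensorProduct.induction_on with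
  | zero => simp
  | tmul a b => simp [mul_comm]
  | add s t hs ht => simp only [map_add, hs, ht]

theorem point_Rt (p g : A →ₐ[k] k) (a : A) : p (Rt g a) = g (trans p a) := by
  rw [Rt_apply, point_E, trans_apply, conv_aux]

theorem Rt_counit (a : A) : Rt (Bialgebra.counitAlgHom k A) a = a := by
  rw [Rt_apply]
  change (TensorProduct.rid k A) ((εₐ).lTensor A (Δₐ a)) = a
  rw [Coalgebra.lTensor_counit_comul, TensorProduct.rid_tmul, one_smul]

/-- `a ⊗ (b ⊗ c) ↦ (g b * h c) • a`. -/
noncomputable def W (g h : A →ₐ[k] k) : A ⊗[k] (A ⊗[k] A) →ₗ[k] A :=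
  (TensorProduct.rid k A).toLinearMap ∘ₗ
    ((Algebra.TensorProduct.lmul' k).toLinearMap ∘ₗ
      (Algebra.TensorProduct.map g h).toLinearMap).lTensor A

theorem W_tmul (g h : A →ₐ[k] k) (a : A) (v : A ⊗[k] A) :
    W g h (a ⊗ₜ[k] v) =
      Algebra.TensorProduct.lmul' k (Algebra.TensorProduct.map g h v) • a := by
  simp only [W, LinearMap.comp_apply, LinearMap.lTensor_tmul, LinearEquiv.coe_coe,
    TensorProduct.rid_tmul, AlgHom.toLinearMap_apply]

theorem W1 (g h : A →ₐ[k] k) (u : A ⊗[k] A) (b : A) :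
    W g h (TensorProduct.assoc k A A A (u ⊗ₜ[k] b)) = h b • E g.toLinearMap u := by
  induction u using TensorProduct.induction_on with
  | zero => simp
  | tmul a₁ a₂ =>
    rw [TensorProduct.assoc_tmul, W_tmul]
    simp only [Algebra.TensorProduct.map_tmul, Algebra.TensorProduct.lmul'_apply_tmul, E_tmul,
      AlgHom.toLinearMap_apply, mul_smul]
    exact smul_comm _ _ _
  | add s t hs ht => simp only [TensorProduct.add_tmul, map_add, smul_add, hs, ht]

theorem W2 (g h : A →ₐ[k] k) (t : A ⊗[k] A) :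
    E g.toLinearMap (Δₐ (E h.toLinearMap t)) =
      W g h (TensorProduct.assoc k A A A ((Δₐ).rTensor A t)) := by
  induction t using TensorProduct.induction_on with
  | zero => simp
  | tmul a b =>
    rw [LinearMap.rTensor_tmul, W1, E_tmul, map_smul, map_smul]
    rfl
  | add s t hs ht => simp only [map_add, hs, ht]

theorem W3 (g h : A →ₐ[k] k) (t : A ⊗[k] A) :
    E (conv g h).toLinearMap t = W g h ((Δₐ).lTensor A t) := by
  induction t using TensorProduct.induction_on with
  | zero => simp
  | tmul a b =>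
    rw [LinearMap.lTensor_tmul, W_tmul, E_tmul]
    rfl
  | add s t hs ht => simp only [map_add, hs, ht]

theorem Rt_Rt (g h : A →ₐ[k] k) (a : A) : Rt g (Rt h a) = Rt (conv g h) a := by
  rw [Rt_apply, Rt_apply, Rt_apply, W2, W3, Coalgebra.coassoc_apply]

theorem conv_inv' (g : A →ₐ[k] k) :
    conv (g.comp (HopfAlgebra.antipodeAlgHom k A)) g = Bialgebra.counitAlgHom k A := by
  apply AlgHom.ext
  intro a
  change Algebra.TensorProduct.lmul' k
    (Algebra.TensorProduct.map (g.comp (HopfAlgebra.antipodeAlgHom k A)) g (Δₐ a)) = εₐ a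
  have key : ∀ t : A ⊗[k] A, Algebra.TensorProduct.lmul' k
      (Algebra.TensorProduct.map (g.comp (HopfAlgebra.antipodeAlgHom k A)) g t) =
      g (LinearMap.mul' k A ((HopfAlgebra.antipode k (A := A)).rTensor A t)) := by
    intro t
    induction t using TensorProduct.induction_on with
    | zero => simp
    | tmul a b => simp
    | add s t hs ht => simp only [map_add, hs, ht]
  rw [key, HopfAlgebra.mul_antipode_rTensor_comul_apply, AlgHom.commutes]
  rfl

/-- Right translation as an algebra automorphism. -/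
noncomputable def RtEquiv (g : A →ₐ[k] k) : A ≃ₐ[k] A :=
  AlgEquiv.ofAlgHom (Rt g) (Rt (g.comp (HopfAlgebra.antipodeAlgHom k A)))
    (by
      apply AlgHom.ext
      intro a
      rw [AlgHom.comp_apply, Rt_Rt, conv_inv, Rt_counit]
      rfl)
    (by
      apply AlgHom.ext
      intro a
      rw [AlgHom.comp_apply, Rt_Rt, conv_inv', Rt_counit]
      rfl)

theorem RtEquiv_apply (g : A →ₐ[k] k) (a : A) : RtEquiv g a = Rt g a := rfl

theorem RtEquiv_symm_apply (g : A →ₐ[k] k) (a : A) :
    (RtEquiv g).symm a = Rt (g.comp (HopfAlgebra.antipodeAlgHom k A)) a := rfl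

end Translation

section Flat

variable {k : Type u} [Field k] {A : Type u} [CommRing A] [HopfAlgebra k A]
variable (O : Subalgebra k A)

local notation "Δₐ" => CoalgebraStruct.comul (R := k) (A := A)
local notation "εₐ" => CoalgebraStruct.counit (R := k) (A := A)

/-- `O` is a right coideal: `Δ O ⊆ O ⊗ A`. -/
def IsRightCoideal : Prop :=
  ∀ o ∈ O, Δₐ o ∈ LinearMap.range (O.val.toLinearMap.rTensor A)

variable {O}

theorem E_rTensor_mem (g : A →ₗ[k] k) (t : O ⊗[k] A) :
    E g (O.val.toLinearMap.rTensor A t) ∈ O := by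
  induction t using TensorProduct.induction_on with
  | zero => simp
  | tmul o a =>
    rw [LinearMap.rTensor_tmul, E_tmul]
    exact O.smul_mem o.2 _
  | add s t hs ht => rw [map_add, map_add]; exact O.add_mem hs ht

theorem Rt_mem (hO : IsRightCoideal O) (g : A →ₐ[k] k) {o : A} (ho : o ∈ O) : Rt g o ∈ O := by
  obtain ⟨t, ht⟩ := hO o ho
  rw [Rt_apply, ← ht]
  exact E_rTensor_mem _ t

/-- Right translation restricted to the coideal subalgebra. -/
noncomputable def σ (hO : IsRightCoideal O) (g : A →ₐ[k] k) : O →ₐ[k] O :=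
  ((Rt g).comp O.val).codRestrict O (fun o => Rt_mem hO g o.2)

theorem σ_coe (hO : IsRightCoideal O) (g : A →ₐ[k] k) (o : O) :
    ((σ hO g o : O) : A) = Rt g (o : A) := rfl

theorem σ_bijective (hO : IsRightCoideal O) (g : A →ₐ[k] k) :
    Function.Bijective (σ hO g) := by
  constructor
  · intro a b hab
    apply Subtype.ext
    apply (RtEquiv g).injective
    exact congrArg Subtype.val hab
  · intro o
    refine ⟨⟨Rt (g.comp (HopfAlgebra.antipodeAlgHom k A)) (o : A), Rt_mem hO _ o.2⟩, ?_⟩
    apply Subtype.ext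
    change Rt g (Rt (g.comp (HopfAlgebra.antipodeAlgHom k A)) (o : A)) = o
    exact (RtEquiv g).apply_symm_apply (o : A)

variable [IsAlgClosed k] [Algebra.FiniteType k A] [IsReduced A]

theorem span_translates_eq_top {f : A} (hf : f ≠ 0) :
    Ideal.span (Set.range (fun g : A →ₐ[k] k => Rt g f)) = ⊤ := by
  by_contra hne
  obtain ⟨M, hM, hle⟩ := Ideal.exists_le_maximal _ hne
  obtain ⟨p, hp⟩ := Groth.Agent.S11795.exists_point_of_isMaximal k A M hM
  have h1 : ∀ g : A →ₐ[k] k, g (trans p f) = 0 := fun g => by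
    rw [← point_Rt]
    exact hp _ (hle (Ideal.subset_span ⟨g, rfl⟩))
  have hnil := Groth.Agent.S11794.isNilpotent_of_forall_point k A (trans p f) h1
  have h0 : transEquiv p f = 0 := hnil.eq_zero
  exact hf ((transEquiv p).map_eq_zero_iff.mp h0)

theorem flat_translate (hO : IsRightCoideal O) (f : A) (g : A →ₐ[k] k)
    (H₀ : ((algebraMap A (Localization.Away f)).comp (algebraMap O A)).Flat) :
    ((algebraMap A (Localization.Away (Rt g f))).comp (algebraMap O A)).Flat := by
  let Tloc : Localization.Away f ≃+* Localization.Away (Rt g f) :=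
    IsLocalization.ringEquivOfRingEquiv (Localization.Away f) (Localization.Away (Rt g f))
      (RtEquiv g).toRingEquiv (M := Submonoid.powers f) (T := Submonoid.powers (Rt g f))
      (by rw [Submonoid.map_powers]; rfl)
  have e : (algebraMap A (Localization.Away (Rt g f))).comp (algebraMap O A) =
      (Tloc : Localization.Away f →+* Localization.Away (Rt g f)).comp
        (((algebraMap A (Localization.Away f)).comp (algebraMap O A)).comp
          (σ hO (g.comp (HopfAlgebra.antipodeAlgHom k A)) : O →+* O)) := by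
    ext o
    simp only [RingHom.comp_apply, RingHom.coe_coe]
    rw [IsLocalization.ringEquivOfRingEquiv_eq]
    congr 1
    change (o : A) = Rt g (Rt (g.comp (HopfAlgebra.antipodeAlgHom k A)) (o : A))
    exact ((RtEquiv g).apply_symm_apply (o : A)).symm
  rw [e]
  exact RingHom.Flat.comp (RingHom.Flat.comp
    (RingHom.Flat.of_bijective (σ_bijective hO _)) H₀) (RingHom.Flat.of_bijective Tloc.bijective)

theorem flat_val (hO : IsRightCoideal O) : (algebraMap O A).Flat := by
  haveI : Algebra.FiniteType O A := Algebra.FiniteType.of_restrictScalars_finiteType k O A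
  haveI : Nontrivial A := nontrivial_of_hopf k
  obtain ⟨h, hne, hgood⟩ :=
    Groth.Agent.H80.GenFreeRed.exists_intrGood (R := O) (B := A) 1 one_ne_zero
  have H₀ : ((algebraMap A (Localization.Away (algebraMap O A (1 * h)))).comp
      (algebraMap O A)).Flat := by
    have h1 := hgood.flat_map (Localization.Away (1 * h))
      (Localization.Away (algebraMap O A (1 * h)))
    have e : (algebraMap A (Localization.Away (algebraMap O A (1 * h)))).comp (algebraMap O A) =
        (IsLocalization.Away.map (Localization.Away (1 * h))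
          (Localization.Away (algebraMap O A (1 * h))) (algebraMap O A) (1 * h)).comp
          (algebraMap O (Localization.Away (1 * h))) := (IsLocalization.map_comp _).symm
    rw [e]
    exact RingHom.Flat.comp
      (RingHom.flat_algebraMap_iff.mpr (IsLocalization.flat _ (Submonoid.powers (1 * h)))) h1
  have hf : algebraMap O A (1 * h) ≠ 0 := fun h0 => hne (Subtype.ext h0)
  apply RingHom.Flat.ofLocalizationSpanTarget _ _ (span_translates_eq_top (k := k) hf)
  rintro ⟨_, g, rfl⟩
  exact flat_translate hO _ g H₀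

end Flat

section Descent

variable {k : Type u} [Field k] {A : Type u} [CommRing A] [HopfAlgebra k A]
variable {O : Subalgebra k A}

local notation "Δₐ" => CoalgebraStruct.comul (R := k) (A := A)
local notation "εₐ" => CoalgebraStruct.counit (R := k) (A := A)

variable (O) in
/-- `a ↦ Σ a₁ ⊗_O S(a₂)`. -/
noncomputable def Γ₁ : A →ₐ[k] A ⊗[O] A :=
  (Algebra.TensorProduct.mapOfCompatibleSMul O k k A A).comp
    ((Algebra.TensorProduct.map (AlgHom.id k A) (HopfAlgebra.antipodeAlgHom k A)).comp
      (Bialgebra.comulAlgHom k A))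

theorem Γ₁_aux (t : O ⊗[k] A) :
    Algebra.TensorProduct.mapOfCompatibleSMul O k k A A
        (Algebra.TensorProduct.map (AlgHom.id k A) (HopfAlgebra.antipodeAlgHom k A)
          (O.val.toLinearMap.rTensor A t)) =
      (1 : A) ⊗ₜ[O] (LinearMap.mul' k A ((HopfAlgebra.antipode k (A := A)).lTensor A
        (O.val.toLinearMap.rTensor A t))) := by
  induction t using TensorProduct.induction_on with
  | zero => simp
  | tmul o a =>
    simp only [LinearMap.rTensor_tmul, AlgHom.toLinearMap_apply, Subalgebra.coe_val,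
      Algebra.TensorProduct.map_tmul, AlgHom.coe_id, id_eq,
      Algebra.TensorProduct.mapOfCompatibleSMul_tmul, LinearMap.lTensor_tmul,
      LinearMap.mul'_apply]
    have h1 : ((o : A) ⊗ₜ[O] (HopfAlgebra.antipodeAlgHom k A a) : A ⊗[O] A) =
        (o • (1 : A)) ⊗ₜ[O] (HopfAlgebra.antipodeAlgHom k A a) := by
      congr 1
      rw [Algebra.smul_def, mul_one]; rfl
    rw [h1, TensorProduct.smul_tmul, Algebra.smul_def]
    rfl
  | add s t hs ht => simp only [map_add, TensorProduct.tmul_add, hs, ht]

theorem Γ₁_of_mem (hO : IsRightCoideal O) {o : A} (ho : o ∈ O) :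
    Γ₁ O o = algebraMap k (A ⊗[O] A) (εₐ o) := by
  obtain ⟨t, ht⟩ := hO o ho
  change Algebra.TensorProduct.mapOfCompatibleSMul O k k A A
    (Algebra.TensorProduct.map (AlgHom.id k A) (HopfAlgebra.antipodeAlgHom k A) (Δₐ o)) = _
  rw [← ht, Γ₁_aux, ht, HopfAlgebra.mul_antipode_lTensor_comul_apply,
    Algebra.TensorProduct.algebraMap_apply, Algebra.algebraMap_eq_smul_one,
    TensorProduct.tmul_smul, TensorProduct.smul_tmul']

theorem tmul_one_eq (hO : IsRightCoideal O) {χ : A} (hχ : IsGroupLikeElem k χ)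
    (hmem : χ - 1 ∈ Ideal.span {a : A | a ∈ O ∧ εₐ a = 0}) :
    χ ⊗ₜ[O] (1 : A) = (1 : A) ⊗ₜ[O] χ := by
  have hker : Ideal.span {a : A | a ∈ O ∧ εₐ a = 0} ≤
      RingHom.ker (Γ₁ O : A →+* A ⊗[O] A) := by
    rw [Ideal.span_le]
    rintro a ⟨haO, hε⟩
    rw [SetLike.mem_coe, RingHom.mem_ker]
    change Γ₁ O a = 0
    rw [Γ₁_of_mem hO haO, hε, map_zero]
  have h1 : Γ₁ O χ = 1 := by
    have h2 : Γ₁ O (χ - 1) = 0 := (RingHom.mem_ker).mp (hker hmem)
    rw [map_sub, map_one, sub_eq_zero] at h2
    exact h2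
  have h3 : Γ₁ O χ = χ ⊗ₜ[O] (HopfAlgebra.antipode k χ) := by
    change Algebra.TensorProduct.mapOfCompatibleSMul O k k A A
      (Algebra.TensorProduct.map (AlgHom.id k A) (HopfAlgebra.antipodeAlgHom k A) (Δₐ χ)) = _
    rw [hχ.comul_eq_tmul_self]
    rfl
  rw [h3] at h1
  have h4 := congrArg (fun z => z * ((1 : A) ⊗ₜ[O] χ)) h1
  simp only [Algebra.TensorProduct.tmul_mul_tmul, mul_one, one_mul,
    hχ.antipode_mul_cancel] at h4
  exact h4

theorem mem_of_tmul_eq [Module.FaithfullyFlat O A] {χ : A}
    (h : χ ⊗ₜ[O] (1 : A) = (1 : A) ⊗ₜ[O] χ) : χ ∈ O := by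
  let N : Submodule O A := LinearMap.range (Algebra.linearMap O A)
  have hinj := Module.FaithfullyFlat.tensorProduct_mk_injective (A := O) (B := A) (A ⧸ N)
  have h1 : N.mkQ (1 : A) = 0 := (Submodule.Quotient.mk_eq_zero N).mpr ⟨1, by simp⟩
  have h0 : TensorProduct.mk O A (A ⧸ N) 1 (N.mkQ χ) = 0 := by
    change (1 : A) ⊗ₜ[O] (N.mkQ χ) = 0
    have h2 := congrArg (N.mkQ.lTensor A) h
    simp only [LinearMap.lTensor_tmul] at h2
    rw [← h2, h1, TensorProduct.tmul_zero]
  have h2 : N.mkQ χ = 0 := hinj (by rw [h0, map_zero])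
  obtain ⟨o, ho⟩ := (Submodule.Quotient.mk_eq_zero N).mp h2
  rw [← ho]
  exact o.2

/-- **Main**: a group-like element congruent to `1` modulo `O₊ A` lies in `O`. -/
theorem mem_of_sub_one_mem [IsAlgClosed k] [Algebra.FiniteType k A] [IsReduced A]
    (hO : IsRightCoideal O)
    (hsurj : Function.Surjective (PrimeSpectrum.comap (algebraMap O A)))
    {χ : A} (hχ : IsGroupLikeElem k χ)
    (hmem : χ - 1 ∈ Ideal.span {a : A | a ∈ O ∧ εₐ a = 0}) : χ ∈ O := by
  haveI : Module.Flat O A := RingHom.flat_algebraMap_iff.mp (flat_val hO)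
  haveI := Module.FaithfullyFlat.of_comap_surjective hsurj
  exact mem_of_tmul_eq (tmul_one_eq hO hχ hmem)

end Descent

end Groth.Agent.H62.CoidealFlat
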