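import Groth.Agent.H74.Coeff3
import Groth.Prelude.Def_ComodTens

/-!
# Lifting and splitting for semisimple comodules; morphisms of direct sums and twists (helper62)
-/

set_option autoImplicit false
universe u v w w' w''

open TensorProduct

namespace Groth.Agent.H62.CompRed

section LL

variable {k : Type u} [Field k] {C : Type v} [AddCommGroup C] [Module k C] [Coalgebra k C]
variable {M : Type w} [AddCommGroup M] [Module k M] [HopfRep.Comod k C M]
variable {N : Type w'} [AddCommGroup N] [Module k N] [HopfRep.Comod k C N]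
variable {V : Type w''} [AddCommGroup V] [Module k V] [HopfRep.Comod k C V]

/-- lifting a comodule map through a comodule map out of a semisimple comodule -/
theorem exists_lift (hM : HopfRep.IsSemisimpleComod k C M) {P : M →ₗ[k] N}
    (hP : Hoch.IsComodHom C P) {f : V →ₗ[k] N} (hf : Hoch.IsComodHom C f)
    (hr : LinearMap.range f ≤ LinearMap.range P) :
    ∃ f' : V →ₗ[k] M, Hoch.IsComodHom C f' ∧ P ∘ₗ f' = f := by
  obtain ⟨W', hW', hc⟩ := hM (LinearMap.ker P) (Groth.Agent.H93.isSubcomod_ker hP)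
  letI := Groth.Agent.H62.subComod W' hW'
  have hsub : Hoch.IsComodHom C W'.subtype := Groth.Agent.H62.isComodHom_subtype W' hW'
  let j : W' →ₗ[k] N := P ∘ₗ W'.subtype
  have hj : Hoch.IsComodHom C j := Groth.Agent.H93.isComodHom_comp hsub hP
  have hjinj : Function.Injective j := by
    intro x y hxy
    have hxy' : P (x : M) = P (y : M) := hxy
    have hk : ((x : M) - (y : M)) ∈ LinearMap.ker P := by
      rw [LinearMap.mem_ker, map_sub, sub_eq_zero]; exact hxy'
    have : ((x : M) - (y : M)) ∈ LinearMap.ker P ⊓ W' :=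
      Submodule.mem_inf.mpr ⟨hk, W'.sub_mem x.2 y.2⟩
    rw [hc.inf_eq_bot, Submodule.mem_bot, sub_eq_zero] at this
    exact Subtype.ext this
  have hrange : LinearMap.range P ≤ LinearMap.range j := by
    rintro _ ⟨x, rfl⟩
    have hx : x ∈ LinearMap.ker P ⊔ W' := by rw [hc.sup_eq_top]; trivial
    obtain ⟨y, hy, z, hz, rfl⟩ := Submodule.mem_sup.mp hx
    refine ⟨⟨z, hz⟩, ?_⟩
    change P z = P (y + z)
    rw [map_add, LinearMap.mem_ker.mp hy, zero_add]
  let e := LinearEquiv.ofInjective j hjinj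
  let g : V →ₗ[k] W' := e.symm.toLinearMap ∘ₗ
    LinearMap.codRestrict (LinearMap.range j) f (fun v => hrange (hr ⟨v, rfl⟩))
  have hjg : j ∘ₗ g = f := by
    ext v
    have := LinearEquiv.apply_symm_apply e
      (LinearMap.codRestrict (LinearMap.range j) f (fun v => hrange (hr ⟨v, rfl⟩)) v)
    exact congrArg Subtype.val this
  have hg : Hoch.IsComodHom C g :=
    Groth.Agent.H74.Coeff.isComodHom_of_comp_injective hj hjinj (by rw [hjg]; exact hf)
  refine ⟨W'.subtype ∘ₗ g, Groth.Agent.H93.isComodHom_comp hg hsub, ?_⟩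
  rw [← LinearMap.comp_assoc]
  exact hjg

/-- the projection onto a subcomodule along a complementary subcomodule is a comodule map -/
theorem isComodHom_ofIsCompl {W W' : Submodule k M}
    (hW : HopfRep.IsSubcomod (k := k) (A := C) W) (hW' : HopfRep.IsSubcomod (k := k) (A := C) W')
    (h : IsCompl W W') :
    Hoch.IsComodHom C (LinearMap.ofIsCompl h W.subtype (0 : W' →ₗ[k] M)) := by
  set P := LinearMap.ofIsCompl h W.subtype (0 : W' →ₗ[k] M) with hP
  have h1 : P ∘ₗ W.subtype = W.subtype := by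
    ext w
    exact LinearMap.ofIsCompl_apply_left h w
  have h2 : P ∘ₗ W'.subtype = 0 := by
    ext w
    have := LinearMap.ofIsCompl_apply_right h (φ := W.subtype) (ψ := (0 : W' →ₗ[k] M)) w
    exact this
  rw [Groth.Agent.H40.isComodHom_iff]
  intro x
  have hx : x ∈ W ⊔ W' := by rw [h.sup_eq_top]; trivial
  obtain ⟨y, hy, z, hz, rfl⟩ := Submodule.mem_sup.mp hx
  obtain ⟨t, ht⟩ := hW y hy
  obtain ⟨s, hs⟩ := hW' z hz
  have e1 : P y = y := LinearMap.congr_fun h1 ⟨y, hy⟩
  have e2 : P z = 0 := LinearMap.congr_fun h2 ⟨z, hz⟩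
  have e3 : P.rTensor C (Groth.Agent.H40.ρ k C M y) = Groth.Agent.H40.ρ k C M y := by
    change P.rTensor C (HopfRep.Comod.coact (k := k) (A := C) y) = HopfRep.Comod.coact (k := k) (A := C) y
    rw [← ht, ← LinearMap.comp_apply, ← LinearMap.rTensor_comp, h1]
  have e4 : P.rTensor C (Groth.Agent.H40.ρ k C M z) = 0 := by
    change P.rTensor C (HopfRep.Comod.coact (k := k) (A := C) z) = 0
    rw [← hs, ← LinearMap.comp_apply, ← LinearMap.rTensor_comp, h2, LinearMap.rTensor_zero,
      LinearMap.zero_apply]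
  have hl : Groth.Agent.H40.ρ k C M (P (y + z)) = Groth.Agent.H40.ρ k C M y := by
    rw [map_add, e1, e2, add_zero]
  have hr : P.rTensor C (Groth.Agent.H40.ρ k C M (y + z)) = Groth.Agent.H40.ρ k C M y := by
    rw [map_add, map_add, e3, e4, add_zero]
  rw [hl, hr]

/-- an injective comodule map into a semisimple comodule has a comodule retraction -/
theorem exists_retraction (hM : HopfRep.IsSemisimpleComod k C M) {i : V →ₗ[k] M}
    (hi : Hoch.IsComodHom C i) (hinj : Function.Injective i) :
    ∃ p : M →ₗ[k] V, Hoch.IsComodHom C p ∧ p ∘ₗ i = LinearMap.id := by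
  have hW := Groth.Agent.H93.isSubcomod_range hi
  obtain ⟨W', hW', hc⟩ := hM _ hW
  set P := LinearMap.ofIsCompl hc (LinearMap.range i).subtype (0 : W' →ₗ[k] M) with hPdef
  have hP : Hoch.IsComodHom C P := isComodHom_ofIsCompl hW hW' hc
  have hPl : ∀ y : LinearMap.range i, P (y : M) = y := fun y =>
    LinearMap.ofIsCompl_apply_left hc y
  have hPr0 : ∀ z : W', P (z : M) = 0 := fun z => by
    have := LinearMap.ofIsCompl_apply_right hc (φ := (LinearMap.range i).subtype)
      (ψ := (0 : W' →ₗ[k] M)) z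
    exact this
  have hPr : ∀ x, P x ∈ LinearMap.range i := by
    intro x
    have hx : x ∈ LinearMap.range i ⊔ W' := by rw [hc.sup_eq_top]; trivial
    obtain ⟨y, hy, z, hz, rfl⟩ := Submodule.mem_sup.mp hx
    rw [map_add, hPl ⟨y, hy⟩, hPr0 ⟨z, hz⟩, add_zero]
    exact hy
  let e := LinearEquiv.ofInjective i hinj
  let p : M →ₗ[k] V := e.symm.toLinearMap ∘ₗ LinearMap.codRestrict (LinearMap.range i) P hPr
  have hip : i ∘ₗ p = P := by
    ext x
    have := LinearEquiv.apply_symm_apply e (LinearMap.codRestrict (LinearMap.range i) P hPr x)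
    exact congrArg Subtype.val this
  have hp : Hoch.IsComodHom C p :=
    Groth.Agent.H74.Coeff.isComodHom_of_comp_injective hi hinj (by rw [hip]; exact hP)
  refine ⟨p, hp, ?_⟩
  ext v
  apply hinj
  have := LinearMap.congr_fun hip (i v)
  rw [LinearMap.comp_apply] at this
  rw [LinearMap.comp_apply, LinearMap.id_apply, this]
  exact hPl ⟨i v, ⟨v, rfl⟩⟩

theorem isComodHom_sum {ι : Type*} (s : Finset ι) (f : ι → V →ₗ[k] N)
    (hf : ∀ i, Hoch.IsComodHom C (f i)) : Hoch.IsComodHom C (∑ i ∈ s, f i) := by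
  rw [Groth.Agent.H40.isComodHom_iff]
  intro v
  have h : ∀ i, Groth.Agent.H40.ρ k C N (f i v) = (f i).rTensor C (Groth.Agent.H40.ρ k C V v) :=
    fun i => (Groth.Agent.H40.isComodHom_iff (f i)).mp (hf i) v
  rw [LinearMap.sum_apply, map_sum]
  simp only [h]
  have : (∑ i ∈ s, f i).rTensor C = ∑ i ∈ s, (f i).rTensor C := by
    exact map_sum (LinearMap.rTensorHom (R := k) C (N := V) (P := N)) f s
  rw [this, LinearMap.sum_apply]

end LL

section Pi

variable {k : Type u} [CommRing k] {A : Type v} [AddCommGroup A] [Module k A] [Coalgebra k A]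
variable {ι : Type w'} [Fintype ι] [DecidableEq ι] {X : ι → Type w} [∀ i, AddCommGroup (X i)]
  [∀ i, Module k (X i)]
variable {V : Type w''} [AddCommGroup V] [Module k V]

theorem isComodHom_proj (c : ∀ i, HopfRep.Comod k A (X i)) (i : ι) :
    @Hoch.IsComodHom k _ A _ _ _ (∀ i, X i) _ _ (ComodTens.Comod.pi c) (X i) _ _ (c i)
      (LinearMap.proj i) := by
  unfold Hoch.IsComodHom
  ext f
  simp only [LinearMap.comp_apply, LinearMap.proj_apply]
  rw [ComodTens.pi_coact, map_sum, Finset.sum_eq_single i]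
  · rw [← LinearMap.comp_apply, ← LinearMap.rTensor_comp, LinearMap.proj_comp_single_same,
      LinearMap.rTensor_id, LinearMap.id_apply]
  · intro j _ hj
    rw [← LinearMap.comp_apply, ← LinearMap.rTensor_comp, LinearMap.proj_comp_single_ne _ _ _ _ hj.symm,
      LinearMap.rTensor_zero, LinearMap.zero_apply]
  · intro h
    exact absurd (Finset.mem_univ i) h

theorem isComodHom_pi (c : ∀ i, HopfRep.Comod k A (X i)) (d : HopfRep.Comod k A V)
    (f : ∀ i, V →ₗ[k] X i)
    (hf : ∀ i, @Hoch.IsComodHom k _ A _ _ _ V _ _ d (X i) _ _ (c i) (f i)) :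
    @Hoch.IsComodHom k _ A _ _ _ V _ _ d (∀ i, X i) _ _ (ComodTens.Comod.pi c)
      (LinearMap.pi f) := by
  unfold Hoch.IsComodHom at hf ⊢
  ext v
  simp only [LinearMap.comp_apply]
  rw [ComodTens.pi_coact]
  have h : ∀ i, (c i).coact (f i v) = (f i).rTensor A (d.coact v) := fun i =>
    LinearMap.congr_fun (hf i) v
  simp only [LinearMap.pi_apply, h]
  have hsum : LinearMap.pi f = ∑ i, LinearMap.single k X i ∘ₗ f i := by
    ext v j
    simp [LinearMap.sum_apply, Pi.single_apply, Finset.sum_apply]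
  have : (LinearMap.pi f).rTensor A = ∑ i, (LinearMap.single k X i ∘ₗ f i).rTensor A := by
    rw [hsum]
    exact map_sum (LinearMap.rTensorHom (R := k) A (N := V) (P := ∀ i, X i))
      (fun i => LinearMap.single k X i ∘ₗ f i) Finset.univ
  rw [this, LinearMap.sum_apply]
  refine Finset.sum_congr rfl fun i _ => ?_
  rw [LinearMap.rTensor_comp, LinearMap.comp_apply]

end Pi

section Twist

variable {k : Type u} [CommRing k] {A : Type v} [CommRing A] [Bialgebra k A]
variable {V : Type w} [AddCommGroup V] [Module k V] {W : Type w'} [AddCommGroup W] [Module k W]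

theorem isComodHom_twist (c : HopfRep.Comod k A V) (d : HopfRep.Comod k A W) (g : A)
    (hg : IsGroupLikeElem k g) (f : V →ₗ[k] W)
    (hf : @Hoch.IsComodHom k _ A _ _ _ V _ _ c W _ _ d f) :
    @Hoch.IsComodHom k _ A _ _ _ V _ _ (ComodTens.Comod.twist c g hg) W _ _
      (ComodTens.Comod.twist d g hg) f := by
  unfold Hoch.IsComodHom at hf ⊢
  ext v
  have h : d.coact (f v) = f.rTensor A (c.coact v) := LinearMap.congr_fun hf v
  simp only [LinearMap.comp_apply]
  rw [ComodTens.twist_coact, ComodTens.twist_coact, h, ComodTens.lTensor_rTensor_comm]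

end Twist

end Groth.Agent.H62.CompRed
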