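import Groth.Agent.H62.BCFlag

/-!
# Pulling chains back from the generic fibre of a flat bialgebra (helper62)
-/

set_option autoImplicit false
universe u

open TensorProduct

namespace Groth.Agent.H62.TriFlag

open Groth.Agent Groth.Agent.H40

section Pull

variable (A : Type u) [CommRing A] (K : Type u) [CommRing K] [Algebra A K]
  (H : Type u) [CommRing H] [Bialgebra A H]

/-- the elements of `H` whose image in `K ⊗ H` lies in `FK` -/
noncomputable def pull (FK : Submodule K (K ⊗[A] H)) : Submodule A H :=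
  (FK.restrictScalars A).comap (iotaS A K H)

variable {A K H}

theorem mem_pull {FK : Submodule K (K ⊗[A] H)} {h : H} :
    h ∈ pull A K H FK ↔ iotaS A K H h ∈ FK := Iff.rfl

theorem pull_mono {FK FK' : Submodule K (K ⊗[A] H)} (h : FK ≤ FK') :
    pull A K H FK ≤ pull A K H FK' := fun _ hx => h hx

variable [Module.Flat A H]

/-- key lemma: membership in `F ⊗ H` can be tested after base change -/
theorem mem_range_of_Psi2_mem (FK : Submodule K (K ⊗[A] H)) (y : H ⊗[A] H)
    (hy : Psi2 A K H y ∈ LinearMap.range (FK.subtype.rTensor (K ⊗[A] H))) :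
    y ∈ LinearMap.range ((pull A K H FK).subtype.rTensor H) := by
  set F := pull A K H FK with hF
  let q : K ⊗[A] H →ₗ[K] (K ⊗[A] H) ⧸ FK := FK.mkQ
  let f : H →ₗ[A] (K ⊗[A] H) ⧸ FK := (q.restrictScalars A) ∘ₗ iotaS A K H
  have hker : LinearMap.ker f = F := by
    ext h
    rw [LinearMap.mem_ker, hF, mem_pull]
    change FK.mkQ (iotaS A K H h) = 0 ↔ _
    rw [Submodule.mkQ_apply, Submodule.Quotient.mk_eq_zero]
  let j : H ⧸ F →ₗ[A] (K ⊗[A] H) ⧸ FK := F.liftQ f (le_of_eq hker.symm)
  have hj : Function.Injective j :=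
    LinearMap.ker_eq_bot.mp (Submodule.ker_liftQ_eq_bot _ _ _ (le_of_eq hker))
  have hjT : Function.Injective (j.rTensor H) :=
    Module.Flat.rTensor_preserves_injective_linearMap j hj
  rw [mem_range_rTensor_subtype_iff]
  apply hjT
  rw [map_zero, ← LinearMap.comp_apply, ← LinearMap.rTensor_comp]
  have hjm : j ∘ₗ F.mkQ = f := Submodule.liftQ_mkQ _ _ _
  rw [hjm]
  -- compare with the base-changed statement
  have hθ : ∀ y : H ⊗[A] H,
      TensorProduct.AlgebraTensorModule.cancelBaseChange A K K ((K ⊗[A] H) ⧸ FK) H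
        (q.rTensor (K ⊗[A] H) (Psi2 A K H y)) = f.rTensor H y := by
    intro y
    induction y using TensorProduct.induction_on with
    | zero => simp
    | add y z hy hz => rw [map_add, map_add, map_add, map_add, hy, hz]
    | tmul h₁ h₂ =>
      rw [Psi2_tmul, LinearMap.rTensor_tmul, iotaS_apply, iotaS_apply,
        TensorProduct.AlgebraTensorModule.cancelBaseChange_tmul, one_smul, LinearMap.rTensor_tmul]
      rfl
  rw [← hθ]
  have h0 : q.rTensor (K ⊗[A] H) (Psi2 A K H y) = 0 :=
    (mem_range_rTensor_subtype_iff FK _).mp hy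
  rw [h0, map_zero]

theorem sub_pull {FK : Submodule K (K ⊗[A] H)}
    (hFK : ∀ x ∈ FK, CoalgebraStruct.comul (R := K) x ∈
      LinearMap.range (FK.subtype.rTensor (K ⊗[A] H))) :
    ∀ n ∈ pull A K H FK, CoalgebraStruct.comul (R := A) n ∈
      LinearMap.range ((pull A K H FK).subtype.rTensor H) := by
  intro n hn
  apply mem_range_of_Psi2_mem
  rw [← comul_iotaS]
  exact hFK _ hn

theorem triv_pull {FK FK' : Submodule K (K ⊗[A] H)}
    (hFK : ∀ x ∈ FK', CoalgebraStruct.comul (R := K) x - x ⊗ₜ[K] (1 : K ⊗[A] H) ∈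
      LinearMap.range (FK.subtype.rTensor (K ⊗[A] H))) :
    ∀ n ∈ pull A K H FK', CoalgebraStruct.comul (R := A) n - n ⊗ₜ[A] (1 : H) ∈
      LinearMap.range ((pull A K H FK).subtype.rTensor H) := by
  intro n hn
  apply mem_range_of_Psi2_mem
  rw [map_sub, ← comul_iotaS, Psi2_tmul, iotaS_one]
  exact hFK _ hn

end Pull

section Frac

variable {A : Type u} [CommRing A] [IsDomain A] [ValuationRing A] {K : Type u} [Field K]
  [Algebra A K] [IsFractionRing A K] {H : Type u} [CommRing H] [Bialgebra A H]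

theorem dep_pull {FK FK' : Submodule K (K ⊗[A] H)}
    (hdep : ∀ x ∈ FK', ∀ y ∈ FK', Dep FK x y) :
    ∀ x ∈ pull A K H FK', ∀ y ∈ pull A K H FK', ∃ a b : A, (IsUnit a ∨ IsUnit b) ∧
      a • x + b • y ∈ pull A K H FK := by
  intro x hx y hy
  obtain ⟨α, β, hαβ, hmem⟩ := hdep _ hx _ hy
  obtain ⟨a₁, s₁, hs₁, rfl⟩ := IsFractionRing.div_surjective A α
  obtain ⟨b₁, s₂, hs₂, rfl⟩ := IsFractionRing.div_surjective A β
  have hs₁0 : algebraMap A K s₁ ≠ 0 :=
    (map_ne_zero_iff _ (IsFractionRing.injective A K)).mpr (nonZeroDivisors.ne_zero hs₁)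
  have hs₂0 : algebraMap A K s₂ ≠ 0 :=
    (map_ne_zero_iff _ (IsFractionRing.injective A K)).mpr (nonZeroDivisors.ne_zero hs₂)
  -- clear denominators
  have hmem2 : algebraMap A K (a₁ * s₂) • iotaS A K H x + algebraMap A K (b₁ * s₁) • iotaS A K H y
      ∈ FK := by
    have := FK.smul_mem (algebraMap A K s₁ * algebraMap A K s₂) hmem
    rw [smul_add, smul_smul, smul_smul] at this
    have e1 : algebraMap A K s₁ * algebraMap A K s₂ * (algebraMap A K a₁ / algebraMap A K s₁) =
        algebraMap A K (a₁ * s₂) := by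
      rw [map_mul]; field_simp
    have e2 : algebraMap A K s₁ * algebraMap A K s₂ * (algebraMap A K b₁ / algebraMap A K s₂) =
        algebraMap A K (b₁ * s₁) := by
      rw [map_mul]; field_simp
    rw [e1, e2] at this
    exact this
  have hne : a₁ * s₂ ≠ 0 ∨ b₁ * s₁ ≠ 0 := by
    rcases hαβ with h | h
    · left
      have ha₁ : a₁ ≠ 0 := by
        intro h0
        apply h
        rw [h0, map_zero, zero_div]
      exact mul_ne_zero ha₁ (nonZeroDivisors.ne_zero hs₂)
    · right
      have hb₁ : b₁ ≠ 0 := by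
        intro h0
        apply h
        rw [h0, map_zero, zero_div]
      exact mul_ne_zero hb₁ (nonZeroDivisors.ne_zero hs₁)
  generalize a₁ * s₂ = a' at hmem2 hne
  generalize b₁ * s₁ = b' at hmem2 hne
  rcases ValuationRing.dvd_total a' b' with ⟨c, hc⟩ | ⟨c, hc⟩
  · -- b' = a' * c
    have ha' : a' ≠ 0 := by
      intro h0
      rcases hne with h | h
      · exact h h0
      · apply h; rw [hc, h0, zero_mul]
    have ha'K : algebraMap A K a' ≠ 0 :=
      (map_ne_zero_iff _ (IsFractionRing.injective A K)).mpr ha'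
    refine ⟨1, c, Or.inl isUnit_one, ?_⟩
    rw [mem_pull, map_add, map_smul, map_smul, one_smul]
    have := FK.smul_mem (algebraMap A K a')⁻¹ hmem2
    rw [hc, map_mul, smul_add, smul_smul, smul_smul, inv_mul_cancel₀ ha'K, ← mul_assoc,
      inv_mul_cancel₀ ha'K, one_mul, one_smul, algebraMap_smul] at this
    exact this
  · -- a' = b' * c
    have hb' : b' ≠ 0 := by
      intro h0
      rcases hne with h | h
      · apply h; rw [hc, h0, zero_mul]
      · exact h h0
    have hb'K : algebraMap A K b' ≠ 0 :=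
      (map_ne_zero_iff _ (IsFractionRing.injective A K)).mpr hb'
    refine ⟨c, 1, Or.inr isUnit_one, ?_⟩
    rw [mem_pull, map_add, map_smul, map_smul, one_smul]
    have := FK.smul_mem (algebraMap A K b')⁻¹ hmem2
    rw [hc, map_mul, smul_add, smul_smul, smul_smul, inv_mul_cancel₀ hb'K, ← mul_assoc,
      inv_mul_cancel₀ hb'K, one_mul, one_smul, algebraMap_smul] at this
    exact this

variable [Module.Flat A H]

theorem iotaS_injective : Function.Injective (iotaS A K H) := by
  have h1 : Function.Injective ((Algebra.linearMap A K).rTensor H) :=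
    Module.Flat.rTensor_preserves_injective_linearMap _ (IsFractionRing.injective A K)
  intro x y hxy
  have h2 : (Algebra.linearMap A K).rTensor H ((1 : A) ⊗ₜ[A] x) =
      (Algebra.linearMap A K).rTensor H ((1 : A) ⊗ₜ[A] y) := by
    simpa using hxy
  have h3 := h1 h2
  have h4 := congrArg (TensorProduct.lid A H) h3
  simpa using h4

theorem pull_bot : pull A K H (⊥ : Submodule K (K ⊗[A] H)) = ⊥ := by
  rw [eq_bot_iff]
  intro x hx
  rw [mem_pull, Submodule.mem_bot] at hx
  rw [Submodule.mem_bot]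
  exact iotaS_injective (A := A) (K := K) (H := H) (by rw [hx, map_zero])

end Frac

end Groth.Agent.H62.TriFlag
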