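import Groth.Agent.H82.ComodDual

/-!
# helper62: the contragredient comodule for a finite projective module over a commutative ring
(generalises `Groth.Agent.H82.dualComod`, which is over a field).
-/

set_option autoImplicit false
set_option linter.unusedSectionVars false
set_option warn.classDefReducibility false

namespace Groth.Agent.H62.DualProj

open TensorProduct
open Groth.Agent.H82 (antipode_comul)

universe u v w

section Dual

variable {k : Type u} [CommRing k] {A : Type v} [CommRing A] [HopfAlgebra k A]
  {V : Type w} [AddCommGroup V] [Module k V] [Module.Finite k V] [Module.Projective k V]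

local notation "S'" => HopfAlgebraStruct.antipode (R := k) (A := A)
local notation "Δ'" => CoalgebraStruct.comul (R := k) (A := A)
local notation "ε'" => CoalgebraStruct.counit (R := k) (A := A)

/-- `dualCoactFun` as a linear map in the form. -/
noncomputable def dualCoactLin (c : HopfRep.Comod k A V) :
    Module.Dual k V →ₗ[k] (V →ₗ[k] A) where
  toFun := ComodTens.dualCoactFun c
  map_add' := ComodTens.dualCoactFun_add c
  map_smul' := fun r f => ComodTens.dualCoactFun_smul c r f

/-- The contragredient coaction. -/
noncomputable def dualCoact (c : HopfRep.Comod k A V) :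
    Module.Dual k V →ₗ[k] Module.Dual k V ⊗[k] A :=
  (LinearEquiv.ofBijective (dualTensorHom k V A) dualTensorHom_bijective).symm.toLinearMap ∘ₗ dualCoactLin c

theorem dualTensorHom_dualCoact (c : HopfRep.Comod k A V) (f : Module.Dual k V) :
    dualTensorHom k V A (dualCoact c f) = ComodTens.dualCoactFun c f := by
  have h := (LinearEquiv.ofBijective (dualTensorHom k V A) dualTensorHom_bijective).apply_symm_apply
    (ComodTens.dualCoactFun c f)
  exact h

theorem counit_dualTensorHom (x : Module.Dual k V ⊗[k] A) (v : V) :
    (TensorProduct.rid k (Module.Dual k V) ((ε').lTensor (Module.Dual k V) x)) v =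
      ε' (dualTensorHom k V A x v) := by
  induction x using TensorProduct.induction_on with
  | zero => simp
  | tmul φ a => simp [mul_comm]
  | add x y hx hy => simp only [map_add, LinearMap.add_apply, hx, hy]

theorem counit_lid_map (f : Module.Dual k V) (y : V ⊗[k] A) :
    ε' (TensorProduct.lid k A (TensorProduct.map f (S') y)) =
      f (TensorProduct.rid k V ((ε').lTensor V y)) := by
  induction y using TensorProduct.induction_on with
  | zero => simp
  | tmul w a => simp [mul_comm]
  | add x y hx hy => simp only [map_add, hx, hy]

theorem comul_dualTensorHom (x : Module.Dual k V ⊗[k] A) (v : V) :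
    dualTensorHom k V (A ⊗[k] A) ((Δ').lTensor (Module.Dual k V) x) v =
      Δ' (dualTensorHom k V A x v) := by
  induction x using TensorProduct.induction_on with
  | zero => simp
  | tmul φ a => simp
  | add x y hx hy => simp only [map_add, LinearMap.add_apply, hx, hy]

theorem dualTensorHom_assoc_tmul (z : Module.Dual k V ⊗[k] A) (a : A) (v : V) :
    dualTensorHom k V (A ⊗[k] A) (TensorProduct.assoc k (Module.Dual k V) A A (z ⊗ₜ[k] a)) v =
      (dualTensorHom k V A z v) ⊗ₜ[k] a := by
  induction z using TensorProduct.induction_on with
  | zero => simp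
  | tmul ψ b => simp [TensorProduct.smul_tmul']
  | add x y hx hy =>
    simp only [TensorProduct.add_tmul, map_add, LinearMap.add_apply, hx, hy]

theorem lid_map_tmul (φ : Module.Dual k V) (a : A) (y : V ⊗[k] A) :
    (TensorProduct.lid k A (TensorProduct.map φ (S') y)) ⊗ₜ[k] a =
      TensorProduct.map (S') (dualTensorHom k V A (φ ⊗ₜ[k] a)) (TensorProduct.comm k V A y) := by
  induction y using TensorProduct.induction_on with
  | zero => simp
  | tmul w b => simp [TensorProduct.smul_tmul]
  | add x y hx hy => simp only [map_add, TensorProduct.add_tmul, hx, hy]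

theorem dualTensorHom_assoc_rTensor (c : HopfRep.Comod k A V) (x : Module.Dual k V ⊗[k] A)
    (v : V) :
    dualTensorHom k V (A ⊗[k] A) (TensorProduct.assoc k (Module.Dual k V) A A
      ((dualCoact c).rTensor A x)) v =
      TensorProduct.map (S') (dualTensorHom k V A x) (TensorProduct.comm k V A (c.coact v)) := by
  induction x using TensorProduct.induction_on with
  | zero => simp
  | tmul φ a =>
    rw [LinearMap.rTensor_tmul, dualTensorHom_assoc_tmul, dualTensorHom_dualCoact,
      ComodTens.dualCoactFun_apply]
    exact lid_map_tmul φ a (c.coact v)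
  | add x y hx hy =>
    simp only [map_add, LinearMap.add_apply, hx, hy, TensorProduct.map_add_right]

/-- auxiliary map `(V ⊗ A) ⊗ A → A ⊗ A`, `(y ⊗ b) ↦ S b ⊗ lid ((f ⊗ S) y)`. -/
noncomputable def auxP (f : Module.Dual k V) : (V ⊗[k] A) ⊗[k] A →ₗ[k] A ⊗[k] A :=
  TensorProduct.map (S') ((TensorProduct.lid k A).toLinearMap ∘ₗ TensorProduct.map f (S')) ∘ₗ
    (TensorProduct.comm k (V ⊗[k] A) A).toLinearMap

/-- auxiliary map `V ⊗ (A ⊗ A) → A ⊗ A`, `w ⊗ (a ⊗ b) ↦ f w • (S b ⊗ S a)`. -/
noncomputable def auxQ (f : Module.Dual k V) : V ⊗[k] (A ⊗[k] A) →ₗ[k] A ⊗[k] A :=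
  (TensorProduct.lid k (A ⊗[k] A)).toLinearMap ∘ₗ
    TensorProduct.map f (TensorProduct.map (S') (S') ∘ₗ (TensorProduct.comm k A A).toLinearMap)

theorem auxP_rTensor (c : HopfRep.Comod k A V) (f : Module.Dual k V) (y : V ⊗[k] A) :
    TensorProduct.map (S') (ComodTens.dualCoactFun c f) (TensorProduct.comm k V A y) =
      auxP f (c.coact.rTensor A y) := by
  induction y using TensorProduct.induction_on with
  | zero => simp
  | tmul w b => simp [auxP, ComodTens.dualCoactFun_apply]
  | add x y hx hy => simp only [map_add, hx, hy]

theorem auxP_assoc_symm (f : Module.Dual k V) (t : V ⊗[k] (A ⊗[k] A)) :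
    auxP f ((TensorProduct.assoc k V A A).symm t) = auxQ f t := by
  induction t using TensorProduct.induction_on with
  | zero => simp
  | tmul w z =>
    induction z using TensorProduct.induction_on with
    | zero => simp
    | tmul a b => simp [auxP, auxQ, TensorProduct.tmul_smul]
    | add x y hx hy => simp only [TensorProduct.tmul_add, map_add, hx, hy]
  | add x y hx hy => simp only [map_add, hx, hy]

theorem comul_lid_map (f : Module.Dual k V) (y : V ⊗[k] A) :
    Δ' (TensorProduct.lid k A (TensorProduct.map f (S') y)) =
      auxQ f ((Δ').lTensor V y) := by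
  induction y using TensorProduct.induction_on with
  | zero => simp
  | tmul w a => simp [auxQ, antipode_comul]
  | add x y hx hy => simp only [map_add, hx, hy]

/-- The contragredient comodule structure. -/
noncomputable def dualComod (c : HopfRep.Comod k A V) : HopfRep.Comod k A (Module.Dual k V) where
  coact := dualCoact c
  coassoc := by
    apply LinearMap.ext
    intro f
    apply (dualTensorHom_bijective (R := k) (M := V) (N := A ⊗[k] A)).1
    apply LinearMap.ext
    intro v
    simp only [LinearMap.comp_apply, LinearEquiv.coe_coe]
    rw [dualTensorHom_assoc_rTensor, comul_dualTensorHom, dualTensorHom_dualCoact,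
      ComodTens.dualCoactFun_apply, comul_lid_map, auxP_rTensor]
    have hco := congrArg (fun L => L v) c.coassoc
    simp only [LinearMap.comp_apply, LinearEquiv.coe_coe] at hco
    rw [← hco, ← auxP_assoc_symm, LinearEquiv.symm_apply_apply]
  counit_comp := by
    apply LinearMap.ext
    intro f
    apply (TensorProduct.rid k (Module.Dual k V)).injective
    apply LinearMap.ext
    intro v
    simp only [LinearMap.comp_apply]
    rw [counit_dualTensorHom, dualTensorHom_dualCoact, ComodTens.dualCoactFun_apply,
      counit_lid_map]
    have hcu := congrArg (fun L => L v) c.counit_comp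
    simp only [LinearMap.comp_apply] at hcu
    rw [hcu]
    simp

theorem isDual_dualComod (c : HopfRep.Comod k A V) : ComodTens.Comod.IsDual c (dualComod c) :=
  fun f => dualTensorHom_dualCoact c f

end Dual

end Groth.Agent.H62.DualProj
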