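import Groth.Prelude.Def_Dyn
import Mathlib

/-!
# Helper library for the "dynamic method" statements (`Dyn.*`)

Points of `Spec A` with values in `C` form the convolution group `WithConv (A →ₐ[k] C)`.
The conjugated orbit is a group homomorphism, the predicates `LimExists`/`LimIsOne` are subgroups,
and an ideal representing a subgroup functor is a Hopf ideal.
-/

set_option autoImplicit false
universe u

open LaurentPolynomial TensorProduct WithConv

namespace Groth.Agent.H62.DynL

variable {k : Type u} [CommRing k] {A : Type u} [CommRing A] [HopfAlgebra k A]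

/-- The convolution group of points with values in any commutative algebra (Mathlib's instance
asks for a bialgebra structure on the target, which is not needed). -/
@[reducible] noncomputable def grp (C : Type u) [CommRing C] [Algebra k C] :
    Group (WithConv (A →ₐ[k] C)) :=
  { (inferInstance : Monoid (WithConv (A →ₐ[k] C))) with
    inv := fun f => toConv (f.ofConv.comp (HopfAlgebra.antipodeAlgHom k A))
    inv_mul_cancel := fun f => by
      have H : (Algebra.TensorProduct.lmul' k).comp (Algebra.TensorProduct.map f.ofConv f.ofConv) =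
        f.ofConv.comp (Algebra.TensorProduct.lmul' k) := by ext <;> simp
      change toConv ((Algebra.TensorProduct.lmul' k).comp
        ((Algebra.TensorProduct.map (f.ofConv.comp (HopfAlgebra.antipodeAlgHom k A)) f.ofConv).comp
          (Bialgebra.comulAlgHom k A))) = 1
      trans toConv <| ((Algebra.TensorProduct.lmul' k).comp
        (Algebra.TensorProduct.map f.ofConv f.ofConv)).comp
        ((Algebra.TensorProduct.map
        (HopfAlgebra.antipodeAlgHom k A) (.id _ _)).comp (Bialgebra.comulAlgHom k A))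
      · rw [AlgHom.comp_assoc, ← AlgHom.comp_assoc (Algebra.TensorProduct.map f.ofConv f.ofConv),
          ← Algebra.TensorProduct.map_comp]; rfl
      rw [H, AlgHom.comp_assoc, WithConv.ext_iff, ← AlgHom.toLinearMap_injective.eq_iff]
      change f.ofConv.toLinearMap.comp
          (toConv (HopfAlgebraStruct.antipode k (A := A)) * toConv LinearMap.id).ofConv =
        ofConv (1 : WithConv <| A →ₗ[k] C)
      rw [LinearMap.antipode_mul_id]
      ext
      simp }

attribute [local instance] grp

theorem inv_def {C : Type u} [CommRing C] [Algebra k C] (f : WithConv (A →ₐ[k] C)) :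
    f⁻¹ = toConv (f.ofConv.comp (HopfAlgebra.antipodeAlgHom k A)) := rfl

/-- `conv3` is the triple product in the convolution group. -/
theorem conv3_eq {C : Type u} [CommRing C] [Algebra k C] (f g h : A →ₐ[k] C) :
    Dyn.conv3 k A f g h = (toConv f * toConv g * toConv h).ofConv := by
  simp only [AlgHom.convMul_def, Dyn.conv3]
  have : Algebra.TensorProduct.map ((Algebra.TensorProduct.lmul' k).comp
        ((Algebra.TensorProduct.map f g).comp (Bialgebra.comulAlgHom k A))) h =
      (Algebra.TensorProduct.map ((Algebra.TensorProduct.lmul' (S := C) k).comp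
        (Algebra.TensorProduct.map f g)) h).comp
        (Algebra.TensorProduct.map (Bialgebra.comulAlgHom k A) (AlgHom.id k A)) := by
    rw [← Algebra.TensorProduct.map_comp, AlgHom.comp_id, AlgHom.comp_assoc]
  simp only [this, AlgHom.comp_assoc]

/-- Post-composition with an algebra map, as a homomorphism of convolution groups. -/
noncomputable def postComp {C C' : Type u} [CommRing C] [Algebra k C] [CommRing C'] [Algebra k C']
    (φ : C →ₐ[k] C') : WithConv (A →ₐ[k] C) →* WithConv (A →ₐ[k] C') where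
  toFun f := toConv (φ.comp f.ofConv)
  map_one' := by
    apply WithConv.ofConv_injective
    ext a
    simp [AlgHom.convOne_def]
  map_mul' f g := by
    apply WithConv.ofConv_injective
    rw [WithConv.ofConv_toConv, AlgHom.comp_convMul_distrib]

@[simp] theorem postComp_apply {C C' : Type u} [CommRing C] [Algebra k C] [CommRing C']
    [Algebra k C'] (φ : C →ₐ[k] C') (f : WithConv (A →ₐ[k] C)) :
    postComp φ f = toConv (φ.comp f.ofConv) := rfl

theorem postComp_comp {C C' C'' : Type u} [CommRing C] [Algebra k C] [CommRing C'] [Algebra k C']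
    [CommRing C''] [Algebra k C''] (φ : C →ₐ[k] C') (ψ : C' →ₐ[k] C'')
    (f : WithConv (A →ₐ[k] C)) :
    postComp ψ (postComp φ f) = postComp (ψ.comp φ) f := rfl


section Laurent
open Polynomial
variable {R : Type u} [CommRing R]

theorem coeff_toLaurent_neg (f : R[X]) (n : ℤ) (hn : n < 0) : (toLaurent f).coeff n = 0 := by
  rw [LaurentPolynomial.coeff_toLaurent]
  apply Finsupp.mapDomain_of_notMem_range
  rintro ⟨m, hm⟩
  simp at hm
  omega

theorem mem_range_toLaurent_iff (p : R[T;T⁻¹]) :
    p ∈ Set.range (toLaurent (R := R)) ↔ ∀ n : ℤ, n < 0 → p.coeff n = 0 := by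
  constructor
  · rintro ⟨f, rfl⟩ n hn
    exact coeff_toLaurent_neg f n hn
  · intro h
    rw [← AddMonoidAlgebra.sum_coeff_single p, Finsupp.sum]
    suffices hs : (∑ a ∈ p.coeff.support, AddMonoidAlgebra.single a (p.coeff a)) ∈
        (toLaurent (R := R)).rangeS from hs
    refine Subsemiring.sum_mem _ fun n hn => ?_
    have hn0 : 0 ≤ n := by
      by_contra hlt
      push Not at hlt
      exact (Finsupp.mem_support_iff.mp hn) (h n hlt)
    lift n to ℕ using hn0
    refine ⟨Polynomial.monomial n (p.coeff n), ?_⟩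
    rw [← Polynomial.C_mul_X_pow_eq_monomial, Polynomial.toLaurent_C_mul_X_pow,
      ← LaurentPolynomial.single_eq_C_mul_T]

theorem coeff_toLaurent_zero (f : R[X]) : (toLaurent f).coeff 0 = f.coeff 0 := by
  rw [LaurentPolynomial.coeff_toLaurent]
  have : (0 : ℤ) = Nat.castEmbedding (0 : ℕ) := rfl
  rw [this, Finsupp.mapDomain_apply Nat.castEmbedding.injective]
  rfl

end Laurent

section Conj
open Polynomial
variable (lam : A →ₐc[k] k[T;T⁻¹]) (R : Type u) [CommRing R] [Algebra k R]

/-- The point `λ` over `R`, in the convolution group. -/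
noncomputable def Lpt : WithConv (A →ₐ[k] R[T;T⁻¹]) := toConv (Dyn.lamR k A lam R)

/-- Constants `R → R[T;T⁻¹]`. -/
noncomputable def iota : R →ₐ[k] R[T;T⁻¹] := IsScalarTower.toAlgHom k R R[T;T⁻¹]

/-- `R[X] → R[T;T⁻¹]` as a `k`-algebra map. -/
noncomputable def Tk : R[X] →ₐ[k] R[T;T⁻¹] := (Polynomial.toLaurentAlg (R := R)).restrictScalars k

/-- Evaluation at `0`, `R[X] → R`, as a `k`-algebra map. -/
noncomputable def ev0 : R[X] →ₐ[k] R := (Polynomial.aeval (R := R) (0 : R)).restrictScalars k

/-- The conjugated orbit `g ↦ λ g λ⁻¹`, as a homomorphism of convolution groups. -/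
noncomputable def conjHom : WithConv (A →ₐ[k] R) →* WithConv (A →ₐ[k] R[T;T⁻¹]) :=
  (MulAut.conj (Lpt lam R)).toMonoidHom.comp (postComp (iota R))

theorem conjHom_apply (g : WithConv (A →ₐ[k] R)) :
    conjHom lam R g = Lpt lam R * postComp (iota R) g * (Lpt lam R)⁻¹ := rfl

theorem conjOrbit_eq (g : A →ₐ[k] R) :
    Dyn.conjOrbit k A lam R g = (conjHom lam R (toConv g)).ofConv := by
  rw [Dyn.conjOrbit, conv3_eq, conjHom_apply]
  rfl

variable {R} in
/-- Naturality of the conjugated orbit in the coefficient ring. -/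
theorem conjHom_natural {R' : Type u} [CommRing R'] [Algebra k R'] (φ : R →ₐ[k] R')
    (g : WithConv (A →ₐ[k] R)) :
    postComp (AddMonoidAlgebra.mapAlgHom ℤ φ) (conjHom lam R g) =
      conjHom lam R' (postComp φ g) := by
  rw [conjHom_apply, conjHom_apply, map_mul, map_mul, map_inv]
  have h1 : postComp (AddMonoidAlgebra.mapAlgHom ℤ φ) (Lpt lam R) = Lpt lam R' := by
    apply WithConv.ofConv_injective
    simp only [postComp_apply, Lpt, WithConv.ofConv_toConv, Dyn.lamR]
    rw [← AlgHom.comp_assoc, ← AddMonoidAlgebra.mapRangeAlgHom_comp, Algebra.comp_ofId]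
  have h2 : postComp (AddMonoidAlgebra.mapAlgHom ℤ φ) (postComp (iota R) g) =
      postComp (iota R') (postComp φ g) := by
    have hcomp : (AddMonoidAlgebra.mapAlgHom ℤ φ).comp (iota (k := k) R) =
        (iota (k := k) R').comp φ := by
      ext r : 1
      simp only [iota, AlgHom.comp_apply, IsScalarTower.coe_toAlgHom']
      rw [LaurentPolynomial.algebraMap_apply, LaurentPolynomial.algebraMap_apply]
      simp only [Algebra.algebraMap_self, RingHom.id_apply]
      rw [← LaurentPolynomial.single_eq_C, ← LaurentPolynomial.single_eq_C,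
        AddMonoidAlgebra.mapAlgHom_single]
    rw [postComp_comp, postComp_comp, hcomp]
  rw [h1, h2]

/-- The universal conjugated orbit `A → A[T;T⁻¹]`. -/
noncomputable def univ : A →ₐ[k] A[T;T⁻¹] := Dyn.conjOrbit k A lam A (AlgHom.id k A)

theorem conjOrbit_eq_univ (g : A →ₐ[k] R) :
    Dyn.conjOrbit k A lam R g = (AddMonoidAlgebra.mapAlgHom ℤ g).comp (univ lam) := by
  rw [univ, conjOrbit_eq, conjOrbit_eq]
  have := conjHom_natural lam g (toConv (AlgHom.id k A))
  rw [postComp_apply, postComp_apply] at this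
  simp only [AlgHom.comp_id] at this
  rw [← this]

theorem coeff_conjOrbit (g : A →ₐ[k] R) (a : A) (n : ℤ) :
    (Dyn.conjOrbit k A lam R g a).coeff n = g ((univ lam a).coeff n) := by
  rw [conjOrbit_eq_univ, AlgHom.comp_apply, AddMonoidAlgebra.coeff_mapAlgHom]

end Conj


section Lim
open Polynomial
variable (lam : A →ₐc[k] k[T;T⁻¹]) (R : Type u) [CommRing R] [Algebra k R]

theorem Tk_injective : Function.Injective (Tk (k := k) R) := Polynomial.toLaurent_injective

theorem limExists_iff_coeff (g : A →ₐ[k] R) :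
    Dyn.LimExists k A lam R g ↔ ∀ (a : A) (n : ℤ), n < 0 → g ((univ lam a).coeff n) = 0 := by
  constructor
  · rintro ⟨h, hh⟩ a n hn
    rw [← coeff_conjOrbit, ← hh]
    exact coeff_toLaurent_neg (h a) n hn
  · intro H
    have hmem : ∀ a, Dyn.conjOrbit k A lam R g a ∈ (Tk (k := k) R).range := by
      intro a
      have : Dyn.conjOrbit k A lam R g a ∈ Set.range (toLaurent (R := R)) := by
        rw [mem_range_toLaurent_iff]
        intro n hn
        rw [coeff_conjOrbit]; exact H a n hn
      obtain ⟨f, hf⟩ := this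
      exact ⟨f, hf⟩
    let e := AlgEquiv.ofInjective (Tk (k := k) R) (Tk_injective R)
    refine ⟨(e.symm : _ →ₐ[k] _).comp ((Dyn.conjOrbit k A lam R g).codRestrict _ hmem), ?_⟩
    ext a : 1
    have h1 := e.apply_symm_apply ((Dyn.conjOrbit k A lam R g).codRestrict _ hmem a)
    have h2 := congrArg Subtype.val h1
    exact h2

/-- The subgroup of points whose conjugated orbit has a limit at `0`. -/
noncomputable def limExistsSubgroup : Subgroup (WithConv (A →ₐ[k] R)) :=
  ((postComp (A := A) (Tk (k := k) R)).range).comap (conjHom lam R)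

theorem limExists_iff_mem (g : A →ₐ[k] R) :
    Dyn.LimExists k A lam R g ↔ toConv g ∈ limExistsSubgroup lam R := by
  rw [limExistsSubgroup, Subgroup.mem_comap, MonoidHom.mem_range]
  unfold Dyn.LimExists
  constructor
  · rintro ⟨h, hh⟩
    refine ⟨toConv h, ?_⟩
    apply WithConv.ofConv_injective
    rw [postComp_apply, ← conjOrbit_eq, ← hh]; rfl
  · rintro ⟨h, hh⟩
    refine ⟨h.ofConv, ?_⟩
    rw [conjOrbit_eq, ← hh]; rfl

/-- The subgroup of points whose conjugated orbit tends to the identity at `0`. -/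
noncomputable def limIsOneSubgroup : Subgroup (WithConv (A →ₐ[k] R)) :=
  (((postComp (A := A) (ev0 (k := k) R)).ker).map (postComp (Tk (k := k) R))).comap
    (conjHom lam R)

theorem limIsOne_iff_mem (g : A →ₐ[k] R) :
    Dyn.LimIsOne k A lam R g ↔ toConv g ∈ limIsOneSubgroup lam R := by
  rw [limIsOneSubgroup, Subgroup.mem_comap, Subgroup.mem_map]
  unfold Dyn.LimIsOne
  constructor
  · rintro ⟨h, hh, h0⟩
    refine ⟨toConv h, ?_, ?_⟩
    · rw [MonoidHom.mem_ker]
      apply WithConv.ofConv_injective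
      rw [postComp_apply]
      exact h0
    · apply WithConv.ofConv_injective
      rw [postComp_apply, ← conjOrbit_eq, ← hh]; rfl
  · rintro ⟨h, h0, hh⟩
    refine ⟨h.ofConv, ?_, ?_⟩
    · rw [conjOrbit_eq, ← hh]; rfl
    · rw [MonoidHom.mem_ker] at h0
      exact congrArg WithConv.ofConv h0

theorem limIsOne_iff_coeff (g : A →ₐ[k] R) :
    Dyn.LimIsOne k A lam R g ↔ (∀ (a : A) (n : ℤ), n < 0 → g ((univ lam a).coeff n) = 0) ∧
      ∀ a : A, g ((univ lam a).coeff 0) = algebraMap k R (CoalgebraStruct.counit (R := k) a) := by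
  have hev : ∀ (h : A →ₐ[k] R[X]) (a : A), ((Tk (k := k) R) (h a)).coeff 0 =
      (ev0 (k := k) R) (h a) := by
    intro h a
    change (toLaurent (h a)).coeff 0 = Polynomial.aeval (0 : R) (h a)
    rw [coeff_toLaurent_zero, Polynomial.coeff_zero_eq_aeval_zero]
  constructor
  · rintro ⟨h, hh, h0⟩
    refine ⟨(limExists_iff_coeff lam R g).mp ⟨h, hh⟩, fun a => ?_⟩
    rw [← coeff_conjOrbit, ← hh]
    have := hev h a
    rw [AlgHom.comp_apply]
    change ((Tk (k := k) R) (h a)).coeff 0 = _
    rw [this]
    exact AlgHom.congr_fun h0 a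
  · rintro ⟨H1, H2⟩
    obtain ⟨h, hh⟩ := (limExists_iff_coeff lam R g).mpr H1
    refine ⟨h, hh, ?_⟩
    ext a : 1
    have := hev h a
    change (ev0 (k := k) R) (h a) = algebraMap k R (CoalgebraStruct.counit (R := k) a)
    rw [← this, ← H2 a, ← coeff_conjOrbit, ← hh]
    rfl

end Lim

section HopfIdeal

/-- An ideal whose functor of points is a subgroup functor is a Hopf ideal. -/
theorem isHopfIdeal_of_subgroup (J : Ideal A)
    (H : ∀ (R : Type u) [CommRing R] [Algebra k R], Subgroup (WithConv (A →ₐ[k] R)))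
    (hJ : ∀ (R : Type u) [CommRing R] [Algebra k R] (g : A →ₐ[k] R),
      (∀ a ∈ J, g a = 0) ↔ toConv g ∈ H R) :
    J.IsHopfIdeal k := by
  have hcounit : ∀ ⦃x : A⦄, x ∈ J.restrictScalars k → CoalgebraStruct.counit (R := k) x = 0 := by
    intro x hx
    have h1 : toConv ((Algebra.ofId k k).comp (Bialgebra.counitAlgHom k A)) ∈ H k :=
      (H k).one_mem
    have := (hJ k _).mpr h1 x hx
    simpa using this
  have hcomul : ∀ ⦃x : A⦄, x ∈ J.restrictScalars k →
      (Algebra.TensorProduct.map (Ideal.Quotient.mkₐ k J) (Ideal.Quotient.mkₐ k J))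
        (CoalgebraStruct.comul (R := k) x) = 0 := by
    intro x hx
    let p1 : A →ₐ[k] (A ⧸ J) ⊗[k] (A ⧸ J) :=
      Algebra.TensorProduct.includeLeft.comp (Ideal.Quotient.mkₐ k J)
    let p2 : A →ₐ[k] (A ⧸ J) ⊗[k] (A ⧸ J) :=
      Algebra.TensorProduct.includeRight.comp (Ideal.Quotient.mkₐ k J)
    have hp1 : toConv p1 ∈ H _ := by
      rw [← hJ]
      intro a ha
      simp only [p1, AlgHom.comp_apply, Ideal.Quotient.mkₐ_eq_mk,
        Ideal.Quotient.eq_zero_iff_mem.mpr ha, map_zero]
    have hp2 : toConv p2 ∈ H _ := by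
      rw [← hJ]
      intro a ha
      simp only [p2, AlgHom.comp_apply, Ideal.Quotient.mkₐ_eq_mk,
        Ideal.Quotient.eq_zero_iff_mem.mpr ha, map_zero]
    have h12 := (hJ _ _).mpr ((H _).mul_mem hp1 hp2) x hx
    have hmap : (toConv p1 * toConv p2).ofConv =
        (Algebra.TensorProduct.map (Ideal.Quotient.mkₐ k J) (Ideal.Quotient.mkₐ k J)).comp
          (Bialgebra.comulAlgHom k A) := by
      rw [AlgHom.convMul_def, WithConv.ofConv_toConv, ← AlgHom.comp_assoc]
      congr 1
      ext a <;> simp [p1, p2]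
    have h12' : (toConv p1 * toConv p2).ofConv x = 0 := h12
    rw [hmap] at h12'
    exact h12'
  have hanti : ∀ ⦃x : A⦄, x ∈ J → HopfAlgebraStruct.antipode k x ∈ J := by
    intro x hx
    have hmk : toConv (Ideal.Quotient.mkₐ k J) ∈ H (A ⧸ J) := by
      rw [← hJ]
      intro a ha
      rw [Ideal.Quotient.mkₐ_eq_mk, Ideal.Quotient.eq_zero_iff_mem.mpr ha]
    have := (hJ _ _).mpr ((H _).inv_mem hmk) x hx
    exact Ideal.Quotient.eq_zero_iff_mem.mp this
  exact { counit_eq_zero := hcounit
          map_mkQ_comul_eq_zero := hcomul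
          antipode_mem := hanti }

end HopfIdeal


section Ideals
variable (lam : A →ₐc[k] k[T;T⁻¹])

theorem forall_mem_span_iff {R : Type u} [CommRing R] [Algebra k R] (S : Set A) (g : A →ₐ[k] R) :
    (∀ a ∈ Ideal.span S, g a = 0) ↔ ∀ a ∈ S, g a = 0 := by
  constructor
  · intro h a ha
    exact h a (Ideal.subset_span ha)
  · intro h
    have : Ideal.span S ≤ RingHom.ker (g : A →+* R) := by
      rw [Ideal.span_le]
      intro a ha
      exact h a ha
    intro a ha
    exact this ha

/-- The ideal cutting out the points whose conjugated orbit has a limit at `0`. -/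
noncomputable def limExistsIdeal : Ideal A :=
  Ideal.span {x | ∃ (a : A) (n : ℤ), n < 0 ∧ x = (univ lam a).coeff n}

theorem represents_limExistsIdeal :
    Dyn.Represents k A (limExistsIdeal lam) (fun R _ _ g => Dyn.LimExists k A lam R g) := by
  intro R _ _ g
  change _ ↔ Dyn.LimExists k A lam R g
  rw [limExistsIdeal, forall_mem_span_iff, limExists_iff_coeff]
  constructor
  · intro h a n hn
    exact h _ ⟨a, n, hn, rfl⟩
  · rintro h _ ⟨a, n, hn, rfl⟩
    exact h a n hn

theorem isHopfIdeal_of_represents_limExists (J : Ideal A)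
    (hJ : Dyn.Represents k A J (fun R _ _ g => Dyn.LimExists k A lam R g)) : J.IsHopfIdeal k :=
  isHopfIdeal_of_subgroup J (fun R _ _ => limExistsSubgroup lam R)
    (fun R _ _ g => (hJ R g).trans (limExists_iff_mem lam R g))

/-- The ideal cutting out the points whose conjugated orbit tends to the identity at `0`. -/
noncomputable def limIsOneIdeal : Ideal A :=
  Ideal.span ({x | ∃ (a : A) (n : ℤ), n < 0 ∧ x = (univ lam a).coeff n} ∪
    {x | ∃ a : A, x = (univ lam a).coeff 0 - algebraMap k A (CoalgebraStruct.counit (R := k) a)})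

theorem represents_limIsOneIdeal :
    Dyn.Represents k A (limIsOneIdeal lam) (fun R _ _ g => Dyn.LimIsOne k A lam R g) := by
  intro R _ _ g
  change _ ↔ Dyn.LimIsOne k A lam R g
  rw [limIsOneIdeal, forall_mem_span_iff, limIsOne_iff_coeff]
  constructor
  · intro h
    refine ⟨fun a n hn => h _ (Or.inl ⟨a, n, hn, rfl⟩), fun a => ?_⟩
    have := h _ (Or.inr ⟨a, rfl⟩)
    rw [map_sub, sub_eq_zero, AlgHom.commutes] at this
    exact this
  · rintro ⟨h1, h2⟩ x (⟨a, n, hn, rfl⟩ | ⟨a, rfl⟩)
    · exact h1 a n hn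
    · rw [map_sub, sub_eq_zero, AlgHom.commutes]
      exact h2 a

theorem isHopfIdeal_of_represents_limIsOne (J : Ideal A)
    (hJ : Dyn.Represents k A J (fun R _ _ g => Dyn.LimIsOne k A lam R g)) : J.IsHopfIdeal k :=
  isHopfIdeal_of_subgroup J (fun R _ _ => limIsOneSubgroup lam R)
    (fun R _ _ g => (hJ R g).trans (limIsOne_iff_mem lam R g))

end Ideals


section Centralizer
variable (lam : A →ₐc[k] k[T;T⁻¹]) (R : Type u) [CommRing R] [Algebra k R]

/-- Evaluation at `T = 1` (the counit of `R[T;T⁻¹]`), as a `k`-algebra map. -/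
noncomputable def ev1 : R[T;T⁻¹] →ₐ[k] R :=
  (Bialgebra.counitAlgHom R R[T;T⁻¹]).restrictScalars k

/-- `T ↦ T⁻¹`, as a `k`-algebra map. -/
noncomputable def invertK : R[T;T⁻¹] →ₐ[k] R[T;T⁻¹] :=
  ((LaurentPolynomial.invert (R := R) : R[T;T⁻¹] ≃ₐ[R] R[T;T⁻¹]) : R[T;T⁻¹] →ₐ[R] R[T;T⁻¹]).restrictScalars k

theorem ev1_comp_iota : (ev1 (k := k) R).comp (iota R) = AlgHom.id k R := by
  ext r
  change CoalgebraStruct.counit (R := R) (algebraMap R R[T;T⁻¹] r) = r
  rw [LaurentPolynomial.algebraMap_apply]
  simp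

theorem ev1_comp_lamR : (ev1 (k := k) R).comp (Dyn.lamR k A lam R) =
    (Algebra.ofId k R).comp (Bialgebra.counitAlgHom k A) := by
  have h1 : (ev1 (k := k) R).comp (AddMonoidAlgebra.mapAlgHom ℤ (Algebra.ofId k R)) =
      (Algebra.ofId k R).comp (Bialgebra.counitAlgHom k k[T;T⁻¹]) := by
    refine AddMonoidAlgebra.algHom_ext (fun n => ?_) (Subsingleton.elim _ _)
    change CoalgebraStruct.counit (R := R)
        (AddMonoidAlgebra.mapAlgHom ℤ (Algebra.ofId k R) (AddMonoidAlgebra.single n 1)) =
      algebraMap k R (CoalgebraStruct.counit (R := k) (AddMonoidAlgebra.single n (1 : k)))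
    rw [AddMonoidAlgebra.mapAlgHom_single, AddMonoidAlgebra.counit_single,
      AddMonoidAlgebra.counit_single]
    simp
  rw [Dyn.lamR, ← AlgHom.comp_assoc, h1, AlgHom.comp_assoc]
  congr 1
  ext a
  exact CoalgHomClass.counit_comp_apply lam a

theorem postComp_ev1_conjHom (g : WithConv (A →ₐ[k] R)) :
    postComp (ev1 (k := k) R) (conjHom lam R g) = g := by
  rw [conjHom_apply, map_mul, map_mul, map_inv, postComp_comp, ev1_comp_iota]
  have h1 : postComp (ev1 (k := k) R) (Lpt lam R) = 1 := by
    apply WithConv.ofConv_injective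
    rw [postComp_apply, Lpt, WithConv.ofConv_toConv, ev1_comp_lamR]
    rfl
  rw [h1, inv_one, mul_one, one_mul]
  rfl

theorem eq_C_of_coeff {p : R[T;T⁻¹]} (h : ∀ n : ℤ, n ≠ 0 → p.coeff n = 0) :
    p = LaurentPolynomial.C (p.coeff 0) := by
  ext n
  rw [LaurentPolynomial.C_apply]
  split_ifs with hn
  · rw [hn]
  · exact h n hn

theorem ev1_C (r : R) : ev1 (k := k) R (LaurentPolynomial.C r) = r := by
  change CoalgebraStruct.counit (R := R) (LaurentPolynomial.C r) = r
  simp

theorem conjOrbit_eq_iota_iff (g : A →ₐ[k] R) :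
    Dyn.conjOrbit k A lam R g = (iota R).comp g ↔
      ∀ (a : A) (n : ℤ), n ≠ 0 → g ((univ lam a).coeff n) = 0 := by
  constructor
  · intro h a n hn
    rw [← coeff_conjOrbit, h, AlgHom.comp_apply]
    change (algebraMap R R[T;T⁻¹] (g a)).coeff n = 0
    rw [LaurentPolynomial.algebraMap_apply]
    simp only [Algebra.algebraMap_self, RingHom.id_apply]
    rw [LaurentPolynomial.C_apply, if_neg hn]
  · intro h
    ext a : 1
    have h1 : Dyn.conjOrbit k A lam R g a =
        LaurentPolynomial.C ((Dyn.conjOrbit k A lam R g a).coeff 0) :=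
      eq_C_of_coeff R (fun n hn => by rw [coeff_conjOrbit]; exact h a n hn)
    have h2 : ev1 (k := k) R (Dyn.conjOrbit k A lam R g a) = g a := by
      have := postComp_ev1_conjHom lam R (toConv g)
      have h3 := congrArg WithConv.ofConv this
      rw [postComp_apply, WithConv.ofConv_toConv, ← conjOrbit_eq] at h3
      exact AlgHom.congr_fun h3 a
    rw [h1, ev1_C] at h2
    rw [h1, h2, AlgHom.comp_apply]
    change _ = algebraMap R R[T;T⁻¹] (g a)
    rw [LaurentPolynomial.algebraMap_apply]
    simp

theorem invertK_comp_iota : (invertK (k := k) R).comp (iota R) = iota R := by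
  ext r : 1
  change LaurentPolynomial.invert (algebraMap R R[T;T⁻¹] r) = algebraMap R R[T;T⁻¹] r
  rw [LaurentPolynomial.algebraMap_apply]
  simp

theorem invertK_comp_mapAlgHom {R' : Type u} [CommRing R'] [Algebra k R'] (φ : R →ₐ[k] R') :
    (invertK (k := k) R').comp (AddMonoidAlgebra.mapAlgHom ℤ φ) =
      (AddMonoidAlgebra.mapAlgHom ℤ φ).comp (invertK (k := k) R) := by
  refine AlgHom.ext fun p => LaurentPolynomial.ext fun n => ?_
  change (LaurentPolynomial.invert (AddMonoidAlgebra.mapAlgHom ℤ φ p)).coeff n =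
    (AddMonoidAlgebra.mapAlgHom ℤ φ (LaurentPolynomial.invert p)).coeff n
  rw [LaurentPolynomial.invert_apply, AddMonoidAlgebra.coeff_mapAlgHom,
    AddMonoidAlgebra.coeff_mapAlgHom, LaurentPolynomial.invert_apply]

variable (lamNeg : A →ₐc[k] k[T;T⁻¹])
  (hneg : (lamNeg : A →ₐ[k] k[T;T⁻¹]) = Dyn.negParam k A lam)

include hneg in
theorem conjHom_neg (g : WithConv (A →ₐ[k] R)) :
    conjHom lamNeg R g = postComp (invertK (k := k) R) (conjHom lam R g) := by
  rw [conjHom_apply, conjHom_apply, map_mul, map_mul, map_inv, postComp_comp, invertK_comp_iota]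
  have h1 : Lpt lamNeg R = postComp (invertK (k := k) R) (Lpt lam R) := by
    apply WithConv.ofConv_injective
    rw [postComp_apply, Lpt, Lpt, WithConv.ofConv_toConv, WithConv.ofConv_toConv, Dyn.lamR, hneg,
      Dyn.negParam, Dyn.lamR, ← AlgHom.comp_assoc, ← AlgHom.comp_assoc]
    congr 1
    exact (invertK_comp_mapAlgHom (k := k) k (Algebra.ofId k R)).symm
  rw [h1]

include hneg in
theorem coeff_univ_neg (a : A) (n : ℤ) :
    (univ lamNeg a).coeff n = (univ lam a).coeff (-n) := by
  have h := conjHom_neg lam A lamNeg hneg (toConv (AlgHom.id k A))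
  have h2 := congrArg WithConv.ofConv h
  rw [postComp_apply, WithConv.ofConv_toConv, ← conjOrbit_eq, ← conjOrbit_eq] at h2
  have h3 := AlgHom.congr_fun h2 a
  rw [univ, h3, AlgHom.comp_apply]
  change (LaurentPolynomial.invert _).coeff n = _
  rw [LaurentPolynomial.invert_apply]
  rfl

include hneg in
theorem limExists_and_limExists_neg_iff (g : A →ₐ[k] R) :
    (Dyn.LimExists k A lam R g ∧ Dyn.LimExists k A lamNeg R g) ↔
      Dyn.conjOrbit k A lam R g = (iota R).comp g := by
  rw [limExists_iff_coeff, limExists_iff_coeff, conjOrbit_eq_iota_iff]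
  constructor
  · rintro ⟨h1, h2⟩ a n hn
    rcases lt_or_gt_of_ne hn with hlt | hgt
    · exact h1 a n hlt
    · have := h2 a (-n) (by omega)
      rw [coeff_univ_neg lam lamNeg hneg, neg_neg] at this
      exact this
  · intro h
    refine ⟨fun a n hn => h a n (by omega), fun a n hn => ?_⟩
    rw [coeff_univ_neg lam lamNeg hneg]
    exact h a (-n) (by omega)

end Centralizer

end Groth.Agent.H62.DynL
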