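import Mathlib
import Groth.Agent.H62.CatQuotB

/-!
# Equivariant Zariski main theorem, part A: scheme/commutative algebra input (Mathlib only)
-/

set_option autoImplicit false
universe u
open CategoryTheory AlgebraicGeometry

namespace Groth.Agent.H62.EquivZMTa

/-- A ring map which is injective and becomes surjective after inverting each of finitely many
elements generating the unit ideal upstairs is an open immersion on spectra. -/
theorem isOpenImmersion_of_saturation {B R : Type u} [CommRing B] [CommRing R] (φ : B →+* R)
    (hφ : Function.Injective φ) {ι : Type} (r : ι → B)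
    (hspan : Ideal.span (Set.range fun i => φ (r i)) = ⊤)
    (hsat : ∀ (i : ι) (x : R), ∃ (m : ℕ) (b : B), φ b = φ (r i) ^ m * x) :
    IsOpenImmersion (Spec.map (CommRingCat.ofHom φ)) := by
  let 𝒰 := (Scheme.affineOpenCoverOfSpanRangeEqTop (R := CommRingCat.of R)
    (fun i => φ (r i)) hspan).openCover
  refine IsOpenImmersion.of_openCover_source _ 𝒰 ?_ ?_
  · -- injectivity
    intro p q hpq
    have hpq' : PrimeSpectrum.comap φ p = PrimeSpectrum.comap φ q := hpq
    have key : ∀ p q : PrimeSpectrum R, PrimeSpectrum.comap φ p = PrimeSpectrum.comap φ q →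
        p.asIdeal ≤ q.asIdeal := by
      intro p q hpq x hx
      have hex : ∃ i, φ (r i) ∉ q.asIdeal := by
        by_contra h
        push Not at h
        apply q.2.ne_top
        rw [← top_le_iff, ← hspan, Ideal.span_le, Set.range_subset_iff]
        exact h
      obtain ⟨i, hi⟩ := hex
      obtain ⟨m, b, hb⟩ := hsat i x
      have hbp : b ∈ (PrimeSpectrum.comap φ p).asIdeal := by
        change φ b ∈ p.asIdeal
        rw [hb]
        exact Ideal.mul_mem_left _ _ hx
      rw [hpq] at hbp
      have hbq : φ b ∈ q.asIdeal := hbp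
      rw [hb] at hbq
      rcases q.2.mem_or_mem hbq with h | h
      · exact absurd (q.2.mem_of_pow_mem _ h) hi
      · exact h
    exact PrimeSpectrum.ext (le_antisymm (key p q hpq') (key q p hpq'.symm))
  · intro i
    change IsOpenImmersion (Spec.map (CommRingCat.ofHom
      (algebraMap R (Localization.Away (φ (r i))))) ≫ Spec.map (CommRingCat.ofHom φ))
    rw [← CatQuotB.away_square φ (r i)]
    have hbij : Function.Bijective (Localization.awayMap φ (r i)) := by
      refine ⟨IsLocalization.map_injective_of_injective _ _ _ hφ, ?_⟩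
      rw [Localization.awayMap_surjective_iff]
      intro x
      obtain ⟨m, b, hb⟩ := hsat i x
      exact ⟨b, m, hb⟩
    haveI : IsIso (CommRingCat.ofHom (Localization.awayMap φ (r i))) := by
      rw [ConcreteCategory.isIso_iff_bijective]
      exact hbij
    infer_instance

/-- Zariski's main theorem, packaged: finitely many integral elements generating the unit ideal,
each of which moves every element into the integral closure after multiplication by a power. -/
theorem exists_zmt_data (S R : Type u) [CommRing S] [CommRing R] [Algebra S R]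
    [Algebra.FiniteType S R] [Algebra.QuasiFinite S R] :
    ∃ (n : ℕ) (r : Fin n → R), (∀ i, IsIntegral S (r i)) ∧ Ideal.span (Set.range r) = ⊤ ∧
      ∀ (i : Fin n) (x : R), ∃ m : ℕ, IsIntegral S (r i ^ m * x) := by
  let T : Set R := {r | IsIntegral S r ∧ ∀ x : R, ∃ m : ℕ, IsIntegral S (r ^ m * x)}
  have hT : Ideal.span T = ⊤ := by
    by_contra hne
    obtain ⟨M, hM, hle⟩ := Ideal.exists_le_maximal _ hne
    haveI := hM.isPrime
    have hz : Algebra.ZariskisMainProperty S M := Algebra.ZariskisMainProperty.of_finiteType M
    obtain ⟨r, hrM, hr, hsat⟩ := Algebra.zariskisMainProperty_iff.mp hz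
    exact hrM (hle (Ideal.subset_span ⟨hr, hsat⟩))
  obtain ⟨s', hs', hspan⟩ := (Ideal.span_eq_top_iff_finite T).mp hT
  refine ⟨s'.card, fun i => (s'.equivFin.symm i : R), ?_, ?_, ?_⟩
  · intro i
    exact (hs' (s'.equivFin.symm i).2).1
  · have : Set.range (fun i => (s'.equivFin.symm i : R)) = (s' : Set R) := by
      ext x
      constructor
      · rintro ⟨i, rfl⟩
        exact (s'.equivFin.symm i).2
      · intro hx
        exact ⟨s'.equivFin ⟨x, hx⟩, by simp⟩
    rw [this, hspan]
  · intro i x
    exact (hs' (s'.equivFin.symm i).2).2 x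

/-- Zariski's main theorem, subalgebra form: there is a finite set `w` of elements integral over `S`
such that every injective ring map `φ : B → R` whose image contains the image of `S` and `w`
induces an open immersion on spectra. -/
theorem exists_finset_forall_isOpenImmersion (S R : Type u) [CommRing S] [CommRing R] [Algebra S R]
    [Algebra.FiniteType S R] [Algebra.QuasiFinite S R] :
    ∃ w : Finset R, (∀ x ∈ w, IsIntegral S x) ∧
      ∀ (B : Type u) [CommRing B] (φ : B →+* R), Function.Injective φ →
        (∀ s : S, algebraMap S R s ∈ φ.range) → (∀ x ∈ w, x ∈ φ.range) →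
        IsOpenImmersion (Spec.map (CommRingCat.ofHom φ)) := by
  classical
  obtain ⟨n, r, hint, hspan, hsat⟩ := exists_zmt_data S R
  obtain ⟨g, hg⟩ := (Algebra.FiniteType.out : (⊤ : Subalgebra S R).FG)
  choose m hm using hsat
  refine ⟨Finset.image r Finset.univ ∪
    (Finset.univ ×ˢ g).image (fun p : Fin n × R => r p.1 ^ m p.1 p.2 * p.2), ?_, ?_⟩
  · intro x hx
    rw [Finset.mem_union, Finset.mem_image, Finset.mem_image] at hx
    rcases hx with ⟨i, -, rfl⟩ | ⟨⟨i, y⟩, -, rfl⟩
    · exact hint i
    · exact hm i y
  · intro B _ φ hφ hS hw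
    have hr : ∀ i, r i ∈ φ.range := fun i =>
      hw _ (Finset.mem_union_left _ (Finset.mem_image.mpr ⟨i, Finset.mem_univ _, rfl⟩))
    choose b hb using hr
    let B'' : Subalgebra S R := { φ.range.toSubsemiring with algebraMap_mem' := hS }
    have hmemB : ∀ x : R, x ∈ B'' ↔ x ∈ φ.range := fun x => Iff.rfl
    refine isOpenImmersion_of_saturation φ hφ b ?_ ?_
    · have : (fun i => φ (b i)) = r := funext hb
      rw [this, hspan]
    · intro i x
      have hle : Submonoid.powers (r i) ≤ B''.toSubmonoid := by
        rw [Submonoid.powers_le]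
        exact (hmemB _).mpr ⟨b i, hb i⟩
      have htop : B''.saturation (Submonoid.powers (r i)) hle = ⊤ := by
        rw [← top_le_iff, ← hg, Algebra.adjoin_le_iff]
        intro y hy
        refine ⟨r i ^ m i y, ⟨m i y, rfl⟩, ?_⟩
        exact (hmemB _).mpr (hw _ (Finset.mem_union_right _
          (Finset.mem_image.mpr ⟨(i, y), Finset.mem_product.mpr ⟨Finset.mem_univ _, hy⟩, rfl⟩)))
      have hx : x ∈ B''.saturation (Submonoid.powers (r i)) hle := by
        rw [htop]
        exact Algebra.mem_top
      obtain ⟨_, ⟨m', rfl⟩, hmx⟩ := hx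
      obtain ⟨b', hb'⟩ := (hmemB _).mp hmx
      exact ⟨m', b', by rw [hb', hb i]⟩

end Groth.Agent.H62.EquivZMTa
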