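import Mathlib
import Groth.Agent.H62.OrbitSep
import Groth.Agent.H1.FinHopf.Cartier
import Groth.Agent.S11794
import Groth.Agent.S11795

/-!
# `G`-linearisations of the trivial line bundle are given by characters
-/

set_option autoImplicit false
universe u
open TensorProduct

namespace Groth.Agent.H62.LinTriv

open Groth.Agent

section Sep

variable {k : Type u} [Field k] {R A : Type u} [CommRing R] [Algebra k R] [CommRing A] [Algebra k A]

/-- Evaluation at a pair of points. -/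
noncomputable def ev (x : R →ₐ[k] k) (g : A →ₐ[k] k) : R ⊗[k] A →ₐ[k] k :=
  Algebra.TensorProduct.lift x g (fun _ _ => Commute.all _ _)

@[simp] theorem ev_tmul (x : R →ₐ[k] k) (g : A →ₐ[k] k) (r : R) (a : A) :
    ev x g (r ⊗ₜ[k] a) = x r * g a := by
  simp [ev]

/-- Slice along a point of `A`. -/
noncomputable def sliceR (g : A →ₐ[k] k) : R ⊗[k] A →ₐ[k] R :=
  Algebra.TensorProduct.lift (AlgHom.id k R) ((Algebra.ofId k R).comp g)
    (fun _ _ => Commute.all _ _)

@[simp] theorem sliceR_tmul (g : A →ₐ[k] k) (r : R) (a : A) :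
    sliceR g (r ⊗ₜ[k] a) = g a • r := by
  simp [sliceR, Algebra.smul_def, mul_comm, Algebra.ofId_apply]

/-- Slice along a point of `R`. -/
noncomputable def sliceA (x : R →ₐ[k] k) : R ⊗[k] A →ₐ[k] A :=
  Algebra.TensorProduct.lift ((Algebra.ofId k A).comp x) (AlgHom.id k A)
    (fun _ _ => Commute.all _ _)

@[simp] theorem sliceA_tmul (x : R →ₐ[k] k) (r : R) (a : A) :
    sliceA x (r ⊗ₜ[k] a) = x r • a := by
  simp [sliceA, Algebra.smul_def, Algebra.ofId_apply]

theorem apply_sliceR (x : R →ₐ[k] k) (g : A →ₐ[k] k) (t : R ⊗[k] A) :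
    x (sliceR g t) = ev x g t := by
  induction t using TensorProduct.induction_on with
  | zero => simp
  | tmul r a => simp [mul_comm]
  | add s t hs ht => simp only [map_add, hs, ht]

theorem apply_sliceA (x : R →ₐ[k] k) (g : A →ₐ[k] k) (t : R ⊗[k] A) :
    g (sliceA x t) = ev x g t := by
  induction t using TensorProduct.induction_on with
  | zero => simp
  | tmul r a => simp
  | add s t hs ht => simp only [map_add, hs, ht]

/-- Slice along a linear functional on `A`. -/
noncomputable def sliceL (ℓ : A →ₗ[k] k) : R ⊗[k] A →ₗ[k] R :=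
  (TensorProduct.rid k R).toLinearMap ∘ₗ ℓ.lTensor R

@[simp] theorem sliceL_tmul (ℓ : A →ₗ[k] k) (r : R) (a : A) :
    sliceL ℓ (r ⊗ₜ[k] a) = ℓ a • r := by
  simp [sliceL]

theorem apply_sliceL (x : R →ₐ[k] k) (ℓ : A →ₗ[k] k) (t : R ⊗[k] A) :
    x (sliceL ℓ t) = ℓ (sliceA x t) := by
  induction t using TensorProduct.induction_on with
  | zero => simp
  | tmul r a => simp [mul_comm]
  | add s t hs ht => simp only [map_add, hs, ht]

theorem isUnit_of_forall_point [IsAlgClosed k] [Algebra.FiniteType k R] (r : R)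
    (h : ∀ x : R →ₐ[k] k, x r ≠ 0) : IsUnit r := by
  by_contra hr
  obtain ⟨M, hM, hrM⟩ := exists_max_ideal_of_mem_nonunits (show r ∈ nonunits R from hr)
  obtain ⟨x, hx⟩ := S11795.exists_point_of_isMaximal k R M hM
  exact h x (hx r hrM)

/-- Points of `R ⊗ A` separate elements (both factors reduced of finite type, `k` algebraically
closed). -/
theorem eq_zero_of_forall_ev [IsAlgClosed k] [Algebra.FiniteType k R] [Algebra.FiniteType k A]
    [IsReduced R] [IsReduced A] (t : R ⊗[k] A)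
    (h : ∀ (x : R →ₐ[k] k) (g : A →ₐ[k] k), ev x g t = 0) : t = 0 := by
  classical
  have h1 : ∀ g : A →ₐ[k] k, sliceR g t = 0 := by
    intro g
    have := S11794.isNilpotent_of_forall_point k R (sliceR g t)
      (fun x => by rw [apply_sliceR]; exact h x g)
    exact this.eq_zero
  let ℬ := Module.Basis.ofVectorSpace k R
  let e := TensorProduct.equivFinsuppOfBasisLeft (N := A) ℬ
  apply e.injective
  rw [map_zero]
  ext i
  rw [Finsupp.zero_apply]
  have h2 : ∀ g : A →ₐ[k] k, g (e t i) = 0 := by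
    intro g
    have h3 : ∀ s : R ⊗[k] A, g (e s i) = ℬ.coord i (sliceR g s) := by
      intro s
      induction s using TensorProduct.induction_on with
      | zero => simp
      | tmul r a =>
        simp only [e, TensorProduct.equivFinsuppOfBasisLeft_apply_tmul_apply, sliceR_tmul, map_smul,
          Module.Basis.coord_apply, smul_eq_mul]
        rw [mul_comm]
      | add s t hs ht => simp only [map_add, Finsupp.add_apply, hs, ht]
    rw [h3, h1, map_zero]
  exact (S11794.isNilpotent_of_forall_point k A _ h2).eq_zero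

theorem exists_fg_slice (t : R ⊗[k] A) :
    ∃ W : Submodule k A, W.FG ∧ ∀ x : R →ₐ[k] k, sliceA x t ∈ W := by
  induction t using TensorProduct.induction_on with
  | zero => exact ⟨⊥, Submodule.fg_bot, fun x => by simp⟩
  | tmul r a =>
    refine ⟨Submodule.span k {a}, Submodule.fg_span_singleton a, fun x => ?_⟩
    rw [sliceA_tmul]
    exact Submodule.smul_mem _ _ (Submodule.mem_span_singleton_self a)
  | add s t hs ht =>
    obtain ⟨W₁, h₁, h₁'⟩ := hs
    obtain ⟨W₂, h₂, h₂'⟩ := ht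
    refine ⟨W₁ ⊔ W₂, h₁.sup h₂, fun x => ?_⟩
    rw [map_add]
    exact Submodule.add_mem_sup (h₁' x) (h₂' x)

end Sep

section Cocycle

variable {k : Type u} [Field k] {A : Type u} [CommRing A] [HopfAlgebra k A]
  {R : Type u} [CommRing R] [Algebra k R] [HopfRep.Comod k A R] [GLin.IsCoactAlg k A R]

local notation "ρ" => HopfRep.Comod.coact (k := k) (A := A) (V := R)

omit [GLin.IsCoactAlg k A R] [HopfRep.Comod k A R] in
theorem ev_lid_rTensor (x : R →ₐ[k] k) (g : A →ₐ[k] k) (t : R ⊗[k] A) :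
    g (TensorProduct.lid k A (x.toLinearMap.rTensor A t)) = ev x g t := by
  induction t using TensorProduct.induction_on with
  | zero => simp
  | tmul r a => simp
  | add s t hs ht => simp only [map_add, hs, ht]

theorem ev_coact (x : R →ₐ[k] k) (g : A →ₐ[k] k) (r : R) :
    ev x g (ρ r) = GLin.actPt k g x r := by
  change _ = g (GLin.orbitHom k A x r)
  rw [S11794.orbitHom_apply, S11794.oLin_apply, ev_lid_rTensor]

/-- Evaluation at a triple of points. -/
noncomputable def ev3 (x : R →ₐ[k] k) (g h : A →ₐ[k] k) : R ⊗[k] (A ⊗[k] A) →ₐ[k] k :=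
  Algebra.TensorProduct.lift x
    ((Algebra.TensorProduct.lmul' k).comp (Algebra.TensorProduct.map g h))
    (fun _ _ => Commute.all _ _)

omit [GLin.IsCoactAlg k A R] [HopfRep.Comod k A R] in
theorem ev3_assoc_tmul (x : R →ₐ[k] k) (g h : A →ₐ[k] k) (u : R ⊗[k] A) (a : A) :
    ev3 x g h (TensorProduct.assoc k R A A (u ⊗ₜ[k] a)) = ev x g u * h a := by
  induction u using TensorProduct.induction_on with
  | zero => simp
  | tmul r b => simp [ev3, mul_assoc]
  | add s t hs ht => simp only [add_tmul, map_add, hs, ht, add_mul]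

omit [GLin.IsCoactAlg k A R] [HopfRep.Comod k A R] in
theorem ev3_lTensor_comul (x : R →ₐ[k] k) (g h : A →ₐ[k] k) (t : R ⊗[k] A) :
    ev3 x g h ((CoalgebraStruct.comul (R := k) (A := A)).lTensor R t) =
      ev x (OrbitSep.conv g h) t := by
  induction t using TensorProduct.induction_on with
  | zero => simp
  | tmul r a =>
    simp only [LinearMap.lTensor_tmul, ev3, Algebra.TensorProduct.lift_tmul, ev_tmul]
    rfl
  | add s t hs ht => simp only [map_add, hs, ht]

variable (θ : R ⊗[k] A)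

theorem ev3_assoc_rTensor (x : R →ₐ[k] k) (g h : A →ₐ[k] k) (t : R ⊗[k] A) :
    ev3 x g h (TensorProduct.assoc k R A A
        (((LinearMap.mulRight k θ) ∘ₗ ρ).rTensor A t)) =
      ev (GLin.actPt k g x) h t * ev x g θ := by
  induction t using TensorProduct.induction_on with
  | zero => simp
  | tmul r a =>
    rw [LinearMap.rTensor_tmul, ev3_assoc_tmul, LinearMap.comp_apply, LinearMap.mulRight_apply,
      map_mul, ev_coact, ev_tmul]
    ring
  | add s t hs ht => simp only [map_add, hs, ht, add_mul]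

theorem mulRight_coact_one : ((LinearMap.mulRight k θ) ∘ₗ ρ) 1 = θ := by
  rw [LinearMap.comp_apply, LinearMap.mulRight_apply,
    GLin.IsCoactAlg.coact_one (k := k) (A := A) (R := R), one_mul]

theorem cocycle
    (hassoc : (TensorProduct.assoc k R A A).toLinearMap ∘ₗ
        ((LinearMap.mulRight k θ) ∘ₗ ρ).rTensor A ∘ₗ ((LinearMap.mulRight k θ) ∘ₗ ρ) =
      (CoalgebraStruct.comul (R := k) (A := A)).lTensor R ∘ₗ ((LinearMap.mulRight k θ) ∘ₗ ρ))
    (x : R →ₐ[k] k) (g h : A →ₐ[k] k) :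
    ev (GLin.actPt k g x) h θ * ev x g θ = ev x (OrbitSep.conv g h) θ := by
  have h1 := LinearMap.congr_fun hassoc 1
  have e := mulRight_coact_one (k := k) (A := A) θ
  rw [LinearMap.comp_apply] at e
  simp only [LinearMap.comp_apply] at h1
  rw [e] at h1
  have h2 := congrArg (ev3 x g h) h1
  rw [ev3_lTensor_comul] at h2
  rw [← h2]
  exact (ev3_assoc_rTensor θ x g h θ).symm

omit [GLin.IsCoactAlg k A R] [HopfRep.Comod k A R] in
theorem ev_counit_aux (x : R →ₐ[k] k) (t : R ⊗[k] A) :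
    ev x (Bialgebra.counitAlgHom k A) t =
      x (TensorProduct.rid k R ((CoalgebraStruct.counit (R := k) (A := A)).lTensor R t)) := by
  induction t using TensorProduct.induction_on with
  | zero => simp
  | tmul r a => simp [mul_comm]
  | add s t hs ht => simp only [map_add, hs, ht]

theorem ev_counit
    (hcounit : (CoalgebraStruct.counit (R := k) (A := A)).lTensor R ∘ₗ
        ((LinearMap.mulRight k θ) ∘ₗ ρ) = (TensorProduct.mk k R k).flip 1)
    (x : R →ₐ[k] k) : ev x (Bialgebra.counitAlgHom k A) θ = 1 := by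
  have h1 := LinearMap.congr_fun hcounit 1
  have e := mulRight_coact_one (k := k) (A := A) θ
  rw [LinearMap.comp_apply] at e
  simp only [LinearMap.comp_apply] at h1
  rw [e] at h1
  rw [ev_counit_aux, h1]
  simp

theorem ev_ne_zero
    (hassoc : (TensorProduct.assoc k R A A).toLinearMap ∘ₗ
        ((LinearMap.mulRight k θ) ∘ₗ ρ).rTensor A ∘ₗ ((LinearMap.mulRight k θ) ∘ₗ ρ) =
      (CoalgebraStruct.comul (R := k) (A := A)).lTensor R ∘ₗ ((LinearMap.mulRight k θ) ∘ₗ ρ))
    (hcounit : (CoalgebraStruct.counit (R := k) (A := A)).lTensor R ∘ₗ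
        ((LinearMap.mulRight k θ) ∘ₗ ρ) = (TensorProduct.mk k R k).flip 1)
    (x : R →ₐ[k] k) (g : A →ₐ[k] k) : ev x g θ ≠ 0 := by
  have h := cocycle θ hassoc x g (g.comp (HopfAlgebra.antipodeAlgHom k A))
  rw [OrbitSep.conv_inv, ev_counit θ hcounit] at h
  intro h0
  rw [h0, mul_zero] at h
  exact zero_ne_one h

end Cocycle

section Main

variable {k : Type u} [Field k] [IsAlgClosed k] [CharZero k]
  {A : Type u} [CommRing A] [HopfAlgebra k A] [Algebra.FiniteType k A]
  {R : Type u} [CommRing R] [IsReduced R] [Algebra k R] [Algebra.FiniteType k R]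
  [HopfRep.Comod k A R] [GLin.IsCoactAlg k A R]

local notation "ρ" => HopfRep.Comod.coact (k := k) (A := A) (V := R)

omit [IsAlgClosed k] [CharZero k] [Algebra.FiniteType k A] in
theorem ev_eq_lmul' (g h : A →ₐ[k] k) (t : A ⊗[k] A) :
    ev g h t = Algebra.TensorProduct.lmul' k (Algebra.TensorProduct.map g h t) := by
  induction t using TensorProduct.induction_on with
  | zero => simp
  | tmul r a => simp
  | add s t hs ht => simp only [map_add, hs, ht]

/-- If all evaluations of `θ` agree with those of `1 ⊗ χ` then `θ = 1 ⊗ χ` and `χ` is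
group-like. -/
theorem eq_one_tmul (θ : R ⊗[k] A)
    (hassoc : (TensorProduct.assoc k R A A).toLinearMap ∘ₗ
        ((LinearMap.mulRight k θ) ∘ₗ ρ).rTensor A ∘ₗ ((LinearMap.mulRight k θ) ∘ₗ ρ) =
      (CoalgebraStruct.comul (R := k) (A := A)).lTensor R ∘ₗ ((LinearMap.mulRight k θ) ∘ₗ ρ))
    (hcounit : (CoalgebraStruct.counit (R := k) (A := A)).lTensor R ∘ₗ
        ((LinearMap.mulRight k θ) ∘ₗ ρ) = (TensorProduct.mk k R k).flip 1)
    (x₀ : R →ₐ[k] k) (χ : A)
    (h : ∀ (x : R →ₐ[k] k) (g : A →ₐ[k] k), ev x g θ = g χ) :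
    IsGroupLikeElem k χ ∧ θ = (1 : R) ⊗ₜ[k] χ := by
  haveI : IsReduced A := H1.FinHopf.Cartier.isReduced_of_charZero k A
  refine ⟨⟨?_, ?_⟩, ?_⟩
  · have h1 := ev_counit θ hcounit x₀
    rw [h] at h1
    exact h1
  · rw [← sub_eq_zero]
    apply eq_zero_of_forall_ev
    intro g g'
    rw [map_sub, sub_eq_zero, ev_tmul, ev_eq_lmul']
    change OrbitSep.conv g g' χ = _
    rw [← h x₀ (OrbitSep.conv g g'), ← cocycle θ hassoc x₀ g g', h, h, mul_comm]
  · rw [← sub_eq_zero]
    apply eq_zero_of_forall_ev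
    intro x g
    rw [map_sub, sub_eq_zero, ev_tmul, map_one, one_mul]
    exact h x g

theorem main_b (θ : R ⊗[k] A)
    (hassoc : (TensorProduct.assoc k R A A).toLinearMap ∘ₗ
        ((LinearMap.mulRight k θ) ∘ₗ ρ).rTensor A ∘ₗ ((LinearMap.mulRight k θ) ∘ₗ ρ) =
      (CoalgebraStruct.comul (R := k) (A := A)).lTensor R ∘ₗ ((LinearMap.mulRight k θ) ∘ₗ ρ))
    (hcounit : (CoalgebraStruct.counit (R := k) (A := A)).lTensor R ∘ₗ
        ((LinearMap.mulRight k θ) ∘ₗ ρ) = (TensorProduct.mk k R k).flip 1)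
    (x₀ : R →ₐ[k] k)
    (hR : ∀ u : Rˣ, (u : R) ∈ Set.range (algebraMap k R)) :
    ∃ χ : A, IsGroupLikeElem k χ ∧ θ = (1 : R) ⊗ₜ[k] χ := by
  refine ⟨sliceA x₀ θ, eq_one_tmul θ hassoc hcounit x₀ _ ?_⟩
  intro x g
  have hu : IsUnit (sliceR g θ) := isUnit_of_forall_point _
    (fun y => by rw [apply_sliceR]; exact ev_ne_zero θ hassoc hcounit y g)
  obtain ⟨c, hc⟩ := hR hu.unit
  rw [IsUnit.unit_spec] at hc
  rw [apply_sliceA, ← apply_sliceR x, ← apply_sliceR x₀, ← hc, AlgHom.commutes, AlgHom.commutes]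

theorem main_a [ConnectedSpace (PrimeSpectrum R)] (θ : R ⊗[k] A)
    (hassoc : (TensorProduct.assoc k R A A).toLinearMap ∘ₗ
        ((LinearMap.mulRight k θ) ∘ₗ ρ).rTensor A ∘ₗ ((LinearMap.mulRight k θ) ∘ₗ ρ) =
      (CoalgebraStruct.comul (R := k) (A := A)).lTensor R ∘ₗ ((LinearMap.mulRight k θ) ∘ₗ ρ))
    (hcounit : (CoalgebraStruct.counit (R := k) (A := A)).lTensor R ∘ₗ
        ((LinearMap.mulRight k θ) ∘ₗ ρ) = (TensorProduct.mk k R k).flip 1)
    (x₀ : R →ₐ[k] k)
    (hA : ∀ u : Aˣ, ∃ (c : k) (χ : A), IsGroupLikeElem k χ ∧ (u : A) = c • χ) :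
    ∃ χ : A, IsGroupLikeElem k χ ∧ θ = (1 : R) ⊗ₜ[k] χ := by
  classical
  -- each slice is group-like
  have hgl : ∀ x : R →ₐ[k] k, IsGroupLikeElem k (sliceA x θ) := by
    intro x
    have hu : IsUnit (sliceA x θ) := isUnit_of_forall_point _
      (fun g => by rw [apply_sliceA]; exact ev_ne_zero θ hassoc hcounit x g)
    obtain ⟨c, χ, hχ, hc⟩ := hA hu.unit
    rw [IsUnit.unit_spec] at hc
    have h1 : Bialgebra.counitAlgHom k A (sliceA x θ) = 1 := by
      rw [apply_sliceA]
      exact ev_counit θ hcounit x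
    rw [hc, map_smul] at h1
    have h2 : Bialgebra.counitAlgHom k A χ = 1 := hχ.counit_eq_one
    rw [h2, smul_eq_mul, mul_one] at h1
    rw [hc, h1, one_smul]
    exact hχ
  obtain ⟨W, hWfg, hW⟩ := exists_fg_slice θ
  let Γ : Set A := Set.range (fun x : R →ₐ[k] k => sliceA x θ)
  have hΓfin : Γ.Finite := by
    have hli : LinearIndepOn k id Γ :=
      (linearIndepOn_isGroupLikeElem (R := k) (A := A)).mono
        (by rintro _ ⟨x, rfl⟩; exact hgl x)
    obtain ⟨w, hw⟩ := hWfg
    have hfin : Finite Γ :=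
      LinearIndependent.finite_of_le_span_finite (R := k) (fun a : Γ => (a : A)) hli (w : Set A)
        (by
          rintro _ ⟨⟨_, x, rfl⟩, rfl⟩
          rw [hw]
          exact hW x)
    exact Set.toFinite Γ
  -- the closed sets
  let I : A → Ideal R := fun χ =>
    Ideal.span (Set.range (fun ℓ : A →ₗ[k] k => sliceL ℓ θ - algebraMap k R (ℓ χ)))
  let Z : A → Set (PrimeSpectrum R) := fun χ => PrimeSpectrum.zeroLocus (I χ : Set R)
  let pt : (R →ₐ[k] k) → PrimeSpectrum R := fun x => ⟨RingHom.ker x, RingHom.ker_isPrime _⟩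
  have hptmem : ∀ x : R →ₐ[k] k, pt x ∈ Z (sliceA x θ) := by
    intro x
    change _ ∈ PrimeSpectrum.zeroLocus _
    rw [PrimeSpectrum.mem_zeroLocus]
    change ((I (sliceA x θ) : Ideal R) : Set R) ⊆ RingHom.ker x
    rw [SetLike.coe_subset_coe, Ideal.span_le]
    rintro _ ⟨ℓ, rfl⟩
    change _ ∈ RingHom.ker x
    rw [RingHom.mem_ker]
    change x _ = 0
    rw [map_sub, apply_sliceL, AlgHom.commutes]
    simp
  have hptof : ∀ (x : R →ₐ[k] k) (χ : A), pt x ∈ Z χ → sliceA x θ = χ := by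
    intro x χ hx
    change _ ∈ PrimeSpectrum.zeroLocus _ at hx
    rw [PrimeSpectrum.mem_zeroLocus] at hx
    rw [← sub_eq_zero, ← Module.forall_dual_apply_eq_zero_iff k]
    intro ℓ
    have h1 : sliceL ℓ θ - algebraMap k R (ℓ χ) ∈ RingHom.ker x :=
      hx (Ideal.subset_span ⟨ℓ, rfl⟩)
    rw [RingHom.mem_ker] at h1
    change x _ = 0 at h1
    rw [map_sub, apply_sliceL, AlgHom.commutes] at h1
    rw [map_sub]
    simpa using h1
  have hdisj : ∀ χ χ' : A, χ ≠ χ' → ∀ p, p ∈ Z χ → p ∉ Z χ' := by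
    intro χ χ' hne p hp hp'
    change _ ∈ PrimeSpectrum.zeroLocus _ at hp hp'
    rw [PrimeSpectrum.mem_zeroLocus] at hp hp'
    have hne' : χ - χ' ≠ 0 := sub_ne_zero.mpr hne
    rw [Ne, ← Module.forall_dual_apply_eq_zero_iff k] at hne'
    push Not at hne'
    obtain ⟨ℓ, hℓ⟩ := hne'
    have h1 : sliceL ℓ θ - algebraMap k R (ℓ χ) ∈ p.asIdeal := hp (Ideal.subset_span ⟨ℓ, rfl⟩)
    have h2 : sliceL ℓ θ - algebraMap k R (ℓ χ') ∈ p.asIdeal := hp' (Ideal.subset_span ⟨ℓ, rfl⟩)
    have h3 : algebraMap k R (ℓ (χ - χ')) ∈ p.asIdeal := by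
      have := p.asIdeal.sub_mem h2 h1
      rw [map_sub, map_sub]
      convert this using 1
      ring
    have h4 : IsUnit (algebraMap k R (ℓ (χ - χ'))) := (IsUnit.mk0 _ hℓ).map _
    exact p.2.ne_top (Ideal.eq_top_of_isUnit_mem _ h3 h4)
  have hcover : ∀ p : PrimeSpectrum R, ∃ χ ∈ Γ, p ∈ Z χ := by
    intro p
    by_contra hcon
    push Not at hcon
    have hex : ∀ χ : A, χ ∈ Γ → ∃ ℓ : A →ₗ[k] k,
        sliceL ℓ θ - algebraMap k R (ℓ χ) ∉ p.asIdeal := by
      intro χ hχ
      have h1 := hcon χ hχ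
      change _ ∉ PrimeSpectrum.zeroLocus _ at h1
      rw [PrimeSpectrum.mem_zeroLocus, SetLike.coe_subset_coe, Ideal.span_le] at h1
      by_contra h2
      push Not at h2
      apply h1
      rintro _ ⟨ℓ, rfl⟩
      exact h2 ℓ
    choose! ℓ hℓ using hex
    let F : R := ∏ χ ∈ hΓfin.toFinset, (sliceL (ℓ χ) θ - algebraMap k R ((ℓ χ) χ))
    have hF0 : F = 0 := by
      apply IsNilpotent.eq_zero
      apply S11794.isNilpotent_of_forall_point k R
      intro x
      rw [map_prod]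
      apply Finset.prod_eq_zero (i := sliceA x θ)
      · rw [Set.Finite.mem_toFinset]
        exact ⟨x, rfl⟩
      · rw [map_sub, apply_sliceL, AlgHom.commutes]
        simp
    have hFp : F ∉ p.asIdeal := by
      intro hmem
      obtain ⟨χ, hχ, hχp⟩ := (Ideal.IsPrime.prod_mem_iff (hp := p.2)).mp hmem
      rw [Set.Finite.mem_toFinset] at hχ
      exact hℓ χ hχ hχp
    apply hFp
    rw [hF0]
    exact zero_mem _
  let χ₀ := sliceA x₀ θ
  have hχ₀ : χ₀ ∈ Γ := ⟨x₀, rfl⟩
  have hclopen : IsClopen (Z χ₀) := by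
    refine ⟨PrimeSpectrum.isClosed_zeroLocus _, ?_⟩
    have hcompl : (Z χ₀)ᶜ = ⋃ χ ∈ (Γ \ {χ₀}), Z χ := by
      ext p
      simp only [Set.mem_compl_iff, Set.mem_iUnion, Set.mem_sdiff, Set.mem_singleton_iff,
        exists_prop]
      constructor
      · intro hp
        obtain ⟨χ, hχ, hpχ⟩ := hcover p
        refine ⟨χ, ⟨hχ, ?_⟩, hpχ⟩
        rintro rfl
        exact hp hpχ
      · rintro ⟨χ, ⟨hχ, hne⟩, hpχ⟩ hp
        exact hdisj χ χ₀ hne p hpχ hp
    rw [← isClosed_compl_iff, hcompl]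
    exact (hΓfin.subset Set.sdiff_subset).isClosed_biUnion
      (fun χ _ => PrimeSpectrum.isClosed_zeroLocus _)
  have huniv : Z χ₀ = Set.univ := by
    rcases isClopen_iff.mp hclopen with h | h
    · exact absurd (hptmem x₀) (by rw [h]; exact Set.notMem_empty _)
    · exact h
  refine ⟨χ₀, eq_one_tmul θ hassoc hcounit x₀ _ ?_⟩
  intro x g
  rw [← apply_sliceA, hptof x χ₀ (by rw [huniv]; exact Set.mem_univ _)]

theorem main [ConnectedSpace (PrimeSpectrum R)] (θ : R ⊗[k] A)
    (hassoc : (TensorProduct.assoc k R A A).toLinearMap ∘ₗ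
        ((LinearMap.mulRight k θ) ∘ₗ ρ).rTensor A ∘ₗ ((LinearMap.mulRight k θ) ∘ₗ ρ) =
      (CoalgebraStruct.comul (R := k) (A := A)).lTensor R ∘ₗ ((LinearMap.mulRight k θ) ∘ₗ ρ))
    (hcounit : (CoalgebraStruct.counit (R := k) (A := A)).lTensor R ∘ₗ
        ((LinearMap.mulRight k θ) ∘ₗ ρ) = (TensorProduct.mk k R k).flip 1)
    (h : (∀ u : Aˣ, ∃ (c : k) (χ : A), IsGroupLikeElem k χ ∧ (u : A) = c • χ) ∨
      (∀ u : Rˣ, (u : R) ∈ Set.range (algebraMap k R))) :
    ∃ χ : A, IsGroupLikeElem k χ ∧ θ = (1 : R) ⊗ₜ[k] χ := by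
  haveI : Nonempty (PrimeSpectrum R) := ConnectedSpace.toNonempty
  haveI : Nontrivial R := PrimeSpectrum.nonempty_iff_nontrivial.mp inferInstance
  obtain ⟨M, hM⟩ := Ideal.exists_maximal R
  obtain ⟨x₀, -⟩ := S11795.exists_point_of_isMaximal k R M hM
  rcases h with h | h
  · exact main_a θ hassoc hcounit x₀ h
  · exact main_b θ hassoc hcounit x₀ h

end Main

end Groth.Agent.H62.LinTriv
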