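import Mathlib
import Groth.Agent.H62.EquivZMTa
import Groth.Agent.H62.EquivZMTb

/-!
# Equivariant Zariski main theorem
-/

set_option autoImplicit false
universe u
open TensorProduct

namespace Groth.Agent.H62.EquivZMTc

open Groth.Agent Groth.Agent.H62.EquivZMTb

theorem main (k : Type u) [Field k] [IsAlgClosed k] [CharZero k]
    (A : Type u) [CommRing A] [HopfAlgebra k A] [Algebra.FiniteType k A]
    (S : Type u) [CommRing S] [Algebra k S] [Algebra.FiniteType k S] [HopfRep.Comod k A S]
    [GLin.IsCoactAlg k A S]
    (R : Type u) [CommRing R] [Algebra k R] [Algebra.FiniteType k R] [HopfRep.Comod k A R]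
    [GLin.IsCoactAlg k A R]
    [Algebra S R] [IsScalarTower k S R] [Algebra.QuasiFinite S R]
    (hequiv : (∀ s : S, HopfRep.Comod.coact (k := k) (A := A) (algebraMap S R s) =
      Algebra.TensorProduct.map (IsScalarTower.toAlgHom k S R) (AlgHom.id k A)
        (HopfRep.Comod.coact (k := k) (A := A) s))) :
    ∃ (B : Type u) (_ : CommRing B) (_ : Algebra k B) (_ : HopfRep.Comod k A B)
      (_ : GLin.IsCoactAlg k A B),
      Algebra.FiniteType k B ∧
      ∃ (ψ : S →ₐ[k] B) (i : B →ₐ[k] R),
        (∀ s : S, HopfRep.Comod.coact (k := k) (A := A) (ψ s) =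
        Algebra.TensorProduct.map ψ (AlgHom.id k A) (HopfRep.Comod.coact (k := k) (A := A) s)) ∧
        (∀ s : B, HopfRep.Comod.coact (k := k) (A := A) (i s) =
        Algebra.TensorProduct.map i (AlgHom.id k A) (HopfRep.Comod.coact (k := k) (A := A) s)) ∧
        i.comp ψ = IsScalarTower.toAlgHom k S R ∧ ψ.toRingHom.Finite ∧
        AlgebraicGeometry.IsOpenImmersion
          (AlgebraicGeometry.Spec.map (CommRingCat.ofHom i.toRingHom)) := by
  classical
  haveI : Algebra.FiniteType S R := Algebra.FiniteType.of_restrictScalars_finiteType k S R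
  obtain ⟨w, hwint, hopen⟩ := EquivZMTa.exists_finset_forall_isOpenImmersion S R
  have hC := isSubcomod_integralClosure (k := k) (A := A) (S := S) (R := R) hequiv
  obtain ⟨U, hUfin, hwU, hUC, hU⟩ := exists_finite_subcomod_subset _ hC w
    (fun x hx => hwint x hx)
  haveI := hUfin
  let B' : Subalgebra S R := Algebra.adjoin S (U : Set R)
  have hB'sub := isSubcomod_adjoin (k := k) (A := A) hequiv U hU
  -- finiteness
  have hfg : (Subalgebra.toSubmodule B').FG := by
    obtain ⟨t, ht⟩ := (Module.Finite.iff_fg (R := k) (N := U)).mp hUfin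
    have hB't : B' = Algebra.adjoin S (t : Set R) := by
      apply le_antisymm
      · apply Algebra.adjoin_le
        intro x hx
        have hx' : x ∈ Submodule.span k (t : Set R) := by rw [ht]; exact hx
        have hle : Submodule.span k (t : Set R) ≤
            (Subalgebra.toSubmodule (Algebra.adjoin S (t : Set R))).restrictScalars k := by
          rw [Submodule.span_le]
          intro y hy
          exact Algebra.subset_adjoin hy
        exact hle hx'
      · apply Algebra.adjoin_mono
        intro x hx
        have : x ∈ Submodule.span k (t : Set R) := Submodule.subset_span hx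
        rw [ht] at this
        exact this
    rw [hB't]
    refine fg_adjoin_of_finite t.finite_toSet ?_
    intro x hx
    have : x ∈ Submodule.span k (t : Set R) := Submodule.subset_span hx
    rw [ht] at this
    exact hUC this
  haveI hfin : Module.Finite S B' := ⟨(Submodule.fg_top _).mpr hfg⟩
  let i : B' →ₐ[k] R := B'.val.restrictScalars k
  let j : B' →ₗ[k] R := i.toLinearMap
  have hj : Function.Injective j := Subtype.val_injective
  let J : B' ⊗[k] A →ₐ[k] R ⊗[k] A := Algebra.TensorProduct.map i (AlgHom.id k A)
  have hJ : ∀ t : B' ⊗[k] A, j.rTensor A t = J t := by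
    intro t
    induction t using TensorProduct.induction_on with
    | zero => simp
    | tmul b a => rfl
    | add s t hs ht => simp only [map_add, hs, ht]
  have hJinj : Function.Injective J := by
    intro s t hst
    rw [← hJ, ← hJ] at hst
    exact H62.rTensor_injective j hj A hst
  have hmem : ∀ b : B', HopfRep.Comod.coact (k := k) (A := A) (j b) ∈
      LinearMap.range (j.rTensor A) := by
    intro b
    obtain ⟨t, ht⟩ := hB'sub (j b) b.2
    let e : ↥((Subalgebra.toSubmodule B').restrictScalars k) →ₗ[k] B' :=
      { toFun := fun x => ⟨x.1, x.2⟩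
        map_add' := fun _ _ => rfl
        map_smul' := fun _ _ => rfl }
    have he : j ∘ₗ e = ((Subalgebra.toSubmodule B').restrictScalars k).subtype := by
      ext x
      rfl
    refine ⟨e.rTensor A t, ?_⟩
    rw [← LinearMap.rTensor_comp_apply, he]
    exact ht
  letI instComod : HopfRep.Comod k A B' := pullComod j hj hmem
  have hspec : ∀ b : B', J (HopfRep.Comod.coact (k := k) (A := A) b) =
      HopfRep.Comod.coact (k := k) (A := A) (i b) := by
    intro b
    rw [← hJ]
    exact pullCoact_spec j hj hmem b
  have instCoact : GLin.IsCoactAlg k A B' := by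
    constructor
    · apply hJinj
      rw [hspec, map_one i, map_one J]
      exact GLin.IsCoactAlg.coact_one (k := k) (A := A) (R := R)
    · intro f g
      apply hJinj
      rw [hspec, map_mul i, map_mul J, hspec, hspec]
      exact GLin.IsCoactAlg.coact_mul (k := k) (A := A) (i f) (i g)
  let ψ : S →ₐ[k] B' := IsScalarTower.toAlgHom k S B'
  have hiψ : i.comp ψ = IsScalarTower.toAlgHom k S R := by
    ext s
    rfl
  refine ⟨B', inferInstance, inferInstance, instComod, instCoact, ?_, ψ, i, ?_, ?_, hiψ, ?_, ?_⟩
  · exact Algebra.FiniteType.trans (inferInstance : Algebra.FiniteType k S) inferInstance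
  · intro s
    apply hJinj
    rw [hspec]
    have h1 : i (ψ s) = algebraMap S R s := rfl
    rw [h1, hequiv, ← hiψ]
    generalize HopfRep.Comod.coact (k := k) (A := A) s = t
    induction t using TensorProduct.induction_on with
    | zero => simp
    | tmul s' a => rfl
    | add t₁ t₂ h₁ h₂ => simp only [map_add, h₁, h₂]
  · intro b
    exact (hspec b).symm
  · exact RingHom.finite_algebraMap.mpr hfin
  · apply hopen B' i.toRingHom Subtype.val_injective
    · intro s
      exact ⟨algebraMap S B' s, rfl⟩
    · intro x hx
      exact ⟨⟨x, Algebra.subset_adjoin (hwU hx)⟩, rfl⟩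

end Groth.Agent.H62.EquivZMTc
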