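import Groth.Prelude.Def_W4c3ghconstell
import Groth.Agent.H40.Comod
import Mathlib.LinearAlgebra.FiniteDimensional.Basic
import Mathlib.LinearAlgebra.Finsupp.Span
import Mathlib.Analysis.Normed.Group.InfiniteSum
import Mathlib.Topology.Algebra.InfiniteSum.Order
import Mathlib.Topology.Algebra.InfiniteSum.Real

/-!
# Isotypic components, independence of simple subcoalgebras, and weights (helper62)

Library for the `W4c3ghconstell` rows.
-/

set_option autoImplicit false
universe u v w x

open TensorProduct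

namespace Groth.Agent.H62.IsoComp

open Groth.Agent.H40 W4c3ghconstell

section Lin

variable {k : Type u} [Field k] {V : Type v} [AddCommGroup V] [Module k V]
  {C : Type w} [AddCommGroup C] [Module k C]

theorem contr_mem (W : Submodule k V) (f : C →ₗ[k] k) {x : V ⊗[k] C}
    (hx : x ∈ LinearMap.range (W.subtype.rTensor C)) : contr V f x ∈ W := by
  obtain ⟨t, rfl⟩ := hx
  induction t using TensorProduct.induction_on with
  | zero => simp
  | tmul w a =>
    rw [LinearMap.rTensor_tmul, contr_tmul]
    exact W.smul_mem _ w.2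
  | add t t' ht ht' => rw [map_add, map_add]; exact W.add_mem ht ht'

theorem coeff_eq_contr {κ : Type*} [DecidableEq κ] (b : Module.Basis κ k C) (x : V ⊗[k] C)
    (i : κ) : TensorProduct.equivFinsuppOfBasisRight b x i = contr V (b.coord i) x := by
  induction x using TensorProduct.induction_on with
  | zero => simp
  | tmul m c => simp
  | add y z hy hz => simp only [map_add, Finsupp.add_apply, hy, hz]

theorem mem_range_rTensor_iff_contr (W : Submodule k V) (x : V ⊗[k] C) :
    x ∈ LinearMap.range (W.subtype.rTensor C) ↔ ∀ f : C →ₗ[k] k, contr V f x ∈ W := by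
  classical
  refine ⟨fun hx f => contr_mem W f hx, fun h => ?_⟩
  rw [mem_range_rTensor_iff_coeff (Module.Basis.ofVectorSpace k C)]
  intro i
  rw [coeff_eq_contr]
  exact h _

/-- Contract the first tensor factor with a functional. -/
noncomputable def contrL (M : Type*) [AddCommGroup M] [Module k M] (f : C →ₗ[k] k) :
    C ⊗[k] M →ₗ[k] M :=
  (TensorProduct.lid k M).toLinearMap ∘ₗ f.rTensor M

@[simp] theorem contrL_tmul (M : Type*) [AddCommGroup M] [Module k M] (f : C →ₗ[k] k) (c : C)
    (m : M) : contrL M f (c ⊗ₜ m) = f c • m := by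
  simp [contrL]

theorem contrL_eq_contr_comm (f : C →ₗ[k] k) (x : C ⊗[k] V) :
    contrL V f x = contr V f (TensorProduct.comm k C V x) := by
  induction x using TensorProduct.induction_on with
  | zero => simp
  | tmul c m => simp
  | add y z hy hz => simp only [map_add, hy, hz]

theorem comm_lTensor_subtype (W : Submodule k V) (y : C ⊗[k] W) :
    TensorProduct.comm k C V (W.subtype.lTensor C y) =
      W.subtype.rTensor C (TensorProduct.comm k C W y) := by
  induction y using TensorProduct.induction_on with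
  | zero => simp
  | tmul c m => simp
  | add y z hy hz => simp only [map_add, hy, hz]

theorem mem_range_lTensor_iff_comm (W : Submodule k V) (x : C ⊗[k] V) :
    x ∈ LinearMap.range (W.subtype.lTensor C) ↔
      TensorProduct.comm k C V x ∈ LinearMap.range (W.subtype.rTensor C) := by
  constructor
  · rintro ⟨y, rfl⟩
    exact ⟨TensorProduct.comm k C W y, (comm_lTensor_subtype W y).symm⟩
  · rintro ⟨y, hy⟩
    refine ⟨(TensorProduct.comm k C W).symm y, ?_⟩
    apply (TensorProduct.comm k C V).injective
    rw [comm_lTensor_subtype, LinearEquiv.apply_symm_apply, hy]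

theorem mem_range_lTensor_iff_contrL (W : Submodule k V) (x : C ⊗[k] V) :
    x ∈ LinearMap.range (W.subtype.lTensor C) ↔ ∀ f : C →ₗ[k] k, contrL V f x ∈ W := by
  rw [mem_range_lTensor_iff_comm, mem_range_rTensor_iff_contr]
  simp only [contrL_eq_contr_comm]

theorem mem_range_map_iff (D : Submodule k V) (x : V ⊗[k] V) :
    x ∈ LinearMap.range (TensorProduct.map D.subtype D.subtype) ↔
      x ∈ LinearMap.range (D.subtype.rTensor V) ∧ x ∈ LinearMap.range (D.subtype.lTensor V) := by
  constructor
  · rintro ⟨y, rfl⟩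
    refine ⟨⟨D.subtype.lTensor D y, ?_⟩, ⟨D.subtype.rTensor D y, ?_⟩⟩
    · induction y using TensorProduct.induction_on with
      | zero => simp
      | tmul a b => simp
      | add y z hy hz => simp only [map_add, hy, hz]
    · induction y using TensorProduct.induction_on with
      | zero => simp
      | tmul a b => simp
      | add y z hy hz => simp only [map_add, hy, hz]
  · rintro ⟨⟨y, hy⟩, ⟨z, hz⟩⟩
    obtain ⟨r, hr⟩ := LinearMap.exists_leftInverse_of_injective D.subtype (Submodule.ker_subtype D)
    have hr' : ∀ d : D, r (D.subtype d) = d := fun d => LinearMap.congr_fun hr d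
    have g1 : ∀ y : D ⊗[k] V, (D.subtype ∘ₗ r).rTensor V (D.subtype.rTensor V y) =
        D.subtype.rTensor V y := by
      intro y
      induction y using TensorProduct.induction_on with
      | zero => simp
      | tmul a b =>
        simp only [LinearMap.rTensor_tmul, LinearMap.comp_apply, hr']
      | add y z hy hz => simp only [map_add, hy, hz]
    have g2 : ∀ z : V ⊗[k] D, (D.subtype ∘ₗ r).lTensor V (D.subtype.lTensor V z) =
        D.subtype.lTensor V z := by
      intro y
      induction y using TensorProduct.induction_on with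
      | zero => simp
      | tmul a b =>
        simp only [LinearMap.lTensor_tmul, LinearMap.comp_apply, hr']
      | add y z hy hz => simp only [map_add, hy, hz]
    have h1 : (D.subtype ∘ₗ r).rTensor V x = x := by
      rw [← hy, g1]
    have h2 : (D.subtype ∘ₗ r).lTensor V x = x := by
      rw [← hz, g2]
    refine ⟨TensorProduct.map r r x, ?_⟩
    have h3 : TensorProduct.map D.subtype D.subtype (TensorProduct.map r r x) =
        (D.subtype ∘ₗ r).rTensor V ((D.subtype ∘ₗ r).lTensor V x) := by
      generalize x = t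
      induction t using TensorProduct.induction_on with
      | zero => simp
      | tmul a b => simp
      | add y z hy hz => simp only [map_add, hy, hz]
    rw [h3, h2, h1]

theorem contr_map_subtype (D : Submodule k V) (E : Submodule k C) (f : C →ₗ[k] k)
    (y : D ⊗[k] E) :
    contr V f (TensorProduct.map D.subtype E.subtype y) =
      D.subtype (contr D (f ∘ₗ E.subtype) y) := by
  induction y using TensorProduct.induction_on with
  | zero => simp
  | tmul a b => simp
  | add y z hy hz => simp only [map_add, hy, hz]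

theorem contr_lTensor_subtype (E : Submodule k C) (f : C →ₗ[k] k) (y : V ⊗[k] E) :
    contr V f (E.subtype.lTensor V y) = contr V (f ∘ₗ E.subtype) y := by
  induction y using TensorProduct.induction_on with
  | zero => simp
  | tmul a b => simp
  | add y z hy hz => simp only [map_add, hy, hz]

theorem contrL_lTensor (T : V →ₗ[k] V) (f : C →ₗ[k] k) (y : C ⊗[k] V) :
    contrL V f (T.lTensor C y) = T (contrL V f y) := by
  induction y using TensorProduct.induction_on with
  | zero => simp
  | tmul a b => simp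
  | add y z hy hz => simp only [map_add, hy, hz]

/-- A functional prescribed on `D` and vanishing on `E`, for disjoint subspaces. -/
theorem exists_functional (D E : Submodule k V) (h : D ⊓ E = ⊥) (g : V →ₗ[k] k) :
    ∃ f : V →ₗ[k] k, (∀ d ∈ D, f d = g d) ∧ ∀ e ∈ E, f e = 0 := by
  have hinj : LinearMap.ker (E.mkQ ∘ₗ D.subtype) = ⊥ := by
    rw [LinearMap.ker_eq_bot']
    intro d hd
    have hdE : (d : V) ∈ E := by
      simpa [Submodule.Quotient.mk_eq_zero] using hd
    have : (d : V) ∈ D ⊓ E := ⟨d.2, hdE⟩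
    rw [h, Submodule.mem_bot] at this
    exact Subtype.ext this
  obtain ⟨r, hr⟩ := LinearMap.exists_leftInverse_of_injective _ hinj
  refine ⟨g ∘ₗ D.subtype ∘ₗ r ∘ₗ E.mkQ, ?_, ?_⟩
  · intro d hd
    have := LinearMap.congr_fun hr ⟨d, hd⟩
    simp only [LinearMap.comp_apply, Submodule.subtype_apply, LinearMap.id_apply] at this
    simp only [LinearMap.comp_apply, this, Submodule.subtype_apply]
  · intro e he
    have : E.mkQ e = 0 := by simpa [Submodule.Quotient.mk_eq_zero] using he
    simp only [LinearMap.comp_apply, this, map_zero]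

end Lin

section Coalg

variable {k : Type u} [Field k] {A : Type v} [AddCommGroup A] [Module k A] [Coalgebra k A]

local notation "Δ" => CoalgebraStruct.comul (R := k) (A := A)
local notation "ε" => CoalgebraStruct.counit (R := k) (A := A)

theorem isSubcoalg_iff (D : Submodule k A) :
    IsSubcoalg k A D ↔ ∀ d ∈ D, ∀ f : A →ₗ[k] k, contr A f (Δ d) ∈ D ∧ contrL A f (Δ d) ∈ D := by
  unfold IsSubcoalg
  refine forall₂_congr fun d _ => ?_
  rw [mem_range_map_iff, mem_range_rTensor_iff_contr, mem_range_lTensor_iff_contrL]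
  exact forall_and.symm

theorem isSubcoalg_inf {D E : Submodule k A} (hD : IsSubcoalg k A D) (hE : IsSubcoalg k A E) :
    IsSubcoalg k A (D ⊓ E) := by
  rw [isSubcoalg_iff] at hD hE ⊢
  intro d hd f
  exact ⟨⟨(hD d hd.1 f).1, (hE d hd.2 f).1⟩, ⟨(hD d hd.1 f).2, (hE d hd.2 f).2⟩⟩

theorem isSubcoalg_sup {D E : Submodule k A} (hD : IsSubcoalg k A D) (hE : IsSubcoalg k A E) :
    IsSubcoalg k A (D ⊔ E) := by
  rw [isSubcoalg_iff] at hD hE ⊢
  intro d hd f
  obtain ⟨a, ha, b, hb, rfl⟩ := Submodule.mem_sup.mp hd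
  simp only [map_add]
  exact ⟨Submodule.add_mem _ (Submodule.mem_sup_left (hD a ha f).1)
      (Submodule.mem_sup_right (hE b hb f).1),
    Submodule.add_mem _ (Submodule.mem_sup_left (hD a ha f).2)
      (Submodule.mem_sup_right (hE b hb f).2)⟩

theorem isSubcoalg_bot : IsSubcoalg k A (⊥ : Submodule k A) := by
  intro d hd
  rw [Submodule.mem_bot] at hd
  subst hd
  simp

theorem isSubcoalg_finset_iSup (F : Finset (SimpSub k A)) :
    IsSubcoalg k A (⨆ D ∈ F, (D : SimpSub k A).1) := by
  classical
  induction F using Finset.induction_on with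
  | empty => simpa using isSubcoalg_bot
  | insert D F _ ih =>
    rw [Finset.iSup_insert]
    exact isSubcoalg_sup D.2.2.1 ih

theorem contr_counit_comul (a : A) : contr A ε (Δ a) = a := by
  simp [contr, Coalgebra.lTensor_counit_comul]

/-- On a subcoalgebra, `(id ⊗ f)Δ` only depends on the restriction of `f`. -/
theorem contr_comul_congr {D : Submodule k A} (hD : IsSubcoalg k A D) {d : A} (hd : d ∈ D)
    {f g : A →ₗ[k] k} (hfg : ∀ d ∈ D, f d = g d) : contr A f (Δ d) = contr A g (Δ d) := by
  obtain ⟨y, hy⟩ := hD d hd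
  rw [← hy, contr_map_subtype, contr_map_subtype]
  have : f ∘ₗ D.subtype = g ∘ₗ D.subtype := by
    ext d; exact hfg d d.2
  rw [this]

theorem contr_comul_eq_self {D : Submodule k A} (hD : IsSubcoalg k A D) {d : A} (hd : d ∈ D)
    {f : A →ₗ[k] k} (hf : ∀ d ∈ D, f d = ε d) : contr A f (Δ d) = d := by
  rw [contr_comul_congr hD hd hf, contr_counit_comul]

theorem contr_comul_eq_zero {D : Submodule k A} (hD : IsSubcoalg k A D) {d : A} (hd : d ∈ D)
    {f : A →ₗ[k] k} (hf : ∀ d ∈ D, f d = 0) : contr A f (Δ d) = 0 := by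
  rw [contr_comul_congr (g := 0) hD hd (by simpa using hf)]
  simp [contr]

/-- Distinct simple subcoalgebras are independent. -/
theorem inf_iSup_eq_bot (D₁ : SimpSub k A) (F : Finset (SimpSub k A)) (h : D₁ ∉ F) :
    D₁.1 ⊓ (⨆ D ∈ F, (D : SimpSub k A).1) = ⊥ := by
  classical
  induction F using Finset.induction_on with
  | empty => simp
  | insert D₂ F hD₂ ih =>
    rw [Finset.mem_insert, not_or] at h
    have ih' := ih h.2
    rw [Finset.iSup_insert]
    set E := ⨆ D ∈ F, (D : SimpSub k A).1 with hE
    have hEsub : IsSubcoalg k A E := isSubcoalg_finset_iSup F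
    have hB : IsSubcoalg k A (D₁.1 ⊓ (D₂.1 ⊔ E)) :=
      isSubcoalg_inf D₁.2.2.1 (isSubcoalg_sup D₂.2.2.1 hEsub)
    rcases D₁.2.2.2 _ inf_le_left hB with h0 | h1
    · exact h0
    · exfalso
      have hle : D₁.1 ≤ D₂.1 ⊔ E := inf_eq_left.mp h1
      obtain ⟨f, hf1, hf2⟩ := exists_functional D₁.1 E ih' ε
      have hle2 : D₁.1 ≤ D₂.1 := by
        intro d hd
        obtain ⟨a, ha, b, hb, hab⟩ := Submodule.mem_sup.mp (hle hd)
        have e1 : contr A f (Δ d) = d := contr_comul_eq_self D₁.2.2.1 hd hf1
        have e2 : contr A f (Δ b) = 0 := contr_comul_eq_zero hEsub hb hf2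
        have e3 : contr A f (Δ a) ∈ D₂.1 := ((isSubcoalg_iff _).mp D₂.2.2.1 a ha f).1
        rw [← e1, ← hab, map_add, map_add, e2, add_zero]
        exact e3
      rcases D₂.2.2.2 _ hle2 D₁.2.2.1 with h0 | h1
      · exact D₁.2.1 h0
      · exact h.1 (Subtype.ext h1)

theorem exists_functional_simpSub (D₁ : SimpSub k A) (F : Finset (SimpSub k A)) (h : D₁ ∉ F) :
    ∃ f : A →ₗ[k] k, (∀ d ∈ D₁.1, f d = ε d) ∧
      ∀ e ∈ (⨆ D ∈ F, (D : SimpSub k A).1), f e = 0 :=
  exists_functional _ _ (inf_iSup_eq_bot D₁ F h) ε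

variable {M : Type w} [AddCommGroup M] [Module k M] [HopfRep.Comod k A M]

theorem mem_isoComp_iff (D : Submodule k A) (m : M) :
    m ∈ isoComp M D ↔ ρ k A M m ∈ LinearMap.range (LinearMap.lTensor M D.subtype) := Iff.rfl

theorem isoComp_mono {D E : Submodule k A} (h : D ≤ E) : isoComp M D ≤ isoComp M E := by
  intro m hm
  rw [mem_isoComp_iff] at hm ⊢
  obtain ⟨y, hy⟩ := hm
  refine ⟨(Submodule.inclusion h).lTensor M y, ?_⟩
  rw [← hy, ← LinearMap.comp_apply, ← LinearMap.lTensor_comp]
  rfl

theorem isSubcomod_isoComp {D : Submodule k A} (hD : IsSubcoalg k A D) :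
    HopfRep.IsSubcomod (k := k) (A := A) (isoComp M D) := by
  intro m hm
  rw [mem_range_rTensor_iff_contr]
  intro f
  rw [mem_isoComp_iff, coact_contr_coact, mem_range_lTensor_iff_contrL]
  intro φ
  rw [contrL_lTensor]
  have h1 : contrL A φ (ρ k A M m) ∈ D :=
    (mem_range_lTensor_iff_contrL D _).mp ((mem_isoComp_iff D m).mp hm) φ
  exact ((isSubcoalg_iff D).mp hD _ h1 f).1

theorem contr_coact_congr {D : Submodule k A} {m : M} (hm : m ∈ isoComp M D)
    {f g : A →ₗ[k] k} (hfg : ∀ d ∈ D, f d = g d) :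
    contr M f (ρ k A M m) = contr M g (ρ k A M m) := by
  obtain ⟨y, hy⟩ := (mem_isoComp_iff D m).mp hm
  rw [← hy, contr_lTensor_subtype, contr_lTensor_subtype]
  have : f ∘ₗ D.subtype = g ∘ₗ D.subtype := by
    ext d; exact hfg d d.2
  rw [this]

theorem contr_coact_eq_self {D : Submodule k A} {m : M} (hm : m ∈ isoComp M D)
    {f : A →ₗ[k] k} (hf : ∀ d ∈ D, f d = ε d) : contr M f (ρ k A M m) = m := by
  rw [contr_coact_congr hm hf, contr_counit_coact]

theorem contr_coact_eq_zero {D : Submodule k A} {m : M} (hm : m ∈ isoComp M D)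
    {f : A →ₗ[k] k} (hf : ∀ d ∈ D, f d = 0) : contr M f (ρ k A M m) = 0 := by
  rw [contr_coact_congr (g := 0) hm (by simpa using hf)]
  simp [contr]

/-- A subcomodule meeting no isotypic component of simple type, inside the sum of those
components, is zero. -/
theorem eq_zero_of_forall_inf_isoComp_eq_bot {N : Submodule k M}
    (hN : HopfRep.IsSubcomod (k := k) (A := A) N)
    (h0 : ∀ D : SimpSub k A, N ⊓ isoComp M D.1 = ⊥) (F : Finset (SimpSub k A)) :
    ∀ n ∈ N, n ∈ (⨆ D ∈ F, isoComp M (D : SimpSub k A).1) → n = 0 := by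
  classical
  induction F using Finset.induction_on with
  | empty =>
    intro n _ hn
    simpa using hn
  | insert D₁ F hD₁ ih =>
    intro n hnN hn
    rw [Finset.iSup_insert] at hn
    obtain ⟨m₁, hm₁, m', hm', rfl⟩ := Submodule.mem_sup.mp hn
    obtain ⟨f, hf1, hf2⟩ := exists_functional_simpSub D₁ F hD₁
    have hm'E : m' ∈ isoComp M (⨆ D ∈ F, (D : SimpSub k A).1) := by
      have hle : (⨆ D ∈ F, isoComp M (D : SimpSub k A).1) ≤
          isoComp M (⨆ D ∈ F, (D : SimpSub k A).1) :=
        iSup₂_le fun D hD => isoComp_mono (le_iSup₂ (f := fun (D : SimpSub k A) (_ : D ∈ F) => D.1) D hD)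
      exact hle hm'
    have e1 : contr M f (ρ k A M m₁) = m₁ := contr_coact_eq_self hm₁ hf1
    have e2 : contr M f (ρ k A M m') = 0 := contr_coact_eq_zero hm'E hf2
    have e3 : contr M f (ρ k A M (m₁ + m')) ∈ N := contr_mem N f (hN _ hnN)
    rw [map_add, map_add, e1, e2, add_zero] at e3
    have hm₁0 : m₁ = 0 := by
      have : m₁ ∈ N ⊓ isoComp M D₁.1 := ⟨e3, hm₁⟩
      rw [h0 D₁, Submodule.mem_bot] at this
      exact this
    subst hm₁0
    rw [zero_add] at hnN ⊢
    exact ih m' hnN hm'

theorem exists_inf_isoComp_ne_bot {N : Submodule k M}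
    (hN : HopfRep.IsSubcomod (k := k) (A := A) N)
    (hsup : (⨆ D : SimpSub k A, isoComp M D.1) = ⊤) (hN0 : N ≠ ⊥) :
    ∃ D : SimpSub k A, N ⊓ isoComp M D.1 ≠ ⊥ := by
  by_contra hcon
  push Not at hcon
  apply hN0
  rw [eq_bot_iff]
  intro n hn
  have hn' : n ∈ (⨆ D : SimpSub k A, isoComp M D.1) := by rw [hsup]; trivial
  obtain ⟨F, hF⟩ := Submodule.exists_finset_of_mem_iSup _ hn'
  rw [Submodule.mem_bot]
  exact eq_zero_of_forall_inf_isoComp_eq_bot hN hcon F n hn hF

end Coalg

end Groth.Agent.H62.IsoComp
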