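import Groth.Agent.H62.DynL
import Groth.Agent.H62.ActR
import Groth.Agent.H62.IsoComp
import Groth.Prelude.Def_W4c6stackyreslrsPsRefl

/-!
# The ideal of the stabiliser of a vector is a Hopf ideal (helper62)

`fixIdeal f` : the ideal of `A` generated by the coefficients of `ρ f - f ⊗ 1`.  A point `g`
kills it iff `g · f = f`; it is a Hopf ideal (its functor of points is a subgroup functor), and
`f` is invariant under the closed subgroup of an ideal `I` iff `fixIdeal f ≤ I`.
-/

set_option autoImplicit false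
universe u w

open TensorProduct WithConv

namespace Groth.Agent.H62.FixIdeal

open Groth.Agent.H40 Groth.Agent.H62.IsoComp Groth.Agent.H62

section Lin

variable {k : Type u} [Field k] {V : Type w} [AddCommGroup V] [Module k V]

theorem eq_zero_of_forall_contrL {M : Type*} [AddCommGroup M] [Module k M] (t : V ⊗[k] M)
    (h : ∀ ℓ : V →ₗ[k] k, contrL M ℓ t = 0) : t = 0 := by
  have ht : t ∈ LinearMap.range ((⊥ : Submodule k M).subtype.lTensor V) := by
    rw [mem_range_lTensor_iff_contrL]
    intro ℓ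
    rw [h ℓ]
    exact Submodule.zero_mem _
  obtain ⟨s, rfl⟩ := ht
  have hz : ∀ s : V ⊗[k] ↥(⊥ : Submodule k M), s = 0 := by
    intro s
    induction s using TensorProduct.induction_on with
    | zero => rfl
    | tmul v c =>
      have : c = 0 := Subtype.ext ((Submodule.mem_bot k).mp c.2)
      rw [this, TensorProduct.tmul_zero]
    | add a b ha hb => rw [ha, hb, add_zero]
  rw [hz s, map_zero]

theorem contrL_nat {M M' : Type*} [AddCommGroup M] [Module k M] [AddCommGroup M'] [Module k M']
    (T : M →ₗ[k] M') (ℓ : V →ₗ[k] k) (x : V ⊗[k] M) :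
    contrL M' ℓ (T.lTensor V x) = T (contrL M ℓ x) := by
  induction x using TensorProduct.induction_on with
  | zero => simp
  | tmul v m => simp
  | add y z hy hz => simp only [map_add, hy, hz]

end Lin

section Fix

variable {k : Type u} [Field k] {A : Type u} [CommRing A] [HopfAlgebra k A]
variable {V : Type w} [AddCommGroup V] [Module k V] [HopfRep.Comod k A V]

attribute [local instance] DynL.grp

/-- the ideal of the stabiliser of the vector `f` -/
noncomputable def fixIdeal (f : V) : Ideal A :=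
  Ideal.span (Set.range fun ℓ : V →ₗ[k] k => contrL A ℓ (ρ k A V f - f ⊗ₜ[k] (1 : A)))

theorem gam_eq_iff (f : V) {R' : Type u} [CommRing R'] [Algebra k R'] (g : A →ₐ[k] R') :
    ActR.gam g f = f ⊗ₜ[k] (1 : R') ↔ ∀ a ∈ fixIdeal (k := k) f, g a = 0 := by
  have hu : g.toLinearMap.lTensor V (ρ k A V f - f ⊗ₜ[k] (1 : A)) =
      ActR.gam g f - f ⊗ₜ[k] (1 : R') := by
    rw [map_sub, LinearMap.lTensor_tmul, AlgHom.toLinearMap_apply, map_one]
    rfl
  constructor
  · intro h
    have hle : fixIdeal (k := k) f ≤ RingHom.ker (g : A →+* R') := by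
      rw [fixIdeal, Ideal.span_le]
      rintro _ ⟨ℓ, rfl⟩
      change g (contrL A ℓ (ρ k A V f - f ⊗ₜ[k] (1 : A))) = 0
      have h1 := contrL_nat g.toLinearMap ℓ (ρ k A V f - f ⊗ₜ[k] (1 : A))
      rw [AlgHom.toLinearMap_apply] at h1
      rw [← h1, hu, h, sub_self, map_zero]
    intro a ha
    exact hle ha
  · intro h
    have h0 : ActR.gam g f - f ⊗ₜ[k] (1 : R') = 0 := by
      apply eq_zero_of_forall_contrL
      intro ℓ
      rw [← hu, contrL_nat, AlgHom.toLinearMap_apply]
      exact h _ (Ideal.subset_span ⟨ℓ, rfl⟩)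
    exact sub_eq_zero.mp h0

theorem mem_quotInvariants_iff_fixIdeal_le (f : V) (I : Ideal A) :
    f ∈ GLin.quotInvariants k A V I ↔ fixIdeal (k := k) f ≤ I := by
  have h := gam_eq_iff (k := k) f (Ideal.Quotient.mkₐ k I)
  rw [GLin.mem_quotInvariants_iff]
  change ActR.gam (Ideal.Quotient.mkₐ k I) f = f ⊗ₜ[k] (1 : A ⧸ I) ↔ _
  rw [h]
  constructor
  · intro h1 a ha
    have := h1 a ha
    rwa [Ideal.Quotient.mkₐ_eq_mk, Ideal.Quotient.eq_zero_iff_mem] at this
  · intro h1 a ha
    rw [Ideal.Quotient.mkₐ_eq_mk, Ideal.Quotient.eq_zero_iff_mem]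
    exact h1 ha

/-- the subgroup of points fixing `f` -/
noncomputable def fixSubgroup (f : V) (R' : Type u) [CommRing R'] [Algebra k R'] :
    Subgroup (WithConv (A →ₐ[k] R')) where
  carrier := {g | ActR.gam g.ofConv f = f ⊗ₜ[k] (1 : R')}
  mul_mem' := by
    intro g h hg hh
    simp only [Set.mem_ofPred_eq] at hg hh ⊢
    have := ActR.gam_mul g.ofConv h.ofConv f
    rw [WithConv.toConv_ofConv, WithConv.toConv_ofConv] at this
    rw [this, hh, ActR.actR_tmul_one, hg]
  one_mem' := by
    simp only [Set.mem_ofPred_eq]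
    rw [AlgHom.convOne_def, WithConv.ofConv_toConv]
    exact ActR.gam_one (A := A) f
  inv_mem' := by
    intro g hg
    simp only [Set.mem_ofPred_eq] at hg ⊢
    have h1 := ActR.gam_mul (g⁻¹).ofConv g.ofConv f
    rw [WithConv.toConv_ofConv, WithConv.toConv_ofConv, inv_mul_cancel, hg,
      ActR.actR_tmul_one] at h1
    rw [← h1, AlgHom.convOne_def, WithConv.ofConv_toConv]
    exact ActR.gam_one (A := A) f

theorem isHopfIdeal_fixIdeal (f : V) : (fixIdeal (k := k) (A := A) f).IsHopfIdeal k := by
  apply DynL.isHopfIdeal_of_subgroup (fixIdeal (k := k) (A := A) f)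
    (fun R' _ _ => fixSubgroup f R')
  intro R' _ _ g
  rw [← gam_eq_iff]
  rfl

end Fix

end Groth.Agent.H62.FixIdeal
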