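import Groth.Agent.H62.GLinMu
import Mathlib.RingTheory.Coalgebra.GroupLike

/-!
# The numerical function for a linear action of a diagonalizable group — helper62
-/

set_option autoImplicit false
universe u
open TensorProduct LaurentPolynomial

namespace Groth.Agent.H62.GLinDiag
open Groth.Agent Groth.Agent.H62.GLinMu

section Basis
variable {k : Type u} [Field k] {A : Type u} [CommRing A] [Bialgebra k A]

theorem range_val :
    Set.range (GroupLike.val (R := k) (A := A)) = {a : A | IsGroupLikeElem k a} := by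
  ext a
  constructor
  · rintro ⟨g, rfl⟩
    exact g.2
  · intro h
    exact ⟨⟨a, h⟩, rfl⟩

/-- The basis of group-like elements of a diagonalizable bialgebra. -/
noncomputable def B (hdiag : HopfRep.IsDiagonalizable k A) : Module.Basis (GroupLike k A) k A :=
  Module.Basis.mk linearIndep_groupLikeVal (by rw [range_val]; exact hdiag.ge)

theorem B_apply (hdiag : HopfRep.IsDiagonalizable k A) (g : GroupLike k A) :
    B hdiag g = g.val := by
  unfold B
  rw [Module.Basis.mk_apply]

/-- `(coord g ⊗ id) ∘ Δ = coord g • g`. -/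
theorem coord_comul (hdiag : HopfRep.IsDiagonalizable k A) (g : GroupLike k A) (a : A) :
    TensorProduct.lid k A (((B hdiag).coord g).rTensor A (CoalgebraStruct.comul (R := k) a)) =
      (B hdiag).coord g a • g.val := by
  have : (TensorProduct.lid k A).toLinearMap ∘ₗ ((B hdiag).coord g).rTensor A ∘ₗ
      (CoalgebraStruct.comul (R := k) (A := A)) =
      (LinearMap.toSpanSingleton k A g.val) ∘ₗ ((B hdiag).coord g) := by
    classical
    apply (B hdiag).ext
    intro h
    simp only [LinearMap.comp_apply, B_apply, h.2.comul_eq_tmul_self, LinearMap.rTensor_tmul,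
      LinearEquiv.coe_coe, TensorProduct.lid_tmul, LinearMap.toSpanSingleton_apply]
    rw [← B_apply hdiag h, Module.Basis.coord_apply, Module.Basis.repr_self, Finsupp.single_apply]
    split_ifs with hgh
    · rw [hgh, B_apply]
    · simp
  exact LinearMap.congr_fun this a

end Basis

section Main
variable {k : Type u} [Field k] {A : Type u} [CommRing A] [Bialgebra k A]
  {ι : Type u} [Fintype ι] [HopfRep.Comod k A (MvPolynomial ι k)]
  [GLin.IsCoactAlg k A (MvPolynomial ι k)]

/-- The coordinates of the orbit map of `v`. -/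
noncomputable def a (v : ι → k) (i : ι) : A :=
  GLin.orbitHom k A (GLin.vecPt k ι v) (MvPolynomial.X i)

omit [Fintype ι] in
theorem c_eq (lam : A →ₐc[k] k[T;T⁻¹]) (v : ι → k) (i : ι) : c lam v i = lam (a v i) := rfl

omit [Fintype ι] in
theorem counit_a (v : ι → k) (i : ι) : CoalgebraStruct.counit (R := k) (a (A := A) v i) = v i := by
  unfold a
  rw [← S11794.apply_eq_counit_orbitHom]
  simp

variable (m : ι → ι → A)
  (hm : ∀ i, HopfRep.Comod.coact (k := k) (A := A) (MvPolynomial.X i : MvPolynomial ι k) =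
    ∑ j, (MvPolynomial.X j : MvPolynomial ι k) ⊗ₜ[k] m i j)

include hm in
theorem a_eq (v : ι → k) (i : ι) : a (A := A) v i = ∑ l, v l • m i l := by
  unfold a
  rw [S11794.orbitHom_apply, S11794.oLin_apply]
  change TensorProduct.lid k A ((GLin.vecPt k ι v).toLinearMap.rTensor A
    (HopfRep.Comod.coact (k := k) (A := A) (MvPolynomial.X i))) = _
  rw [hm i, map_sum, map_sum]
  refine Finset.sum_congr rfl fun l _ => ?_
  rw [LinearMap.rTensor_tmul, TensorProduct.lid_tmul, AlgHom.toLinearMap_apply,
    MvPolynomial.aeval_X]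

include hm in
theorem comul_a (v : ι → k) (i : ι) :
    CoalgebraStruct.comul (R := k) (a (A := A) v i) = ∑ l, a v l ⊗ₜ[k] m i l := by
  have h := LinearMap.congr_fun (S11794.isComodHom_oLin (A := A) (GLin.vecPt k ι v))
    (MvPolynomial.X i)
  rw [LinearMap.comp_apply, LinearMap.comp_apply, hm i, map_sum] at h
  simp only [LinearMap.rTensor_tmul, ← S11794.orbitHom_apply] at h
  exact h

include hm in
theorem weight (hdiag : HopfRep.IsDiagonalizable k A) (g : GroupLike k A) (v : ι → k) (i : ι) :
    ∑ l, (B hdiag).coord g (a v l) • m i l = (B hdiag).coord g (a v i) • g.val := by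
  rw [← coord_comul hdiag g (a v i), comul_a m hm v i, map_sum, map_sum]
  refine Finset.sum_congr rfl fun l _ => ?_
  rw [LinearMap.rTensor_tmul, TensorProduct.lid_tmul]

variable (hdiag : HopfRep.IsDiagonalizable k A) {J : Type*} [Fintype J] (γ : J → GroupLike k A)
  (hγ : Function.Injective γ)
  (hsupp : ∀ i l g, (B hdiag).repr (m i l) g ≠ 0 → g ∈ Set.range γ)

include hm hsupp in
theorem coord_a_eq_zero (v : ι → k) (i : ι) (g : GroupLike k A) (hg : g ∉ Set.range γ) :
    (B hdiag).coord g (a v i) = 0 := by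
  rw [a_eq m hm, map_sum]
  apply Finset.sum_eq_zero
  intro l _
  rw [map_smul, Module.Basis.coord_apply]
  have : (B hdiag).repr (m i l) g = 0 := by
    by_contra h
    exact hg (hsupp i l g h)
  rw [this, smul_zero]

include hm hsupp hγ in
theorem a_eq_sum (v : ι → k) (i : ι) :
    a v i = ∑ j, (B hdiag).coord (γ j) (a v i) • (γ j).val := by
  classical
  rw [← Finset.sum_image (s := Finset.univ) (g := γ)
    (f := fun g => (B hdiag).coord g (a v i) • g.val) (fun x _ y _ h => hγ h)]
  conv_lhs => rw [← (B hdiag).linearCombination_repr (a v i), Finsupp.linearCombination_apply,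
    Finsupp.sum]
  have hcongr : ∀ g ∈ ((B hdiag).repr (a v i)).support,
      ((B hdiag).repr (a v i)) g • (B hdiag) g = (B hdiag).coord g (a v i) • g.val := by
    intro g _
    rw [B_apply, Module.Basis.coord_apply]
  rw [Finset.sum_congr rfl hcongr]
  apply Finset.sum_subset
  · intro g hg
    by_contra hnot
    have hnr : g ∉ Set.range γ := by
      rintro ⟨j, rfl⟩
      exact hnot (Finset.mem_image_of_mem γ (Finset.mem_univ j))
    have := coord_a_eq_zero m hm hdiag γ hsupp v i g hnr
    rw [Module.Basis.coord_apply] at this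
    exact (Finsupp.mem_support_iff.mp hg) this
  · intro g _ hg
    rw [Module.Basis.coord_apply, Finsupp.notMem_support_iff.mp hg, zero_smul]

include hm hsupp hγ in
theorem coeff_c (lam : A →ₐc[k] k[T;T⁻¹]) (e : J → ℤ) (he : ∀ j, lam (γ j).val = T (e j))
    (v : ι → k) (i : ι) (n : ℤ) :
    (c lam v i).coeff n = ∑ j, if e j = n then (B hdiag).coord (γ j) (a v i) else 0 := by
  rw [c_eq]
  conv_lhs => rw [a_eq_sum m hm hdiag γ hγ hsupp v i]
  rw [map_sum, AddMonoidAlgebra.coeff_sum, Finset.sum_apply']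
  refine Finset.sum_congr rfl fun j _ => ?_
  rw [map_smul, he, AddMonoidAlgebra.coeff_smul_apply, LaurentPolynomial.T_apply, smul_eq_mul]
  split_ifs <;> simp

include hm hsupp hγ in
theorem exists_coeff_ne_zero_iff (lam : A →ₐc[k] k[T;T⁻¹]) (e : J → ℤ)
    (he : ∀ j, lam (γ j).val = T (e j)) (v : ι → k) (n : ℤ) :
    (∃ i, (c lam v i).coeff n ≠ 0) ↔
      ∃ j, (∃ i, (B hdiag).coord (γ j) (a v i) ≠ 0) ∧ e j = n := by
  constructor
  · rintro ⟨i, hi⟩
    rw [coeff_c m hm hdiag γ hγ hsupp lam e he] at hi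
    obtain ⟨j, -, hj⟩ := Finset.exists_ne_zero_of_sum_ne_zero hi
    by_cases hej : e j = n
    · rw [if_pos hej] at hj
      exact ⟨j, ⟨i, hj⟩, hej⟩
    · rw [if_neg hej] at hj
      exact absurd rfl hj
  · rintro ⟨j₀, ⟨i₀, hi₀⟩, hej₀⟩
    by_contra hcon
    push Not at hcon
    have hz : ∀ i, ∑ j, (if e j = n then (B hdiag).coord (γ j) (a v i) else 0) = 0 := fun i => by
      rw [← coeff_c m hm hdiag γ hγ hsupp lam e he]
      exact hcon i
    have hsum : ∑ j, (if e j = n then (B hdiag).coord (γ j) (a v i₀) else 0) • (γ j).val = 0 := by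
      calc ∑ j, (if e j = n then (B hdiag).coord (γ j) (a v i₀) else 0) • (γ j).val
          = ∑ j, ∑ l, (if e j = n then (B hdiag).coord (γ j) (a v l) else 0) • m i₀ l := by
            refine Finset.sum_congr rfl fun j _ => ?_
            split_ifs
            · rw [← weight m hm hdiag (γ j) v i₀]
            · simp
        _ = ∑ l, (∑ j, if e j = n then (B hdiag).coord (γ j) (a v l) else 0) • m i₀ l := by
            rw [Finset.sum_comm]
            simp_rw [Finset.sum_smul]
        _ = 0 := by
            simp_rw [hz]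
            simp
    have hli : LinearIndependent k (fun j => (γ j).val) :=
      (linearIndep_groupLikeVal (R := k) (A := A)).comp γ hγ
    have := (Fintype.linearIndependent_iff.mp hli) _ hsum j₀
    rw [if_pos hej₀] at this
    exact hi₀ this

include hm hsupp hγ in
theorem isMu_iff_max (lam : A →ₐc[k] k[T;T⁻¹]) (e : J → ℤ)
    (he : ∀ j, lam (γ j).val = T (e j)) (v : ι → k) (μ : ℤ) :
    GLin.IsMu k A lam v μ ↔
      (∀ j, (∃ i, (B hdiag).coord (γ j) (a v i) ≠ 0) → -e j ≤ μ) ∧
        ∃ j, (∃ i, (B hdiag).coord (γ j) (a v i) ≠ 0) ∧ μ = -e j := by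
  have K := exists_coeff_ne_zero_iff m hm hdiag γ hγ hsupp lam e he v
  rw [isMu_iff]
  constructor
  · rintro ⟨h1, h2⟩
    refine ⟨fun j hj => ?_, ?_⟩
    · by_contra hlt
      push Not at hlt
      obtain ⟨i, hi⟩ := (K (e j)).mpr ⟨j, hj, rfl⟩
      exact hi (h1 i (e j) (by omega))
    · obtain ⟨j, hj, hej⟩ := (K (-μ)).mp h2
      exact ⟨j, hj, by omega⟩
  · rintro ⟨h1, j, hj, hmj⟩
    refine ⟨fun i n hn => ?_, ?_⟩
    · by_contra hne
      obtain ⟨j', hj', hej'⟩ := (K n).mp ⟨i, hne⟩
      have := h1 j' hj'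
      omega
    · exact (K (-μ)).mpr ⟨j, hj, by omega⟩

include hm hsupp hγ in
theorem exists_coord_ne_zero {v : ι → k} (hv : v ≠ 0) :
    ∃ j, ∃ i, (B hdiag).coord (γ j) (a v i) ≠ 0 := by
  obtain ⟨i, hi⟩ := Function.ne_iff.mp hv
  by_contra hcon
  push Not at hcon
  apply hi
  rw [← counit_a (A := A) v i, a_eq_sum m hm hdiag γ hγ hsupp v i]
  simp [hcon]

end Main

end Groth.Agent.H62.GLinDiag
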