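import Groth.Agent.H62.GrossA
import Groth.Prelude.Def_GLin4
import Mathlib.AlgebraicGeometry.Morphisms.Smooth
import Mathlib.AlgebraicGeometry.Group.Affine

/-!
# `GL_n` over a field as a group object of `Over (Spec k)` (definitions shared by the S11234 squad)
-/

set_option autoImplicit false
universe u
open CategoryTheory MonoidalCategory CartesianMonoidalCategory MonObj GrpObj AlgebraicGeometry
open scoped TensorProduct

namespace Groth.Agent.H62.GLkDef

variable (k : Type u) [Field k]

/-- `GL_n` over `k` as a group object of `Over (Spec k)`: the spectrum of the prelude's coordinate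
Hopf algebra `CoordGrp.GLn n k`, with Mathlib's group structure on spectra of Hopf algebras. -/
noncomputable abbrev GLk (n : ℕ) : Over (Spec (CommRingCat.of k)) :=
  (Spec (CommRingCat.of (CoordGrp.GLn n k))).asOver (Spec (CommRingCat.of k))

instance isAffine_GLk (n : ℕ) : IsAffine (GLk k n).left :=
  inferInstanceAs (IsAffine (Spec _))

/-- the entry function `X i j` as a global function on `GL_n`. -/
noncomputable def Xfn (n : ℕ) (i j : Fin n) : Γ((GLk k n).left, ⊤) :=
  (Scheme.ΓSpecIso (CommRingCat.of (CoordGrp.GLn n k))).inv (CoordGrp.GLn.X i j)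

noncomputable example (n : ℕ) : GrpObj (GLk k n) := inferInstance

end Groth.Agent.H62.GLkDef
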