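import Mathlib
import Groth.Agent.H37.RatDense

/-!
# Units on products of varieties, part A: values at rational points, reducedness of products
-/

set_option autoImplicit false
universe u
open CategoryTheory MonoidalCategory CartesianMonoidalCategory AlgebraicGeometry
  CategoryTheory.Limits

namespace Groth.Agent.H62.ProdUnit

variable {k : Type u} [Field k]

/-- value of a global function at a rational point -/
noncomputable def pv {X : Over (Spec (CommRingCat.of k))} (g : Γ(X.left, ⊤))
    (x : 𝟙_ (Over (Spec (CommRingCat.of k))) ⟶ X) : k :=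
  (Scheme.ΓSpecIso (CommRingCat.of k)).hom (x.left.appTop g)

variable {X Y : Over (Spec (CommRingCat.of k))}

theorem pv_mul (g g' : Γ(X.left, ⊤)) (x : 𝟙_ (Over (Spec (CommRingCat.of k))) ⟶ X) :
    pv (g * g') x = pv g x * pv g' x := by
  simp only [pv, map_mul]

theorem pv_one (x : 𝟙_ (Over (Spec (CommRingCat.of k))) ⟶ X) : pv (1 : Γ(X.left, ⊤)) x = 1 := by
  simp only [pv, map_one]

theorem pv_sub (g g' : Γ(X.left, ⊤)) (x : 𝟙_ (Over (Spec (CommRingCat.of k))) ⟶ X) :
    pv (g - g') x = pv g x - pv g' x := by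
  simp only [pv, map_sub]

theorem pv_ne_zero {g : Γ(X.left, ⊤)} (hg : IsUnit g)
    (x : 𝟙_ (Over (Spec (CommRingCat.of k))) ⟶ X) : pv g x ≠ 0 := by
  have h : IsUnit (pv g x) := by
    unfold pv
    exact (hg.map x.left.appTop.hom).map (Scheme.ΓSpecIso (CommRingCat.of k)).hom.hom
  exact h.ne_zero

/-- pulling back along a morphism of `k`-schemes -/
theorem pv_comp {Z : Over (Spec (CommRingCat.of k))} (φ : X ⟶ Z) (g : Γ(Z.left, ⊤))
    (x : 𝟙_ (Over (Spec (CommRingCat.of k))) ⟶ X) :
    pv (φ.left.appTop g) x = pv g (x ≫ φ) := by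
  unfold pv
  rw [Over.comp_left, Scheme.Hom.comp_appTop]
  rfl

/-- value of the pullback of a constant -/
theorem pv_const (c : Γ(Spec (CommRingCat.of k), ⊤))
    (x : 𝟙_ (Over (Spec (CommRingCat.of k))) ⟶ X) :
    pv (X.hom.appTop c) x = (Scheme.ΓSpecIso (CommRingCat.of k)).hom c := by
  unfold pv
  have h : x.left ≫ X.hom = 𝟙 _ := Over.w x
  have h2 : x.left.appTop (X.hom.appTop c) = (x.left ≫ X.hom).appTop c := by
    rw [Scheme.Hom.comp_appTop]
    rfl
  rw [h2, h]
  rfl

section Red

variable [IsAlgClosed k]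

theorem exists_point_mem [LocallyOfFiniteType X.hom] (U : X.left.Opens)
    (hU : (U : Set X.left).Nonempty) :
    ∃ x : 𝟙_ (Over (Spec (CommRingCat.of k))) ⟶ X,
      x.left (IsLocalRing.closedPoint k) ∈ U := by
  haveI : JacobsonSpace X.left := LocallyOfFiniteType.jacobsonSpace X.hom
  obtain ⟨z, hzU, hz⟩ := nonempty_inter_closedPoints hU U.isOpen.isLocallyClosed
  refine ⟨Over.homMk (pointOfClosedPoint X.hom z hz) (pointOfClosedPoint_comp X.hom z hz), ?_⟩
  change pointOfClosedPoint X.hom z hz _ ∈ U
  rw [pointOfClosedPoint_apply]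
  exact hzU

theorem geometricallyReduced [LocallyOfFiniteType X.hom] [IsReduced X.left] :
    GeometricallyReduced X.hom := by
  apply H37.RatDense.geometricallyReduced_of_dense_sections X.hom
    {σ | σ ≫ X.hom = 𝟙 _} (fun σ hσ => hσ)
  rw [dense_iff_inter_open]
  intro U hU hUne
  obtain ⟨x, hx⟩ := exists_point_mem (X := X) ⟨U, hU⟩ hUne
  exact ⟨_, hx, x.left, Over.w x, rfl⟩

theorem isReduced_prod [LocallyOfFiniteType X.hom] [IsReduced X.left]
    [LocallyOfFiniteType Y.hom] [IsReduced Y.left] : IsReduced (X ⊗ Y).left := by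
  haveI := geometricallyReduced (X := X)
  haveI : Flat X.hom := by
    haveI : Subsingleton ↥(Spec (CommRingCat.of k)) :=
      inferInstanceAs (Subsingleton (PrimeSpectrum k))
    infer_instance
  haveI : IsLocallyNoetherian Y.left := LocallyOfFiniteType.isLocallyNoetherian Y.hom
  change IsReduced (pullback X.hom Y.hom)
  infer_instance

/-- a function on a reduced scheme locally of finite type vanishing at all rational points
vanishes -/
theorem eq_zero_of_forall_pv [LocallyOfFiniteType X.hom] [IsReduced X.left] (F : Γ(X.left, ⊤))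
    (h : ∀ x : 𝟙_ (Over (Spec (CommRingCat.of k))) ⟶ X, pv F x = 0) : F = 0 := by
  rw [← basicOpen_eq_bot_iff]
  by_contra hne
  have hne' : ((X.left.basicOpen F : X.left.Opens) : Set X.left).Nonempty := by
    rw [Set.nonempty_iff_ne_empty]
    intro h0
    apply hne
    ext1
    exact h0
  obtain ⟨x, hx⟩ := exists_point_mem (X := X) _ hne'
  have h1 : IsLocalRing.closedPoint k ∈ x.left ⁻¹ᵁ X.left.basicOpen F := hx
  rw [Scheme.preimage_basicOpen_top] at h1
  have h2 : x.left.appTop F = 0 := by
    have := h x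
    unfold pv at this
    have h3 := congrArg (Scheme.ΓSpecIso (CommRingCat.of k)).inv this
    rw [map_zero] at h3
    rw [← h3]
    simp
  rw [h2, Scheme.basicOpen_zero] at h1
  exact h1

end Red

end Groth.Agent.H62.ProdUnit
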