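import Groth.Agent.H62.GrossA
import Groth.Agent.H62.ProdUnitA
import Mathlib.LinearAlgebra.TensorProduct.Finiteness

/-!
# Toolkit, part C: functions on products, density of rational points, translations
-/

universe u

open CategoryTheory MonoidalCategory CartesianMonoidalCategory MonObj GrpObj AlgebraicGeometry
open scoped TensorProduct

namespace Groth.Agent.H62.GrossC

open Groth.Agent.H62.GrossA

attribute [local instance] Groth.Agent.H62.GrossA.algΓ

variable {k : Type u} [Field k]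

section pull

variable {X Y : Over (Spec (CommRingCat.of k))}

/-- pull-back of global functions along a morphism of `k`-schemes, as a `k`-algebra map. -/
noncomputable def pullA (ψ : X ⟶ Y) : Γ(Y.left, ⊤) →ₐ[k] Γ(X.left, ⊤) :=
  { toRingHom := ψ.left.appTop.hom
    commutes' := fun c => by
      change ψ.left.appTop (Y.hom.appTop _) = X.hom.appTop _
      have h : Y.hom.appTop ≫ ψ.left.appTop = X.hom.appTop := by
        rw [← Scheme.Hom.comp_appTop]
        exact congrArg Scheme.Hom.appTop (Over.w ψ)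
      exact congrArg (fun φ => φ.hom ((Scheme.ΓSpecIso (CommRingCat.of k)).inv c)) h }

theorem pullA_apply (ψ : X ⟶ Y) (f : Γ(Y.left, ⊤)) : pullA ψ f = ψ.left.appTop f := rfl

theorem ev_pullA {B : Type u} [CommRing B] [Algebra k B] (x : VecGrp.pt k B ⟶ X) (ψ : X ⟶ Y)
    (f : Γ(Y.left, ⊤)) : ev x (pullA ψ f) = ev (x ≫ ψ) f := (ev_comp x ψ f).symm

end pull

section prod

variable (X Y : Over (Spec (CommRingCat.of k))) [IsAffine X.left] [IsAffine Y.left]

/-- the canonical point of `X × Y` with values in `Γ(X) ⊗ Γ(Y)`. -/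
noncomputable def pP : VecGrp.pt k (Γ(X.left, ⊤) ⊗[k] Γ(Y.left, ⊤)) ⟶ X ⊗ Y :=
  lift (VecGrp.ptMap Algebra.TensorProduct.includeLeft ≫ uP X)
    (VecGrp.ptMap Algebra.TensorProduct.includeRight ≫ uP Y)

/-- the multiplication map `Γ(X) ⊗ Γ(Y) → Γ(X × Y)`. -/
noncomputable def mP : Γ(X.left, ⊤) ⊗[k] Γ(Y.left, ⊤) →ₐ[k] Γ((X ⊗ Y).left, ⊤) :=
  Algebra.TensorProduct.productMap (pullA (fst X Y)) (pullA (snd X Y))

theorem mP_tmul (a : Γ(X.left, ⊤)) (b : Γ(Y.left, ⊤)) :
    mP X Y (a ⊗ₜ b) = (fst X Y).left.appTop a * (snd X Y).left.appTop b := rfl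

theorem isAffine_prod : IsAffine (X ⊗ Y).left := by
  change IsAffine (Limits.pullback X.hom Y.hom)
  infer_instance

theorem uP_prod_eq :
    haveI := isAffine_prod X Y
    uP (X ⊗ Y) = VecGrp.ptMap (mP X Y) ≫ pP X Y := by
  haveI := isAffine_prod X Y
  apply CartesianMonoidalCategory.hom_ext
  · apply ext_pt
    intro f
    rw [Category.assoc, pP, lift_fst, ev_ptMap, ev_ptMap, ev_uP, ev_comp, ev_uP]
    change _ = mP X Y (f ⊗ₜ 1)
    rw [mP_tmul, map_one, _root_.mul_one]
  · apply ext_pt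
    intro f
    rw [Category.assoc, pP, lift_snd, ev_ptMap, ev_ptMap, ev_uP, ev_comp, ev_uP]
    change _ = mP X Y (1 ⊗ₜ f)
    rw [mP_tmul, map_one, _root_.one_mul]

/-- every function on `X × Y` is a finite sum of products of functions on the factors. -/
theorem exists_decomp (F : Γ((X ⊗ Y).left, ⊤)) :
    ∃ (n : ℕ) (a : Fin n → Γ(X.left, ⊤)) (b : Fin n → Γ(Y.left, ⊤)),
      F = ∑ j, (fst X Y).left.appTop (a j) * (snd X Y).left.appTop (b j) := by
  haveI := isAffine_prod X Y
  have h1 : F = mP X Y (ev (pP X Y) F) := by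
    conv_lhs => rw [← ev_uP F, uP_prod_eq, ev_ptMap]
  obtain ⟨n, a, b, hab⟩ := TensorProduct.exists_sum_tmul_eq (ev (pP X Y) F)
  refine ⟨n, a, b, ?_⟩
  rw [h1, hab, map_sum]
  rfl

end prod

section density

variable {X : Over (Spec (CommRingCat.of k))}

theorem pt_hom_eq_id : (VecGrp.pt k k).hom = 𝟙 _ := by
  change Spec.map (CommRingCat.ofHom (algebraMap k k)) = 𝟙 _
  exact Spec.map_id _

/-- the structure morphism to the point. -/
noncomputable def tT (T : Over (Spec (CommRingCat.of k))) : T ⟶ VecGrp.pt k k :=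
  Over.homMk T.hom (by rw [pt_hom_eq_id, Category.comp_id])

theorem tT_unique {T : Over (Spec (CommRingCat.of k))} (a b : T ⟶ VecGrp.pt k k) : a = b := by
  apply Over.OverMorphism.ext
  have ha := Over.w a
  have hb := Over.w b
  rw [pt_hom_eq_id, Category.comp_id] at ha hb
  rw [ha, hb]

/-- `pt k k` is the unit object. -/
noncomputable def ptIsoUnit : VecGrp.pt k k ≅ 𝟙_ (Over (Spec (CommRingCat.of k))) :=
  Over.isoMk (Iso.refl _) (by
    change 𝟙 _ ≫ 𝟙 _ = (VecGrp.pt k k).hom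
    rw [pt_hom_eq_id, Category.id_comp])

/-- density of rational points: functions on a reduced `k`-scheme locally of finite type,
`k` algebraically closed, are determined by their values at rational points. -/
theorem eq_of_forall_ev [IsAlgClosed k] [LocallyOfFiniteType X.hom] [IsReduced X.left]
    {F F' : Γ(X.left, ⊤)} (h : ∀ x : VecGrp.pt k k ⟶ X, ev x F = ev x F') : F = F' := by
  rw [← sub_eq_zero]
  apply ProdUnit.eq_zero_of_forall_pv
  intro x'
  have h1 := h (ptIsoUnit.hom ≫ x')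
  have e1 : (ptIsoUnit.hom ≫ x').left = x'.left := by
    rw [Over.comp_left]
    exact Category.id_comp _
  rw [ProdUnit.pv_sub, sub_eq_zero]
  rw [ev_apply, ev_apply, e1] at h1
  exact h1

end density

section translate

variable {G : Over (Spec (CommRingCat.of k))} [GrpObj G] {B : Type u} [CommRing B] [Algebra k B]

/-- left translation by a rational point. -/
noncomputable def lT (x : VecGrp.pt k k ⟶ G) : G ⟶ G := lift (tT G ≫ x) (𝟙 G) ≫ μ[G]

/-- right translation by a rational point. -/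
noncomputable def rT (x : VecGrp.pt k k ⟶ G) : G ⟶ G := lift (𝟙 G) (tT G ≫ x) ≫ μ[G]

theorem comp_lT (y : VecGrp.pt k B ⟶ G) (x : VecGrp.pt k k ⟶ G) :
    y ≫ lT x = (tT _ ≫ x) * y := by
  rw [lT, ← Category.assoc, comp_lift, Category.comp_id, ← Category.assoc,
    tT_unique (y ≫ tT G) (tT _), Hom.mul_def]

theorem comp_rT (y : VecGrp.pt k B ⟶ G) (x : VecGrp.pt k k ⟶ G) :
    y ≫ rT x = y * (tT _ ≫ x) := by
  rw [rT, ← Category.assoc, comp_lift, Category.comp_id, ← Category.assoc,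
    tT_unique (y ≫ tT G) (tT _), Hom.mul_def]

theorem tT_pt : tT (VecGrp.pt k k) = 𝟙 _ := tT_unique _ _

theorem comp_lT' (y x : VecGrp.pt k k ⟶ G) : y ≫ lT x = x * y := by
  rw [comp_lT, tT_pt, Category.id_comp]

theorem comp_rT' (y x : VecGrp.pt k k ⟶ G) : y ≫ rT x = y * x := by
  rw [comp_rT, tT_pt, Category.id_comp]

theorem ev_lT (y : VecGrp.pt k B ⟶ G) (x : VecGrp.pt k k ⟶ G) (f : Γ(G.left, ⊤)) :
    ev y (pullA (lT x) f) = ev ((tT _ ≫ x) * y) f := by
  rw [ev_pullA, comp_lT]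

theorem ev_rT (y : VecGrp.pt k B ⟶ G) (x : VecGrp.pt k k ⟶ G) (f : Γ(G.left, ⊤)) :
    ev y (pullA (rT x) f) = ev (y * (tT _ ≫ x)) f := by
  rw [ev_pullA, comp_rT]

theorem ev_lT' (y x : VecGrp.pt k k ⟶ G) (f : Γ(G.left, ⊤)) :
    ev y (pullA (lT x) f) = ev (x * y) f := by
  rw [ev_pullA, comp_lT']

theorem ev_rT' (y x : VecGrp.pt k k ⟶ G) (f : Γ(G.left, ⊤)) :
    ev y (pullA (rT x) f) = ev (y * x) f := by
  rw [ev_pullA, comp_rT']

/-- values of a function on a product: `F(x, y)` for a decomposition of `F`. -/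
theorem ev_mul_of_decomp [IsAffine G.left] {f : Γ(G.left, ⊤)} {n : ℕ} {a b : Fin n → Γ(G.left, ⊤)}
    (h : μ[G].left.appTop f = ∑ j, (fst G G).left.appTop (a j) * (snd G G).left.appTop (b j))
    (x y : VecGrp.pt k B ⟶ G) : ev (x * y) f = ∑ j, ev x (a j) * ev y (b j) := by
  have h1 := congrArg (ev (lift x y)) h
  rw [← ev_comp, ← Hom.mul_def, map_sum] at h1
  rw [h1]
  refine Finset.sum_congr rfl fun j _ => ?_
  rw [map_mul, ← ev_comp, ← ev_comp, lift_fst, lift_snd]

end translate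

end Groth.Agent.H62.GrossC
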