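import Groth.Agent.H62.GLkDef
import Groth.Agent.H62.GrossC
import Groth.Agent.H1.GModComod.Basic

/-!
# Morphisms to `GL_n` over a field: extensionality by entries and homomorphisms from matrices
-/

set_option autoImplicit false
universe u
open CategoryTheory MonoidalCategory CartesianMonoidalCategory MonObj GrpObj AlgebraicGeometry
open scoped TensorProduct

namespace Groth.Agent.H62.GLkHom

open Groth.Agent.H62.GrossA Groth.Agent.H62.GrossC Groth.Agent.H62.GLkDef
  Groth.Agent.H1.GModComod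

attribute [local instance] Groth.Agent.H62.GrossA.algΓ

variable {k : Type u} [Field k]

section bridge

variable {A : Type u} [CommRing A] [HopfAlgebra k A] {B : Type u} [CommRing B] [Algebra k B]

/-- values of coordinate functions at a point of the spectrum of a Hopf algebra. -/
theorem ev_inv (g : VecGrp.pt k B ⟶ (Spec (CommRingCat.of A)).asOver (Spec (CommRingCat.of k)))
    (a : A) : ev g ((Scheme.ΓSpecIso (CommRingCat.of A)).inv a) = fOf g a := by
  conv_lhs => rw [← gOf_fOf g]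
  rw [ev_apply]
  have h1 : (gOf (fOf g)).left = Spec.map (CommRingCat.ofHom (fOf g).toRingHom) := rfl
  rw [h1]
  have h2 := congrArg (fun ψ => ψ.hom ((Scheme.ΓSpecIso (CommRingCat.of A)).inv a))
    (Scheme.ΓSpecIso_naturality (CommRingCat.ofHom (fOf g).toRingHom))
  simp only [CommRingCat.hom_comp, RingHom.comp_apply] at h2
  refine h2.trans ?_
  simp

end bridge

theorem ev_Xfn {n : ℕ} {B : Type u} [CommRing B] [Algebra k B] (g : VecGrp.pt k B ⟶ GLk k n)
    (i j : Fin n) : ev g (Xfn k n i j) = fOf g (CoordGrp.GLn.X i j) :=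
  ev_inv g _

/-- points of `GL_n` are determined by their entries. -/
theorem pt_ext_entries {n : ℕ} {B : Type u} [CommRing B] [Algebra k B]
    (g g' : VecGrp.pt k B ⟶ GLk k n)
    (h : ∀ i j, ev g (Xfn k n i j) = ev g' (Xfn k n i j)) : g = g' := by
  rw [← gOf_fOf g, ← gOf_fOf g']
  congr 1
  apply CoordGrp.GLn.algHom_ext
  · intro i j
    rw [← ev_Xfn, ← ev_Xfn, h]
  · -- `Dinv` is the inverse of `det`
    have hdet : fOf g CoordGrp.GLn.det = fOf g' CoordGrp.GLn.det := by
      rw [CoordGrp.GLn.det_eq, AlgHom.map_det, AlgHom.map_det]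
      congr 1
      ext i j
      simp only [AlgHom.mapMatrix_apply, Matrix.map_apply, CoordGrp.GLn.genMat]
      rw [← ev_Xfn, ← ev_Xfn, h]
    have h1 : fOf g CoordGrp.GLn.det * fOf g CoordGrp.GLn.Dinv = 1 := by
      rw [← map_mul, CoordGrp.GLn.det_mul_Dinv, map_one]
    have h2 : fOf g' CoordGrp.GLn.det * fOf g' CoordGrp.GLn.Dinv = 1 := by
      rw [← map_mul, CoordGrp.GLn.det_mul_Dinv, map_one]
    calc fOf g CoordGrp.GLn.Dinv
        = fOf g CoordGrp.GLn.Dinv * (fOf g' CoordGrp.GLn.det * fOf g' CoordGrp.GLn.Dinv) := by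
          rw [h2, _root_.mul_one]
      _ = (fOf g CoordGrp.GLn.det * fOf g CoordGrp.GLn.Dinv) * fOf g' CoordGrp.GLn.Dinv := by
          rw [← hdet]; ring
      _ = fOf g' CoordGrp.GLn.Dinv := by rw [h1, _root_.one_mul]

/-- (GE) morphisms from an affine `k`-scheme to `GL_n` are determined by their entries on points. -/
theorem hom_ext_entries {X : Over (Spec (CommRingCat.of k))} [IsAffine X.left] (n : ℕ)
    (a b : X ⟶ GLk k n)
    (h : ∀ (B : Type u) [CommRing B] [Algebra k B] (x : VecGrp.pt k B ⟶ X) (i j : Fin n),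
      ev (x ≫ a) (Xfn k n i j) = ev (x ≫ b) (Xfn k n i j)) : a = b := by
  have h1 : uP X ≫ a = uP X ≫ b := pt_ext_entries _ _ (h _ (uP X))
  apply ext_hom
  intro F
  have h2 : a.left.appTop F = ev (uP X) (pullA a F) := (ev_uP _).symm
  have h3 : b.left.appTop F = ev (uP X) (pullA b F) := (ev_uP _).symm
  rw [h2, h3, ev_pullA, ev_pullA, h1]

instance isIso_uP (X : Over (Spec (CommRingCat.of k))) [IsAffine X.left] : IsIso (uP X) := by
  haveI : IsIso ((Over.forget _).map (uP X)) := by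
    change IsIso X.left.isoSpec.inv
    infer_instance
  exact isIso_of_reflects_iso (uP X) (Over.forget _)

section hom

variable {G : Over (Spec (CommRingCat.of k))} [GrpObj G] [IsAffine G.left]

/-- the morphism `G ⟶ GL_n` attached to an algebra map from the coordinate ring. -/
noncomputable def homOfAlg {n : ℕ} (φ : CoordGrp.GLn n k →ₐ[k] Γ(G.left, ⊤)) : G ⟶ GLk k n :=
  (asIso (uP G)).inv ≫ gOf φ

theorem comp_homOfAlg {n : ℕ} (φ : CoordGrp.GLn n k →ₐ[k] Γ(G.left, ⊤)) {B : Type u} [CommRing B]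
    [Algebra k B] (x : VecGrp.pt k B ⟶ G) : x ≫ homOfAlg φ = gOf ((ev x).comp φ) := by
  rw [homOfAlg, gOf_comp, ← Category.assoc]
  congr 1
  rw [Iso.comp_inv_eq, asIso_hom]
  exact pt_eq x

theorem ev_homOfAlg {n : ℕ} (φ : CoordGrp.GLn n k →ₐ[k] Γ(G.left, ⊤)) {B : Type u} [CommRing B]
    [Algebra k B] (x : VecGrp.pt k B ⟶ G) (i j : Fin n) :
    ev (x ≫ homOfAlg φ) (Xfn k n i j) = ev x (φ (CoordGrp.GLn.X i j)) := by
  rw [ev_Xfn, comp_homOfAlg, fOf_gOf]
  rfl

/-- entries of a product of points of `GL_n`. -/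
theorem ev_mul_Xfn {n : ℕ} {B : Type u} [CommRing B] [Algebra k B] (g g' : VecGrp.pt k B ⟶ GLk k n)
    (i j : Fin n) :
    ev (g * g') (Xfn k n i j) = ∑ l, ev g (Xfn k n i l) * ev g' (Xfn k n l j) := by
  rw [ev_Xfn, fOf_mul]
  change (WithConv.toConv (fOf g) * WithConv.toConv (fOf g')) (CoordGrp.GLn.X i j) = _
  rw [AlgHom.convMul_apply, CoordGrp.GLn.comul_X, map_sum]
  refine Finset.sum_congr rfl fun l _ => ?_
  rw [ev_Xfn, ev_Xfn]
  simp

/-- entries of the unit point of `GL_n`. -/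
theorem ev_one_Xfn {n : ℕ} {B : Type u} [CommRing B] [Algebra k B] (i j : Fin n) :
    ev (1 : VecGrp.pt k B ⟶ GLk k n) (Xfn k n i j) = (1 : Matrix (Fin n) (Fin n) B) i j := by
  rw [ev_Xfn, fOf_one]
  change (1 : WithConv (CoordGrp.GLn n k →ₐ[k] B)) (CoordGrp.GLn.X i j) = _
  rw [AlgHom.convOne_apply, CoordGrp.GLn.counit_X, Matrix.one_apply]
  split_ifs <;> simp

/-- (GH) a multiplicative matrix of functions on an affine group `G` over `k` defines a
homomorphism `G ⟶ GL_n`. -/
theorem exists_hom_of_matrix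
    (n : ℕ) (d : Matrix (Fin n) (Fin n) Γ(G.left, ⊤))
    (hmul : ∀ (B : Type u) [CommRing B] [Algebra k B] (x y : VecGrp.pt k B ⟶ G),
      d.map (fun f => ev (x * y) f) = d.map (fun f => ev x f) * d.map (fun f => ev y f))
    (hone : ∀ (B : Type u) [CommRing B] [Algebra k B],
      d.map (fun f => ev (1 : VecGrp.pt k B ⟶ G) f) = 1) :
    ∃ r : G ⟶ GLk k n, IsMonHom r ∧
      ∀ (B : Type u) [CommRing B] [Algebra k B] (x : VecGrp.pt k B ⟶ G) (i j : Fin n),
        ev (x ≫ r) (Xfn k n i j) = ev x (d i j) := by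
  -- the inverse determinant
  have hdu : d.map (fun f => ev (uP G) f) = d := by
    ext i j
    rw [Matrix.map_apply, ev_uP]
  have h1 := hmul _ (uP G) (uP G)⁻¹
  rw [mul_inv_cancel, hone, hdu] at h1
  have hdet : d.det * (d.map (fun f => ev (uP G)⁻¹ f)).det = 1 := by
    rw [← Matrix.det_mul, ← h1, Matrix.det_one]
  let φ : CoordGrp.GLn n k →ₐ[k] Γ(G.left, ⊤) := CoordGrp.GLn.pt n k d _ hdet
  have hent : ∀ (B : Type u) [CommRing B] [Algebra k B] (x : VecGrp.pt k B ⟶ G) (i j : Fin n),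
      ev (x ≫ homOfAlg φ) (Xfn k n i j) = ev x (d i j) := by
    intro B _ _ x i j
    rw [ev_homOfAlg, CoordGrp.GLn.pt_X]
  refine ⟨homOfAlg φ, ⟨?_, ?_⟩, hent⟩
  · -- unit
    haveI : IsAffine (𝟙_ (Over (Spec (CommRingCat.of k)))).left :=
      inferInstanceAs (IsAffine (Spec _))
    apply hom_ext_entries
    intro B _ _ p i j
    have hp : p ≫ η[G] = 1 := by
      rw [Hom.one_def]
      congr 1
      exact toUnit_unique _ _
    have hp' : p ≫ η[GLk k n] = 1 := by
      rw [Hom.one_def]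
      congr 1
      exact toUnit_unique _ _
    rw [← Category.assoc, hp, hp', hent, ev_one_Xfn]
    exact congrFun (congrFun (hone B) i) j
  · -- multiplication
    haveI := isAffine_prod G G
    apply hom_ext_entries
    intro B _ _ p i j
    have hp : p ≫ μ[G] = (p ≫ fst G G) * (p ≫ snd G G) := by
      rw [Hom.mul_def, lift_comp_fst_snd]
    have hp' : p ≫ (homOfAlg φ ⊗ₘ homOfAlg φ) ≫ μ[GLk k n] =
        ((p ≫ fst G G) ≫ homOfAlg φ) * ((p ≫ snd G G) ≫ homOfAlg φ) := by
      rw [Hom.mul_def, ← lift_map, lift_comp_fst_snd, Category.assoc]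
    rw [← Category.assoc, hp, hp', hent, ev_mul_Xfn]
    have h2 := congrFun (congrFun (hmul B (p ≫ fst G G) (p ≫ snd G G)) i) j
    rw [Matrix.map_apply, Matrix.mul_apply] at h2
    rw [h2]
    refine Finset.sum_congr rfl fun l _ => ?_
    rw [hent, hent]
    rfl

end hom

end Groth.Agent.H62.GLkHom
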