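import Groth.Agent.H62.GLkDef
import Mathlib.RingTheory.Smooth.Basic
import Mathlib.RingTheory.RingHom.Smooth
import Mathlib.RingTheory.Localization.Away.Basic
import Mathlib.AlgebraicGeometry.Morphisms.Smooth

/-!
# `GL_n` is smooth over a field: the coordinate ring is a localisation of a polynomial ring
-/

set_option autoImplicit false
universe u
open CategoryTheory AlgebraicGeometry

namespace Groth.Agent.H62.GLkSmooth

open CoordGrp Groth.Agent.H62.GLkDef

variable (n : ℕ) (k : Type u) [Field k]

/-- the polynomial ring in the matrix entries. -/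
abbrev P := MvPolynomial (Fin n × Fin n) k

/-- the generic matrix. -/
noncomputable def genP : Matrix (Fin n) (Fin n) (P n k) := fun i j => MvPolynomial.X (i, j)

/-- the determinant of the generic matrix. -/
noncomputable def δ : P n k := (genP n k).det

/-- the localisation at the determinant. -/
abbrev L := Localization.Away (δ n k)

/-- entries to entries. -/
noncomputable def toG₀ : P n k →ₐ[k] GLn n k := MvPolynomial.aeval (fun p => GLn.X p.1 p.2)

theorem toG₀_X (i j : Fin n) : toG₀ n k (MvPolynomial.X (i, j)) = GLn.X i j := by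
  simp [toG₀]

theorem toG₀_δ : toG₀ n k (δ n k) = GLn.det := by
  rw [δ, AlgHom.map_det, GLn.det_eq]
  congr 1
  ext i j
  simp [genP, toG₀, GLn.genMat]

theorem isUnit_toG₀ (y : Submonoid.powers (δ n k)) : IsUnit (toG₀ n k y) := by
  obtain ⟨_, m, rfl⟩ := y
  rw [map_pow, toG₀_δ]
  exact (IsUnit.of_mul_eq_one _ GLn.det_mul_Dinv).pow m

/-- the map from the localisation. -/
noncomputable def fwd : L n k →ₐ[k] GLn n k :=
  IsLocalization.liftAlgHom (M := Submonoid.powers (δ n k)) (f := toG₀ n k) (isUnit_toG₀ n k)

theorem fwd_algebraMap (p : P n k) : fwd n k (algebraMap (P n k) (L n k) p) = toG₀ n k p := by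
  rw [fwd, IsLocalization.liftAlgHom_apply, IsLocalization.lift_eq]
  rfl

theorem det_map : ((genP n k).map (algebraMap (P n k) (L n k))).det *
    IsLocalization.Away.invSelf (δ n k) = 1 := by
  have h : ((genP n k).map (algebraMap (P n k) (L n k))).det =
      algebraMap (P n k) (L n k) (δ n k) := by
    have h0 := RingHom.map_det (algebraMap (P n k) (L n k)) (genP n k)
    exact h0.symm
  rw [h]
  exact IsLocalization.Away.mul_invSelf (δ n k)

/-- the map to the localisation. -/
noncomputable def bwd : GLn n k →ₐ[k] L n k :=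
  GLn.pt n k ((genP n k).map (algebraMap (P n k) (L n k)))
    (IsLocalization.Away.invSelf (δ n k)) (det_map n k)

theorem bwd_fwd : (bwd n k).comp (fwd n k) = AlgHom.id k (L n k) := by
  apply AlgHom.coe_ringHom_injective
  apply IsLocalization.ringHom_ext (Submonoid.powers (δ n k))
  have h : ((bwd n k).comp (fwd n k)).comp (IsScalarTower.toAlgHom k (P n k) (L n k)) =
      (AlgHom.id k (L n k)).comp (IsScalarTower.toAlgHom k (P n k) (L n k)) := by
    apply MvPolynomial.algHom_ext
    rintro ⟨i, j⟩
    simp only [AlgHom.comp_apply, IsScalarTower.coe_toAlgHom', AlgHom.id_apply]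
    rw [fwd_algebraMap, toG₀_X, bwd, GLn.pt_X]
    rfl
  exact RingHom.ext fun p => DFunLike.congr_fun h p

theorem fwd_bwd : (fwd n k).comp (bwd n k) = AlgHom.id k (GLn n k) := by
  apply GLn.algHom_ext
  · intro i j
    simp only [AlgHom.comp_apply, AlgHom.id_apply]
    rw [bwd, GLn.pt_X]
    change fwd n k (algebraMap (P n k) (L n k) (MvPolynomial.X (i, j))) = _
    rw [fwd_algebraMap, toG₀_X]
  · simp only [AlgHom.comp_apply, AlgHom.id_apply]
    rw [bwd, GLn.pt_Dinv]
    have h1 : fwd n k (algebraMap (P n k) (L n k) (δ n k)) *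
        fwd n k (IsLocalization.Away.invSelf (δ n k)) = 1 := by
      rw [← map_mul, IsLocalization.Away.mul_invSelf, map_one]
    rw [fwd_algebraMap, toG₀_δ] at h1
    calc fwd n k (IsLocalization.Away.invSelf (δ n k))
        = (GLn.Dinv * GLn.det) * fwd n k (IsLocalization.Away.invSelf (δ n k)) := by
          rw [GLn.Dinv_mul_det, one_mul]
      _ = GLn.Dinv * (GLn.det * fwd n k (IsLocalization.Away.invSelf (δ n k))) := by ring
      _ = GLn.Dinv := by rw [h1, mul_one]

/-- the coordinate ring of `GL_n` is the localisation of the polynomial ring at the determinant. -/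
noncomputable def equiv : L n k ≃ₐ[k] GLn n k :=
  AlgEquiv.ofAlgHom (fwd n k) (bwd n k) (fwd_bwd n k) (bwd_fwd n k)

theorem smooth_alg : Algebra.Smooth k (GLn n k) := by
  haveI : Algebra.Smooth k (P n k) := ⟨inferInstance, inferInstance⟩
  haveI : Algebra.Smooth (P n k) (L n k) := Algebra.Smooth.of_isLocalization_Away (δ n k)
  haveI : Algebra.Smooth k (L n k) := Algebra.Smooth.comp k (P n k) (L n k)
  exact Algebra.Smooth.of_equiv (equiv n k)

/-- (SM) `GL_n` is smooth over `k`. -/
theorem smooth_GLk : Smooth (GLk k n).hom := by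
  change Smooth (Spec.map (CommRingCat.ofHom (algebraMap k (GLn n k))))
  rw [HasRingHomProperty.Spec_iff (P := @Smooth)]
  exact RingHom.smooth_algebraMap.mpr (smooth_alg n k)

end Groth.Agent.H62.GLkSmooth
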