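import Groth.Prelude.Def_W4bk4grossh111Obs
import Mathlib.AlgebraicGeometry.AffineScheme
import Mathlib.AlgebraicGeometry.Morphisms.ClosedImmersion
import Mathlib.AlgebraicGeometry.Morphisms.Affine
import Mathlib.LinearAlgebra.Dual.Lemmas

/-!
# Toolkit for rational modules in point-functor form over an affine group scheme over a field

* `algΓ X` : the `k`-algebra structure on the global functions of a `k`-scheme;
* `ev x` : value of global functions at a `B`-point, as a `k`-algebra map;
* `uP X` : the universal point of an affine `k`-scheme; `pt_eq : x = ptMap (ev x) ≫ uP X`;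
* `isRTransInv_of_pts`, `IsRTransInv.ev_mul` : pointwise characterisation of right-translation invariance;
* `coef ρ a l` : the matrix coefficient `x ↦ l (x · a)`, with `ev_coef`.
* `fixed_of_hull` : invariants of `H` are fixed by the observable hull.
-/

universe u

open CategoryTheory MonoidalCategory CartesianMonoidalCategory MonObj GrpObj AlgebraicGeometry
open scoped TensorProduct

namespace Groth.Agent.H62.GrossA

variable {k : Type u} [Field k]

/-- the `k`-algebra structure on global functions of a `k`-scheme. -/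
@[reducible] noncomputable def algΓ (X : Over (Spec (CommRingCat.of k))) : Algebra k Γ(X.left, ⊤) :=
  ((Scheme.ΓSpecIso (CommRingCat.of k)).inv ≫ X.hom.appTop).hom.toAlgebra

attribute [local instance] algΓ

theorem algebraMap_Γ (X : Over (Spec (CommRingCat.of k))) (c : k) :
    algebraMap k Γ(X.left, ⊤) c = X.hom.appTop ((Scheme.ΓSpecIso (CommRingCat.of k)).inv c) := rfl

section ev

variable {X Y : Over (Spec (CommRingCat.of k))} {B B' : Type u} [CommRing B] [Algebra k B]
  [CommRing B'] [Algebra k B']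

theorem ev_aux (x : VecGrp.pt k B ⟶ X) :
    (Scheme.ΓSpecIso (CommRingCat.of k)).inv ≫ X.hom.appTop ≫ x.left.appTop ≫
      (Scheme.ΓSpecIso (CommRingCat.of B)).hom = CommRingCat.ofHom (algebraMap k B) := by
  have h : X.hom.appTop ≫ x.left.appTop =
      (Spec.map (CommRingCat.ofHom (algebraMap k B))).appTop := by
    rw [← Scheme.Hom.comp_appTop]
    exact congrArg Scheme.Hom.appTop (Over.w x)
  rw [reassoc_of% h, ← Scheme.ΓSpecIso_inv_naturality_assoc, Iso.inv_hom_id, Category.comp_id]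

/-- value of a global function at a `B`-point, as a `k`-algebra map. -/
noncomputable def ev (x : VecGrp.pt k B ⟶ X) : Γ(X.left, ⊤) →ₐ[k] B :=
  { toRingHom := (x.left.appTop ≫ (Scheme.ΓSpecIso (CommRingCat.of B)).hom).hom
    commutes' := fun c => by
      have := congrArg (fun φ => φ.hom c) (ev_aux x)
      exact this }

theorem ev_apply (x : VecGrp.pt k B ⟶ X) (f : Γ(X.left, ⊤)) :
    ev x f = (Scheme.ΓSpecIso (CommRingCat.of B)).hom (x.left.appTop f) := rfl

theorem ev_comp (x : VecGrp.pt k B ⟶ X) (ψ : X ⟶ Y) (f : Γ(Y.left, ⊤)) :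
    ev (x ≫ ψ) f = ev x (ψ.left.appTop f) := by
  rw [ev_apply, ev_apply, Over.comp_left, Scheme.Hom.comp_appTop]
  rfl

theorem ev_ptMap (φ : B →ₐ[k] B') (x : VecGrp.pt k B ⟶ X) (f : Γ(X.left, ⊤)) :
    ev (VecGrp.ptMap φ ≫ x) f = φ (ev x f) := by
  rw [ev_apply, ev_apply, Over.comp_left, Scheme.Hom.comp_appTop, VecGrp.ptMap_left]
  have := congrArg (fun ψ => ψ.hom (x.left.appTop f))
    (Scheme.ΓSpecIso_naturality (CommRingCat.ofHom φ.toRingHom))
  exact this

theorem ev_injective_appTop (x : VecGrp.pt k B ⟶ X) {f f' : Γ(X.left, ⊤)} :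
    ev x f = ev x f' ↔ x.left.appTop f = x.left.appTop f' := by
  rw [ev_apply, ev_apply]
  constructor
  · intro h
    have := congrArg (Scheme.ΓSpecIso (CommRingCat.of B)).inv h
    simpa using this
  · intro h; rw [h]

end ev

section univ

variable {X Y : Over (Spec (CommRingCat.of k))} {B B' : Type u} [CommRing B] [Algebra k B]
  [CommRing B'] [Algebra k B']

/-- the universal point of an affine `k`-scheme. -/
noncomputable def uP (X : Over (Spec (CommRingCat.of k))) [IsAffine X.left] :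
    VecGrp.pt k Γ(X.left, ⊤) ⟶ X :=
  Over.homMk X.left.isoSpec.inv (by
    change X.left.isoSpec.inv ≫ X.hom = Spec.map (CommRingCat.ofHom (algebraMap k Γ(X.left, ⊤)))
    rw [Iso.inv_comp_eq, RingHom.algebraMap_toAlgebra, CommRingCat.ofHom_hom, Spec.map_comp,
      Scheme.isoSpec_hom, ← Scheme.toSpecΓ_naturality_assoc]
    simp)

theorem ev_uP [IsAffine X.left] (f : Γ(X.left, ⊤)) : ev (uP X) f = f := by
  rw [ev_apply]
  have h : X.left.isoSpec.inv.appTop ≫ (Scheme.ΓSpecIso Γ(X.left, ⊤)).hom = 𝟙 _ := by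
    rw [← Scheme.toSpecΓ_appTop, ← Scheme.Hom.comp_appTop, Scheme.toSpecΓ_isoSpec_inv]
    rfl
  exact congrArg (fun φ => φ.hom f) h

/-- morphisms to an affine `k`-scheme are determined by their effect on global functions. -/
theorem ext_hom [IsAffine X.left] {T : Over (Spec (CommRingCat.of k))} {x x' : T ⟶ X}
    (h : ∀ f : Γ(X.left, ⊤), x.left.appTop f = x'.left.appTop f) : x = x' := by
  apply Over.OverMorphism.ext
  apply ext_of_isAffine
  ext f
  exact h f

theorem ext_pt [IsAffine X.left] {x x' : VecGrp.pt k B ⟶ X}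
    (h : ∀ f : Γ(X.left, ⊤), ev x f = ev x' f) : x = x' :=
  ext_hom fun f => by
    have := congrArg (Scheme.ΓSpecIso (CommRingCat.of B)).inv (h f)
    simpa [ev_apply] using this

theorem pt_eq [IsAffine X.left] (x : VecGrp.pt k B ⟶ X) :
    x = VecGrp.ptMap (ev x) ≫ uP X :=
  ext_pt fun f => by rw [ev_ptMap, ev_uP]

end univ

section trans

variable {G T : Over (Spec (CommRingCat.of k))} [GrpObj G] {B : Type u} [CommRing B] [Algebra k B]

theorem IsRTransInv.ev_mul {g : T ⟶ G} {f : Γ(G.left, ⊤)} (h : AGF.IsRTransInv g f)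
    (x : VecGrp.pt k B ⟶ G) (t : VecGrp.pt k B ⟶ T) : ev (x * (t ≫ g)) f = ev x f := by
  have h1 := congrArg (ev (lift x t)) h
  rw [← ev_comp, ← ev_comp, lift_fst, ← Category.assoc, lift_whiskerLeft] at h1
  exact h1

theorem isRTransInv_of_pts [IsAffine G.left] [IsAffine T.left] {g : T ⟶ G} {f : Γ(G.left, ⊤)}
    (h : ∀ (B : Type u) [CommRing B] [Algebra k B] (x : VecGrp.pt k B ⟶ G)
      (t : VecGrp.pt k B ⟶ T), ev (x * (t ≫ g)) f = ev x f) : AGF.IsRTransInv g f := by
  haveI : IsAffine (G ⊗ T).left := by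
    change IsAffine (Limits.pullback G.hom T.hom)
    infer_instance
  have h1 := h _ (uP (G ⊗ T) ≫ fst G T) (uP (G ⊗ T) ≫ snd G T)
  have h2 : (uP (G ⊗ T) ≫ fst G T) * ((uP (G ⊗ T) ≫ snd G T) ≫ g) =
      uP (G ⊗ T) ≫ (G ◁ g) ≫ μ[G] := by
    rw [Hom.mul_def, ← Category.assoc (uP (G ⊗ T)) (G ◁ g)]
    congr 1
    rw [← lift_whiskerLeft, lift_comp_fst_snd]
  rw [h2, ev_comp, ev_uP, ev_comp, ev_uP] at h1
  exact h1

end trans

section coef

variable {G : Over (Spec (CommRingCat.of k))} [GrpObj G]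
  {M : Type u} [AddCommGroup M] [Module k M] (ρ : VecGrp.GMod G M)
  {B B' : Type u} [CommRing B] [Algebra k B] [CommRing B'] [Algebra k B']

/-- contraction of `B ⊗ M` with a linear form on `M`. -/
noncomputable def ctr (B : Type u) [CommRing B] [Algebra k B] (l : M →ₗ[k] k) : B ⊗[k] M →ₗ[k] B :=
  (TensorProduct.rid k B).toLinearMap ∘ₗ l.lTensor B

@[simp] theorem ctr_tmul (l : M →ₗ[k] k) (b : B) (m : M) : ctr B l (b ⊗ₜ[k] m) = l m • b := by
  simp [ctr]

theorem ctr_Wmap (l : M →ₗ[k] k) (φ : B →ₐ[k] B') (z : B ⊗[k] M) :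
    ctr B' l (VecGrp.Wmap φ z) = φ (ctr B l z) := by
  induction z using TensorProduct.induction_on with
  | zero => simp
  | tmul b m => simp
  | add x y hx hy => simp only [map_add, hx, hy]

/-- elements of `k ⊗ M` are separated by contractions. -/
theorem eq_of_ctr {z z' : k ⊗[k] M} (h : ∀ l : M →ₗ[k] k, ctr k l z = ctr k l z') : z = z' := by
  apply (TensorProduct.lid k M).injective
  rw [← sub_eq_zero, ← map_sub]
  rw [← Module.forall_dual_apply_eq_zero_iff k]
  intro l
  have key : ∀ w : k ⊗[k] M, l (TensorProduct.lid k M w) = ctr k l w := by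
    intro w
    induction w using TensorProduct.induction_on with
    | zero => simp
    | tmul b m => simp [mul_comm]
    | add x y hx hy => simp only [map_add, hx, hy]
  rw [key, map_sub, h l, sub_self]

/-- the matrix coefficient `x ↦ l (x · a)` as a global function on the affine group `G`. -/
noncomputable def coef [IsAffine G.left] (a : M) (l : M →ₗ[k] k) : Γ(G.left, ⊤) :=
  ctr Γ(G.left, ⊤) l (ρ.ρ Γ(G.left, ⊤) (uP G) ((1 : Γ(G.left, ⊤)) ⊗ₜ[k] a))

theorem ev_coef [IsAffine G.left] (a : M) (l : M →ₗ[k] k) (x : VecGrp.pt k B ⟶ G) :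
    ev x (coef ρ a l) = ctr B l (ρ.ρ B x ((1 : B) ⊗ₜ[k] a)) := by
  have h := ρ.naturality (ev x) (uP G) ((1 : Γ(G.left, ⊤)) ⊗ₜ[k] a)
  rw [← pt_eq x, VecGrp.Wmap_tmul, map_one] at h
  rw [← h, ctr_Wmap]
  rfl

end coef

section hull

variable {G H : Over (Spec (CommRingCat.of k))} [GrpObj G] [GrpObj H]
  {M : Type u} [AddCommGroup M] [Module k M] (ρ : VecGrp.GMod G M)

/-- matrix coefficients of an `H`-invariant vector are right-`H`-invariant functions. -/
theorem coef_isRTransInv [IsAffine G.left] [IsAffine H.left] (i : H ⟶ G) (a : M)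
    (ha : a ∈ ρ.fixedUnder i) (l : M →ₗ[k] k) : AGF.IsRTransInv i (coef ρ a l) := by
  apply isRTransInv_of_pts
  intro B _ _ x t
  rw [ev_coef, ev_coef, map_mul, LinearEquiv.mul_apply, ha B t]

/-- invariants of `H` are fixed by the observable hull of `H`. -/
theorem fixed_of_hull [IsAffine G.left] [IsAffine H.left] (i : H ⟶ G)
    (g : VecGrp.pt k k ⟶ G)
    (hg : ∀ f : Γ(G.left, ⊤), AGF.IsRTransInv i f → AGF.IsRTransInv g f)
    (a : M) (ha : a ∈ ρ.fixedUnder i) :
    ρ.ρ k g ((1 : k) ⊗ₜ[k] a) = (1 : k) ⊗ₜ[k] a := by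
  apply eq_of_ctr
  intro l
  have h1 := IsRTransInv.ev_mul (hg _ (coef_isRTransInv ρ i a ha l)) (1 : VecGrp.pt k k ⟶ G)
    (𝟙 (VecGrp.pt k k))
  rw [Category.id_comp, _root_.one_mul, ev_coef, ev_coef, map_one] at h1
  exact h1

end hull

end Groth.Agent.H62.GrossA
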