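import Mathlib
import Groth.Agent.H62.LinTriv
import Groth.Agent.H25.GeomDomain

/-!
# Rosenlicht's lemma on units of a tensor product of domains over an algebraically closed field
-/

set_option autoImplicit false
universe u
open TensorProduct

namespace Groth.Agent.H62.RosUnit

open Groth.Agent Groth.Agent.H62.LinTriv

section Nat

variable {k : Type u} [Field k] {R A A' : Type u} [CommRing R] [Algebra k R] [CommRing A]
  [Algebra k A] [CommRing A'] [Algebra k A']

theorem sliceA_map (x : R →ₐ[k] k) (φ : A →ₐ[k] A') (t : R ⊗[k] A) :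
    sliceA x (Algebra.TensorProduct.map (AlgHom.id k R) φ t) = φ (sliceA x t) := by
  induction t using TensorProduct.induction_on with
  | zero => simp
  | tmul r a => simp
  | add s t hs ht => simp only [map_add, hs, ht]

theorem map_id_eq_lTensor (φ : A →ₐ[k] A') (t : R ⊗[k] A) :
    Algebra.TensorProduct.map (AlgHom.id k R) φ t = φ.toLinearMap.lTensor R t := by
  induction t using TensorProduct.induction_on with
  | zero => simp
  | tmul r a => simp
  | add s t hs ht => simp only [map_add, hs, ht]

theorem map_id_injective (φ : A →ₐ[k] A') (hφ : Function.Injective φ) :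
    Function.Injective (Algebra.TensorProduct.map (AlgHom.id k R) φ) := by
  have h := Module.Flat.lTensor_preserves_injective_linearMap (M := R) φ.toLinearMap hφ
  intro a b hab
  apply h
  rw [← map_id_eq_lTensor, ← map_id_eq_lTensor, hab]

end Nat

section Val

variable {k : Type u} [Field k] [IsAlgClosed k]
variable {R : Type u} [CommRing R] [Algebra k R] [IsDomain R]
variable {K : Type u} [Field K] [Algebra k K]

theorem key (V : ValuationSubring K) (hk : ∀ c : k, algebraMap k K c ∈ V)
    (u u' : R ⊗[k] K) (huu' : u * u' = 1) (x x' : R →ₐ[k] k) :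
    sliceA x u * (sliceA x' u)⁻¹ ∈ V := by
  classical
  letI algV : Algebra k V := ((algebraMap k K).codRestrict V hk).toAlgebra
  haveI : IsScalarTower k V K := IsScalarTower.of_algebraMap_eq (fun c => rfl)
  let incl : R ⊗[k] V →ₐ[k] R ⊗[k] K :=
    Algebra.TensorProduct.map (AlgHom.id k R) (IsScalarTower.toAlgHom k V K)
  let red : R ⊗[k] V →ₐ[k] R ⊗[k] (IsLocalRing.ResidueField V) :=
    Algebra.TensorProduct.map (AlgHom.id k R) (IsScalarTower.toAlgHom k V (IsLocalRing.ResidueField V))
  have hincl : Function.Injective incl :=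
    map_id_injective _ (fun a b hab => Subtype.ext hab)
  haveI : IsDomain (R ⊗[k] (IsLocalRing.ResidueField V)) := by
    haveI := H25.GeomDomain.isDomain_tensor k (IsLocalRing.ResidueField V) R
    exact (Algebra.TensorProduct.comm k R (IsLocalRing.ResidueField V)).toMulEquiv.isDomain _
  haveI : Nontrivial (R ⊗[k] K) := by
    haveI := H25.GeomDomain.isDomain_tensor k K R
    exact (Algebra.TensorProduct.comm k R K).toMulEquiv.isDomain.toNontrivial
  -- primitive scaling
  have prim : ∀ z : R ⊗[k] K, z ≠ 0 → ∃ (t : K) (zV : R ⊗[k] V),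
      t ≠ 0 ∧ incl zV = ((1 : R) ⊗ₜ[k] t) * z ∧ red zV ≠ 0 := by
    intro z hz
    let ℬ := Module.Basis.ofVectorSpace k R
    let e := TensorProduct.equivFinsuppOfBasisLeft (N := K) ℬ
    set c := e z with hc
    have hc0 : c ≠ 0 := by
      intro h
      apply hz
      apply e.injective
      rw [← hc, h, map_zero]
    have hsupp : c.support.Nonempty := Finsupp.support_nonempty_iff.mpr hc0
    obtain ⟨i₀, hi₀, hmax⟩ :=
      Finset.exists_max_image c.support (fun i => V.valuation (c i)) hsupp
    have hci₀ : c i₀ ≠ 0 := Finsupp.mem_support_iff.mp hi₀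
    have hmem : ∀ i, (c i₀)⁻¹ * c i ∈ V := by
      intro i
      by_cases hi : i ∈ c.support
      · rw [← V.valuation_le_one_iff, map_mul, map_inv₀]
        have h1 := hmax i hi
        have hv0 : V.valuation (c i₀) ≠ 0 := (V.valuation.ne_zero_iff).mpr hci₀
        rw [inv_mul_le_iff₀ (zero_lt_iff.mpr hv0), mul_one]
        exact h1
      · rw [Finsupp.notMem_support_iff.mp hi, mul_zero]
        exact V.zero_mem
    let zV : R ⊗[k] V := c.support.sum (fun i => ℬ i ⊗ₜ[k] (⟨(c i₀)⁻¹ * c i, hmem i⟩ : V))
    have hz' : z = c.support.sum (fun i => ℬ i ⊗ₜ[k] c i) := by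
      have h1 : e.symm c = z := by rw [hc, LinearEquiv.symm_apply_apply]
      rw [← h1, TensorProduct.equivFinsuppOfBasisLeft_symm_apply]
      rfl
    refine ⟨(c i₀)⁻¹, zV, inv_ne_zero hci₀, ?_, ?_⟩
    · rw [map_sum]
      conv_rhs => rw [hz', Finset.mul_sum]
      refine Finset.sum_congr rfl (fun i _ => ?_)
      rw [Algebra.TensorProduct.map_tmul, Algebra.TensorProduct.tmul_mul_tmul, one_mul]
      rfl
    · intro h0
      let eRes := TensorProduct.equivFinsuppOfBasisLeft (N := (IsLocalRing.ResidueField V)) ℬ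
      have h1 : eRes (red zV) i₀ = 1 := by
        rw [map_sum, map_sum, Finsupp.finsetSum_apply, Finset.sum_eq_single i₀]
        · rw [Algebra.TensorProduct.map_tmul, AlgHom.coe_id, id_eq,
            TensorProduct.equivFinsuppOfBasisLeft_apply_tmul_apply, Module.Basis.repr_self,
            Finsupp.single_eq_same, one_smul]
          have : (⟨(c i₀)⁻¹ * c i₀, hmem i₀⟩ : V) = 1 := Subtype.ext (inv_mul_cancel₀ hci₀)
          rw [this, map_one]
        · intro i _ hne
          rw [Algebra.TensorProduct.map_tmul, AlgHom.coe_id, id_eq,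
            TensorProduct.equivFinsuppOfBasisLeft_apply_tmul_apply, Module.Basis.repr_self,
            Finsupp.single_eq_of_ne hne.symm, zero_smul]
        · intro h
          exact absurd hi₀ h
      rw [h0, map_zero, Finsupp.zero_apply] at h1
      exact zero_ne_one h1
  have hu0 : u ≠ 0 := left_ne_zero_of_mul_eq_one huu'
  have hu'0 : u' ≠ 0 := right_ne_zero_of_mul_eq_one huu'
  obtain ⟨t, uV, ht, huV, hruV⟩ := prim u hu0
  obtain ⟨t', uV', ht', huV', hruV'⟩ := prim u' hu'0
  have hprod : incl (uV * uV') = (1 : R) ⊗ₜ[k] (t * t') := by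
    rw [map_mul, huV, huV']
    calc ((1 : R) ⊗ₜ[k] t * u) * ((1 : R) ⊗ₜ[k] t' * u')
        = ((1 : R) ⊗ₜ[k] t * (1 : R) ⊗ₜ[k] t') * (u * u') := by ring
      _ = _ := by rw [huu', mul_one, Algebra.TensorProduct.tmul_mul_tmul, mul_one]
  have hincl_tmul : ∀ v : V, incl ((1 : R) ⊗ₜ[k] v) = (1 : R) ⊗ₜ[k] (v : K) := by
    intro v
    rw [Algebra.TensorProduct.map_tmul]
    rfl
  have hred_tmul : ∀ v : V, red ((1 : R) ⊗ₜ[k] v) = (1 : R) ⊗ₜ[k] (IsLocalRing.residue V v) := by
    intro v
    rw [Algebra.TensorProduct.map_tmul]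
    rfl
  have htt' : t * t' ∈ V := by
    by_contra hnot
    have hinv : (t * t')⁻¹ ∈ V := (V.mem_or_inv_mem (t * t')).resolve_left hnot
    have hs : ¬ IsUnit (⟨(t * t')⁻¹, hinv⟩ : V) := by
      intro hunit
      obtain ⟨w, hw⟩ := hunit.exists_right_inv
      apply hnot
      have h1 : (t * t')⁻¹ * (w : K) = 1 := congrArg Subtype.val hw
      have h2 : t * t' = (w : K) := by
        have h3 : t * t' ≠ 0 := mul_ne_zero ht ht'
        field_simp at h1
        rw [← h1]
      rw [h2]
      exact w.2
    have h1 : incl (((1 : R) ⊗ₜ[k] (⟨(t * t')⁻¹, hinv⟩ : V)) * (uV * uV')) = incl 1 := by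
      rw [map_mul, hprod, map_one, hincl_tmul, Algebra.TensorProduct.tmul_mul_tmul, mul_one,
        inv_mul_cancel₀ (mul_ne_zero ht ht')]
      rfl
    have h2 := hincl h1
    have h3 := congrArg red h2
    rw [map_mul, map_one, hred_tmul, (IsLocalRing.residue_eq_zero_iff _).mpr hs,
      TensorProduct.tmul_zero, zero_mul] at h3
    exact zero_ne_one h3
  have h4 : uV * uV' = (1 : R) ⊗ₜ[k] (⟨t * t', htt'⟩ : V) := by
    apply hincl
    rw [hprod, hincl_tmul]
  have hw : IsUnit (⟨t * t', htt'⟩ : V) := by
    by_contra hnu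
    have h5 : red uV * red uV' = 0 := by
      rw [← map_mul, h4, hred_tmul, (IsLocalRing.residue_eq_zero_iff _).mpr hnu,
        TensorProduct.tmul_zero]
    rcases mul_eq_zero.mp h5 with h | h
    exacts [hruV h, hruV' h]
  have key1 : ∀ y : R →ₐ[k] k, IsUnit (sliceA y uV) := by
    intro y
    have h5 := congrArg (sliceA y) h4
    rw [map_mul, sliceA_tmul, map_one, one_smul] at h5
    exact isUnit_of_mul_isUnit_left (h5 ▸ hw)
  have key2 : ∀ y : R →ₐ[k] k, ((sliceA y uV : V) : K) = t * sliceA y u := by
    intro y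
    have h5 := sliceA_map y (IsScalarTower.toAlgHom k V K) uV
    change sliceA y (incl uV) = _ at h5
    rw [huV, map_mul, sliceA_tmul, map_one, one_smul] at h5
    exact h5.symm
  have hx := key1 x
  have hx' := key1 x'
  have e1 : sliceA x u * (sliceA x' u)⁻¹ = (t * sliceA x u) * (t * sliceA x' u)⁻¹ := by
    rw [mul_inv]
    field_simp
  rw [e1, ← key2, ← key2]
  obtain ⟨w', hw'⟩ := hx'.exists_right_inv
  have h6 : ((sliceA x' uV : V) : K)⁻¹ = (w' : K) := by
    have h7 : ((sliceA x' uV : V) : K) * (w' : K) = 1 := congrArg Subtype.val hw'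
    exact inv_eq_of_mul_eq_one_right h7
  rw [h6]
  exact V.mul_mem _ _ (sliceA x uV).2 w'.2

end Val

section Main

variable {k : Type u} [Field k] [IsAlgClosed k]
variable {R : Type u} [CommRing R] [Algebra k R] [IsDomain R]
variable {A : Type u} [CommRing A] [Algebra k A] [IsDomain A]

/-- **Rosenlicht's lemma**: slices of a unit of `R ⊗ A` along two points of `R` differ by a
scalar. -/
theorem sliceA_eq_smul (u u' : R ⊗[k] A) (huu' : u * u' = 1) (x x' : R →ₐ[k] k) :
    ∃ c : k, sliceA x u = c • sliceA x' u := by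
  classical
  let K := FractionRing A
  let φ : A →ₐ[k] K := IsScalarTower.toAlgHom k A K
  have hφ : Function.Injective φ := IsFractionRing.injective A K
  let m := Algebra.TensorProduct.map (AlgHom.id k R) φ
  have hm : m u * m u' = 1 := by rw [← map_mul, huu', map_one]
  have ha' : sliceA x' u * sliceA x' u' = 1 := by rw [← map_mul, huu', map_one]
  have ha'0 : sliceA x' u ≠ 0 := left_ne_zero_of_mul_eq_one ha'
  set q : K := φ (sliceA x u) * (φ (sliceA x' u))⁻¹ with hq
  have hq_mem : q ∈ (algebraMap k K).range := by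
    by_contra hnot
    haveI : IsIntegrallyClosedIn (algebraMap k K).range K := by
      rw [Subring.isIntegrallyClosedIn_iff]
      intro y hy
      have hy' : IsIntegral k y := by
        letI : Algebra k (algebraMap k K).range := (algebraMap k K).rangeRestrict.toAlgebra
        haveI : IsScalarTower k (algebraMap k K).range K :=
          IsScalarTower.of_algebraMap_eq (fun c => rfl)
        haveI : Algebra.IsIntegral k (algebraMap k K).range :=
          Algebra.IsIntegral.of_surjective (Algebra.ofId k (algebraMap k K).range)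
            (algebraMap k K).rangeRestrict_surjective
        exact isIntegral_trans y hy
      have hdeg : (minpoly k y).degree = 1 :=
        IsAlgClosed.degree_eq_one_of_irreducible k (minpoly.irreducible hy')
      exact minpoly.mem_range_of_degree_eq_one k y hdeg
    obtain ⟨V, hV, hqV⟩ := Subring.exists_le_valuationSubring_of_isIntegrallyClosedIn hnot
    apply hqV
    have := key V (fun c => hV ⟨c, rfl⟩) (m u) (m u') hm x x'
    rw [sliceA_map, sliceA_map] at this
    exact this
  obtain ⟨c, hc⟩ := hq_mem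
  refine ⟨c, hφ ?_⟩
  rw [map_smul, Algebra.smul_def, hc, hq]
  have : φ (sliceA x' u) ≠ 0 := fun h => ha'0 (hφ (by rw [h, map_zero]))
  rw [mul_assoc, inv_mul_cancel₀ this, mul_one]

end Main

end Groth.Agent.H62.RosUnit
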