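import Mathlib
import Groth.Agent.H62.ProdUnitA
import Groth.Agent.H62.RosUnit
import Groth.Agent.H63.RatPt

/-!
# Units on products of varieties, part B: Rosenlicht's relation at rational points
-/

set_option autoImplicit false
universe u
open CategoryTheory MonoidalCategory CartesianMonoidalCategory AlgebraicGeometry
  CategoryTheory.Limits TensorProduct

namespace Groth.Agent.H62.ProdUnit

open Groth.Agent.H62.LinTriv

variable {k : Type u} [Field k] [IsAlgClosed k]
variable {X Y : Over (Spec (CommRingCat.of k))}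

section Chart

variable {A B : Type u} [CommRing A] [Algebra k A] [CommRing B] [Algebra k B]
  (a : Spec (CommRingCat.of A) ⟶ X.left)
  (ha : a ≫ X.hom = Spec.map (CommRingCat.ofHom (algebraMap k A)))
  (b : Spec (CommRingCat.of B) ⟶ Y.left)
  (hb : b ≫ Y.hom = Spec.map (CommRingCat.ofHom (algebraMap k B)))

/-- the chart map `Spec (A ⊗ B) ⟶ X × Y` -/
noncomputable def chartMap : Spec (CommRingCat.of (A ⊗[k] B)) ⟶ (X ⊗ Y).left :=
  pullback.lift
    (Spec.map (CommRingCat.ofHom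
      (Algebra.TensorProduct.includeLeft (R := k) (S := k) (A := A) (B := B)).toRingHom) ≫ a)
    (Spec.map (CommRingCat.ofHom
      (Algebra.TensorProduct.includeRight (R := k) (A := A) (B := B)).toRingHom) ≫ b) (by
      rw [Category.assoc, Category.assoc, ha, hb, ← Spec.map_comp, ← Spec.map_comp]
      congr 1
      ext c
      change (Algebra.TensorProduct.includeLeft (R := k) (S := k) (A := A) (B := B))
          (algebraMap k A c) =
        (Algebra.TensorProduct.includeRight (R := k) (A := A) (B := B)) (algebraMap k B c)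
      rw [AlgHom.commutes, AlgHom.commutes])

omit [IsAlgClosed k] in
theorem lift_left_eq (xt : A →ₐ[k] k) (yt : B →ₐ[k] k)
    (x : 𝟙_ (Over (Spec (CommRingCat.of k))) ⟶ X) (y : 𝟙_ (Over (Spec (CommRingCat.of k))) ⟶ Y)
    (hx : x.left = Spec.map (CommRingCat.ofHom xt.toRingHom) ≫ a)
    (hy : y.left = Spec.map (CommRingCat.ofHom yt.toRingHom) ≫ b) :
    (lift x y).left = Spec.map (CommRingCat.ofHom (ev xt yt).toRingHom) ≫ chartMap a ha b hb := by
  rw [Over.lift_left]
  apply pullback.hom_ext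
  · rw [pullback.lift_fst, Category.assoc, chartMap, pullback.lift_fst, ← Category.assoc,
      ← Spec.map_comp, hx]
    congr 2
    ext r
    change xt r = ev xt yt (r ⊗ₜ[k] (1 : B))
    rw [ev_tmul, map_one, mul_one]
  · rw [pullback.lift_snd, Category.assoc, chartMap, pullback.lift_snd, ← Category.assoc,
      ← Spec.map_comp, hy]
    congr 2
    ext r
    change yt r = ev xt yt ((1 : A) ⊗ₜ[k] r)
    rw [ev_tmul, map_one, one_mul]

omit [IsAlgClosed k] in
theorem pv_lift_eq (f : Γ((X ⊗ Y).left, ⊤)) (xt : A →ₐ[k] k) (yt : B →ₐ[k] k)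
    (x : 𝟙_ (Over (Spec (CommRingCat.of k))) ⟶ X) (y : 𝟙_ (Over (Spec (CommRingCat.of k))) ⟶ Y)
    (hx : x.left = Spec.map (CommRingCat.ofHom xt.toRingHom) ≫ a)
    (hy : y.left = Spec.map (CommRingCat.ofHom yt.toRingHom) ≫ b) :
    pv f (lift x y) = ev xt yt ((Scheme.ΓSpecIso (CommRingCat.of (A ⊗[k] B))).hom
      ((chartMap a ha b hb).appTop f)) := by
  unfold pv
  rw [lift_left_eq a ha b hb xt yt x y hx hy, Scheme.Hom.comp_appTop]
  have h := Scheme.ΓSpecIso_naturality (CommRingCat.ofHom (ev xt yt).toRingHom)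
  have h2 := congrArg (fun φ => φ.hom ((chartMap a ha b hb).appTop f)) h
  exact h2

variable [IsDomain A] [IsDomain B]

include ha hb in
theorem chart_rel {f : Γ((X ⊗ Y).left, ⊤)} (hf : IsUnit f) (xt xt' : A →ₐ[k] k)
    (yt yt' : B →ₐ[k] k)
    (x x' : 𝟙_ (Over (Spec (CommRingCat.of k))) ⟶ X)
    (y y' : 𝟙_ (Over (Spec (CommRingCat.of k))) ⟶ Y)
    (hx : x.left = Spec.map (CommRingCat.ofHom xt.toRingHom) ≫ a)
    (hx' : x'.left = Spec.map (CommRingCat.ofHom xt'.toRingHom) ≫ a)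
    (hy : y.left = Spec.map (CommRingCat.ofHom yt.toRingHom) ≫ b)
    (hy' : y'.left = Spec.map (CommRingCat.ofHom yt'.toRingHom) ≫ b) :
    pv f (lift x y) * pv f (lift x' y') = pv f (lift x y') * pv f (lift x' y) := by
  rw [pv_lift_eq a ha b hb f xt yt x y hx hy, pv_lift_eq a ha b hb f xt' yt' x' y' hx' hy',
    pv_lift_eq a ha b hb f xt yt' x y' hx hy', pv_lift_eq a ha b hb f xt' yt x' y hx' hy]
  set u := (Scheme.ΓSpecIso (CommRingCat.of (A ⊗[k] B))).hom ((chartMap a ha b hb).appTop f)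
    with hu
  have huu : IsUnit u :=
    (hf.map (chartMap a ha b hb).appTop.hom).map
      (Scheme.ΓSpecIso (CommRingCat.of (A ⊗[k] B))).hom.hom
  obtain ⟨u', huu'⟩ := huu.exists_right_inv
  obtain ⟨c, hc⟩ := RosUnit.sliceA_eq_smul u u' huu' xt xt'
  have e1 : ∀ g : B →ₐ[k] k, ev xt g u = c * ev xt' g u := by
    intro g
    rw [← apply_sliceA, hc, map_smul, smul_eq_mul, apply_sliceA]
  rw [e1 yt, e1 yt']
  ring

end Chart

section Opens

variable [IsIntegral X.left] [IsIntegral Y.left]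

theorem rel_of_mem {f : Γ((X ⊗ Y).left, ⊤)} (hf : IsUnit f)
    {U : X.left.Opens} (hU : IsAffineOpen U) {V : Y.left.Opens} (hV : IsAffineOpen V)
    (x x' : 𝟙_ (Over (Spec (CommRingCat.of k))) ⟶ X)
    (y y' : 𝟙_ (Over (Spec (CommRingCat.of k))) ⟶ Y)
    (hx : x.left (IsLocalRing.closedPoint k) ∈ U) (hx' : x'.left (IsLocalRing.closedPoint k) ∈ U)
    (hy : y.left (IsLocalRing.closedPoint k) ∈ V) (hy' : y'.left (IsLocalRing.closedPoint k) ∈ V) :
    pv f (lift x y) * pv f (lift x' y') = pv f (lift x y') * pv f (lift x' y) := by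
  set ρA : CommRingCat.of k ⟶ Γ(X.left, U) := Spec.preimage (hU.fromSpec ≫ X.hom) with hρA
  set ρB : CommRingCat.of k ⟶ Γ(Y.left, V) := Spec.preimage (hV.fromSpec ≫ Y.hom) with hρB
  have hρA' : Spec.map ρA = hU.fromSpec ≫ X.hom := Spec.map_preimage _
  have hρB' : Spec.map ρB = hV.fromSpec ≫ Y.hom := Spec.map_preimage _
  obtain ⟨ψx, hψx, hvx, -⟩ := H63.RatPt.exists_chart X.hom x.left (Over.w x) _ hU hx ρA hρA'
  obtain ⟨ψx', hψx', hvx', -⟩ := H63.RatPt.exists_chart X.hom x'.left (Over.w x') _ hU hx' ρA hρA'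
  obtain ⟨ψy, hψy, hvy, -⟩ := H63.RatPt.exists_chart Y.hom y.left (Over.w y) _ hV hy ρB hρB'
  obtain ⟨ψy', hψy', hvy', -⟩ := H63.RatPt.exists_chart Y.hom y'.left (Over.w y') _ hV hy' ρB hρB'
  letI : Algebra k Γ(X.left, U) := ρA.hom.toAlgebra
  letI : Algebra k Γ(Y.left, V) := ρB.hom.toAlgebra
  haveI : Nonempty U := ⟨⟨_, hx⟩⟩
  haveI : Nonempty V := ⟨⟨_, hy⟩⟩
  haveI : IsDomain Γ(X.left, U) := inferInstance
  haveI : IsDomain Γ(Y.left, V) := inferInstance
  let xt : Γ(X.left, U) →ₐ[k] k := { ψx.hom with commutes' := hvx }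
  let xt' : Γ(X.left, U) →ₐ[k] k := { ψx'.hom with commutes' := hvx' }
  let yt : Γ(Y.left, V) →ₐ[k] k := { ψy.hom with commutes' := hvy }
  let yt' : Γ(Y.left, V) →ₐ[k] k := { ψy'.hom with commutes' := hvy' }
  exact chart_rel (A := Γ(X.left, U)) (B := Γ(Y.left, V)) hU.fromSpec hρA'.symm hV.fromSpec
    hρB'.symm hf xt xt' yt yt' x x' y y' hψx hψx' hψy hψy'

variable [LocallyOfFiniteType X.hom] [LocallyOfFiniteType Y.hom]

omit [IsIntegral Y.left] [LocallyOfFiniteType Y.hom] in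
theorem exists_common_point (x x' : 𝟙_ (Over (Spec (CommRingCat.of k))) ⟶ X) :
    ∃ (U U' : X.left.Opens) (x'' : 𝟙_ (Over (Spec (CommRingCat.of k))) ⟶ X),
      IsAffineOpen U ∧ IsAffineOpen U' ∧
      x.left (IsLocalRing.closedPoint k) ∈ U ∧ x''.left (IsLocalRing.closedPoint k) ∈ U ∧
      x''.left (IsLocalRing.closedPoint k) ∈ U' ∧ x'.left (IsLocalRing.closedPoint k) ∈ U' := by
  obtain ⟨U, hU, hxU, -⟩ := exists_isAffineOpen_mem_and_subset
    (x := x.left (IsLocalRing.closedPoint k)) (U := ⊤) trivial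
  obtain ⟨U', hU', hxU', -⟩ := exists_isAffineOpen_mem_and_subset
    (x := x'.left (IsLocalRing.closedPoint k)) (U := ⊤) trivial
  have hne : ((U ⊓ U' : X.left.Opens) : Set X.left).Nonempty :=
    nonempty_preirreducible_inter U.isOpen U'.isOpen ⟨_, hxU⟩ ⟨_, hxU'⟩
  obtain ⟨x'', hx''⟩ := exists_point_mem (X := X) _ hne
  exact ⟨U, U', x'', hU, hU', hxU, hx''.1, hx''.2, hxU'⟩

/-- **Rosenlicht's relation** at rational points. -/
theorem rel {f : Γ((X ⊗ Y).left, ⊤)} (hf : IsUnit f)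
    (x x' : 𝟙_ (Over (Spec (CommRingCat.of k))) ⟶ X)
    (y y' : 𝟙_ (Over (Spec (CommRingCat.of k))) ⟶ Y) :
    pv f (lift x y) * pv f (lift x' y') = pv f (lift x y') * pv f (lift x' y) := by
  obtain ⟨U, U', x'', hU, hU', h1, h2, h3, h4⟩ := exists_common_point x x'
  obtain ⟨V, V', y'', hV, hV', g1, g2, g3, g4⟩ := exists_common_point y y'
  have r1 := rel_of_mem hf hU hV x x'' y y'' h1 h2 g1 g2
  have r2 := rel_of_mem hf hU' hV x'' x' y y'' h3 h4 g1 g2
  have r3 := rel_of_mem hf hU hV' x x'' y'' y' h1 h2 g3 g4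
  have r4 := rel_of_mem hf hU' hV' x'' x' y'' y' h3 h4 g3 g4
  have n1 := pv_ne_zero hf (lift x'' y'')
  have key : (pv f (lift x y) * pv f (lift x' y')) *
      (pv f (lift x'' y'') * pv f (lift x'' y'')) =
      (pv f (lift x y') * pv f (lift x' y)) *
      (pv f (lift x'' y'') * pv f (lift x'' y'')) := by
    linear_combination (pv f (lift x' y') * pv f (lift x'' y'')) * r1 +
      (pv f (lift x y'') * pv f (lift x'' y)) * r4 +
      (pv f (lift x' y) * pv f (lift x'' y'')) * r3 +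
      (pv f (lift x y'') * pv f (lift x'' y')) * r2
  exact mul_right_cancel₀ (mul_ne_zero n1 n1) key

end Opens

end Groth.Agent.H62.ProdUnit
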