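import Mathlib
import Groth.Agent.H62.ProdUnitB

/-!
# Units on products of varieties, part C: the product formula
-/

set_option autoImplicit false
universe u
open CategoryTheory MonoidalCategory CartesianMonoidalCategory AlgebraicGeometry
  CategoryTheory.Limits TensorProduct

namespace Groth.Agent.H62.ProdUnit

variable {k : Type u} [Field k] [IsAlgClosed k]
variable {X Y : Over (Spec (CommRingCat.of k))}
  [IsIntegral X.left] [IsIntegral Y.left] [LocallyOfFiniteType X.hom] [LocallyOfFiniteType Y.hom]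

omit [IsAlgClosed k] [IsIntegral X.left] [IsIntegral Y.left] [LocallyOfFiniteType X.hom]
  [LocallyOfFiniteType Y.hom] in
theorem point_comp_toUnit (x : 𝟙_ (Over (Spec (CommRingCat.of k))) ⟶ X) :
    x ≫ toUnit X = 𝟙 _ := toUnit_unique _ _

/-- the product formula for a unit `f` on `X × Y`, normalised at rational points `x₀`, `y₀`:
`f · f(x₀,y₀) = f(·,y₀) · f(x₀,·)`. -/
theorem main_prod {f : Γ((X ⊗ Y).left, ⊤)} (hf : IsUnit f)
    (x₀ : 𝟙_ (Over (Spec (CommRingCat.of k))) ⟶ X)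
    (y₀ : 𝟙_ (Over (Spec (CommRingCat.of k))) ⟶ Y) :
    f * (X ⊗ Y).hom.appTop ((lift x₀ y₀).left.appTop f) =
      (fst X Y).left.appTop ((lift (𝟙 X) (toUnit X ≫ y₀)).left.appTop f) *
        (snd X Y).left.appTop ((lift (toUnit Y ≫ x₀) (𝟙 Y)).left.appTop f) := by
  haveI : IsReduced (X ⊗ Y).left := isReduced_prod
  haveI : LocallyOfFiniteType (X ⊗ Y).hom := by
    change LocallyOfFiniteType (pullback.fst X.hom Y.hom ≫ X.hom)
    infer_instance
  rw [← sub_eq_zero]
  apply eq_zero_of_forall_pv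
  intro z
  rw [pv_sub, sub_eq_zero, pv_mul, pv_mul, pv_const, pv_comp, pv_comp, pv_comp, pv_comp]
  have hz : z = lift (z ≫ fst X Y) (z ≫ snd X Y) := (lift_comp_fst_snd z).symm
  set x := z ≫ fst X Y with hx
  set y := z ≫ snd X Y with hy
  have e1 : x ≫ lift (𝟙 X) (toUnit X ≫ y₀) = lift x y₀ := by
    rw [comp_lift, Category.comp_id, ← Category.assoc, point_comp_toUnit, Category.id_comp]
  have e2 : y ≫ lift (toUnit Y ≫ x₀) (𝟙 Y) = lift x₀ y := by
    rw [comp_lift, Category.comp_id, ← Category.assoc, point_comp_toUnit, Category.id_comp]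
  rw [e1, e2]
  conv_lhs => rw [hz]
  exact rel hf x x₀ y y₀

omit [IsAlgClosed k] [IsIntegral X.left] [IsIntegral Y.left] [LocallyOfFiniteType X.hom]
  [LocallyOfFiniteType Y.hom] in
theorem appTop_comp_left {W Z : Over (Spec (CommRingCat.of k))} (x : W ⟶ X) (φ : X ⟶ Z)
    (f : Γ(Z.left, ⊤)) : x.left.appTop (φ.left.appTop f) = (x ≫ φ).left.appTop f := by
  rw [Over.comp_left, Scheme.Hom.comp_appTop]
  rfl

omit [IsAlgClosed k] [IsIntegral X.left] [IsIntegral Y.left] [LocallyOfFiniteType X.hom]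
  [LocallyOfFiniteType Y.hom] in
theorem appTop_point_const (x : 𝟙_ (Over (Spec (CommRingCat.of k))) ⟶ X)
    (c : Γ(Spec (CommRingCat.of k), ⊤)) : x.left.appTop (X.hom.appTop c) = c := by
  have h : x.left ≫ X.hom = 𝟙 _ := Over.w x
  have h2 : x.left.appTop (X.hom.appTop c) = (x.left ≫ X.hom).appTop c := by
    rw [Scheme.Hom.comp_appTop]
    rfl
  rw [h2, h]
  rfl

/-- every unit on `X × Y` is a product of units, normalised at a rational point of `X` -/
theorem exists_units_prod {f : Γ((X ⊗ Y).left, ⊤)} (hf : IsUnit f)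
    (x₀ : 𝟙_ (Over (Spec (CommRingCat.of k))) ⟶ X)
    (y₀ : 𝟙_ (Over (Spec (CommRingCat.of k))) ⟶ Y) :
    ∃ (g : Γ(X.left, ⊤)) (h : Γ(Y.left, ⊤)), IsUnit g ∧ IsUnit h ∧ x₀.left.appTop g = 1 ∧
      h = (lift (toUnit Y ≫ x₀) (𝟙 Y)).left.appTop f ∧
      f = (fst X Y).left.appTop g * (snd X Y).left.appTop h := by
  have M := main_prod hf x₀ y₀
  set c := (lift x₀ y₀).left.appTop f with hc
  have hcu : IsUnit c := hf.map (lift x₀ y₀).left.appTop.hom
  obtain ⟨ci, hcci⟩ := hcu.exists_right_inv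
  set g₀ := (lift (𝟙 X) (toUnit X ≫ y₀)).left.appTop f with hg₀
  set h₀ := (lift (toUnit Y ≫ x₀) (𝟙 Y)).left.appTop f with hh₀
  have hciu : IsUnit ci := IsUnit.of_mul_eq_one c (by rw [mul_comm]; exact hcci)
  refine ⟨g₀ * X.hom.appTop ci, h₀, ?_, ?_, ?_, rfl, ?_⟩
  · exact (hf.map (lift (𝟙 X) (toUnit X ≫ y₀)).left.appTop.hom).mul (hciu.map X.hom.appTop.hom)
  · exact hf.map (lift (toUnit Y ≫ x₀) (𝟙 Y)).left.appTop.hom
  · rw [map_mul, appTop_point_const, hg₀, appTop_comp_left, comp_lift, Category.comp_id,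
      ← Category.assoc, point_comp_toUnit, Category.id_comp, ← hc, hcci]
  · have e1 : (fst X Y).left.appTop (X.hom.appTop ci) = (X ⊗ Y).hom.appTop ci := by
      have h2 : (fst X Y).left.appTop (X.hom.appTop ci) = ((fst X Y).left ≫ X.hom).appTop ci := by
        rw [Scheme.Hom.comp_appTop]
        rfl
      rw [h2, Over.w (fst X Y)]
    rw [map_mul, e1]
    calc f = f * (X ⊗ Y).hom.appTop (c * ci) := by rw [hcci, map_one, mul_one]
      _ = (f * (X ⊗ Y).hom.appTop c) * (X ⊗ Y).hom.appTop ci := by rw [map_mul, mul_assoc]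
      _ = _ := by rw [M]; ring

end Groth.Agent.H62.ProdUnit
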