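import Mathlib
import Groth.Agent.H62.ProdUnitC
import Groth.Agent.H63.ActionTranslate
import Groth.Agent.H70.LocDomain
import Groth.Agent.H73.SmoothNormalScheme

/-!
# Units on products of varieties, part D: connected algebraic groups
-/

set_option autoImplicit false
universe u
open CategoryTheory MonoidalCategory CartesianMonoidalCategory MonObj GrpObj AlgebraicGeometry
  CategoryTheory.Limits TensorProduct

namespace Groth.Agent.H62.ProdUnit

variable {k : Type u} [Field k] [IsAlgClosed k]

/-- a smooth connected scheme over a field is integral -/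
theorem isIntegral_of_smooth_connected {G : Over (Spec (CommRingCat.of k))} [Smooth G.hom]
    [ConnectedSpace ↥G.left] : IsIntegral G.left := by
  haveI : LocallyOfFinitePresentation G.hom := inferInstance
  haveI : LocallyOfFiniteType G.hom := inferInstance
  haveI : IsLocallyNoetherian G.left := LocallyOfFiniteType.isLocallyNoetherian G.hom
  exact H70.LocDomain.isIntegral_of_connected_of_isDomain_stalk
    (fun s => (H73.SmoothNormalScheme.isNormal_of_smooth_field k G.hom s).1)

variable {G : Over (Spec (CommRingCat.of k))} [GrpObj G] [Smooth G.hom] [ConnectedSpace ↥G.left]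

/-- a normalised unit on a connected algebraic group is a character -/
theorem character_of_unit {f : Γ(G.left, ⊤)} (hf : IsUnit f) (he : η[G].left.appTop f = 1) :
    μ[G].left.appTop f = (fst G G).left.appTop f * (snd G G).left.appTop f := by
  haveI : LocallyOfFinitePresentation G.hom := inferInstance
  haveI : LocallyOfFiniteType G.hom := inferInstance
  haveI : IsIntegral G.left := isIntegral_of_smooth_connected
  have hF : IsUnit (μ[G].left.appTop f) := hf.map μ[G].left.appTop.hom
  have M := main_prod hF η[G] η[G]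
  have e1 : lift η[G] η[G] ≫ μ[G] = η[G] := by
    have := lift_comp_one_right (B := G) η[G] (𝟙 (𝟙_ (Over (Spec (CommRingCat.of k)))))
    rwa [Category.id_comp] at this
  have hid : (𝟙 G : G ⟶ G).left.appTop f = f := by
    rw [Over.id_left]
    rfl
  have h1 : (lift (𝟙 G) (toUnit G ≫ η[G])).left.appTop (μ[G].left.appTop f) = f := by
    rw [appTop_comp_left, lift_comp_one_right, hid]
  have h2 : (lift (toUnit G ≫ η[G]) (𝟙 G)).left.appTop (μ[G].left.appTop f) = f := by
    rw [appTop_comp_left, lift_comp_one_left, hid]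
  have h3 : (lift η[G] η[G]).left.appTop (μ[G].left.appTop f) = 1 := by
    rw [appTop_comp_left, e1, he]
  rw [h1, h2, h3, map_one, _root_.mul_one] at M
  exact M

variable {X : Over (Spec (CommRingCat.of k))} [IsIntegral X.left] [LocallyOfFiniteType X.hom]

/-- units on `G × X` -/
theorem units_grp_prod {f : Γ((G ⊗ X).left, ⊤)} (hf : IsUnit f) :
    ∃ (χ : Γ(G.left, ⊤)) (u : Γ(X.left, ⊤)), IsUnit χ ∧ η[G].left.appTop χ = 1 ∧
      μ[G].left.appTop χ = (fst G G).left.appTop χ * (snd G G).left.appTop χ ∧ IsUnit u ∧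
      u = (lift (toUnit X ≫ η[G]) (𝟙 X)).left.appTop f ∧
      f = (fst G X).left.appTop χ * (snd G X).left.appTop u := by
  haveI : LocallyOfFinitePresentation G.hom := inferInstance
  haveI : LocallyOfFiniteType G.hom := inferInstance
  haveI : IsIntegral G.left := isIntegral_of_smooth_connected
  haveI : Nonempty X.left := inferInstance
  obtain ⟨x₀, -⟩ := exists_point_mem (X := X) ⊤ ⟨Classical.arbitrary _, trivial⟩
  obtain ⟨χ, u, hχ, hu, hχe, hu', hfχu⟩ := exists_units_prod hf η[G] x₀
  exact ⟨χ, u, hχ, hχe, character_of_unit hχ hχe, hu, hu', hfχu⟩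

omit [Smooth G.hom] [ConnectedSpace ↥G.left] [IsAlgClosed k] [IsIntegral X.left]
  [LocallyOfFiniteType X.hom] [GrpObj G] in
/-- cancellation: `p₁^*χ · p₂^*f = p₁^*χ' · p₂^*f` with `f` a unit forces `χ = χ'` -/
theorem fst_unique {f : Γ(X.left, ⊤)} (hf : IsUnit f)
    (x₀ : 𝟙_ (Over (Spec (CommRingCat.of k))) ⟶ X) {χ χ' : Γ(G.left, ⊤)}
    (h : (fst G X).left.appTop χ * (snd G X).left.appTop f =
      (fst G X).left.appTop χ' * (snd G X).left.appTop f) : χ = χ' := by
  have h1 := congrArg (lift (𝟙 G) (toUnit G ≫ x₀)).left.appTop h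
  rw [map_mul, map_mul, appTop_comp_left, appTop_comp_left, appTop_comp_left, lift_fst,
    lift_snd] at h1
  have hid : ∀ χ : Γ(G.left, ⊤), (𝟙 G : G ⟶ G).left.appTop χ = χ := by
    intro χ
    rw [Over.id_left]
    rfl
  rw [hid, hid] at h1
  have hu : IsUnit ((toUnit G ≫ x₀).left.appTop f) := hf.map (toUnit G ≫ x₀).left.appTop.hom
  exact hu.mul_left_injective h1

/-- units on `X` are semi-invariants for a connected algebraic group -/
theorem semiinvariant (a : AlgGrp.Action G X) {f : Γ(X.left, ⊤)} (hf : IsUnit f) :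
    ∃! χ : Γ(G.left, ⊤), IsUnit χ ∧ η[G].left.appTop χ = 1 ∧
      μ[G].left.appTop χ = (fst G G).left.appTop χ * (snd G G).left.appTop χ ∧
      a.act.left.appTop f = (fst G X).left.appTop χ * (snd G X).left.appTop f := by
  have hF : IsUnit (a.act.left.appTop f) := hf.map a.act.left.appTop.hom
  obtain ⟨χ, u, hχ, hχe, hχμ, hu, hu', hfχu⟩ := units_grp_prod hF
  have huf : u = f := by
    rw [hu', appTop_comp_left, H63.ActionTranslate.act_one, Over.id_left]
    rfl
  rw [huf] at hfχu
  haveI : Nonempty X.left := inferInstance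
  obtain ⟨x₀, -⟩ := exists_point_mem (X := X) ⊤ ⟨Classical.arbitrary _, trivial⟩
  refine ⟨χ, ⟨hχ, hχe, hχμ, hfχu⟩, ?_⟩
  rintro χ' ⟨-, -, -, h'⟩
  exact fst_unique hf x₀ (h'.symm.trans hfχu)

end Groth.Agent.H62.ProdUnit
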