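import Groth.Agent.H62.GrossA
import Groth.Agent.H62.ProdUnitD
import Groth.Agent.S2102
import Mathlib.AlgebraicGeometry.Morphisms.Flat
import Mathlib.RingTheory.Flat.TorsionFree

/-!
# `k[G]^H` is integrally closed for connected `G`
-/

universe u

open CategoryTheory MonoidalCategory CartesianMonoidalCategory MonObj GrpObj AlgebraicGeometry
open scoped TensorProduct nonZeroDivisors

namespace Groth.Agent.H62.GrossB

/-- a "division-closed" subring of an integrally closed domain is integrally closed. -/
theorem isIntegrallyClosed_of_saturated {O : Type u} [CommRing O] [IsDomain O]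
    [IsIntegrallyClosed O] (R : Subring O)
    (hsat : ∀ y a b : O, a ∈ R → b ∈ R → b ≠ 0 → y * b = a → y ∈ R) :
    IsIntegrallyClosed ↥R := by
  rw [isIntegrallyClosed_iff (FractionRing ↥R)]
  intro x hx
  obtain ⟨a, b, hb, rfl⟩ := IsFractionRing.div_surjective (A := ↥R) x
  let K := FractionRing O
  let j : ↥R →+* K := (algebraMap O K).comp R.subtype
  have hj : Function.Injective j :=
    (IsFractionRing.injective O K).comp Subtype.val_injective
  let J : FractionRing ↥R →+* K := IsFractionRing.lift hj
  have hJ : ∀ r : ↥R, J (algebraMap ↥R (FractionRing ↥R) r) = algebraMap O K (r : O) := fun r =>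
    IsFractionRing.lift_algebraMap hj r
  have hb0 : (b : O) ≠ 0 := by
    intro h
    exact nonZeroDivisors.ne_zero hb (Subtype.ext h)
  have hx' : IsIntegral O (J (algebraMap ↥R _ a / algebraMap ↥R _ b)) := by
    obtain ⟨p, hp, hpx⟩ := hx
    refine ⟨p.map R.subtype, hp.map _, ?_⟩
    rw [Polynomial.eval₂_map]
    have h1 : (algebraMap O K).comp R.subtype = J.comp (algebraMap ↥R (FractionRing ↥R)) := by
      ext r
      exact (hJ r).symm
    rw [h1, ← Polynomial.hom_eval₂, hpx, map_zero]
  obtain ⟨y, hy⟩ := IsIntegrallyClosed.algebraMap_eq_of_integral hx'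
  have hyb : y * (b : O) = (a : O) := by
    apply IsFractionRing.injective O K
    rw [map_mul, hy, map_div₀, hJ, hJ, div_mul_cancel₀]
    intro h
    exact hb0 ((IsFractionRing.injective O K) (by rw [h, map_zero]))
  have hyR : y ∈ R := hsat y a b a.2 b.2 hb0 hyb
  refine ⟨⟨y, hyR⟩, ?_⟩
  rw [eq_div_iff, ← map_mul]
  · congr 1
    exact Subtype.ext hyb
  · intro h
    exact nonZeroDivisors.ne_zero hb
      ((IsFractionRing.injective ↥R (FractionRing ↥R)) (by rw [h, map_zero]))

variable {k : Type u} [Field k] [IsAlgClosed k]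

/-- `k[G]^H` is integrally closed for `G` smooth connected affine. -/
theorem main (G : Over (Spec (CommRingCat.of k))) [GrpObj G] [IsAffine G.left] [Smooth G.hom]
    (H : Over (Spec (CommRingCat.of k))) [GrpObj H] [Smooth H.hom] (i : H ⟶ G)
    [IsClosedImmersion i.left] [ConnectedSpace G.left] :
    IsIntegrallyClosed ↥(AGF.rTransInv i) := by
  haveI : IsAffine H.left := isAffine_of_isAffineHom i.left
  haveI : IsIntegral G.left := ProdUnit.isIntegral_of_smooth_connected
  have hN : Pi1.IsNormalScheme G.left := fun s =>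
    H73.SmoothNormalScheme.isNormal_of_smooth_field k G.hom s
  haveI : IsIntegrallyClosed Γ(G.left, ⊤) := Groth.Agent.S2102.result G.left hN
  haveI : IsDomain Γ(G.left, ⊤) := inferInstance
  haveI : IsAffine (G ⊗ H).left := by
    change IsAffine (Limits.pullback G.hom H.hom)
    infer_instance
  have hflat : (fst G H).left.appTop.hom.Flat := by
    haveI : Flat (fst G H).left := by
      change Flat (Limits.pullback.fst G.hom H.hom)
      infer_instance
    exact Scheme.Hom.flat_appTop _
  apply isIntegrallyClosed_of_saturated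
  intro y a b ha hb hb0 hyb
  change AGF.IsRTransInv i y
  have ha' : AGF.IsRTransInv i a := ha
  have hb' : AGF.IsRTransInv i b := hb
  unfold AGF.IsRTransInv at ha' hb' ⊢
  set α := ((G ◁ i) ≫ μ[G]).left.appTop with hα
  set β := (fst G H).left.appTop with hβ
  have h1 : (α y - β y) * β b = 0 := by
    rw [sub_mul, ← map_mul, hyb, ← hb', ← map_mul, hyb, ha', sub_self]
  letI := β.hom.toAlgebra
  haveI : Module.Flat Γ(G.left, ⊤) Γ((G ⊗ H).left, ⊤) := hflat
  have hreg : IsSMulRegular Γ((G ⊗ H).left, ⊤) b :=
    Module.Flat.isSMulRegular_of_nonZeroDivisors (mem_nonZeroDivisors_of_ne_zero hb0)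
  have h2 : b • (α y - β y) = 0 := by
    rw [Algebra.smul_def, mul_comm]
    exact h1
  have h3 := hreg (h2.trans (smul_zero b).symm)
  exact sub_eq_zero.mp h3

end Groth.Agent.H62.GrossB
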