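import Groth.Agent.H62.GrossC
import Groth.Agent.H57.GrossLin
import Groth.Agent.H57.GrossM1
import Groth.Agent.H51.Reduced
import Groth.Agent.S11199

/-!
# Observable subgroups: the three characterisations
-/

universe u

open CategoryTheory MonoidalCategory CartesianMonoidalCategory MonObj GrpObj AlgebraicGeometry
open scoped TensorProduct

namespace Groth.Agent.H62.GrossD

open Groth.Agent.H62.GrossA Groth.Agent.H62.GrossC Groth.Agent.H57.GrossLin Groth.Agent.H57.GrossM1

attribute [local instance] Groth.Agent.H62.GrossA.algΓ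

variable {k : Type u} [Field k] [IsAlgClosed k]

theorem isReduced_of_smooth_field (X : Over (Spec (CommRingCat.of k))) [Smooth X.hom] :
    IsReduced X.left :=
  Groth.Agent.H51.isReduced_of_smooth X.hom

variable {G H : Over (Spec (CommRingCat.of k))} [GrpObj G] [GrpObj H]

/-- a vector fixed by the rational points of a smooth group is fixed. -/
theorem mem_fixedUnder_of_pts [IsAffine H.left] [Smooth H.hom] (i : H ⟶ G)
    {V : Type u} [AddCommGroup V] [Module k V] (ρ : VecGrp.GMod G V) (v : V)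
    (hv : ∀ h : VecGrp.pt k k ⟶ H, ρ.ρ k (h ≫ i) ((1 : k) ⊗ₜ[k] v) = (1 : k) ⊗ₜ[k] v) :
    v ∈ ρ.fixedUnder i := by
  haveI := isReduced_of_smooth_field H
  haveI : LocallyOfFiniteType H.hom := inferInstance
  have key : ρ.ρ Γ(H.left, ⊤) (uP H ≫ i) ((1 : Γ(H.left, ⊤)) ⊗ₜ[k] v) =
      (1 : Γ(H.left, ⊤)) ⊗ₜ[k] v := by
    rw [← sub_eq_zero]
    apply eq_zero_of_forall_lTensor k _ V
    intro l
    change ctr _ l (_ - _) = 0
    rw [map_sub, sub_eq_zero]
    apply eq_of_forall_ev (X := H)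
    intro h₀
    rw [← ctr_Wmap, ← ctr_Wmap, ρ.naturality, VecGrp.Wmap_tmul, map_one, ← Category.assoc,
      ← pt_eq, hv h₀]
  intro B _ _ h
  have h1 := ρ.naturality (ev h) (uP H ≫ i) ((1 : Γ(H.left, ⊤)) ⊗ₜ[k] v)
  rw [key, VecGrp.Wmap_tmul, map_one, ← Category.assoc, ← pt_eq] at h1
  exact h1.symm

/-- (2) ⇒ (1): a stabiliser of a vector is observable. -/
theorem obs_of_stab [IsAffine G.left] [IsAffine H.left] [Smooth H.hom] (i : H ⟶ G)
    {V : Type u} [AddCommGroup V] [Module k V] (ρ : VecGrp.GMod G V) (v : V)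
    (hst : AGF.IsStabOnPts k i ρ v) : AGF.IsObservableIn k i := by
  intro g hg
  apply (hst g).mp
  apply fixed_of_hull ρ i g hg v
  apply mem_fixedUnder_of_pts
  intro h
  exact (hst (h ≫ i)).mpr ⟨h, rfl⟩

section transInv

variable [IsAffine G.left]

/-- left translates of right-`H`-invariant functions are right-`H`-invariant. -/
theorem isRTransInv_lT [IsAffine H.left] {i : H ⟶ G} {f : Γ(G.left, ⊤)}
    (hf : AGF.IsRTransInv i f) (x : VecGrp.pt k k ⟶ G) :
    AGF.IsRTransInv i (pullA (lT x) f) := by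
  apply isRTransInv_of_pts
  intro B _ _ y t
  rw [ev_lT, ev_lT, ← _root_.mul_assoc, IsRTransInv.ev_mul hf]

/-- a function fixed by the right translation by a rational point `c` is `c`-invariant. -/
theorem isRTransInv_of_rT {c : VecGrp.pt k k ⟶ G} {f : Γ(G.left, ⊤)}
    (hf : pullA (rT c) f = f) : AGF.IsRTransInv c f := by
  haveI : IsAffine (VecGrp.pt k k).left := inferInstanceAs (IsAffine (Spec _))
  apply isRTransInv_of_pts
  intro B _ _ y t
  rw [tT_unique t (tT _), ← ev_rT, hf]

/-- left translates are linear combinations of the second factors of a decomposition. -/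
theorem lT_eq_sum [Smooth G.hom] {f : Γ(G.left, ⊤)} {n : ℕ} {a b : Fin n → Γ(G.left, ⊤)}
    (h : μ[G].left.appTop f = ∑ j, (fst G G).left.appTop (a j) * (snd G G).left.appTop (b j))
    (x : VecGrp.pt k k ⟶ G) : pullA (lT x) f = ∑ j, ev x (a j) • b j := by
  haveI := isReduced_of_smooth_field G
  haveI : LocallyOfFiniteType G.hom := inferInstance
  apply eq_of_forall_ev
  intro y
  rw [ev_lT', ev_mul_of_decomp h, map_sum]
  refine Finset.sum_congr rfl fun j _ => ?_
  rw [map_smul, smul_eq_mul]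

end transInv

/-- (1) ⇒ (3): for an observable subgroup finitely many invariants separate the cosets. -/
theorem sep_of_obs [IsAffine G.left] [Smooth G.hom] [Smooth H.hom] (i : H ⟶ G) [IsMonHom i]
    [IsClosedImmersion i.left] (hobs : AGF.IsObservableIn k i) :
    ∃ s : Finset Γ(G.left, ⊤), (∀ f ∈ s, AGF.IsRTransInv i f) ∧
      ∀ g g' : VecGrp.pt k k ⟶ G, (∀ f ∈ s, ev g f = ev g' f) →
        ∃ h : VecGrp.pt k k ⟶ H, g' = g * (h ≫ i) := by
  classical
  haveI : IsAffine H.left := isAffine_of_isAffineHom i.left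
  haveI := isReduced_of_smooth_field G
  haveI : LocallyOfFiniteType G.hom := inferInstance
  obtain ⟨s₀, hs₀, hhull⟩ := Groth.Agent.S11199.result k G H i
  have hdec := fun f : Γ(G.left, ⊤) => exists_decomp G G (μ[G].left.appTop f)
  choose n a b hab using hdec
  let T : Set Γ(G.left, ⊤) := {F | ∃ f ∈ s₀, ∃ x : VecGrp.pt k k ⟶ G, F = pullA (lT x) f}
  let U : Submodule k Γ(G.left, ⊤) := Submodule.span k (⋃ f ∈ s₀, Set.range (b f))
  have hUfg : U.FG := by
    refine Submodule.fg_span ?_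
    exact Set.Finite.biUnion s₀.finite_toSet (fun f _ => Set.finite_range _)
  have hTU : Submodule.span k T ≤ U := by
    refine Submodule.span_le.mpr ?_
    rintro F ⟨f, hf, x, rfl⟩
    rw [lT_eq_sum (hab f) x]
    refine Submodule.sum_mem _ fun j _ => Submodule.smul_mem _ _ (Submodule.subset_span ?_)
    exact Set.mem_biUnion hf (Set.mem_range_self j)
  have hfin : (Submodule.span k T).FG := Submodule.FG.of_le hUfg hTU
  obtain ⟨t, htT, hspan⟩ := (Submodule.fg_span_iff_fg_span_finset_subset _).mp hfin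
  refine ⟨t, ?_, ?_⟩
  · intro F hF
    obtain ⟨f, hf, x, rfl⟩ := htT hF
    exact isRTransInv_lT (hs₀ f hf) x
  · intro g g' hgg'
    have hW : ∀ F ∈ Submodule.span k T, ev g F = ev g' F := by
      intro F hF
      rw [hspan] at hF
      induction hF using Submodule.span_induction with
      | mem F hF => exact hgg' F hF
      | zero => simp
      | add F F' _ _ h1 h2 => rw [map_add, map_add, h1, h2]
      | smul c F _ h1 => rw [map_smul, map_smul, h1]
    have hc : ∀ f ∈ s₀, AGF.IsRTransInv (g⁻¹ * g') f := by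
      intro f hf
      apply isRTransInv_of_rT
      apply eq_of_forall_ev
      intro y
      rw [ev_rT']
      have h1 := hW (pullA (lT (y * g⁻¹)) f) (Submodule.subset_span ⟨f, hf, _, rfl⟩)
      rw [ev_lT', ev_lT'] at h1
      rw [← _root_.mul_assoc, ← h1, inv_mul_cancel_right]
    obtain ⟨h, hh⟩ := hobs _ (hhull _ hc)
    exact ⟨h, by rw [hh, mul_inv_cancel_left]⟩

section construct

variable [IsAffine G.left] [Smooth G.hom]

omit [IsAffine G.left] in
theorem lT_lT (x x' : VecGrp.pt k k ⟶ G) (f : Γ(G.left, ⊤)) :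
    pullA (lT x) (pullA (lT x') f) = pullA (lT (x' * x)) f := by
  haveI := isReduced_of_smooth_field G
  haveI : LocallyOfFiniteType G.hom := inferInstance
  apply eq_of_forall_ev
  intro y
  rw [ev_lT', ev_lT', ev_lT', _root_.mul_assoc]

omit [IsAffine G.left] in
theorem lT_one (f : Γ(G.left, ⊤)) : pullA (lT (1 : VecGrp.pt k k ⟶ G)) f = f := by
  haveI := isReduced_of_smooth_field G
  haveI : LocallyOfFiniteType G.hom := inferInstance
  apply eq_of_forall_ev
  intro y
  rw [ev_lT', _root_.one_mul]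

/-- the left translates of the elements of `s`. -/
noncomputable def transl (s : Finset Γ(G.left, ⊤)) : Set Γ(G.left, ⊤) :=
  {F | ∃ f ∈ s, ∃ x : VecGrp.pt k k ⟶ G, F = pullA (lT x) f}

/-- the span of the left translates of the elements of `s`. -/
noncomputable def Wsp (s : Finset Γ(G.left, ⊤)) : Submodule k Γ(G.left, ⊤) := Submodule.span k (transl s)

theorem fg_Wsp (s : Finset Γ(G.left, ⊤)) : (Wsp s).FG := by
  classical
  have hdec := fun f : Γ(G.left, ⊤) => exists_decomp G G (μ[G].left.appTop f)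
  choose n a b hab using hdec
  let U : Submodule k Γ(G.left, ⊤) := Submodule.span k (⋃ f ∈ s, Set.range (b f))
  have hUfg : U.FG := by
    refine Submodule.fg_span ?_
    exact Set.Finite.biUnion s.finite_toSet (fun f _ => Set.finite_range _)
  have hTU : Wsp s ≤ U := by
    refine Submodule.span_le.mpr ?_
    rintro F ⟨f, hf, x, rfl⟩
    rw [lT_eq_sum (hab f) x]
    refine Submodule.sum_mem _ fun j _ => Submodule.smul_mem _ _ (Submodule.subset_span ?_)
    exact Set.mem_biUnion hf (Set.mem_range_self j)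
  exact Submodule.FG.of_le hUfg hTU

omit [IsAffine G.left] in
theorem mem_Wsp_self {s : Finset Γ(G.left, ⊤)} {f : Γ(G.left, ⊤)} (hf : f ∈ s) : f ∈ Wsp s :=
  Submodule.subset_span ⟨f, hf, 1, (lT_one f).symm⟩

omit [IsAffine G.left] in
theorem lT_mem_Wsp {s : Finset Γ(G.left, ⊤)} {F : Γ(G.left, ⊤)} (hF : F ∈ Wsp s)
    (x : VecGrp.pt k k ⟶ G) : pullA (lT x) F ∈ Wsp s := by
  induction hF using Submodule.span_induction with
  | mem F hF =>
    obtain ⟨f, hf, x', rfl⟩ := hF
    rw [lT_lT]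
    exact Submodule.subset_span ⟨f, hf, _, rfl⟩
  | zero => rw [map_zero]; exact Submodule.zero_mem _
  | add F F' _ _ h1 h2 => rw [map_add]; exact Submodule.add_mem _ h1 h2
  | smul c F _ h1 => rw [map_smul]; exact Submodule.smul_mem _ _ h1

theorem isRTransInv_of_mem_Wsp [IsAffine H.left] {i : H ⟶ G} {s : Finset Γ(G.left, ⊤)}
    (hs : ∀ f ∈ s, AGF.IsRTransInv i f) {F : Γ(G.left, ⊤)} (hF : F ∈ Wsp s) :
    AGF.IsRTransInv i F := by
  have hle : Wsp s ≤ Subalgebra.toSubmodule
      (AlgHom.equalizer (pullA ((G ◁ i) ≫ μ[G])) (pullA (fst G H))) := by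
    refine Submodule.span_le.mpr ?_
    rintro F ⟨f, hf, x, rfl⟩
    exact isRTransInv_lT (hs f hf) x
  exact hle hF

end construct

section matrix

variable [IsAffine G.left] [Smooth G.hom] {n : ℕ} (w : Fin n → Γ(G.left, ⊤))
  (y : Fin n → (VecGrp.pt k k ⟶ G))

/-- the matrix of values `w_i(y_m)`. -/
noncomputable def Mmat : Matrix (Fin n) (Fin n) k := Matrix.of fun i m => ev (y m) (w i)

/-- the matrix of the representation on the span of `w` by left translations. -/
noncomputable def dmat : Matrix (Fin n) (Fin n) Γ(G.left, ⊤) :=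
  Matrix.of fun j i => ∑ m, pullA (rT (y m)) (w j) * algebraMap k Γ(G.left, ⊤) ((Mmat w y)⁻¹ m i)

omit [IsAlgClosed k] [IsAffine G.left] [Smooth G.hom] in
theorem ev_dmat {B : Type u} [CommRing B] [Algebra k B] (x : VecGrp.pt k B ⟶ G) (j i : Fin n) :
    ev x (dmat w y j i) =
      ∑ m, ev (x * (tT _ ≫ y m)) (w j) * algebraMap k B ((Mmat w y)⁻¹ m i) := by
  simp only [dmat, Matrix.of_apply, map_sum, map_mul, ev_rT, AlgHom.commutes]

omit [IsAffine G.left] in
/-- the key relation at rational points. -/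
theorem star_rat (hdet : (Mmat w y).det ≠ 0)
    (hst : ∀ (x : VecGrp.pt k k ⟶ G) (j : Fin n), ∃ c : Fin n → k,
      pullA (lT x) (w j) = ∑ i, c i • w i)
    (x z : VecGrp.pt k k ⟶ G) (j : Fin n) :
    ev (x * z) (w j) = ∑ i, ev x (dmat w y j i) * ev z (w i) := by
  obtain ⟨c, hc⟩ := hst x j
  have hM : ∀ m, ev (x * y m) (w j) = (Matrix.vecMul c (Mmat w y)) m := by
    intro m
    rw [← ev_lT', hc, map_sum]
    simp only [map_smul, smul_eq_mul, Matrix.vecMul, dotProduct, Mmat, Matrix.of_apply]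
  have hd : ∀ i, ev x (dmat w y j i) = c i := by
    intro i
    rw [ev_dmat]
    have h1 : ∀ m, ev (x * (tT _ ≫ y m)) (w j) * algebraMap k k ((Mmat w y)⁻¹ m i) =
        (Matrix.vecMul c (Mmat w y)) m * (Mmat w y)⁻¹ m i := by
      intro m
      rw [tT_pt, Category.id_comp, hM]
      rfl
    rw [Finset.sum_congr rfl fun m _ => h1 m]
    have h2 : ∑ m, (Matrix.vecMul c (Mmat w y)) m * (Mmat w y)⁻¹ m i =
        (Matrix.vecMul (Matrix.vecMul c (Mmat w y)) (Mmat w y)⁻¹) i := rfl
    rw [h2, Matrix.vecMul_vecMul, Matrix.mul_nonsing_inv _ (isUnit_iff_ne_zero.mpr hdet),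
      Matrix.vecMul_one]
  rw [← ev_lT', hc, map_sum]
  refine Finset.sum_congr rfl fun i _ => ?_
  rw [hd, map_smul, smul_eq_mul]

/-- the key relation as an identity of functions on `G × G`. -/
theorem star (hdet : (Mmat w y).det ≠ 0)
    (hst : ∀ (x : VecGrp.pt k k ⟶ G) (j : Fin n), ∃ c : Fin n → k,
      pullA (lT x) (w j) = ∑ i, c i • w i) (j : Fin n) :
    μ[G].left.appTop (w j) =
      ∑ i, (fst G G).left.appTop (dmat w y j i) * (snd G G).left.appTop (w i) := by
  haveI := isReduced_of_smooth_field G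
  haveI : LocallyOfFiniteType G.hom := inferInstance
  haveI : IsReduced (G ⊗ G).left := ProdUnit.isReduced_prod
  haveI : LocallyOfFiniteType (G ⊗ G).hom := by
    change LocallyOfFiniteType (Limits.pullback.fst G.hom G.hom ≫ G.hom)
    infer_instance
  apply eq_of_forall_ev (X := G ⊗ G)
  intro p
  rw [← ev_comp, map_sum]
  have hp : p ≫ μ[G] = (p ≫ fst G G) * (p ≫ snd G G) := by
    rw [Hom.mul_def, lift_comp_fst_snd]
  rw [hp, star_rat w y hdet hst]
  refine Finset.sum_congr rfl fun i _ => ?_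
  rw [map_mul, ← ev_comp, ← ev_comp]

/-- the key relation at arbitrary points. -/
theorem star_pts (hdet : (Mmat w y).det ≠ 0)
    (hst : ∀ (x : VecGrp.pt k k ⟶ G) (j : Fin n), ∃ c : Fin n → k,
      pullA (lT x) (w j) = ∑ i, c i • w i)
    {B : Type u} [CommRing B] [Algebra k B] (x z : VecGrp.pt k B ⟶ G) (j : Fin n) :
    ev (x * z) (w j) = ∑ i, ev x (dmat w y j i) * ev z (w i) :=
  ev_mul_of_decomp (star w y hdet hst j) x z

theorem dmat_mul (hdet : (Mmat w y).det ≠ 0)
    (hst : ∀ (x : VecGrp.pt k k ⟶ G) (j : Fin n), ∃ c : Fin n → k,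
      pullA (lT x) (w j) = ∑ i, c i • w i)
    (B : Type u) [CommRing B] [Algebra k B] (x x' : VecGrp.pt k B ⟶ G) :
    (dmat w y).map (fun f => ev (x * x') f) =
      (dmat w y).map (fun f => ev x f) * (dmat w y).map (fun f => ev x' f) := by
  ext j i
  rw [Matrix.map_apply, Matrix.mul_apply, ev_dmat]
  simp only [Matrix.map_apply]
  have h1 : ∀ m, ev (x * x' * (tT _ ≫ y m)) (w j) =
      ∑ l, ev x (dmat w y j l) * ev (x' * (tT _ ≫ y m)) (w l) := by
    intro m
    rw [_root_.mul_assoc, star_pts w y hdet hst]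
  simp only [h1, ev_dmat w y x', Finset.sum_mul, Finset.mul_sum]
  rw [Finset.sum_comm]
  refine Finset.sum_congr rfl fun l _ => Finset.sum_congr rfl fun m _ => ?_
  ring

omit [IsAlgClosed k] [IsAffine G.left] [Smooth G.hom] in
theorem dmat_one (hdet : (Mmat w y).det ≠ 0) (B : Type u) [CommRing B] [Algebra k B] :
    (dmat w y).map (fun f => ev (1 : VecGrp.pt k B ⟶ G) f) = 1 := by
  ext j i
  rw [Matrix.map_apply, ev_dmat]
  have h1 : ∀ m, ev ((1 : VecGrp.pt k B ⟶ G) * (tT _ ≫ y m)) (w j) =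
      algebraMap k B (Mmat w y j m) := by
    intro m
    rw [_root_.one_mul, tT_unique (tT (VecGrp.pt k B)) (VecGrp.ptMap (Algebra.ofId k B)), ev_ptMap]
    rfl
  simp only [h1, ← map_mul, ← map_sum]
  have h2 : ∑ m, Mmat w y j m * (Mmat w y)⁻¹ m i = (Mmat w y * (Mmat w y)⁻¹) j i := rfl
  rw [h2, Matrix.mul_nonsing_inv _ (isUnit_iff_ne_zero.mpr hdet), Matrix.one_apply, Matrix.one_apply]
  split_ifs <;> simp

end matrix

/-- (3) ⇒ (2): a subgroup whose cosets are separated by finitely many invariants is the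
stabiliser of a vector in a finite-dimensional rational module. -/
theorem stab_of_sep [IsAffine G.left] [Smooth G.hom] [Smooth H.hom] (i : H ⟶ G)
    [IsClosedImmersion i.left] (s : Finset Γ(G.left, ⊤)) (hs : ∀ f ∈ s, AGF.IsRTransInv i f)
    (hsep : ∀ g g' : VecGrp.pt k k ⟶ G, (∀ f ∈ s, ev g f = ev g' f) →
      ∃ h : VecGrp.pt k k ⟶ H, g' = g * (h ≫ i)) :
    ∃ (n : ℕ) (ρ : VecGrp.GMod G (Fin n → k)) (v : Fin n → k), AGF.IsStabOnPts k i ρ v := by
  classical
  haveI : IsAffine H.left := isAffine_of_isAffineHom i.left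
  haveI := isReduced_of_smooth_field G
  haveI : LocallyOfFiniteType G.hom := inferInstance
  haveI : Module.Finite k (Wsp s) := Module.Finite.iff_fg.mpr (fg_Wsp s)
  let n := Module.finrank k (Wsp s)
  let bs : Module.Basis (Fin n) k (Wsp s) := Module.finBasis k (Wsp s)
  let w : Fin n → Γ(G.left, ⊤) := fun j => (bs j : Γ(G.left, ⊤))
  have hwW : ∀ j, w j ∈ Wsp s := fun j => (bs j).2
  have hli : LinearIndependent k w :=
    bs.linearIndependent.map' (Wsp s).subtype (Submodule.ker_subtype _)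
  have hspan : ∀ F ∈ Wsp s, ∃ c : Fin n → k, F = ∑ i, c i • w i := by
    intro F hF
    refine ⟨fun i => bs.repr ⟨F, hF⟩ i, ?_⟩
    have h1 := bs.sum_repr ⟨F, hF⟩
    have h2 := congrArg (Wsp s).subtype h1
    rw [map_sum] at h2
    simp only [map_smul, Submodule.subtype_apply] at h2
    exact h2.symm
  have hst : ∀ (x : VecGrp.pt k k ⟶ G) (j : Fin n), ∃ c : Fin n → k,
      pullA (lT x) (w j) = ∑ i, c i • w i :=
    fun x j => hspan _ (lT_mem_Wsp (hwW j) x)
  obtain ⟨y, hdet⟩ := exists_det_ne_zero (k := k) (O := Γ(G.left, ⊤))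
    (P := VecGrp.pt k k ⟶ G) (fun p => (ev p).toLinearMap)
    (fun f hf => eq_of_forall_ev (fun p => by simpa using hf p)) n w hli
  have hdet' : (Mmat w y).det ≠ 0 := hdet
  obtain ⟨ρ, hρ⟩ := exists_gmod_of_matrix n (dmat w y) (dmat_mul w y hdet' hst)
    (dmat_one w y hdet')
  let v : Fin n → k := fun i => ev (1 : VecGrp.pt k k ⟶ G) (w i)
  have hdv : ∀ x : VecGrp.pt k k ⟶ G,
      ((dmat w y).map (fun f => ev x f)).mulVec v = fun j => ev x (w j) := by
    intro x
    funext j
    have h1 := star_pts w y hdet' hst x (1 : VecGrp.pt k k ⟶ G) j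
    rw [_root_.mul_one] at h1
    rw [h1]
    rfl
  refine ⟨n, ρ, v, ?_⟩
  intro g
  rw [hρ, hdv]
  constructor
  · intro h1
    have h2 : (fun j => ev g (w j)) = v := by
      have h3 := congrArg (TensorProduct.lid k (Fin n → k)) h1
      simpa using h3
    have h3 : ∀ F ∈ Wsp s, ev (1 : VecGrp.pt k k ⟶ G) F = ev g F := by
      intro F hF
      obtain ⟨c, rfl⟩ := hspan F hF
      simp only [map_sum, map_smul]
      refine Finset.sum_congr rfl fun i _ => ?_
      have h4 : ev g (w i) = ev (1 : VecGrp.pt k k ⟶ G) (w i) := congrFun h2 i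
      rw [h4]
    obtain ⟨h, hh⟩ := hsep 1 g (fun f hf => h3 f (mem_Wsp_self hf))
    exact ⟨h, by rw [hh, _root_.one_mul]⟩
  · rintro ⟨h, rfl⟩
    congr 1
    funext j
    have h1 := IsRTransInv.ev_mul (isRTransInv_of_mem_Wsp hs (hwW j)) (1 : VecGrp.pt k k ⟶ G) h
    rw [_root_.one_mul] at h1
    exact h1

end Groth.Agent.H62.GrossD
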