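import Groth.Agent.H62.GrossD

/-!
# Epimorphic subgroups: `k[G]^H = k` versus invariants in rational modules and homomorphisms
-/

universe u

open CategoryTheory MonoidalCategory CartesianMonoidalCategory MonObj GrpObj AlgebraicGeometry
open scoped TensorProduct

namespace Groth.Agent.H62.GrossE

open Groth.Agent.H62.GrossA Groth.Agent.H62.GrossC Groth.Agent.H62.GrossD
  Groth.Agent.H57.GrossLin Groth.Agent.H57.GrossM1

attribute [local instance] Groth.Agent.H62.GrossA.algΓ

variable {k : Type u} [Field k] [IsAlgClosed k]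
variable {G H : Over (Spec (CommRingCat.of k))} [GrpObj G] [GrpObj H]

/-- the finite-dimensional representation attached to a finite set of functions: a basis `w` of the
span of the left translates, a multiplicative matrix `d` of functions and the module structure. -/
theorem exists_rep [IsAffine G.left] [Smooth G.hom] (s : Finset Γ(G.left, ⊤)) :
    ∃ (n : ℕ) (w : Fin n → Γ(G.left, ⊤)) (d : Matrix (Fin n) (Fin n) Γ(G.left, ⊤))
      (ρ : VecGrp.GMod G (Fin n → k)),
      (∀ j, w j ∈ Wsp s) ∧ (∀ F ∈ Wsp s, ∃ c : Fin n → k, F = ∑ i, c i • w i) ∧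
      (∀ (B : Type u) [CommRing B] [Algebra k B] (x y : VecGrp.pt k B ⟶ G),
        d.map (fun f => ev (x * y) f) = d.map (fun f => ev x f) * d.map (fun f => ev y f)) ∧
      (∀ (B : Type u) [CommRing B] [Algebra k B],
        d.map (fun f => ev (1 : VecGrp.pt k B ⟶ G) f) = 1) ∧
      (∀ (B : Type u) [CommRing B] [Algebra k B] (x z : VecGrp.pt k B ⟶ G) (j : Fin n),
        ev (x * z) (w j) = ∑ i, ev x (d j i) * ev z (w i)) ∧
      (∀ (x : VecGrp.pt k k ⟶ G) (v : Fin n → k),
        ρ.ρ k x ((1 : k) ⊗ₜ[k] v) = (1 : k) ⊗ₜ[k] ((d.map (fun f => ev x f)).mulVec v)) := by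
  classical
  haveI := isReduced_of_smooth_field G
  haveI : LocallyOfFiniteType G.hom := inferInstance
  haveI : Module.Finite k (Wsp s) := Module.Finite.iff_fg.mpr (fg_Wsp s)
  let n := Module.finrank k (Wsp s)
  let bs : Module.Basis (Fin n) k (Wsp s) := Module.finBasis k (Wsp s)
  let w : Fin n → Γ(G.left, ⊤) := fun j => (bs j : Γ(G.left, ⊤))
  have hwW : ∀ j, w j ∈ Wsp s := fun j => (bs j).2
  have hli : LinearIndependent k w :=
    bs.linearIndependent.map' (Wsp s).subtype (Submodule.ker_subtype _)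
  have hspan : ∀ F ∈ Wsp s, ∃ c : Fin n → k, F = ∑ i, c i • w i := by
    intro F hF
    refine ⟨fun i => bs.repr ⟨F, hF⟩ i, ?_⟩
    have h1 := bs.sum_repr ⟨F, hF⟩
    have h2 := congrArg (Wsp s).subtype h1
    rw [map_sum] at h2
    simp only [map_smul, Submodule.subtype_apply] at h2
    exact h2.symm
  have hst : ∀ (x : VecGrp.pt k k ⟶ G) (j : Fin n), ∃ c : Fin n → k,
      pullA (lT x) (w j) = ∑ i, c i • w i :=
    fun x j => hspan _ (lT_mem_Wsp (hwW j) x)
  obtain ⟨y, hdet⟩ := exists_det_ne_zero (k := k) (O := Γ(G.left, ⊤))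
    (P := VecGrp.pt k k ⟶ G) (fun p => (ev p).toLinearMap)
    (fun f hf => eq_of_forall_ev (fun p => by simpa using hf p)) n w hli
  have hdet' : (Mmat w y).det ≠ 0 := hdet
  obtain ⟨ρ, hρ⟩ := exists_gmod_of_matrix n (dmat w y) (dmat_mul w y hdet' hst)
    (dmat_one w y hdet')
  exact ⟨n, w, dmat w y, ρ, hwW, hspan, dmat_mul w y hdet' hst, dmat_one w y hdet',
    fun B _ _ x z j => star_pts w y hdet' hst x z j, hρ⟩

omit [IsAlgClosed k] in
/-- the value of a constant function. -/
theorem ev_algebraMap {X : Over (Spec (CommRingCat.of k))} {B : Type u} [CommRing B] [Algebra k B]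
    (x : VecGrp.pt k B ⟶ X) (c : k) : ev x (algebraMap k Γ(X.left, ⊤) c) = algebraMap k B c :=
  (ev x).commutes c

/-- (b) ⇒ (c). -/
theorem fixed_eq_of_const [IsAffine G.left] [IsAffine H.left] (i : H ⟶ G)
    (hb : ∀ f : Γ(G.left, ⊤), AGF.IsRTransInv i f → ∃ c : k, f = algebraMap k Γ(G.left, ⊤) c)
    {E : Type u} [AddCommGroup E] [Module k E] (ρ : VecGrp.GMod G E) :
    ρ.fixedUnder i = ρ.fixedUnder (𝟙 G) := by
  apply le_antisymm
  · intro a ha B _ _ g
    rw [Category.comp_id, ← sub_eq_zero]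
    apply eq_zero_of_forall_lTensor k B E
    intro l
    change ctr B l (_ - _) = 0
    rw [map_sub, sub_eq_zero, ← ev_coef]
    obtain ⟨c, hc⟩ := hb _ (coef_isRTransInv ρ i a ha l)
    have h1 : c = l a := by
      have h2 := ev_coef ρ a l (1 : VecGrp.pt k k ⟶ G)
      rw [hc, ev_algebraMap, map_one] at h2
      simpa using h2
    rw [hc, ev_algebraMap, h1, ctr_tmul, Algebra.algebraMap_eq_smul_one]
  · intro a ha B _ _ h
    have := ha B (h ≫ i)
    rwa [Category.comp_id] at this

/-- a function all of whose rational values coincide is constant. -/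
theorem const_of_ev_eq [IsAffine G.left] [Smooth G.hom] (f : Γ(G.left, ⊤))
    (h : ∀ x : VecGrp.pt k k ⟶ G, ev x f = ev (1 : VecGrp.pt k k ⟶ G) f) :
    ∃ c : k, f = algebraMap k Γ(G.left, ⊤) c := by
  haveI := isReduced_of_smooth_field G
  haveI : LocallyOfFiniteType G.hom := inferInstance
  refine ⟨ev (1 : VecGrp.pt k k ⟶ G) f, ?_⟩
  apply eq_of_forall_ev
  intro x
  rw [h x, ev_algebraMap]
  rfl

/-- the vector of values at `1` of the basis `w` is fixed by `H` when the `w j` are invariant,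
and its orbit map is `x ↦ (w j (x))`. -/
theorem const_of_fixed [IsAffine G.left] [Smooth G.hom] [IsAffine H.left] [Smooth H.hom]
    (i : H ⟶ G) (f : Γ(G.left, ⊤)) (hf : AGF.IsRTransInv i f)
    (hc : ∀ {n : ℕ} (ρ : VecGrp.GMod G (Fin n → k)), ρ.fixedUnder i ≤ ρ.fixedUnder (𝟙 G)) :
    ∃ c : k, f = algebraMap k Γ(G.left, ⊤) c := by
  classical
  obtain ⟨n, w, d, ρ, hwW, hspan, hmul, hone, hstar, hρ⟩ := exists_rep (G := G) {f}
  have hs : ∀ f' ∈ ({f} : Finset Γ(G.left, ⊤)), AGF.IsRTransInv i f' := by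
    intro f' hf'
    rw [Finset.mem_singleton] at hf'
    rw [hf']
    exact hf
  let v : Fin n → k := fun j => ev (1 : VecGrp.pt k k ⟶ G) (w j)
  have hdv : ∀ x : VecGrp.pt k k ⟶ G,
      ((d.map (fun f => ev x f)).mulVec v) = fun j => ev x (w j) := by
    intro x
    funext j
    have h1 := hstar k x (1 : VecGrp.pt k k ⟶ G) j
    rw [_root_.mul_one] at h1
    rw [h1]
    rfl
  have hvH : v ∈ ρ.fixedUnder i := by
    apply mem_fixedUnder_of_pts
    intro h
    rw [hρ, hdv]
    congr 1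
    funext j
    have h1 := IsRTransInv.ev_mul (isRTransInv_of_mem_Wsp hs (hwW j)) (1 : VecGrp.pt k k ⟶ G) h
    rw [_root_.one_mul] at h1
    exact h1
  have hvG := hc ρ hvH
  apply const_of_ev_eq
  intro x
  have h1 := hvG k x
  rw [Category.comp_id, hρ, hdv] at h1
  have h2 : (fun j => ev x (w j)) = v := by
    have h3 := congrArg (TensorProduct.lid k (Fin n → k)) h1
    simpa using h3
  obtain ⟨c, hcf⟩ := hspan f (mem_Wsp_self (Finset.mem_singleton_self f))
  rw [hcf, map_sum, map_sum]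
  refine Finset.sum_congr rfl fun j _ => ?_
  rw [map_smul, map_smul]
  have h4 : ev x (w j) = ev (1 : VecGrp.pt k k ⟶ G) (w j) := congrFun h2 j
  rw [h4]

/-- (b) ⇒ (e). -/
theorem hom_eq_of_const [IsAffine G.left] [IsAffine H.left] (i : H ⟶ G)
    (hb : ∀ f : Γ(G.left, ⊤), AGF.IsRTransInv i f → ∃ c : k, f = algebraMap k Γ(G.left, ⊤) c)
    (G' : Over (Spec (CommRingCat.of k))) [GrpObj G'] [IsAffine G'.left]
    (r s : G ⟶ G') [IsMonHom r] [IsMonHom s] (hrs : i ≫ r = i ≫ s) : r = s := by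
  have key : r * s⁻¹ = 1 := by
    apply ext_hom
    intro F
    change pullA (r * s⁻¹) F = pullA (1 : G ⟶ G') F
    have hinv : AGF.IsRTransInv i (pullA (r * s⁻¹) F) := by
      apply isRTransInv_of_pts
      intro B _ _ y t
      rw [ev_pullA, ev_pullA]
      congr 2
      rw [MonObj.comp_mul, MonObj.comp_mul, GrpObj.comp_inv, GrpObj.comp_inv, MonObj.mul_comp,
        MonObj.mul_comp, Category.assoc, Category.assoc, hrs, _root_.mul_inv_rev, _root_.mul_assoc,
        mul_inv_cancel_left]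
    obtain ⟨c, hc⟩ := hb _ hinv
    have h1 : c = ev (1 : VecGrp.pt k k ⟶ G') F := by
      have h2 := congrArg (ev (1 : VecGrp.pt k k ⟶ G)) hc
      rw [ev_pullA, ev_algebraMap, MonObj.comp_mul, GrpObj.comp_inv, MonObj.one_comp,
        MonObj.one_comp, inv_one, _root_.mul_one] at h2
      exact h2.symm
    have h3 : pullA (1 : G ⟶ G') F = algebraMap k Γ(G.left, ⊤) c := by
      rw [← ev_uP (pullA (1 : G ⟶ G') F), ev_pullA, MonObj.comp_one,
        ← MonObj.comp_one (VecGrp.ptMap (Algebra.ofId k Γ(G.left, ⊤))), ev_ptMap, ← h1]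
      rfl
    rw [hc, h3]
  exact mul_inv_eq_one.mp key

end Groth.Agent.H62.GrossE
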