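import Groth.Agent.H62.GrossE
import Groth.Agent.H62.GLkDef
import Groth.Agent.H62.GLkHom
import Groth.Agent.H62.GLkSmooth

/-!
# Epimorphic subgroups: two homomorphisms to `GL_{n+1}` from an invariant function
-/

universe u

open CategoryTheory MonoidalCategory CartesianMonoidalCategory MonObj GrpObj AlgebraicGeometry
open scoped TensorProduct

namespace Groth.Agent.H62.GrossF

open Groth.Agent.H62.GrossA Groth.Agent.H62.GrossC Groth.Agent.H62.GrossD Groth.Agent.H62.GrossE
  Groth.Agent.H62.GLkDef Groth.Agent.H62.GLkHom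

attribute [local instance] Groth.Agent.H62.GrossA.algΓ

variable {k : Type u} [Field k]
variable {G H : Over (Spec (CommRingCat.of k))} [GrpObj G] [GrpObj H]

section blocks

variable {n : ℕ} (d : Matrix (Fin n) (Fin n) Γ(G.left, ⊤)) (U : Matrix (Fin n) (Fin 1) Γ(G.left, ⊤))
  {B : Type u} [CommRing B] [Algebra k B]

/-- the block matrix `[[d, U], [0, 1]]` indexed by `Fin (n + 1)`. -/
noncomputable def blk : Matrix (Fin (n + 1)) (Fin (n + 1)) Γ(G.left, ⊤) :=
  (Matrix.fromBlocks d U 0 1).submatrix finSumFinEquiv.symm finSumFinEquiv.symm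

theorem blk_map (x : VecGrp.pt k B ⟶ G) :
    (blk d U).map (fun f => ev x f) =
      (Matrix.fromBlocks (d.map fun f => ev x f) (U.map fun f => ev x f) 0 1).submatrix
        finSumFinEquiv.symm finSumFinEquiv.symm := by
  rw [blk, ← Matrix.submatrix_map, Matrix.fromBlocks_map, Matrix.map_zero _ (map_zero _),
    Matrix.map_one _ (map_zero _) (map_one _)]

theorem blk_mul (x x' : VecGrp.pt k B ⟶ G)
    (hd : d.map (fun f => ev (x * x') f) = d.map (fun f => ev x f) * d.map (fun f => ev x' f))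
    (hU : U.map (fun f => ev (x * x') f) =
      d.map (fun f => ev x f) * U.map (fun f => ev x' f) + U.map (fun f => ev x f)) :
    (blk d U).map (fun f => ev (x * x') f) =
      (blk d U).map (fun f => ev x f) * (blk d U).map (fun f => ev x' f) := by
  rw [blk_map, blk_map, blk_map, Matrix.submatrix_mul_equiv, Matrix.fromBlocks_multiply]
  congr 1
  rw [hd, hU]
  simp

theorem blk_one (x : VecGrp.pt k B ⟶ G) (hd : d.map (fun f => ev x f) = 1)
    (hU : U.map (fun f => ev x f) = 0) : (blk d U).map (fun f => ev x f) = 1 := by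
  rw [blk_map, hd, hU, Matrix.fromBlocks_one, Matrix.submatrix_one_equiv]

theorem blk_inl_inr (j : Fin n) :
    blk d U (finSumFinEquiv (Sum.inl j)) (finSumFinEquiv (Sum.inr 0)) = U j 0 := by
  simp [blk]

end blocks

theorem ev_one_B (B : Type u) [CommRing B] [Algebra k B] (f : Γ(G.left, ⊤)) :
    ev (1 : VecGrp.pt k B ⟶ G) f = algebraMap k B (ev (1 : VecGrp.pt k k ⟶ G) f) := by
  rw [← MonObj.comp_one (VecGrp.ptMap (Algebra.ofId k B)), ev_ptMap]
  rfl

variable [IsAlgClosed k]

/-- (e) ⇒ (b): if homomorphisms to the groups `GL_m` are determined by their restriction to `H`,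
then the right-`H`-invariant functions are constant. -/
theorem const_of_epi [IsAffine G.left] [Smooth G.hom] [IsAffine H.left] [Smooth H.hom]
    (i : H ⟶ G)
    (he : ∀ (m : ℕ) (r s : G ⟶ GLk k m), IsMonHom r → IsMonHom s → i ≫ r = i ≫ s → r = s)
    (f : Γ(G.left, ⊤)) (hf : AGF.IsRTransInv i f) :
    ∃ c : k, f = algebraMap k Γ(G.left, ⊤) c := by
  classical
  obtain ⟨n, w, d, ρ, hwW, hspan, hmul, hone, hstar, hρ⟩ := exists_rep (G := G) {f}
  have hs : ∀ f' ∈ ({f} : Finset Γ(G.left, ⊤)), AGF.IsRTransInv i f' := by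
    intro f' hf'
    rw [Finset.mem_singleton] at hf'
    rw [hf']
    exact hf
  let v : Fin n → k := fun j => ev (1 : VecGrp.pt k k ⟶ G) (w j)
  let U : Matrix (Fin n) (Fin 1) Γ(G.left, ⊤) := fun j _ => algebraMap k Γ(G.left, ⊤) (v j) - w j
  have hUx : ∀ (B : Type u) [CommRing B] [Algebra k B] (x : VecGrp.pt k B ⟶ G) (j : Fin n)
      (a : Fin 1), (U.map fun f => ev x f) j a = algebraMap k B (v j) - ev x (w j) := by
    intro B _ _ x j a
    simp only [Matrix.map_apply, U, map_sub, ev_algebraMap]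
  -- `d(x) v = w(x)`
  have hdv : ∀ (B : Type u) [CommRing B] [Algebra k B] (x : VecGrp.pt k B ⟶ G) (j : Fin n),
      ∑ l, ev x (d j l) * algebraMap k B (v l) = ev x (w j) := by
    intro B _ _ x j
    have h1 := hstar B x (1 : VecGrp.pt k B ⟶ G) j
    rw [_root_.mul_one] at h1
    rw [h1]
    refine Finset.sum_congr rfl fun l _ => ?_
    rw [ev_one_B]
  have hUmul : ∀ (B : Type u) [CommRing B] [Algebra k B] (x x' : VecGrp.pt k B ⟶ G),
      U.map (fun f => ev (x * x') f) =
        d.map (fun f => ev x f) * U.map (fun f => ev x' f) + U.map (fun f => ev x f) := by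
    intro B _ _ x x'
    ext j a
    rw [Matrix.add_apply, Matrix.mul_apply, hUx, hUx]
    simp only [hUx, Matrix.map_apply, mul_sub, Finset.sum_sub_distrib]
    rw [hdv B x j, hstar B x x' j]
    ring
  have hUone : ∀ (B : Type u) [CommRing B] [Algebra k B],
      U.map (fun f => ev (1 : VecGrp.pt k B ⟶ G) f) = 0 := by
    intro B _ _
    ext j a
    rw [hUx, ev_one_B, sub_self]
    rfl
  have hZmul : ∀ (B : Type u) [CommRing B] [Algebra k B] (x x' : VecGrp.pt k B ⟶ G),
      (0 : Matrix (Fin n) (Fin 1) Γ(G.left, ⊤)).map (fun f => ev (x * x') f) =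
        d.map (fun f => ev x f) * (0 : Matrix (Fin n) (Fin 1) Γ(G.left, ⊤)).map (fun f => ev x' f)
          + (0 : Matrix (Fin n) (Fin 1) Γ(G.left, ⊤)).map (fun f => ev x f) := by
    intro B _ _ x x'
    simp [Matrix.map_zero]
  obtain ⟨r, hrM, hr⟩ := exists_hom_of_matrix (n + 1) (blk d 0)
    (fun B _ _ x x' => blk_mul d 0 x x' (hmul B x x') (hZmul B x x'))
    (fun B _ _ => blk_one d 0 _ (hone B) (by simp [Matrix.map_zero]))
  obtain ⟨s, hsM, hs'⟩ := exists_hom_of_matrix (n + 1) (blk d U)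
    (fun B _ _ x x' => blk_mul d U x x' (hmul B x x') (hUmul B x x'))
    (fun B _ _ => blk_one d U _ (hone B) (hUone B))
  have hrs : i ≫ r = i ≫ s := by
    apply hom_ext_entries
    intro B _ _ x a b
    rw [← Category.assoc, ← Category.assoc, hr, hs']
    have h1 : (blk d 0).map (fun f => ev (x ≫ i) f) = (blk d U).map (fun f => ev (x ≫ i) f) := by
      rw [blk_map, blk_map]
      congr 2
      ext j a
      rw [hUx]
      have h2 := IsRTransInv.ev_mul (isRTransInv_of_mem_Wsp hs (hwW j)) (1 : VecGrp.pt k B ⟶ G) x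
      rw [_root_.one_mul] at h2
      rw [h2, ev_one_B, sub_self]
      simp
    exact congrFun (congrFun h1 a) b
  have hrs' : r = s := he (n + 1) r s hrM hsM hrs
  apply const_of_ev_eq
  intro x
  have hwx : ∀ j, ev x (w j) = v j := by
    intro j
    have h1 := hr k x (finSumFinEquiv (Sum.inl j)) (finSumFinEquiv (Sum.inr 0))
    have h2 := hs' k x (finSumFinEquiv (Sum.inl j)) (finSumFinEquiv (Sum.inr 0))
    rw [hrs', h2, blk_inl_inr, blk_inl_inr] at h1
    have h3 : ev x (U j 0) = 0 := by rw [h1]; simp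
    have h4 := hUx k x j 0
    rw [Matrix.map_apply, h3] at h4
    exact (sub_eq_zero.mp h4.symm).symm
  obtain ⟨c, hcf⟩ := hspan f (mem_Wsp_self (Finset.mem_singleton_self f))
  rw [hcf, map_sum, map_sum]
  refine Finset.sum_congr rfl fun j _ => ?_
  rw [map_smul, map_smul, hwx j]

end Groth.Agent.H62.GrossF
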