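import Groth.Agent.H62.GrossE
import Groth.Prelude.Def_AGF
import Mathlib.AlgebraicGeometry.Sites.Fpqc
import Mathlib.AlgebraicGeometry.Morphisms.Proper
import Mathlib.AlgebraicGeometry.Morphisms.Flat

/-!
# Functions on a quotient `G/H`

* `exists_of_isRTransInv` : a right-`H`-invariant global function on `G` is pulled back from `G/H`
  (descent along the flat surjective quasi-compact orbit map, the kernel pair being `G × H`);
* `isReduced_of_flat_surjective` : reducedness descends along flat surjective morphisms;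
* `const_of_proper_integral` : global functions on a proper integral scheme over an algebraically
  closed field are constants;
* `main` : `k[G]^{H₁} = k[G]^{H₂}` when `H₂/H₁` is proper and irreducible.
-/

universe u

open CategoryTheory MonoidalCategory CartesianMonoidalCategory MonObj GrpObj AlgebraicGeometry
open scoped TensorProduct

namespace Groth.Agent.H62.GrossQ

open Groth.Agent.H62.GrossA Groth.Agent.H62.GrossC Groth.Agent.H62.GrossD Groth.Agent.H62.GrossE

attribute [local instance] Groth.Agent.H62.GrossA.algΓ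

section descent

variable {S : Scheme.{u}} {G H X : Over S} [GrpObj G]

/-- descent of invariant functions along an effective epimorphism whose kernel pair is `G × H`. -/
theorem exists_of_isRTransInv (i : H ⟶ G) (π : G ⟶ X) [EffectiveEpi π.left]
    (hpb : IsPullback (fst G H) ((G ◁ i) ≫ μ[G]) π π)
    (f : Γ(G.left, ⊤)) (hf : AGF.IsRTransInv i f) : ∃ ψ : Γ(X.left, ⊤), π.left.appTop ψ = f := by
  let R : Subring Γ(G.left, ⊤) := AGF.rTransInv i
  let inc : CommRingCat.of R ⟶ Γ(G.left, ⊤) := CommRingCat.ofHom R.subtype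
  let e : G.left ⟶ Spec (CommRingCat.of R) := G.left.toSpecΓ ≫ Spec.map inc
  have hcoeq : ∀ {Z : Scheme.{u}} (a b : Z ⟶ G.left), a ≫ π.left = b ≫ π.left → a ≫ e = b ≫ e := by
    intro Z a b hab
    have hG : G.hom = π.left ≫ X.hom := (Over.w π).symm
    have hb : b ≫ G.hom = a ≫ G.hom := by
      rw [hG, ← Category.assoc, ← Category.assoc, hab]
    let Z' : Over S := Over.mk (a ≫ G.hom)
    let a' : Z' ⟶ G := Over.homMk a rfl
    let b' : Z' ⟶ G := Over.homMk b hb
    have hab' : a' ≫ π = b' ≫ π := by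
      apply Over.OverMorphism.ext
      exact hab
    let w : Z' ⟶ G ⊗ H := hpb.lift a' b' hab'
    have hw1 : w ≫ fst G H = a' := hpb.lift_fst _ _ _
    have hw2 : w ≫ (G ◁ i) ≫ μ[G] = b' := hpb.lift_snd _ _ _
    have key : inc ≫ a.appTop = inc ≫ b.appTop := by
      ext r
      have hr : AGF.IsRTransInv i (r : Γ(G.left, ⊤)) := r.2
      have e1 : a = w.left ≫ (fst G H).left := by
        rw [← Over.comp_left, hw1]
        rfl
      have e2 : b = w.left ≫ ((G ◁ i) ≫ μ[G]).left := by
        rw [← Over.comp_left, hw2]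
        rfl
      change a.appTop (r : Γ(G.left, ⊤)) = b.appTop (r : Γ(G.left, ⊤))
      rw [e1, e2, Scheme.Hom.comp_appTop, Scheme.Hom.comp_appTop]
      change w.left.appTop ((fst G H).left.appTop (r : Γ(G.left, ⊤))) =
        w.left.appTop (((G ◁ i) ≫ μ[G]).left.appTop (r : Γ(G.left, ⊤)))
      rw [hr]
    change a ≫ G.left.toSpecΓ ≫ Spec.map inc = b ≫ G.left.toSpecΓ ≫ Spec.map inc
    rw [← Category.assoc, ← Category.assoc, Scheme.toSpecΓ_naturality, Scheme.toSpecΓ_naturality,
      Category.assoc, Category.assoc, ← Spec.map_comp, ← Spec.map_comp, key]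
  let d : X.left ⟶ Spec (CommRingCat.of R) := EffectiveEpi.desc π.left e (fun a b h => hcoeq a b h)
  have hd : π.left ≫ d = e := EffectiveEpi.fac π.left e (fun a b h => hcoeq a b h)
  refine ⟨d.appTop ((Scheme.ΓSpecIso (CommRingCat.of R)).inv (⟨f, hf⟩ : R)), ?_⟩
  have h1 : π.left.appTop (d.appTop ((Scheme.ΓSpecIso (CommRingCat.of R)).inv (⟨f, hf⟩ : R))) =
      (π.left ≫ d).appTop ((Scheme.ΓSpecIso (CommRingCat.of R)).inv (⟨f, hf⟩ : R)) := by
    rw [Scheme.Hom.comp_appTop]
    rfl
  rw [h1, hd]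
  change (G.left.toSpecΓ ≫ Spec.map inc).appTop ((Scheme.ΓSpecIso (CommRingCat.of R)).inv (⟨f, hf⟩ : R)) = f
  rw [Scheme.Hom.comp_appTop]
  change G.left.toSpecΓ.appTop ((Spec.map inc).appTop ((Scheme.ΓSpecIso (CommRingCat.of R)).inv (⟨f, hf⟩ : R))) = f
  have h2 : (Spec.map inc).appTop ((Scheme.ΓSpecIso (CommRingCat.of R)).inv (⟨f, hf⟩ : R)) =
      (Scheme.ΓSpecIso Γ(G.left, ⊤)).inv f := by
    have := congrArg (fun φ => φ.hom (⟨f, hf⟩ : R)) (Scheme.ΓSpecIso_inv_naturality inc)
    exact this.symm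
  rw [h2, Scheme.toSpecΓ_appTop]
  exact congrArg (fun φ => φ.hom f) (Scheme.ΓSpecIso Γ(G.left, ⊤)).inv_hom_id

end descent

section reduced

/-- reducedness descends along flat surjective morphisms. -/
theorem isReduced_of_flat_surjective {X Y : Scheme.{u}} (f : X ⟶ Y) [Flat f] [Surjective f]
    [IsReduced X] : IsReduced Y := by
  haveI : ∀ y : Y, _root_.IsReduced (Y.presheaf.stalk y) := by
    intro y
    obtain ⟨x, rfl⟩ := f.surjective y
    have hinj : Function.Injective (f.stalkMap x).hom := by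
      algebraize [(f.stalkMap x).hom]
      have : Module.FaithfullyFlat (Y.presheaf.stalk (f x)) (X.presheaf.stalk x) :=
        @Module.FaithfullyFlat.of_flat_of_isLocalHom _ _ _ _ _ _ _
          (Flat.stalkMap f x) (f.toLRSHom.prop x)
      exact ‹RingHom.FaithfullyFlat _›.injective
    exact isReduced_of_injective (f.stalkMap x).hom hinj
  exact isReduced_of_isReduced_stalk Y

end reduced

variable {k : Type u} [Field k] [IsAlgClosed k]

/-- global functions on a proper integral scheme over an algebraically closed field are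
constants. -/
theorem const_of_proper_integral (X : Over (Spec (CommRingCat.of k))) [IsProper X.hom]
    [IsIntegral X.left] (ψ : Γ(X.left, ⊤)) : ∃ c : k, ψ = algebraMap k Γ(X.left, ⊤) c := by
  have hfin : X.hom.appTop.hom.Finite := finite_appTop_of_universallyClosed k X.hom
  have hfin' : (algebraMap k Γ(X.left, ⊤)).Finite := by
    change ((Scheme.ΓSpecIso (CommRingCat.of k)).inv ≫ X.hom.appTop).hom.Finite
    rw [CommRingCat.hom_comp]
    exact RingHom.Finite.comp hfin
      (RingHom.Finite.of_surjective _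
        ((Scheme.ΓSpecIso (CommRingCat.of k)).symm.commRingCatIsoToRingEquiv.surjective))
  haveI : Module.Finite k Γ(X.left, ⊤) := hfin'
  haveI : Algebra.IsIntegral k Γ(X.left, ⊤) := Algebra.IsIntegral.of_finite k _
  obtain ⟨c, hc⟩ := (IsAlgClosed.algebraMap_bijective_of_isIntegral (k := k)
    (K := Γ(X.left, ⊤))).2 ψ
  exact ⟨c, hc.symm⟩

section main

variable {G H₂ H₁ X : Over (Spec (CommRingCat.of k))} [GrpObj G] [GrpObj H₂] [GrpObj H₁]

theorem main [IsAffine G.left] [Smooth G.hom] [Smooth H₂.hom] (i₂ : H₂ ⟶ G) [IsMonHom i₂]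
    [IsClosedImmersion i₂.left] [Smooth H₁.hom] (i₁ : H₁ ⟶ H₂) [IsMonHom i₁]
    [IsClosedImmersion i₁.left] (a : AlgGrp.Action H₂ X)
    (o : 𝟙_ (Over (Spec (CommRingCat.of k))) ⟶ X) (hX : AGF.IsQuotient i₁ X a o)
    [IsProper X.hom] [IrreducibleSpace X.left] :
    AGF.rTransInv (i₁ ≫ i₂) = AGF.rTransInv i₂ := by
  haveI hA2 : IsAffine H₂.left := isAffine_of_isAffineHom i₂.left
  haveI hA1 : IsAffine H₁.left := isAffine_of_isAffineHom i₁.left
  obtain ⟨-, hflat, hsurj, hpb⟩ := hX
  haveI := hflat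
  haveI := hsurj
  haveI : IsReduced H₂.left := isReduced_of_smooth_field H₂
  haveI : IsReduced X.left := isReduced_of_flat_surjective (a.orbitMap o).left
  haveI : IsIntegral X.left := isIntegral_of_irreducibleSpace_of_isReduced X.left
  haveI : QuasiSeparatedSpace X.left := quasiSeparatedSpace_of_quasiSeparated X.hom
  haveI : CompactSpace H₂.left := inferInstance
  haveI : QuasiCompact (a.orbitMap o).left := inferInstance
  haveI : EffectiveEpi (a.orbitMap o).left := inferInstance
  -- pointwise claim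
  have claim : ∀ (g : VecGrp.pt k k ⟶ G) (h : VecGrp.pt k k ⟶ H₂) (f : Γ(G.left, ⊤)),
      AGF.IsRTransInv (i₁ ≫ i₂) f → ev (g * (h ≫ i₂)) f = ev g f := by
    intro g h f hf
    have hF : AGF.IsRTransInv (i₁ ≫ i₂) (pullA (lT g) f) := isRTransInv_lT hf g
    have hφ : AGF.IsRTransInv i₁ (pullA i₂ (pullA (lT g) f)) := by
      apply isRTransInv_of_pts
      intro B _ _ x t
      rw [ev_pullA, ev_pullA, MonObj.mul_comp, Category.assoc]
      exact IsRTransInv.ev_mul hF (x ≫ i₂) t
    obtain ⟨ψ, hψ⟩ := exists_of_isRTransInv i₁ (a.orbitMap o) hpb _ hφ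
    obtain ⟨c, hc⟩ := const_of_proper_integral X ψ
    have hconst : pullA i₂ (pullA (lT g) f) = algebraMap k Γ(H₂.left, ⊤) c := by
      rw [← hψ, hc]
      exact (pullA (a.orbitMap o)).commutes c
    have h1 : ev h (pullA i₂ (pullA (lT g) f)) = ev (g * (h ≫ i₂)) f := by
      rw [ev_pullA, ev_lT']
    have h2 : ev (1 : VecGrp.pt k k ⟶ H₂) (pullA i₂ (pullA (lT g) f)) = ev g f := by
      rw [ev_pullA, ev_lT', MonObj.one_comp, _root_.mul_one]
    rw [← h1, ← h2, hconst, ev_algebraMap, ev_algebraMap]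
  ext f
  rw [AGF.mem_rTransInv_iff, AGF.mem_rTransInv_iff]
  constructor
  · intro hf
    haveI : IsAffine (G ⊗ H₂).left := isAffine_prod G H₂
    haveI : Smooth (G ⊗ H₂).hom := by
      change Smooth (Limits.pullback.fst G.hom H₂.hom ≫ G.hom)
      infer_instance
    haveI : IsReduced (G ⊗ H₂).left := isReduced_of_smooth_field (G ⊗ H₂)
    haveI : LocallyOfFiniteType (G ⊗ H₂).hom := inferInstance
    apply eq_of_forall_ev (X := G ⊗ H₂)
    intro z
    rw [← ev_comp, ← ev_comp]
    have hz : z ≫ (G ◁ i₂) ≫ μ[G] = (z ≫ fst G H₂) * ((z ≫ snd G H₂) ≫ i₂) := by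
      rw [Hom.mul_def, ← Category.assoc z (G ◁ i₂)]
      congr 1
      rw [← lift_whiskerLeft, lift_comp_fst_snd]
    rw [hz]
    exact claim _ _ f hf
  · intro hf
    apply isRTransInv_of_pts
    intro B _ _ x t
    rw [← Category.assoc]
    exact IsRTransInv.ev_mul hf x (t ≫ i₁)

end main

end Groth.Agent.H62.GrossQ
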