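import Groth.Agent.H62.GrossE
import Mathlib.RingTheory.Flat.Equalizer
import Mathlib.RingTheory.Jacobson.Ring

/-!
# The right regular representation on `k[G]` in point-functor form

* `zpt B y` : the `(B ⊗ k[G])`-point `x ↦ x · y` of `G`;
* `T B y : B ⊗ k[G] →ₐ[B] B ⊗ k[G]` : right translation by the `B`-point `y`, with `T_mul`, `T_one`, `T_nat`;
* `rreg i : VecGrp.GMod H Γ(G.left, ⊤)` : `H` acting on `k[G]` by right translation through `i : H ⟶ G`,
  `rreg_isMult`, `isRTransInv_of_fixed`;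
* `stable_ker` : ideals of cosets `g·H` are stable; `sup_eq_top` : disjoint cosets have comaximal ideals;
* `main` : a closed subgroup with reductive identity component is observable (assuming separation of
  disjoint closed invariant subsets by invariants).
-/

universe u

open CategoryTheory MonoidalCategory CartesianMonoidalCategory MonObj GrpObj AlgebraicGeometry
open scoped TensorProduct

namespace Groth.Agent.H62.GrossR

open Groth.Agent.H62.GrossA Groth.Agent.H62.GrossC Groth.Agent.H62.GrossD Groth.Agent.H62.GrossE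

attribute [local instance] Groth.Agent.H62.GrossA.algΓ

section general

variable {k : Type u} [Field k]

theorem ptMap_comp {B B' B'' : Type u} [CommRing B] [Algebra k B] [CommRing B'] [Algebra k B']
    [CommRing B''] [Algebra k B''] (φ : B' →ₐ[k] B'') (ψ : B →ₐ[k] B') :
    VecGrp.ptMap (φ.comp ψ) = VecGrp.ptMap φ ≫ VecGrp.ptMap ψ := by
  apply Over.OverMorphism.ext
  change Spec.map (CommRingCat.ofHom (φ.comp ψ).toRingHom) =
    Spec.map (CommRingCat.ofHom φ.toRingHom) ≫ Spec.map (CommRingCat.ofHom ψ.toRingHom)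
  rw [← Spec.map_comp, ← CommRingCat.ofHom_comp]
  rfl

theorem ptMap_pullA_uP {X Y : Over (Spec (CommRingCat.of k))} [IsAffine X.left] [IsAffine Y.left]
    (j : Y ⟶ X) : VecGrp.ptMap (pullA j) ≫ uP X = uP Y ≫ j := by
  apply ext_pt
  intro f
  rw [ev_ptMap, ev_uP, ← ev_pullA, ev_uP]

/-- a point killing the ideal of a closed subscheme factors through it. -/
theorem factor_of_ker_le {X Y : Over (Spec (CommRingCat.of k))} [IsAffine X.left] [IsAffine Y.left]
    (j : Y ⟶ X) (hj : Function.Surjective (pullA j)) {B : Type u} [CommRing B] [Algebra k B]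
    (x : VecGrp.pt k B ⟶ X) (hx : RingHom.ker (pullA j) ≤ RingHom.ker (ev x)) :
    ∃ y : VecGrp.pt k B ⟶ Y, y ≫ j = x := by
  have hk : ∀ a ∈ RingHom.ker (pullA j), ev x a = 0 := fun a ha => hx ha
  let χ' : Γ(Y.left, ⊤) →ₐ[k] B :=
    (Ideal.Quotient.liftₐ (RingHom.ker (pullA j)) (ev x) hk).comp
      (Ideal.quotientKerAlgEquivOfSurjective hj).symm.toAlgHom
  have hχ : ∀ f, χ' (pullA j f) = ev x f := by
    intro f
    change (Ideal.Quotient.liftₐ (RingHom.ker (pullA j)) (ev x) hk)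
      ((Ideal.quotientKerAlgEquivOfSurjective hj).symm (pullA j f)) = _
    have : (Ideal.quotientKerAlgEquivOfSurjective hj).symm (pullA j f) =
        Ideal.Quotient.mk _ f := by
      rw [AlgEquiv.symm_apply_eq]
      rfl
    rw [this]
    rfl
  refine ⟨VecGrp.ptMap χ' ≫ uP Y, ?_⟩
  apply ext_pt
  intro f
  rw [← ev_pullA, ev_ptMap, ev_uP, hχ]

/-- Nullstellensatz: maximal ideals of a finitely generated algebra over an algebraically closed
field are kernels of rational points. -/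
theorem exists_algHom_of_isMaximal [IsAlgClosed k] {R : Type u} [CommRing R] [Algebra k R]
    [Algebra.FiniteType k R] (m : Ideal R) [hm : m.IsMaximal] :
    ∃ χ : R →ₐ[k] k, RingHom.ker χ = m := by
  letI : Field (R ⧸ m) := Ideal.Quotient.field m
  haveI : Algebra.FiniteType k (R ⧸ m) :=
    Algebra.FiniteType.of_surjective (Ideal.Quotient.mkₐ k m) (Ideal.Quotient.mkₐ_surjective k m)
  haveI : Module.Finite k (R ⧸ m) := finite_of_finite_type_of_isJacobsonRing k (R ⧸ m)
  haveI : Algebra.IsIntegral k (R ⧸ m) := Algebra.IsIntegral.of_finite k _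
  have hbij : Function.Bijective (algebraMap k (R ⧸ m)) :=
    IsAlgClosed.algebraMap_bijective_of_isIntegral
  let e : k ≃ₐ[k] (R ⧸ m) := AlgEquiv.ofBijective (Algebra.ofId k (R ⧸ m)) hbij
  refine ⟨e.symm.toAlgHom.comp (Ideal.Quotient.mkₐ k m), ?_⟩
  ext r
  rw [RingHom.mem_ker]
  change e.symm (Ideal.Quotient.mk m r) = 0 ↔ _
  rw [map_eq_zero_iff _ e.symm.injective, Ideal.Quotient.eq_zero_iff_mem]

theorem mem_baseChange_ker {N P : Type u} [AddCommGroup N] [Module k N] [AddCommGroup P]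
    [Module k P] (B : Type u) [CommRing B] [Algebra k B] (f : N →ₗ[k] P) (x : B ⊗[k] N)
    (hx : f.baseChange B x = 0) : x ∈ (LinearMap.ker f).baseChange B := by
  have h := Module.Flat.ker_lTensor_eq (R := k) B B f
  change x ∈ LinearMap.range (TensorProduct.AlgebraTensorModule.lTensor B B (LinearMap.ker f).subtype)
  rw [← h]
  exact hx

theorem finiteType_Γ (X : Over (Spec (CommRingCat.of k))) [IsAffine X.left]
    [LocallyOfFiniteType X.hom] : Algebra.FiniteType k Γ(X.left, ⊤) := by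
  have h1 : X.hom.appTop.hom.FiniteType :=
    HasRingHomProperty.appTop (P := @LocallyOfFiniteType) X.hom inferInstance
  have h2 : ((Scheme.ΓSpecIso (CommRingCat.of k)).inv ≫ X.hom.appTop).hom.FiniteType := by
    rw [CommRingCat.hom_comp]
    exact RingHom.FiniteType.comp h1
      (RingHom.FiniteType.of_surjective _
        ((Scheme.ΓSpecIso (CommRingCat.of k)).symm.commRingCatIsoToRingEquiv.surjective))
  exact h2

end general

section reg

variable {k : Type u} [Field k] {G : Over (Spec (CommRingCat.of k))} [GrpObj G] [IsAffine G.left]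

variable (B : Type u) [CommRing B] [Algebra k B]

/-- inclusion of `k[G]` in `B ⊗ k[G]`. -/
noncomputable abbrev iR : Γ(G.left, ⊤) →ₐ[k] B ⊗[k] Γ(G.left, ⊤) :=
  Algebra.TensorProduct.includeRight

/-- inclusion of `B` in `B ⊗ k[G]`. -/
noncomputable abbrev iL : B →ₐ[k] B ⊗[k] Γ(G.left, ⊤) :=
  Algebra.TensorProduct.includeLeft

/-- the point `x ↦ x · y` of `G` with values in `B ⊗ k[G]`. -/
noncomputable def zpt (y : VecGrp.pt k B ⟶ G) : VecGrp.pt k (B ⊗[k] Γ(G.left, ⊤)) ⟶ G :=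
  (VecGrp.ptMap (iR (G := G) B) ≫ uP G) * (VecGrp.ptMap (iL (G := G) B) ≫ y)

variable {B}

theorem comp_zpt {B' : Type u} [CommRing B'] [Algebra k B'] (θ : B ⊗[k] Γ(G.left, ⊤) →ₐ[k] B')
    (y : VecGrp.pt k B ⟶ G) :
    VecGrp.ptMap θ ≫ zpt B y =
      (VecGrp.ptMap (θ.comp (iR B)) ≫ uP G) * (VecGrp.ptMap (θ.comp (iL B)) ≫ y) := by
  rw [zpt, MonObj.comp_mul, ← Category.assoc, ← Category.assoc, ← ptMap_comp, ← ptMap_comp]

variable (B)

/-- right translation by the `B`-point `y` on `B ⊗ k[G]`. -/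
noncomputable def T (y : VecGrp.pt k B ⟶ G) :
    B ⊗[k] Γ(G.left, ⊤) →ₐ[B] B ⊗[k] Γ(G.left, ⊤) :=
  Algebra.TensorProduct.lift (Algebra.ofId B _) (ev (zpt B y)) (fun _ _ => Commute.all _ _)

variable {B}

theorem T_tmul (y : VecGrp.pt k B ⟶ G) (b : B) (F : Γ(G.left, ⊤)) :
    T B y (b ⊗ₜ[k] F) = b • ev (zpt B y) F := by
  rw [T, Algebra.TensorProduct.lift_tmul, Algebra.smul_def]
  rfl

theorem T_comp_iR (y : VecGrp.pt k B ⟶ G) :
    ((T B y).restrictScalars k).comp (iR B) = ev (zpt B y) := by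
  ext F
  change T B y ((1 : B) ⊗ₜ[k] F) = _
  rw [T_tmul, one_smul]

theorem T_comp_iL (y : VecGrp.pt k B ⟶ G) :
    ((T B y).restrictScalars k).comp (iL B) = iL (G := G) B := by
  ext b
  change T B y (b ⊗ₜ[k] (1 : Γ(G.left, ⊤))) = b ⊗ₜ[k] (1 : Γ(G.left, ⊤))
  rw [T_tmul, map_one, Algebra.smul_def, _root_.mul_one]
  rfl

theorem T_ev (y : VecGrp.pt k B ⟶ G) (y' : VecGrp.pt k B ⟶ G) (F : Γ(G.left, ⊤)) :
    T B y (ev (zpt B y') F) = ev (zpt B (y * y')) F := by
  change ((T B y).restrictScalars k) (ev (zpt B y') F) = _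
  rw [← ev_ptMap, comp_zpt, T_comp_iR, T_comp_iL, ← pt_eq]
  congr 1
  rw [zpt, zpt, MonObj.comp_mul, _root_.mul_assoc]

theorem T_mul (y y' : VecGrp.pt k B ⟶ G) : T B (y * y') = (T B y).comp (T B y') := by
  apply AlgHom.ext
  intro x
  induction x using TensorProduct.induction_on with
  | zero => simp
  | tmul b F =>
    rw [AlgHom.comp_apply, T_tmul, T_tmul, map_smul, T_ev]
  | add x x' hx hx' => rw [map_add, map_add, hx, hx']

theorem zpt_one : zpt B (1 : VecGrp.pt k B ⟶ G) = VecGrp.ptMap (iR (G := G) B) ≫ uP G := by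
  rw [zpt, MonObj.comp_one, _root_.mul_one]

theorem T_one : T B (1 : VecGrp.pt k B ⟶ G) = AlgHom.id B _ := by
  apply AlgHom.ext
  intro x
  induction x using TensorProduct.induction_on with
  | zero => simp
  | tmul b F =>
    rw [T_tmul, zpt_one, ev_ptMap, ev_uP, AlgHom.id_apply]
    change b • ((1 : B) ⊗ₜ[k] F) = b ⊗ₜ[k] F
    rw [TensorProduct.smul_tmul', smul_eq_mul, _root_.mul_one]
  | add x x' hx hx' => rw [map_add, map_add, hx, hx']

theorem T_nat {B' : Type u} [CommRing B'] [Algebra k B'] (φ : B →ₐ[k] B')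
    (y : VecGrp.pt k B ⟶ G) (x : B ⊗[k] Γ(G.left, ⊤)) :
    VecGrp.Wmap φ (T B y x) = T B' (VecGrp.ptMap φ ≫ y) (VecGrp.Wmap φ x) := by
  let Φ : B ⊗[k] Γ(G.left, ⊤) →ₐ[k] B' ⊗[k] Γ(G.left, ⊤) :=
    Algebra.TensorProduct.map φ (AlgHom.id k _)
  have hΦ : ∀ z, VecGrp.Wmap φ z = Φ z := by
    intro z
    induction z using TensorProduct.induction_on with
    | zero => simp
    | tmul b F => rfl
    | add x x' hx hx' => rw [map_add, map_add, hx, hx']
  have hR : Φ.comp (iR B) = iR (G := G) B' := by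
    ext F
    change φ 1 ⊗ₜ[k] F = (1 : B') ⊗ₜ[k] F
    rw [map_one]
  have hL : Φ.comp (iL B) = (iL (G := G) B').comp φ := by
    ext b
    rfl
  induction x using TensorProduct.induction_on with
  | zero => simp
  | tmul b F =>
    rw [VecGrp.Wmap_tmul, T_tmul, T_tmul, VecGrp.Wmap_smul, hΦ, ← ev_ptMap, comp_zpt, hR, hL,
      ptMap_comp, Category.assoc]
    rfl
  | add x x' hx hx' => rw [map_add, map_add, map_add, map_add, hx, hx']

variable (B) (G)

/-- right translation as a monoid homomorphism. -/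
noncomputable def Thom : (VecGrp.pt k B ⟶ G) →* Module.End B (B ⊗[k] Γ(G.left, ⊤)) where
  toFun y := (T B y).toLinearMap
  map_one' := by
    rw [T_one]
    rfl
  map_mul' y y' := by
    rw [T_mul]
    rfl

variable {G}

/-- composition with a homomorphism, on points. -/
noncomputable def compHom {H : Over (Spec (CommRingCat.of k))} [GrpObj H] (i : H ⟶ G) [IsMonHom i] :
    (VecGrp.pt k B ⟶ H) →* (VecGrp.pt k B ⟶ G) where
  toFun h := h ≫ i
  map_one' := MonObj.one_comp i
  map_mul' h h' := MonObj.mul_comp h h' i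

variable {B}

/-- the right regular representation of `H` on `k[G]` through `i : H ⟶ G`. -/
noncomputable def rreg {H : Over (Spec (CommRingCat.of k))} [GrpObj H] (i : H ⟶ G) [IsMonHom i] :
    VecGrp.GMod H Γ(G.left, ⊤) where
  ρ B _ _ := (LinearMap.GeneralLinearGroup.generalLinearEquiv B (B ⊗[k] Γ(G.left, ⊤))).toMonoidHom.comp
    (((Thom G B).comp (compHom B i)).toHomUnits)
  naturality {B B'} _ _ _ _ φ h x := by
    change VecGrp.Wmap φ (T B (h ≫ i) x) = T B' ((VecGrp.ptMap φ ≫ h) ≫ i) (VecGrp.Wmap φ x)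
    rw [Category.assoc]
    exact T_nat φ (h ≫ i) x

variable {H : Over (Spec (CommRingCat.of k))} [GrpObj H] (i : H ⟶ G) [IsMonHom i]

theorem rreg_apply (h : VecGrp.pt k B ⟶ H) (x : B ⊗[k] Γ(G.left, ⊤)) :
    (rreg i).ρ B h x = T B (h ≫ i) x := rfl

theorem rreg_isMult : (rreg i).IsMult := by
  intro B _ _ h
  refine ⟨fun x y => ?_, ?_⟩
  · rw [rreg_apply, rreg_apply, rreg_apply, map_mul]
  · rw [rreg_apply, map_one]

/-- invariants of the right regular representation are right-translation invariant. -/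
theorem isRTransInv_of_fixed [IsAffine H.left] {F : Γ(G.left, ⊤)}
    (hF : F ∈ (rreg i).fixedUnder (𝟙 H)) : AGF.IsRTransInv i F := by
  apply isRTransInv_of_pts
  intro B _ _ x t
  have h1 := hF B t
  rw [rreg_apply, Category.comp_id, T_tmul, one_smul] at h1
  have hcm : ∀ (b : B) (f : Γ(G.left, ⊤)), Commute ((AlgHom.id B B) b) (ev x f) :=
    fun _ _ => Commute.all _ _
  let θ' : B ⊗[k] Γ(G.left, ⊤) →ₐ[B] B := Algebra.TensorProduct.lift (AlgHom.id B B) (ev x) hcm
  let θ : B ⊗[k] Γ(G.left, ⊤) →ₐ[k] B := θ'.restrictScalars k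
  have hR : θ.comp (iR B) = ev x := by
    ext f
    change θ' ((1 : B) ⊗ₜ[k] f) = _
    rw [Algebra.TensorProduct.lift_tmul, map_one, _root_.one_mul]
  have hL : θ.comp (iL (G := G) B) = AlgHom.id k B := by
    ext b
    change θ' (b ⊗ₜ[k] (1 : Γ(G.left, ⊤))) = _
    rw [Algebra.TensorProduct.lift_tmul, map_one, _root_.mul_one]
    rfl
  have hid : VecGrp.ptMap (AlgHom.id k B) = 𝟙 (VecGrp.pt k B) := by
    apply Over.OverMorphism.ext
    change Spec.map (CommRingCat.ofHom (AlgHom.id k B).toRingHom) = 𝟙 _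
    exact Spec.map_id _
  have h2 := congrArg θ h1
  rw [← ev_ptMap, comp_zpt, hR, hL, ← pt_eq, hid, Category.id_comp] at h2
  rw [h2]
  change θ' ((1 : B) ⊗ₜ[k] F) = _
  rw [Algebra.TensorProduct.lift_tmul, map_one, _root_.one_mul]

end reg

section cosets

variable {k : Type u} [Field k] [IsAlgClosed k] {G H : Over (Spec (CommRingCat.of k))} [GrpObj G]
  [GrpObj H] [IsAffine G.left] [IsAffine H.left] (i : H ⟶ G) [IsMonHom i]

/-- the ideal of the coset `g · H`. -/
noncomputable def cosetIdeal (g : VecGrp.pt k k ⟶ G) : Ideal Γ(G.left, ⊤) :=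
  RingHom.ker (pullA (i ≫ lT g))

theorem ev_eq_zero_of_mem (g : VecGrp.pt k k ⟶ G) {F : Γ(G.left, ⊤)} (hF : F ∈ cosetIdeal i g) :
    ev g F = 0 := by
  have h1 : ev (1 : VecGrp.pt k k ⟶ H) (pullA (i ≫ lT g) F) = 0 := by
    rw [(RingHom.mem_ker).mp hF, map_zero]
  rw [ev_pullA, ← Category.assoc, MonObj.one_comp, comp_lT', _root_.mul_one] at h1
  exact h1

theorem stable_ker (g : VecGrp.pt k k ⟶ G) :
    (rreg i).IsStable (𝟙 H) ((cosetIdeal i g).restrictScalars k) := by
  intro B _ _ h F hF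
  have e : (cosetIdeal i g).restrictScalars k = LinearMap.ker (pullA (i ≫ lT g)).toLinearMap := by
    ext r
    rfl
  rw [e]
  apply mem_baseChange_ker
  let Θ : B ⊗[k] Γ(G.left, ⊤) →ₐ[k] B ⊗[k] Γ(H.left, ⊤) :=
    Algebra.TensorProduct.map (AlgHom.id k B) (pullA (i ≫ lT g))
  have hΘ : ∀ z, (pullA (i ≫ lT g)).toLinearMap.baseChange B z = Θ z := by
    intro z
    induction z using TensorProduct.induction_on with
    | zero => simp
    | tmul b r => rfl
    | add x x' hx hx' => rw [map_add, map_add, hx, hx']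
  have hR : Θ.comp (iR B) = (iR (G := H) B).comp (pullA (i ≫ lT g)) := by
    ext f
    rfl
  have hL : Θ.comp (iL (G := G) B) = iL (G := H) B := by
    ext b
    change b ⊗ₜ[k] (pullA (i ≫ lT g) 1) = b ⊗ₜ[k] (1 : Γ(H.left, ⊤))
    rw [map_one]
  rw [hΘ, rreg_apply, Category.comp_id, T_tmul, one_smul, ← ev_ptMap, comp_zpt, hR, hL, ptMap_comp,
    Category.assoc, ptMap_pullA_uP]
  have hpt : (VecGrp.ptMap (iR (G := H) B) ≫ uP H ≫ i ≫ lT g) * (VecGrp.ptMap (iL (G := H) B) ≫ h ≫ i) =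
      (((VecGrp.ptMap (iR (G := H) B) ≫ uP H) * (VecGrp.ptMap (iL (G := H) B) ≫ h))) ≫ i ≫ lT g := by
    have a1 : VecGrp.ptMap (iR (G := H) B) ≫ uP H ≫ i ≫ lT g =
        (tT _ ≫ g) * ((VecGrp.ptMap (iR (G := H) B) ≫ uP H) ≫ i) := by
      rw [← comp_lT]
      simp only [Category.assoc]
    have a2 : (((VecGrp.ptMap (iR (G := H) B) ≫ uP H) * (VecGrp.ptMap (iL (G := H) B) ≫ h))) ≫ i ≫ lT g =
        (tT _ ≫ g) * (((VecGrp.ptMap (iR (G := H) B) ≫ uP H) ≫ i) *
          ((VecGrp.ptMap (iL (G := H) B) ≫ h) ≫ i)) := by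
      rw [← Category.assoc, comp_lT, MonObj.mul_comp]
    rw [a1, a2, _root_.mul_assoc, Category.assoc (VecGrp.ptMap (iL (G := H) B)) h i]
  rw [hpt, ← ev_pullA, (RingHom.mem_ker).mp hF, map_zero]

variable [Smooth G.hom] [IsClosedImmersion i.left]

theorem surjective_pullA (g : VecGrp.pt k k ⟶ G) : Function.Surjective (pullA (i ≫ lT g)) := by
  intro φ
  obtain ⟨F₀, hF₀⟩ := (IsClosedImmersion.isAffine_surjective_of_isAffine i.left).2 φ
  refine ⟨pullA (lT g⁻¹) F₀, ?_⟩
  change pullA i (pullA (lT g) (pullA (lT g⁻¹) F₀)) = φ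
  rw [lT_lT, inv_mul_cancel, lT_one]
  exact hF₀

theorem sup_eq_top [LocallyOfFiniteType G.hom] (g : VecGrp.pt k k ⟶ G)
    (hg : ¬ ∃ h : VecGrp.pt k k ⟶ H, h ≫ i = g) :
    cosetIdeal i 1 ⊔ cosetIdeal i g = ⊤ := by
  by_contra hne
  obtain ⟨m, hm, hle⟩ := Ideal.exists_le_maximal _ hne
  haveI := hm
  haveI : Algebra.FiniteType k Γ(G.left, ⊤) := finiteType_Γ G
  obtain ⟨χ, hχ⟩ := exists_algHom_of_isMaximal (k := k) m
  let x : VecGrp.pt k k ⟶ G := VecGrp.ptMap χ ≫ uP G
  have hx : ∀ f, ev x f = χ f := by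
    intro f
    rw [ev_ptMap, ev_uP]
  have hker : RingHom.ker (ev x) = m := by
    rw [← hχ]
    ext f
    rw [RingHom.mem_ker, RingHom.mem_ker, hx]
  obtain ⟨h₁, e₁⟩ := factor_of_ker_le (i ≫ lT 1) (surjective_pullA i 1) x
    (by rw [hker]; exact le_trans le_sup_left hle)
  obtain ⟨h₂, e₂⟩ := factor_of_ker_le (i ≫ lT g) (surjective_pullA i g) x
    (by rw [hker]; exact le_trans le_sup_right hle)
  rw [← Category.assoc, comp_lT', _root_.one_mul] at e₁
  rw [← Category.assoc, comp_lT'] at e₂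
  apply hg
  refine ⟨h₁ * h₂⁻¹, ?_⟩
  rw [MonObj.mul_comp, GrpObj.inv_comp, e₁]
  exact mul_inv_eq_iff_eq_mul.mpr e₂.symm

end cosets

section main

variable {k : Type u} [Field k] [IsAlgClosed k] {G H : Over (Spec (CommRingCat.of k))} [GrpObj G]
  [GrpObj H]

theorem main [IsAffine G.left] [Smooth G.hom] [Smooth H.hom] (i : H ⟶ G) [IsMonHom i]
    [IsClosedImmersion i.left] (hH : VecGrp.IsReductiveGrp k H)
    (thmAbiv : AGF.ReductiveQuotSeparates k) : AGF.IsObservableIn k i := by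
  haveI hA : IsAffine H.left := isAffine_of_isAffineHom i.left
  haveI : IsReduced G.left := isReduced_of_smooth_field G
  haveI : LocallyOfFiniteType G.hom := inferInstance
  haveI : Algebra.FiniteType k Γ(G.left, ⊤) := finiteType_Γ G
  haveI : IsReduced H.left := isReduced_of_smooth_field H
  intro g hg
  by_contra hno
  have hrad : ∀ g' : VecGrp.pt k k ⟶ G, (cosetIdeal i g').IsRadical := by
    intro g'
    exact (RingHom.ker_isRadical_iff_reduced_of_surjective (surjective_pullA i g')).mpr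
      inferInstance
  have key := thmAbiv H hH Γ(G.left, ⊤) (rreg i) (rreg_isMult i) inferInstance
    (cosetIdeal i 1) (cosetIdeal i g) (hrad 1) (hrad g) (stable_ker i 1) (stable_ker i g)
    (sup_eq_top i g hno)
  have h1 : (1 : ↥((rreg i).fixedSubalgebra (rreg_isMult i) (𝟙 H))) ∈
      (cosetIdeal i 1).comap ((rreg i).fixedSubalgebra (rreg_isMult i) (𝟙 H)).val ⊔
        (cosetIdeal i g).comap ((rreg i).fixedSubalgebra (rreg_isMult i) (𝟙 H)).val := by
    rw [key]
    trivial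
  obtain ⟨a, ha, b, hb, hab⟩ := Submodule.mem_sup.mp h1
  rw [Ideal.mem_comap] at ha hb
  have hainv : AGF.IsRTransInv i (a : Γ(G.left, ⊤)) := isRTransInv_of_fixed i a.2
  have ha1 : ev (1 : VecGrp.pt k k ⟶ G) (a : Γ(G.left, ⊤)) = 0 := ev_eq_zero_of_mem i 1 ha
  have hbg : ev g (b : Γ(G.left, ⊤)) = 0 := ev_eq_zero_of_mem i g hb
  have hag : ev g (a : Γ(G.left, ⊤)) = 0 := by
    have h2 := IsRTransInv.ev_mul (hg _ hainv) (1 : VecGrp.pt k k ⟶ G) (𝟙 (VecGrp.pt k k))
    rw [Category.id_comp, _root_.one_mul] at h2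
    rw [h2, ha1]
  have h3 : ((a : Γ(G.left, ⊤)) + (b : Γ(G.left, ⊤))) = 1 := by
    have := congrArg (fun z : ↥((rreg i).fixedSubalgebra (rreg_isMult i) (𝟙 H)) => (z : Γ(G.left, ⊤))) hab
    exact this
  have h4 := congrArg (ev g) h3
  rw [map_add, hag, hbg, map_one, add_zero] at h4
  exact zero_ne_one h4

end main

end Groth.Agent.H62.GrossR
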