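import Groth.Agent.H62.GrossR

/-!
# Left regular representation, the subalgebra of right invariants, and finite generation

* `zptL`, `TL`, `lreg` : the left regular representation `(y · F)(x) = F(y⁻¹ x)` of `G` on `k[G]`;
* `invSub i` : the `k`-subalgebra of right-`H`-invariant functions; `stable_invSub`;
* `mem_fixed_iff` : invariants of the right regular representation are the right-translation invariants;
* `subringFGOver_iff` : `AGF.SubringFGOver` for a subalgebra is `Subalgebra.FG`.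
-/

universe u

open CategoryTheory MonoidalCategory CartesianMonoidalCategory MonObj GrpObj AlgebraicGeometry
open scoped TensorProduct

namespace Groth.Agent.H62.GrossT

open Groth.Agent.H62.GrossA Groth.Agent.H62.GrossC Groth.Agent.H62.GrossD Groth.Agent.H62.GrossE
  Groth.Agent.H62.GrossR

attribute [local instance] Groth.Agent.H62.GrossA.algΓ

section lreg

variable {k : Type u} [Field k] {G : Over (Spec (CommRingCat.of k))} [GrpObj G] [IsAffine G.left]

variable (B : Type u) [CommRing B] [Algebra k B]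

/-- the point `x ↦ y⁻¹ · x` of `G` with values in `B ⊗ k[G]`. -/
noncomputable def zptL (y : VecGrp.pt k B ⟶ G) : VecGrp.pt k (B ⊗[k] Γ(G.left, ⊤)) ⟶ G :=
  (VecGrp.ptMap (iL (G := G) B) ≫ y)⁻¹ * (VecGrp.ptMap (iR (G := G) B) ≫ uP G)

variable {B}

theorem comp_zptL {B' : Type u} [CommRing B'] [Algebra k B'] (θ : B ⊗[k] Γ(G.left, ⊤) →ₐ[k] B')
    (y : VecGrp.pt k B ⟶ G) :
    VecGrp.ptMap θ ≫ zptL B y =
      (VecGrp.ptMap (θ.comp (iL B)) ≫ y)⁻¹ * (VecGrp.ptMap (θ.comp (iR B)) ≫ uP G) := by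
  rw [zptL, MonObj.comp_mul, GrpObj.comp_inv, ← Category.assoc, ← Category.assoc, ← ptMap_comp,
    ← ptMap_comp]

variable (B)

/-- left translation by the `B`-point `y` on `B ⊗ k[G]`. -/
noncomputable def TL (y : VecGrp.pt k B ⟶ G) :
    B ⊗[k] Γ(G.left, ⊤) →ₐ[B] B ⊗[k] Γ(G.left, ⊤) :=
  Algebra.TensorProduct.lift (Algebra.ofId B _) (ev (zptL B y)) (fun _ _ => Commute.all _ _)

variable {B}

theorem TL_tmul (y : VecGrp.pt k B ⟶ G) (b : B) (F : Γ(G.left, ⊤)) :
    TL B y (b ⊗ₜ[k] F) = b • ev (zptL B y) F := by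
  rw [TL, Algebra.TensorProduct.lift_tmul, Algebra.smul_def]
  rfl

theorem TL_comp_iR (y : VecGrp.pt k B ⟶ G) :
    ((TL B y).restrictScalars k).comp (iR B) = ev (zptL B y) := by
  ext F
  change TL B y ((1 : B) ⊗ₜ[k] F) = _
  rw [TL_tmul, one_smul]

theorem TL_comp_iL (y : VecGrp.pt k B ⟶ G) :
    ((TL B y).restrictScalars k).comp (iL B) = iL (G := G) B := by
  ext b
  change TL B y (b ⊗ₜ[k] (1 : Γ(G.left, ⊤))) = b ⊗ₜ[k] (1 : Γ(G.left, ⊤))
  rw [TL_tmul, map_one, Algebra.smul_def, _root_.mul_one]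
  rfl

theorem ptMap_TL_zptL (y y' : VecGrp.pt k B ⟶ G) :
    VecGrp.ptMap ((TL B y).restrictScalars k) ≫ zptL B y' = zptL B (y * y') := by
  rw [comp_zptL, TL_comp_iR, TL_comp_iL, ← pt_eq]
  rw [zptL, zptL, MonObj.comp_mul, _root_.mul_inv_rev, _root_.mul_assoc]

theorem TL_ev (y y' : VecGrp.pt k B ⟶ G) (F : Γ(G.left, ⊤)) :
    TL B y (ev (zptL B y') F) = ev (zptL B (y * y')) F := by
  change ((TL B y).restrictScalars k) (ev (zptL B y') F) = _
  rw [← ev_ptMap, ptMap_TL_zptL]

theorem TL_mul (y y' : VecGrp.pt k B ⟶ G) : TL B (y * y') = (TL B y).comp (TL B y') := by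
  apply AlgHom.ext
  intro x
  induction x using TensorProduct.induction_on with
  | zero => simp
  | tmul b F =>
    rw [AlgHom.comp_apply, TL_tmul, TL_tmul, map_smul, TL_ev]
  | add x x' hx hx' => rw [map_add, map_add, hx, hx']

theorem zptL_one : zptL B (1 : VecGrp.pt k B ⟶ G) = VecGrp.ptMap (iR (G := G) B) ≫ uP G := by
  rw [zptL, MonObj.comp_one, inv_one, _root_.one_mul]

theorem TL_one : TL B (1 : VecGrp.pt k B ⟶ G) = AlgHom.id B _ := by
  apply AlgHom.ext
  intro x
  induction x using TensorProduct.induction_on with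
  | zero => simp
  | tmul b F =>
    rw [TL_tmul, zptL_one, ev_ptMap, ev_uP, AlgHom.id_apply]
    change b • ((1 : B) ⊗ₜ[k] F) = b ⊗ₜ[k] F
    rw [TensorProduct.smul_tmul', smul_eq_mul, _root_.mul_one]
  | add x x' hx hx' => rw [map_add, map_add, hx, hx']

theorem TL_nat {B' : Type u} [CommRing B'] [Algebra k B'] (φ : B →ₐ[k] B')
    (y : VecGrp.pt k B ⟶ G) (x : B ⊗[k] Γ(G.left, ⊤)) :
    VecGrp.Wmap φ (TL B y x) = TL B' (VecGrp.ptMap φ ≫ y) (VecGrp.Wmap φ x) := by
  let Φ : B ⊗[k] Γ(G.left, ⊤) →ₐ[k] B' ⊗[k] Γ(G.left, ⊤) :=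
    Algebra.TensorProduct.map φ (AlgHom.id k _)
  have hΦ : ∀ z, VecGrp.Wmap φ z = Φ z := by
    intro z
    induction z using TensorProduct.induction_on with
    | zero => simp
    | tmul b F => rfl
    | add x x' hx hx' => rw [map_add, map_add, hx, hx']
  have hR : Φ.comp (iR B) = iR (G := G) B' := by
    ext F
    change φ 1 ⊗ₜ[k] F = (1 : B') ⊗ₜ[k] F
    rw [map_one]
  have hL : Φ.comp (iL B) = (iL (G := G) B').comp φ := by
    ext b
    rfl
  induction x using TensorProduct.induction_on with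
  | zero => simp
  | tmul b F =>
    rw [VecGrp.Wmap_tmul, TL_tmul, TL_tmul, VecGrp.Wmap_smul, hΦ, ← ev_ptMap, comp_zptL, hR, hL,
      ptMap_comp, Category.assoc]
    rfl
  | add x x' hx hx' => rw [map_add, map_add, map_add, map_add, hx, hx']

variable (B) (G)

/-- left translation as a monoid homomorphism. -/
noncomputable def TLhom : (VecGrp.pt k B ⟶ G) →* Module.End B (B ⊗[k] Γ(G.left, ⊤)) where
  toFun y := (TL B y).toLinearMap
  map_one' := by
    rw [TL_one]
    rfl
  map_mul' y y' := by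
    rw [TL_mul]
    rfl

/-- the left regular representation of `G` on `k[G]`. -/
noncomputable def lreg : VecGrp.GMod G Γ(G.left, ⊤) where
  ρ B _ _ := (LinearMap.GeneralLinearGroup.generalLinearEquiv B (B ⊗[k] Γ(G.left, ⊤))).toMonoidHom.comp
    ((TLhom G B).toHomUnits)
  naturality {B B'} _ _ _ _ φ h x := TL_nat φ h x

variable {B} {G}

theorem lreg_apply (y : VecGrp.pt k B ⟶ G) (x : B ⊗[k] Γ(G.left, ⊤)) :
    (lreg G).ρ B y x = TL B y x := rfl

theorem lreg_isMult : (lreg G).IsMult := by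
  intro B _ _ h
  refine ⟨fun x y => ?_, ?_⟩
  · rw [lreg_apply, lreg_apply, lreg_apply, map_mul]
  · rw [lreg_apply, map_one]

end lreg

section inv

variable {k : Type u} [Field k] {G H : Over (Spec (CommRingCat.of k))} [GrpObj G] [GrpObj H]
  [IsAffine G.left] [IsAffine H.left] (i : H ⟶ G)

/-- the subalgebra of right-`H`-invariant functions. -/
noncomputable def invSub : Subalgebra k Γ(G.left, ⊤) :=
  { AGF.rTransInv i with
    algebraMap_mem' := fun c => by
      change AGF.IsRTransInv i (algebraMap k Γ(G.left, ⊤) c)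
      apply isRTransInv_of_pts
      intro B _ _ x t
      rw [ev_algebraMap, ev_algebraMap] }

theorem mem_invSub {F : Γ(G.left, ⊤)} : F ∈ invSub i ↔ AGF.IsRTransInv i F := Iff.rfl

theorem invSub_toSubring : (invSub i).toSubring = AGF.rTransInv i := rfl

/-- the `k`-linear map whose kernel is the space of right invariants. -/
noncomputable def Dmap : Γ(G.left, ⊤) →ₗ[k] Γ((G ⊗ H).left, ⊤) :=
  (pullA ((G ◁ i) ≫ μ[G])).toLinearMap - (pullA (fst G H)).toLinearMap

theorem ker_Dmap : LinearMap.ker (Dmap i) = Subalgebra.toSubmodule (invSub i) := by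
  ext F
  rw [LinearMap.mem_ker, Subalgebra.mem_toSubmodule, mem_invSub]
  change ((G ◁ i) ≫ μ[G]).left.appTop F - (fst G H).left.appTop F = 0 ↔ _
  rw [sub_eq_zero]
  rfl

theorem comp_act {T : Over (Spec (CommRingCat.of k))} (w : T ⟶ G ⊗ H) :
    w ≫ (G ◁ i) ≫ μ[G] = (w ≫ fst G H) * ((w ≫ snd G H) ≫ i) := by
  rw [Hom.mul_def, ← Category.assoc w (G ◁ i)]
  congr 1
  rw [← lift_whiskerLeft, lift_comp_fst_snd]

/-- left translates of right invariants are right invariants. -/
theorem stable_invSub : (lreg G).IsStable (𝟙 G) (Subalgebra.toSubmodule (invSub i)) := by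
  intro B _ _ h F hF
  haveI : IsAffine (G ⊗ H).left := isAffine_prod G H
  rw [← ker_Dmap]
  apply mem_baseChange_ker
  have hF' : AGF.IsRTransInv i F := hF
  have key : ∀ (j : G ⊗ H ⟶ G), (pullA j).toLinearMap.baseChange B
      (TL B (h ≫ 𝟙 G) ((1 : B) ⊗ₜ[k] F)) =
      ev ((VecGrp.ptMap (Algebra.TensorProduct.includeLeft :
            B →ₐ[k] B ⊗[k] Γ((G ⊗ H).left, ⊤)) ≫ h)⁻¹ *
          ((VecGrp.ptMap (Algebra.TensorProduct.includeRight :
            Γ((G ⊗ H).left, ⊤) →ₐ[k] B ⊗[k] Γ((G ⊗ H).left, ⊤)) ≫ uP (G ⊗ H)) ≫ j)) F := by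
    intro j
    let Θ : B ⊗[k] Γ(G.left, ⊤) →ₐ[k] B ⊗[k] Γ((G ⊗ H).left, ⊤) :=
      Algebra.TensorProduct.map (AlgHom.id k B) (pullA j)
    have hΘ : ∀ z, (pullA j).toLinearMap.baseChange B z = Θ z := by
      intro z
      induction z using TensorProduct.induction_on with
      | zero => simp
      | tmul b r => rfl
      | add x x' hx hx' => rw [map_add, map_add, hx, hx']
    have hR : Θ.comp (iR B) = (Algebra.TensorProduct.includeRight :
        Γ((G ⊗ H).left, ⊤) →ₐ[k] B ⊗[k] Γ((G ⊗ H).left, ⊤)).comp (pullA j) := by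
      ext f
      rfl
    have hL : Θ.comp (iL (G := G) B) = (Algebra.TensorProduct.includeLeft :
        B →ₐ[k] B ⊗[k] Γ((G ⊗ H).left, ⊤)) := by
      ext b
      change b ⊗ₜ[k] (pullA j 1) = b ⊗ₜ[k] (1 : Γ((G ⊗ H).left, ⊤))
      rw [map_one]
    rw [hΘ, Category.comp_id, TL_tmul, one_smul, ← ev_ptMap, comp_zptL, hR, hL, ptMap_comp,
      Category.assoc, ptMap_pullA_uP, ← Category.assoc]
  change (Dmap i).baseChange B (TL B (h ≫ 𝟙 G) ((1 : B) ⊗ₜ[k] F)) = 0
  rw [Dmap, LinearMap.baseChange_sub, LinearMap.sub_apply, key, key, comp_act, ← _root_.mul_assoc,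
    IsRTransInv.ev_mul hF', sub_self]

/-- invariants of the right regular representation are the right-translation invariants. -/
theorem mem_fixed_iff [IsMonHom i] (F : Γ(G.left, ⊤)) :
    F ∈ (rreg (𝟙 G)).fixedSubalgebra (rreg_isMult (𝟙 G)) i ↔ AGF.IsRTransInv i F := by
  constructor
  · intro hF
    apply isRTransInv_of_fixed i
    intro B _ _ h
    have := hF B h
    rw [rreg_apply, Category.comp_id] at this
    rw [rreg_apply, Category.comp_id]
    exact this
  · intro hF B _ _ h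
    rw [rreg_apply, Category.comp_id, T_tmul, one_smul, zpt, ← Category.assoc,
      IsRTransInv.ev_mul hF, ev_ptMap, ev_uP]
    rfl

end inv

section fg

variable {k : Type u} [Field k]

theorem subringFGOver_iff (X : Over (Spec (CommRingCat.of k))) (S : Subalgebra k Γ(X.left, ⊤)) :
    AGF.SubringFGOver k X S.toSubring ↔ S.FG := by
  constructor
  · rintro ⟨s, hs, hle⟩
    refine ⟨s, le_antisymm (Algebra.adjoin_le hs) ?_⟩
    intro x hx
    have h1 := hle hx
    have h2 : (Algebra.adjoin k (↑s : Set Γ(X.left, ⊤))).toSubring =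
        Subring.closure (Set.range (algebraMap k Γ(X.left, ⊤)) ∪ ↑s) :=
      Algebra.adjoin_eq_ring_closure _
    have h3 : x ∈ (Algebra.adjoin k (↑s : Set Γ(X.left, ⊤))).toSubring := by
      rw [h2]
      exact h1
    exact h3
  · rintro ⟨s, hs⟩
    refine ⟨s, ?_, ?_⟩
    · intro x hx
      have : x ∈ Algebra.adjoin k (↑s : Set Γ(X.left, ⊤)) := Algebra.subset_adjoin hx
      rw [hs] at this
      exact this
    · intro x hx
      have h2 : (Algebra.adjoin k (↑s : Set Γ(X.left, ⊤))).toSubring =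
          Subring.closure (Set.range (algebraMap k Γ(X.left, ⊤)) ∪ ↑s) :=
        Algebra.adjoin_eq_ring_closure _
      have h3 : x ∈ (Algebra.adjoin k (↑s : Set Γ(X.left, ⊤))).toSubring := by
        rw [hs]
        exact hx
      rw [h2] at h3
      exact h3

end fg

end Groth.Agent.H62.GrossT
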