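import Groth.Agent.H62.GrossT

/-!
# The transfer principle `A^H = (k[G]^H ⊗ A)^G`

Given a rational `G`-algebra `A`, the restriction `σS` of the left regular representation to the
subalgebra `S = k[G]^H` of right invariants and a tensor product action `τ` on `S ⊗ A`, evaluation at
the identity maps the `G`-invariants of `S ⊗ A` onto the `H`-invariants of `A`.
-/

universe u

open CategoryTheory MonoidalCategory CartesianMonoidalCategory MonObj GrpObj AlgebraicGeometry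
open scoped TensorProduct

namespace Groth.Agent.H62.GrossU

open Groth.Agent.H62.GrossA Groth.Agent.H62.GrossC Groth.Agent.H62.GrossD Groth.Agent.H62.GrossE
  Groth.Agent.H62.GrossR Groth.Agent.H62.GrossT

attribute [local instance] Groth.Agent.H62.GrossA.algΓ

section general

variable {k : Type u} [Field k] {A : Type u} [AddCommGroup A] [Module k A]
  {B B' B'' : Type u} [CommRing B] [Algebra k B] [CommRing B'] [Algebra k B'] [CommRing B'']
  [Algebra k B'']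

theorem Wmap_comp (ψ : B' →ₐ[k] B'') (φ : B →ₐ[k] B') (x : B ⊗[k] A) :
    VecGrp.Wmap ψ (VecGrp.Wmap φ x) = VecGrp.Wmap (M := A) (ψ.comp φ) x := by
  induction x using TensorProduct.induction_on with
  | zero => simp
  | tmul b a => rfl
  | add x x' hx hx' => rw [map_add, map_add, map_add, hx, hx']

theorem Wmap_id (x : B ⊗[k] A) : VecGrp.Wmap (M := A) (AlgHom.id k B) x = x := by
  induction x using TensorProduct.induction_on with
  | zero => simp
  | tmul b a => rfl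
  | add x x' hx hx' => rw [map_add, hx, hx']

variable {G : Over (Spec (CommRingCat.of k))} [GrpObj G] (ρ : VecGrp.GMod G A)

theorem rho_nat_one (φ : B →ₐ[k] B') (g : VecGrp.pt k B ⟶ G) (a : A) :
    VecGrp.Wmap φ (ρ.ρ B g ((1 : B) ⊗ₜ[k] a)) = ρ.ρ B' (VecGrp.ptMap φ ≫ g) ((1 : B') ⊗ₜ[k] a) := by
  rw [ρ.naturality, VecGrp.Wmap_tmul, map_one]

theorem rho_uP [IsAffine G.left] (y : VecGrp.pt k B ⟶ G) (a : A) :
    VecGrp.Wmap (ev y) (ρ.ρ Γ(G.left, ⊤) (uP G) ((1 : Γ(G.left, ⊤)) ⊗ₜ[k] a)) =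
      ρ.ρ B y ((1 : B) ⊗ₜ[k] a) := by
  rw [rho_nat_one, ← pt_eq]

theorem rho_mul_apply (g g' : VecGrp.pt k B ⟶ G) (x : B ⊗[k] A) :
    ρ.ρ B (g * g') x = ρ.ρ B g (ρ.ρ B g' x) := by
  rw [map_mul]
  rfl

theorem rho_one_apply (x : B ⊗[k] A) : ρ.ρ B (1 : VecGrp.pt k B ⟶ G) x = x := by
  rw [map_one]
  rfl

end general

section algOf

variable {k : Type u} [Field k] {G : Over (Spec (CommRingCat.of k))} [GrpObj G]
  {A : Type u} [CommRing A] [Algebra k A] (m : VecGrp.GMod G A) (hm : m.IsMult)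
  (B : Type u) [CommRing B] [Algebra k B]

/-- the action of a point as a `k`-algebra endomorphism. -/
noncomputable def algOf (g : VecGrp.pt k B ⟶ G) : B ⊗[k] A →ₐ[k] B ⊗[k] A :=
  AlgHom.ofLinearMap ((m.ρ B g).toLinearMap.restrictScalars k) (hm B g).2 (hm B g).1

theorem algOf_apply (g : VecGrp.pt k B ⟶ G) (x : B ⊗[k] A) : algOf m hm B g x = m.ρ B g x := rfl

include hm in
theorem rho_tmul_one (g : VecGrp.pt k B ⟶ G) (b : B) :
    m.ρ B g (b ⊗ₜ[k] (1 : A)) = b ⊗ₜ[k] (1 : A) := by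
  have h1 : b ⊗ₜ[k] (1 : A) = b • (1 : B ⊗[k] A) := by
    rw [Algebra.TensorProduct.one_def, TensorProduct.smul_tmul', smul_eq_mul, _root_.mul_one]
  have h2 : m.ρ B g (1 : B ⊗[k] A) = 1 := (hm B g).2
  rw [h1, map_smul, h2]

end algOf

section transfer

variable {k : Type u} [Field k] {G H : Over (Spec (CommRingCat.of k))} [GrpObj G] [GrpObj H]
  [IsAffine G.left] [IsAffine H.left] (i : H ⟶ G)
  {A : Type u} [CommRing A] [Algebra k A]

/-- the embedding `B ⊗ (S ⊗ A) → (B ⊗ k[G]) ⊗ A`. -/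
noncomputable def Jmap (B : Type u) [CommRing B] [Algebra k B] :
    B ⊗[k] (↥(invSub i) ⊗[k] A) →ₐ[k] (B ⊗[k] Γ(G.left, ⊤)) ⊗[k] A :=
  Algebra.TensorProduct.lift
    ((Algebra.TensorProduct.includeLeft :
      (B ⊗[k] Γ(G.left, ⊤)) →ₐ[k] (B ⊗[k] Γ(G.left, ⊤)) ⊗[k] A).comp (iL (G := G) B))
    (Algebra.TensorProduct.map ((iR (G := G) B).comp (invSub i).val) (AlgHom.id k A))
    (fun _ _ => Commute.all _ _)

variable {B : Type u} [CommRing B] [Algebra k B]

theorem Jmap_tmul (b : B) (F : ↥(invSub i)) (a : A) :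
    Jmap i (A := A) B (b ⊗ₜ[k] (F ⊗ₜ[k] a)) = (b ⊗ₜ[k] (F : Γ(G.left, ⊤))) ⊗ₜ[k] a := by
  rw [Jmap, Algebra.TensorProduct.lift_tmul]
  change ((b ⊗ₜ[k] (1 : Γ(G.left, ⊤))) ⊗ₜ[k] (1 : A)) *
    (((1 : B) ⊗ₜ[k] (F : Γ(G.left, ⊤))) ⊗ₜ[k] a) = _
  rw [Algebra.TensorProduct.tmul_mul_tmul, Algebra.TensorProduct.tmul_mul_tmul, _root_.mul_one,
    _root_.one_mul, _root_.one_mul]

theorem Jmap_eq (x : B ⊗[k] (↥(invSub i) ⊗[k] A)) :
    Jmap i (A := A) B x = (TensorProduct.assoc k B Γ(G.left, ⊤) A).symm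
      ((LinearMap.lTensor B (LinearMap.rTensor A (invSub i).val.toLinearMap)) x) := by
  induction x using TensorProduct.induction_on with
  | zero => simp
  | tmul b p =>
    induction p using TensorProduct.induction_on with
    | zero => simp
    | tmul F a =>
      rw [Jmap_tmul]
      rfl
    | add p p' hp hp' =>
      rw [TensorProduct.tmul_add, map_add, map_add, map_add, hp, hp']
  | add x x' hx hx' => rw [map_add, map_add, map_add, hx, hx']

theorem Jmap_injective : Function.Injective (Jmap i (A := A) B) := by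
  have h1 : Function.Injective (LinearMap.rTensor A (invSub i).val.toLinearMap) :=
    Module.Flat.rTensor_preserves_injective_linearMap _ Subtype.val_injective
  have h2 : Function.Injective
      (LinearMap.lTensor B (LinearMap.rTensor A (invSub i).val.toLinearMap)) :=
    Module.Flat.lTensor_preserves_injective_linearMap _ h1
  intro x y hxy
  rw [Jmap_eq, Jmap_eq] at hxy
  exact h2 ((TensorProduct.assoc k B Γ(G.left, ⊤) A).symm.injective hxy)

theorem Jmap_one_tmul (p : ↥(invSub i) ⊗[k] A) :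
    Jmap i (A := A) B ((1 : B) ⊗ₜ[k] p) =
      VecGrp.Wmap (iR (G := G) B) (LinearMap.rTensor A (invSub i).val.toLinearMap p) := by
  induction p using TensorProduct.induction_on with
  | zero => simp
  | tmul F a =>
    rw [Jmap_tmul]
    rfl
  | add p p' hp hp' =>
    rw [TensorProduct.tmul_add, map_add, map_add, map_add, hp, hp']


section core

variable (ρ : VecGrp.GMod G A) (hρ : ρ.IsMult)
  (σS : VecGrp.GMod G ↥(invSub i))
  (hsub : ∀ (B : Type u) [CommRing B] [Algebra k B] (g : VecGrp.pt k B ⟶ G) (x : B ⊗[k] ↥(invSub i)),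
    Algebra.TensorProduct.map (AlgHom.id k B) (invSub i).val (σS.ρ B g x) =
      (lreg G).ρ B g (Algebra.TensorProduct.map (AlgHom.id k B) (invSub i).val x))
  (τ : VecGrp.GMod G (↥(invSub i) ⊗[k] A)) (hτ : τ.IsMult)
  (hτL : ∀ (B : Type u) [CommRing B] [Algebra k B] (g : VecGrp.pt k B ⟶ G) (x : B ⊗[k] ↥(invSub i)),
    τ.ρ B g (Algebra.TensorProduct.map (AlgHom.id k B)
        (Algebra.TensorProduct.includeLeft : ↥(invSub i) →ₐ[k] ↥(invSub i) ⊗[k] A) x) =
      Algebra.TensorProduct.map (AlgHom.id k B)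
        (Algebra.TensorProduct.includeLeft : ↥(invSub i) →ₐ[k] ↥(invSub i) ⊗[k] A) (σS.ρ B g x))
  (hτR : ∀ (B : Type u) [CommRing B] [Algebra k B] (g : VecGrp.pt k B ⟶ G) (x : B ⊗[k] A),
    τ.ρ B g (Algebra.TensorProduct.map (AlgHom.id k B)
        (Algebra.TensorProduct.includeRight : A →ₐ[k] ↥(invSub i) ⊗[k] A) x) =
      Algebra.TensorProduct.map (AlgHom.id k B)
        (Algebra.TensorProduct.includeRight : A →ₐ[k] ↥(invSub i) ⊗[k] A) (ρ.ρ B g x))

/-- `Wmap` of an algebra map as an algebra map. -/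
noncomputable def WA {C C' : Type u} [CommRing C] [Algebra k C] [CommRing C'] [Algebra k C']
    (θ : C →ₐ[k] C') : C ⊗[k] A →ₐ[k] C' ⊗[k] A :=
  Algebra.TensorProduct.map θ (AlgHom.id k A)

theorem WA_apply {C C' : Type u} [CommRing C] [Algebra k C] [CommRing C'] [Algebra k C']
    (θ : C →ₐ[k] C') (x : C ⊗[k] A) : WA θ x = VecGrp.Wmap θ x := by
  induction x using TensorProduct.induction_on with
  | zero => simp
  | tmul b a => rfl
  | add x x' hx hx' => rw [map_add, map_add, hx, hx']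

theorem Jmap_inl (x : B ⊗[k] ↥(invSub i)) :
    Jmap i (A := A) B (Algebra.TensorProduct.map (AlgHom.id k B)
      (Algebra.TensorProduct.includeLeft : ↥(invSub i) →ₐ[k] ↥(invSub i) ⊗[k] A) x) =
      (Algebra.TensorProduct.map (AlgHom.id k B) (invSub i).val x) ⊗ₜ[k] (1 : A) := by
  induction x using TensorProduct.induction_on with
  | zero => simp
  | tmul b F' =>
    rw [Algebra.TensorProduct.map_tmul, Algebra.TensorProduct.map_tmul]
    change Jmap i (A := A) B (b ⊗ₜ[k] (F' ⊗ₜ[k] (1 : A))) = _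
    rw [Jmap_tmul]
    rfl
  | add x x' hx hx' => rw [map_add, map_add, map_add, hx, hx', TensorProduct.add_tmul]

theorem Jmap_inr (x : B ⊗[k] A) :
    Jmap i (A := A) B (Algebra.TensorProduct.map (AlgHom.id k B)
      (Algebra.TensorProduct.includeRight : A →ₐ[k] ↥(invSub i) ⊗[k] A) x) =
      VecGrp.Wmap (iL (G := G) B) x := by
  induction x using TensorProduct.induction_on with
  | zero => simp
  | tmul b a' =>
    rw [Algebra.TensorProduct.map_tmul]
    change Jmap i (A := A) B (b ⊗ₜ[k] ((1 : ↥(invSub i)) ⊗ₜ[k] a')) = _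
    rw [Jmap_tmul]
    rfl
  | add x x' hx hx' => rw [map_add, map_add, map_add, hx, hx']

theorem TL_tmul_one (g : VecGrp.pt k B ⟶ G) (b : B) :
    TL B g (b ⊗ₜ[k] (1 : Γ(G.left, ⊤))) = b ⊗ₜ[k] (1 : Γ(G.left, ⊤)) := by
  rw [TL_tmul, map_one, Algebra.smul_def, _root_.mul_one]
  rfl

set_option maxHeartbeats 1600000 in
include hρ hsub hτ hτL hτR in
/-- the tensor action, seen on `(B ⊗ k[G]) ⊗ A`. -/
theorem J_tau (g : VecGrp.pt k B ⟶ G) (w : B ⊗[k] (↥(invSub i) ⊗[k] A)) :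
    Jmap i B (τ.ρ B g w) =
      ρ.ρ (B ⊗[k] Γ(G.left, ⊤)) (VecGrp.ptMap (iL (G := G) B) ≫ g)
        (VecGrp.Wmap ((TL B g).restrictScalars k) (Jmap i B w)) := by
  let fL : B ⊗[k] (↥(invSub i) ⊗[k] A) →ₐ[k] (B ⊗[k] Γ(G.left, ⊤)) ⊗[k] A :=
    (Jmap i B).comp (algOf τ hτ B g)
  let fR : B ⊗[k] (↥(invSub i) ⊗[k] A) →ₐ[k] (B ⊗[k] Γ(G.left, ⊤)) ⊗[k] A :=
    (algOf ρ hρ (B ⊗[k] Γ(G.left, ⊤)) (VecGrp.ptMap (iL (G := G) B) ≫ g)).comp
      ((WA ((TL B g).restrictScalars k)).comp (Jmap i B))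
  have hfL : ∀ x, fL x = Jmap i B (τ.ρ B g x) := fun x => rfl
  have hfR : ∀ x, fR x = ρ.ρ (B ⊗[k] Γ(G.left, ⊤)) (VecGrp.ptMap (iL (G := G) B) ≫ g)
      (VecGrp.Wmap ((TL B g).restrictScalars k) (Jmap i B x)) := by
    intro x
    change ρ.ρ _ _ (WA ((TL B g).restrictScalars k) (Jmap i B x)) = _
    rw [WA_apply]
  have hone : ∀ (c : B ⊗[k] Γ(G.left, ⊤)),
      ρ.ρ (B ⊗[k] Γ(G.left, ⊤)) (VecGrp.ptMap (iL (G := G) B) ≫ g) (c ⊗ₜ[k] (1 : A)) =
        c ⊗ₜ[k] (1 : A) := fun c => rho_tmul_one ρ hρ _ _ c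
  have h1S : ((1 : ↥(invSub i)) : Γ(G.left, ⊤)) = 1 := rfl
  have hB : ∀ b : B, fL (b ⊗ₜ[k] (1 : ↥(invSub i) ⊗[k] A)) =
      fR (b ⊗ₜ[k] (1 : ↥(invSub i) ⊗[k] A)) := by
    intro b
    rw [hfL, hfR, rho_tmul_one τ hτ, Algebra.TensorProduct.one_def, Jmap_tmul, VecGrp.Wmap_tmul,
      hone, h1S]
    congr 1
    exact (TL_tmul_one g b).symm
  have hS : ∀ F : ↥(invSub i), fL ((1 : B) ⊗ₜ[k] (F ⊗ₜ[k] (1 : A))) =
      fR ((1 : B) ⊗ₜ[k] (F ⊗ₜ[k] (1 : A))) := by
    intro F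
    have e1 : ((1 : B) ⊗ₜ[k] (F ⊗ₜ[k] (1 : A)) : B ⊗[k] (↥(invSub i) ⊗[k] A)) =
        Algebra.TensorProduct.map (AlgHom.id k B)
          (Algebra.TensorProduct.includeLeft : ↥(invSub i) →ₐ[k] ↥(invSub i) ⊗[k] A)
          ((1 : B) ⊗ₜ[k] F) := rfl
    rw [hfL, hfR, Jmap_tmul, VecGrp.Wmap_tmul, hone, e1, hτL, Jmap_inl, hsub, lreg_apply,
      Algebra.TensorProduct.map_tmul]
    rfl
  have hA : ∀ a : A, fL ((1 : B) ⊗ₜ[k] ((1 : ↥(invSub i)) ⊗ₜ[k] a)) =
      fR ((1 : B) ⊗ₜ[k] ((1 : ↥(invSub i)) ⊗ₜ[k] a)) := by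
    intro a
    have e1 : ((1 : B) ⊗ₜ[k] ((1 : ↥(invSub i)) ⊗ₜ[k] a) : B ⊗[k] (↥(invSub i) ⊗[k] A)) =
        Algebra.TensorProduct.map (AlgHom.id k B)
          (Algebra.TensorProduct.includeRight : A →ₐ[k] ↥(invSub i) ⊗[k] A)
          ((1 : B) ⊗ₜ[k] a) := rfl
    rw [hfL, hfR, Jmap_tmul, VecGrp.Wmap_tmul, e1, hτR, Jmap_inr, rho_nat_one, h1S]
    congr 2
    change _ = TL B g ((1 : B) ⊗ₜ[k] (1 : Γ(G.left, ⊤)))
    rw [TL_tmul_one]
    exact Algebra.TensorProduct.one_def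
  have key : fL = fR := by
    apply Algebra.TensorProduct.ext
    · exact AlgHom.ext hB
    · apply Algebra.TensorProduct.ext
      · exact AlgHom.ext hS
      · exact AlgHom.ext hA
  have := congrArg (fun f => f w) key
  change fL w = fR w at this
  rw [hfL, hfR] at this
  exact this

end core

end transfer

end Groth.Agent.H62.GrossU
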