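import Groth.Agent.H62.GrossU
import Groth.Agent.H83.GMod_TP
import Groth.Agent.H83.GMod_SUB

/-!
# The transfer principle, continued: `ε : (k[G]^H ⊗ A)^G ≃ A^H` and Grosshans' criterion
-/

universe u

open CategoryTheory MonoidalCategory CartesianMonoidalCategory MonObj GrpObj AlgebraicGeometry
open scoped TensorProduct

namespace Groth.Agent.H62.GrossV

open Groth.Agent.H62.GrossA Groth.Agent.H62.GrossC Groth.Agent.H62.GrossD Groth.Agent.H62.GrossE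
  Groth.Agent.H62.GrossR Groth.Agent.H62.GrossT Groth.Agent.H62.GrossU

attribute [local instance] Groth.Agent.H62.GrossA.algΓ

section transfer

variable {k : Type u} [Field k] {G H : Over (Spec (CommRingCat.of k))} [GrpObj G] [GrpObj H]
  [IsAffine G.left] [IsAffine H.left] (i : H ⟶ G)
  {A : Type u} [CommRing A] [Algebra k A]

/-- the inclusion `S ⊗ A → k[G] ⊗ A`. -/
noncomputable def incS : ↥(invSub i) ⊗[k] A →ₐ[k] Γ(G.left, ⊤) ⊗[k] A :=
  Algebra.TensorProduct.map (invSub i).val (AlgHom.id k A)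

theorem incS_apply (p : ↥(invSub i) ⊗[k] A) :
    incS i p = LinearMap.rTensor A (invSub i).val.toLinearMap p := by
  induction p using TensorProduct.induction_on with
  | zero => simp
  | tmul F a => rfl
  | add p p' hp hp' => rw [map_add, map_add, hp, hp']

/-- evaluation at the identity `S ⊗ A → A`. -/
noncomputable def epsA : ↥(invSub i) ⊗[k] A →ₐ[k] A :=
  ((Algebra.TensorProduct.lid k A).toAlgHom).comp
    ((WA (ev (1 : VecGrp.pt k k ⟶ G))).comp (incS i))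

theorem epsA_apply (p : ↥(invSub i) ⊗[k] A) :
    epsA i p = TensorProduct.lid k A (VecGrp.Wmap (ev (1 : VecGrp.pt k k ⟶ G)) (incS i p)) := by
  change Algebra.TensorProduct.lid k A (WA (ev (1 : VecGrp.pt k k ⟶ G)) (incS i p)) = _
  rw [WA_apply]
  rfl

theorem one_tmul_lid (x : k ⊗[k] A) : (1 : k) ⊗ₜ[k] (TensorProduct.lid k A x) = x := by
  induction x using TensorProduct.induction_on with
  | zero => simp
  | tmul c a =>
    rw [TensorProduct.lid_tmul, ← TensorProduct.smul_tmul, smul_eq_mul, _root_.mul_one]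
  | add x x' hx hx' => rw [map_add, TensorProduct.tmul_add, hx, hx']

theorem eps_spec (p : ↥(invSub i) ⊗[k] A) :
    (1 : k) ⊗ₜ[k] epsA i p = VecGrp.Wmap (ev (1 : VecGrp.pt k k ⟶ G)) (incS i p) := by
  rw [epsA_apply, one_tmul_lid]

theorem exact_val_Dmap : Function.Exact (invSub i).val.toLinearMap (Dmap i) := by
  intro y
  rw [← LinearMap.mem_ker, ker_Dmap, Subalgebra.mem_toSubmodule]
  constructor
  · intro hy
    exact ⟨⟨y, hy⟩, rfl⟩
  · rintro ⟨⟨y', hy'⟩, rfl⟩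
    exact hy'

theorem mem_range_incS_iff (x : Γ(G.left, ⊤) ⊗[k] A) :
    LinearMap.rTensor A (Dmap i) x = 0 ↔ ∃ p, incS i p = x := by
  have h := Module.Flat.rTensor_exact A (exact_val_Dmap i) x
  rw [h]
  constructor
  · rintro ⟨p, hp⟩
    exact ⟨p, by rw [incS_apply]; exact hp⟩
  · rintro ⟨p, hp⟩
    exact ⟨p, by rw [← incS_apply]; exact hp⟩

theorem rTensor_Dmap (x : Γ(G.left, ⊤) ⊗[k] A) :
    LinearMap.rTensor A (Dmap i) x =
      VecGrp.Wmap (pullA ((G ◁ i) ≫ μ[G])) x - VecGrp.Wmap (pullA (fst G H)) x := by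
  rw [Dmap, LinearMap.rTensor_sub]
  rfl

variable (ρ : VecGrp.GMod G A)

/-- the two pullbacks of the orbit map `ρ(uP)(1 ⊗ a)`. -/
theorem Wmap_pullA_rho (j : G ⊗ H ⟶ G) (a : A) :
    haveI : IsAffine (G ⊗ H).left := isAffine_prod G H
    VecGrp.Wmap (pullA j) (ρ.ρ Γ(G.left, ⊤) (uP G) ((1 : Γ(G.left, ⊤)) ⊗ₜ[k] a)) =
      ρ.ρ Γ((G ⊗ H).left, ⊤) (uP (G ⊗ H) ≫ j) ((1 : Γ((G ⊗ H).left, ⊤)) ⊗ₜ[k] a) := by
  haveI : IsAffine (G ⊗ H).left := isAffine_prod G H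
  rw [rho_nat_one, ptMap_pullA_uP]

/-- C2 : the orbit map of an `H`-invariant lands in `S ⊗ A`. -/
theorem exists_incS_of_fixed (a : A)
    (ha : ∀ (B : Type u) [CommRing B] [Algebra k B] (h : VecGrp.pt k B ⟶ H),
      ρ.ρ B (h ≫ i) ((1 : B) ⊗ₜ[k] a) = (1 : B) ⊗ₜ[k] a) :
    ∃ p, incS i p = ρ.ρ Γ(G.left, ⊤) (uP G) ((1 : Γ(G.left, ⊤)) ⊗ₜ[k] a) := by
  haveI : IsAffine (G ⊗ H).left := isAffine_prod G H
  rw [← mem_range_incS_iff, rTensor_Dmap, Wmap_pullA_rho, Wmap_pullA_rho, comp_act, rho_mul_apply,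
    ha, sub_self]

/-- C5, second half: an element whose orbit map lies in `S ⊗ A` is `H`-invariant. -/
theorem fixed_of_incS (a : A) (p : ↥(invSub i) ⊗[k] A)
    (hp : incS i p = ρ.ρ Γ(G.left, ⊤) (uP G) ((1 : Γ(G.left, ⊤)) ⊗ₜ[k] a))
    (B : Type u) [CommRing B] [Algebra k B] (h : VecGrp.pt k B ⟶ H) :
    ρ.ρ B (h ≫ i) ((1 : B) ⊗ₜ[k] a) = (1 : B) ⊗ₜ[k] a := by
  haveI : IsAffine (G ⊗ H).left := isAffine_prod G H
  have h0 : LinearMap.rTensor A (Dmap i)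
      (ρ.ρ Γ(G.left, ⊤) (uP G) ((1 : Γ(G.left, ⊤)) ⊗ₜ[k] a)) = 0 :=
    (mem_range_incS_iff i _).2 ⟨p, hp⟩
  rw [rTensor_Dmap, Wmap_pullA_rho, Wmap_pullA_rho, comp_act, rho_mul_apply, sub_eq_zero] at h0
  have h1 : ρ.ρ Γ((G ⊗ H).left, ⊤) ((uP (G ⊗ H) ≫ snd G H) ≫ i)
      ((1 : Γ((G ⊗ H).left, ⊤)) ⊗ₜ[k] a) = (1 : Γ((G ⊗ H).left, ⊤)) ⊗ₜ[k] a := by
    have hinj : Function.Injective (ρ.ρ Γ((G ⊗ H).left, ⊤) (uP (G ⊗ H) ≫ fst G H)) := by
      intro x y hxy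
      have := congrArg (ρ.ρ Γ((G ⊗ H).left, ⊤) (uP (G ⊗ H) ≫ fst G H)⁻¹) hxy
      rw [← rho_mul_apply, ← rho_mul_apply, inv_mul_cancel, rho_one_apply, rho_one_apply] at this
      exact this
    exact hinj h0
  let w : VecGrp.pt k B ⟶ G ⊗ H := lift (1 : VecGrp.pt k B ⟶ G) h
  have h2 := congrArg (VecGrp.Wmap (ev w)) h1
  rw [rho_nat_one, VecGrp.Wmap_tmul, map_one, ← Category.assoc, ← Category.assoc, ← pt_eq] at h2
  have hw : w ≫ snd G H = h := lift_snd _ _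
  rw [hw] at h2
  exact h2

section core

variable (ρ : VecGrp.GMod G A) (hρ : ρ.IsMult)
  (σS : VecGrp.GMod G ↥(invSub i))
  (hsub : ∀ (B : Type u) [CommRing B] [Algebra k B] (g : VecGrp.pt k B ⟶ G) (x : B ⊗[k] ↥(invSub i)),
    Algebra.TensorProduct.map (AlgHom.id k B) (invSub i).val (σS.ρ B g x) =
      (lreg G).ρ B g (Algebra.TensorProduct.map (AlgHom.id k B) (invSub i).val x))
  (τ : VecGrp.GMod G (↥(invSub i) ⊗[k] A)) (hτ : τ.IsMult)
  (hτL : ∀ (B : Type u) [CommRing B] [Algebra k B] (g : VecGrp.pt k B ⟶ G) (x : B ⊗[k] ↥(invSub i)),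
    τ.ρ B g (Algebra.TensorProduct.map (AlgHom.id k B)
        (Algebra.TensorProduct.includeLeft : ↥(invSub i) →ₐ[k] ↥(invSub i) ⊗[k] A) x) =
      Algebra.TensorProduct.map (AlgHom.id k B)
        (Algebra.TensorProduct.includeLeft : ↥(invSub i) →ₐ[k] ↥(invSub i) ⊗[k] A) (σS.ρ B g x))
  (hτR : ∀ (B : Type u) [CommRing B] [Algebra k B] (g : VecGrp.pt k B ⟶ G) (x : B ⊗[k] A),
    τ.ρ B g (Algebra.TensorProduct.map (AlgHom.id k B)
        (Algebra.TensorProduct.includeRight : A →ₐ[k] ↥(invSub i) ⊗[k] A) x) =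
      Algebra.TensorProduct.map (AlgHom.id k B)
        (Algebra.TensorProduct.includeRight : A →ₐ[k] ↥(invSub i) ⊗[k] A) (ρ.ρ B g x))

theorem Jmap_one_tmul' {B : Type u} [CommRing B] [Algebra k B] (p : ↥(invSub i) ⊗[k] A) :
    Jmap i (A := A) B ((1 : B) ⊗ₜ[k] p) = VecGrp.Wmap (iR (G := G) B) (incS i p) := by
  rw [Jmap_one_tmul, incS_apply]

include hρ hsub hτ hτL hτR in
/-- the key identity: `τ` on `1 ⊗ p`, seen in `(B ⊗ k[G]) ⊗ A`. -/
theorem J_tau_one {B : Type u} [CommRing B] [Algebra k B] (g : VecGrp.pt k B ⟶ G)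
    (p : ↥(invSub i) ⊗[k] A) :
    Jmap i B (τ.ρ B g ((1 : B) ⊗ₜ[k] p)) =
      ρ.ρ (B ⊗[k] Γ(G.left, ⊤)) (VecGrp.ptMap (iL (G := G) B) ≫ g)
        (VecGrp.Wmap (ev (zptL B g)) (incS i p)) := by
  rw [J_tau i ρ hρ σS hsub τ hτ hτL hτR, Jmap_one_tmul', Wmap_comp, TL_comp_iR]

include hρ hsub hτ hτL hτR in
/-- C3 : the preimage of the orbit map of an `H`-invariant is `G`-invariant for `τ`. -/
theorem fixed_of_orbit (a : A) (p : ↥(invSub i) ⊗[k] A)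
    (hp : incS i p = ρ.ρ Γ(G.left, ⊤) (uP G) ((1 : Γ(G.left, ⊤)) ⊗ₜ[k] a)) :
    p ∈ τ.fixedUnder (𝟙 G) := by
  change ∀ (B : Type u) [CommRing B] [Algebra k B] (h : VecGrp.pt k B ⟶ G),
    τ.ρ B (h ≫ 𝟙 G) ((1 : B) ⊗ₜ[k] p) = (1 : B) ⊗ₜ[k] p
  intro B _ _ g
  have hL : Jmap i (A := A) B (τ.ρ B (g ≫ 𝟙 G) ((1 : B) ⊗ₜ[k] p)) =
      ρ.ρ (B ⊗[k] Γ(G.left, ⊤)) (VecGrp.ptMap (iR (G := G) B) ≫ uP G)
        ((1 : B ⊗[k] Γ(G.left, ⊤)) ⊗ₜ[k] a) := by
    have hg : (VecGrp.ptMap (iL (G := G) B) ≫ g) * zptL B g =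
        VecGrp.ptMap (iR (G := G) B) ≫ uP G := by
      rw [zptL]
      exact mul_inv_cancel_left _ _
    rw [Category.comp_id, J_tau_one i ρ hρ σS hsub τ hτ hτL hτR, hp, rho_uP, ← rho_mul_apply, hg]
  have hR : Jmap i (A := A) B ((1 : B) ⊗ₜ[k] p) =
      ρ.ρ (B ⊗[k] Γ(G.left, ⊤)) (VecGrp.ptMap (iR (G := G) B) ≫ uP G)
        ((1 : B ⊗[k] Γ(G.left, ⊤)) ⊗ₜ[k] a) := by
    have e1 := Jmap_one_tmul' i (B := B) p
    rw [hp, rho_nat_one] at e1
    exact e1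
  exact Jmap_injective i (hL.trans hR.symm)

/-- C4 : evaluation at the identity of the preimage of the orbit map of `a` is `a`. -/
theorem epsA_of_orbit (a : A) (p : ↥(invSub i) ⊗[k] A)
    (hp : incS i p = ρ.ρ Γ(G.left, ⊤) (uP G) ((1 : Γ(G.left, ⊤)) ⊗ₜ[k] a)) :
    epsA i p = a := by
  rw [epsA_apply, hp, rho_uP, rho_one_apply, TensorProduct.lid_tmul, one_smul]

include hρ hsub hτ hτL hτR in
/-- C5, first half: a `τ`-invariant is the orbit map of its value at the identity. -/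
theorem orbit_of_fixed (p : ↥(invSub i) ⊗[k] A) (hp : p ∈ τ.fixedUnder (𝟙 G)) :
    incS i p = ρ.ρ Γ(G.left, ⊤) (uP G) ((1 : Γ(G.left, ⊤)) ⊗ₜ[k] epsA i p) := by
  have h0 := hp Γ(G.left, ⊤) (uP G)
  rw [Category.comp_id] at h0
  have h1 := congrArg (Jmap i (A := A) Γ(G.left, ⊤)) h0
  rw [J_tau_one i ρ hρ σS hsub τ hτ hτL hτR, Jmap_one_tmul'] at h1
  let m : Γ(G.left, ⊤) ⊗[k] Γ(G.left, ⊤) →ₐ[k] Γ(G.left, ⊤) := Algebra.TensorProduct.lmul' k
  have hmL : m.comp (iL (G := G) Γ(G.left, ⊤)) = ev (uP G) := by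
    ext F
    rw [ev_uP]
    change m (F ⊗ₜ[k] (1 : Γ(G.left, ⊤))) = F
    rw [Algebra.TensorProduct.lmul'_apply_tmul, _root_.mul_one]
  have hmR : m.comp (iR (G := G) Γ(G.left, ⊤)) = ev (uP G) := by
    ext F
    rw [ev_uP]
    change m ((1 : Γ(G.left, ⊤)) ⊗ₜ[k] F) = F
    rw [Algebra.TensorProduct.lmul'_apply_tmul, _root_.one_mul]
  have hid : ∀ x : Γ(G.left, ⊤) ⊗[k] A, VecGrp.Wmap (ev (uP G)) x = x := by
    intro x
    have : ev (uP G) = AlgHom.id k Γ(G.left, ⊤) := by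
      ext F
      rw [ev_uP]
      rfl
    rw [this, Wmap_id]
  have h2 := congrArg (VecGrp.Wmap (M := A) m) h1
  rw [ρ.naturality, Wmap_comp, Wmap_comp, hmR, hid, ← Category.assoc, ← ptMap_comp, hmL, ← pt_eq]
    at h2
  have hz : VecGrp.ptMap m ≫ zptL Γ(G.left, ⊤) (uP G) = (1 : VecGrp.pt k Γ(G.left, ⊤) ⟶ G) := by
    rw [comp_zptL, hmL, hmR, ← pt_eq, inv_mul_cancel]
  have h3 : m.comp (ev (zptL Γ(G.left, ⊤) (uP G))) =
      (Algebra.ofId k Γ(G.left, ⊤)).comp (ev (1 : VecGrp.pt k k ⟶ G)) := by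
    ext F
    change m (ev (zptL Γ(G.left, ⊤) (uP G)) F) = _
    rw [← ev_ptMap, hz]
    have h1' : (1 : VecGrp.pt k Γ(G.left, ⊤) ⟶ G) =
        VecGrp.ptMap (Algebra.ofId k Γ(G.left, ⊤)) ≫ (1 : VecGrp.pt k k ⟶ G) := by
      rw [MonObj.comp_one]
    rw [h1', ev_ptMap]
    rfl
  rw [h3, ← Wmap_comp, ← eps_spec, VecGrp.Wmap_tmul, map_one] at h2
  exact h2.symm

include hρ hsub hτ hτL hτR in
/-- C5 : evaluation at the identity maps `τ`-invariants to `H`-invariants. -/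
theorem epsA_fixed (p : ↥(invSub i) ⊗[k] A) (hp : p ∈ τ.fixedUnder (𝟙 G))
    (B : Type u) [CommRing B] [Algebra k B] (h : VecGrp.pt k B ⟶ H) :
    ρ.ρ B (h ≫ i) ((1 : B) ⊗ₜ[k] epsA i p) = (1 : B) ⊗ₜ[k] epsA i p :=
  fixed_of_incS i ρ (epsA i p) p (orbit_of_fixed i ρ hρ σS hsub τ hτ hτL hτR p hp) B h

end core

end transfer

section main

variable {k : Type u} [Field k] {G H : Over (Spec (CommRingCat.of k))} [GrpObj G] [GrpObj H]
  [IsAffine G.left] [IsAffine H.left] (i : H ⟶ G)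

/-- (a) ⇒ (b) of the transfer principle. -/
theorem fg_fixed_of_fg (thmA : VecGrp.ReductiveInvariantsFG k) (hG : VecGrp.IsReductiveGrp k G)
    (hS : (invSub i).FG) {A : Type u} [CommRing A] [Algebra k A] [Algebra.FiniteType k A]
    (ρ : VecGrp.GMod G A) (hρ : ρ.IsMult) : (ρ.fixedSubalgebra hρ i).FG := by
  classical
  haveI hS' : Algebra.FiniteType k ↥(invSub i) := (Subalgebra.fg_iff_finiteType _).1 hS
  have hSA : Algebra.FiniteType k (↥(invSub i) ⊗[k] A) :=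
    Algebra.FiniteType.trans hS' (Algebra.FiniteType.baseChange (R := k) (A := A) ↥(invSub i))
  obtain ⟨σS, hσS, hsub⟩ :=
    Groth.Agent.H83.GMod_SUB.exists_restrict (lreg G) lreg_isMult (invSub i) (stable_invSub i)
  obtain ⟨τ, hτ, hτL, hτR⟩ := Groth.Agent.H83.GMod_TP.exists_tensor σS hσS ρ hρ
  obtain ⟨s, hs1, hs2⟩ := thmA G hG (↥(invSub i) ⊗[k] A) τ hτ hSA
  refine ⟨s.image (epsA i), ?_⟩
  rw [Finset.coe_image]
  apply le_antisymm
  · apply Algebra.adjoin_le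
    rintro _ ⟨p, hp, rfl⟩
    exact fun B _ _ h => epsA_fixed i ρ hρ σS hsub τ hτ hτL hτR p (hs1 hp) B h
  · intro a ha
    obtain ⟨p, hp⟩ := exists_incS_of_fixed i ρ a ha
    have hpfix : p ∈ τ.fixedUnder (𝟙 G) := fixed_of_orbit i ρ hρ σS hsub τ hτ hτL hτR a p hp
    have hpa : epsA i p = a := epsA_of_orbit i ρ a p hp
    have h1 : p ∈ Algebra.adjoin k (↑s : Set (↥(invSub i) ⊗[k] A)) := hs2 hpfix
    have h2 : epsA i p ∈ (Algebra.adjoin k (↑s : Set (↥(invSub i) ⊗[k] A))).map (epsA i) :=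
      ⟨p, h1, rfl⟩
    rw [AlgHom.map_adjoin, hpa] at h2
    exact h2

/-- the invariants of the right regular representation, as a subalgebra. -/
theorem fixedSubalgebra_rreg [IsMonHom i] :
    (rreg (𝟙 G)).fixedSubalgebra (rreg_isMult (𝟙 G)) i = invSub i := by
  ext F
  rw [mem_fixed_iff, mem_invSub]

end main

/-- Grosshans' transfer principle. -/
theorem main (k : Type u) [Field k] [IsAlgClosed k]
    (G : Over (Spec (CommRingCat.of k))) [GrpObj G] [IsAffine G.left] [Smooth G.hom]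
    (H : Over (Spec (CommRingCat.of k))) [GrpObj H] [Smooth H.hom] (i : H ⟶ G) [IsMonHom i]
    [IsClosedImmersion i.left]
    (hG : VecGrp.IsReductiveGrp k G) (thmA : VecGrp.ReductiveInvariantsFG k) :
    AGF.SubringFGOver k G (AGF.rTransInv i) ↔
      ∀ (A : Type u) [CommRing A] [Algebra k A] [Algebra.FiniteType k A] (ρ : VecGrp.GMod G A)
        (hρ : ρ.IsMult), Algebra.FiniteType k ↥(ρ.fixedSubalgebra hρ i) := by
  haveI : IsAffine H.left := isAffine_of_isAffineHom i.left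
  constructor
  · intro hfg A _ _ _ ρ hρ
    have hS : (invSub i).FG := (subringFGOver_iff G (invSub i)).1 hfg
    exact (Subalgebra.fg_iff_finiteType _).1 (fg_fixed_of_fg i thmA hG hS ρ hρ)
  · intro hb
    haveI : Algebra.FiniteType k Γ(G.left, ⊤) := finiteType_Γ G
    have h1 := hb Γ(G.left, ⊤) (rreg (𝟙 G)) (rreg_isMult (𝟙 G))
    have h2 : ((rreg (𝟙 G)).fixedSubalgebra (rreg_isMult (𝟙 G)) i).FG :=
      (Subalgebra.fg_iff_finiteType _).2 h1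
    rw [fixedSubalgebra_rreg] at h2
    exact (subringFGOver_iff G (invSub i)).2 h2

end Groth.Agent.H62.GrossV
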