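import Mathlib
import Groth.Prelude.Def_W4bk4grossh1223Act

/-!
# Invariants of a module over an algebra: `M^G` is a finite `A^G`-module

The trivial square zero extension `A ⊕ M` carries a rational action by algebra automorphisms; finite
generation of its invariants gives finite generation of `M^G` over `A^G`.
-/

universe u

open CategoryTheory MonObj AlgebraicGeometry
open scoped TensorProduct

namespace Groth.Agent.H62.GrossW

/-- The opposite action on a module over a commutative ring. -/
abbrev opMod (C : Type u) (L : Type u) [CommRing C] [AddCommGroup L] [Module C L] :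
    Module Cᵐᵒᵖ L :=
  Module.compHom L (RingEquiv.toOpposite C).symm.toRingHom

theorem isCentralScalar_opMod (C : Type u) (L : Type u) [CommRing C] [AddCommGroup L]
    [Module C L] : @IsCentralScalar C L _ (opMod C L).toSMul := by
  letI := opMod C L
  exact ⟨fun _ _ => rfl⟩

attribute [local instance] opMod isCentralScalar_opMod

section lin

variable (k : Type u) [Field k] (A : Type u) [CommRing A] [Algebra k A]
  (M : Type u) [AddCommGroup M] [Module A M] [Module k M] [IsScalarTower k A M]

noncomputable def inlL : A →ₗ[k] TrivSqZeroExt A M where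
  toFun := TrivSqZeroExt.inl
  map_add' := fun a b => by ext <;> simp
  map_smul' := fun c a => by ext <;> simp

noncomputable def inrL : M →ₗ[k] TrivSqZeroExt A M where
  toFun := TrivSqZeroExt.inr
  map_add' := fun a b => by ext <;> simp
  map_smul' := fun c a => by ext <;> simp

noncomputable def fstL : TrivSqZeroExt A M →ₗ[k] A where
  toFun := TrivSqZeroExt.fst
  map_add' := fun a b => by simp
  map_smul' := fun c a => by simp

noncomputable def sndL : TrivSqZeroExt A M →ₗ[k] M where
  toFun := TrivSqZeroExt.snd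
  map_add' := fun a b => by simp
  map_smul' := fun c a => by simp

variable (B : Type u) [CommRing B] [Algebra k B]

noncomputable def PhiA : B ⊗[k] A →ₗ[B] B ⊗[k] TrivSqZeroExt A M := (inlL k A M).baseChange B
noncomputable def PhiM : B ⊗[k] M →ₗ[B] B ⊗[k] TrivSqZeroExt A M := (inrL k A M).baseChange B
noncomputable def PiA : B ⊗[k] TrivSqZeroExt A M →ₗ[B] B ⊗[k] A := (fstL k A M).baseChange B
noncomputable def PiM : B ⊗[k] TrivSqZeroExt A M →ₗ[B] B ⊗[k] M := (sndL k A M).baseChange B

variable {k A M B}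

theorem PhiA_tmul (b : B) (a : A) :
    PhiA k A M B (b ⊗ₜ[k] a) = b ⊗ₜ[k] (TrivSqZeroExt.inl a : TrivSqZeroExt A M) := rfl

theorem PhiM_tmul (b : B) (m : M) :
    PhiM k A M B (b ⊗ₜ[k] m) = b ⊗ₜ[k] (TrivSqZeroExt.inr m : TrivSqZeroExt A M) := rfl

theorem PiA_tmul (b : B) (r : TrivSqZeroExt A M) : PiA k A M B (b ⊗ₜ[k] r) = b ⊗ₜ[k] r.fst := rfl

theorem PiM_tmul (b : B) (r : TrivSqZeroExt A M) : PiM k A M B (b ⊗ₜ[k] r) = b ⊗ₜ[k] r.snd := rfl

theorem PiA_PhiA (x : B ⊗[k] A) : PiA k A M B (PhiA k A M B x) = x := by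
  induction x using TensorProduct.induction_on with
  | zero => simp
  | tmul b a => rw [PhiA_tmul, PiA_tmul, TrivSqZeroExt.fst_inl]
  | add x y hx hy => rw [map_add, map_add, hx, hy]

theorem PiM_PhiA (x : B ⊗[k] A) : PiM k A M B (PhiA k A M B x) = 0 := by
  induction x using TensorProduct.induction_on with
  | zero => simp
  | tmul b a => rw [PhiA_tmul, PiM_tmul, TrivSqZeroExt.snd_inl, TensorProduct.tmul_zero]
  | add x y hx hy => rw [map_add, map_add, hx, hy, add_zero]

theorem PiA_PhiM (x : B ⊗[k] M) : PiA k A M B (PhiM k A M B x) = 0 := by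
  induction x using TensorProduct.induction_on with
  | zero => simp
  | tmul b a => rw [PhiM_tmul, PiA_tmul, TrivSqZeroExt.fst_inr, TensorProduct.tmul_zero]
  | add x y hx hy => rw [map_add, map_add, hx, hy, add_zero]

theorem PiM_PhiM (x : B ⊗[k] M) : PiM k A M B (PhiM k A M B x) = x := by
  induction x using TensorProduct.induction_on with
  | zero => simp
  | tmul b a => rw [PhiM_tmul, PiM_tmul, TrivSqZeroExt.snd_inr]
  | add x y hx hy => rw [map_add, map_add, hx, hy]

theorem decomp (z : B ⊗[k] TrivSqZeroExt A M) :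
    PhiA k A M B (PiA k A M B z) + PhiM k A M B (PiM k A M B z) = z := by
  induction z using TensorProduct.induction_on with
  | zero => simp
  | tmul b r =>
    rw [PiA_tmul, PiM_tmul, PhiA_tmul, PhiM_tmul, ← TensorProduct.tmul_add,
      TrivSqZeroExt.inl_fst_add_inr_snd_eq]
  | add x y hx hy =>
    rw [map_add, map_add, map_add, map_add, add_add_add_comm, hx, hy]

theorem PiA_add (a : B ⊗[k] A) (b : B ⊗[k] M) :
    PiA k A M B (PhiA k A M B a + PhiM k A M B b) = a := by
  rw [map_add, PiA_PhiA, PiA_PhiM, add_zero]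

theorem PiM_add (a : B ⊗[k] A) (b : B ⊗[k] M) :
    PiM k A M B (PhiA k A M B a + PhiM k A M B b) = b := by
  rw [map_add, PiM_PhiA, PiM_PhiM, zero_add]

theorem PhiA_one : PhiA k A M B 1 = 1 := by
  rw [Algebra.TensorProduct.one_def, PhiA_tmul, TrivSqZeroExt.inl_one, Algebra.TensorProduct.one_def]

theorem PhiA_mul (x y : B ⊗[k] A) :
    PhiA k A M B (x * y) = PhiA k A M B x * PhiA k A M B y := by
  induction x using TensorProduct.induction_on with
  | zero => simp
  | tmul b a =>
    induction y using TensorProduct.induction_on with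
    | zero => simp
    | tmul b' a' =>
      rw [Algebra.TensorProduct.tmul_mul_tmul, PhiA_tmul, PhiA_tmul, PhiA_tmul,
        Algebra.TensorProduct.tmul_mul_tmul, TrivSqZeroExt.inl_mul]
    | add y y' hy hy' => rw [mul_add, map_add, map_add, mul_add, hy, hy']
  | add x x' hx hx' => rw [add_mul, map_add, map_add, add_mul, hx, hx']

theorem PhiA_mul_PhiM (x : B ⊗[k] A) (w : B ⊗[k] M) :
    PhiA k A M B x * PhiM k A M B w = PhiM k A M B (VecGrp.GMod.smulW k A M B x w) := by
  induction x using TensorProduct.induction_on with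
  | zero => simp
  | tmul b a =>
    induction w using TensorProduct.induction_on with
    | zero => simp
    | tmul b' m =>
      rw [PhiA_tmul, PhiM_tmul, Algebra.TensorProduct.tmul_mul_tmul, TrivSqZeroExt.inl_mul_inr]
      rfl
    | add y y' hy hy' => rw [map_add, mul_add, map_add, map_add, hy, hy']
  | add x x' hx hx' => rw [map_add, add_mul, map_add, LinearMap.add_apply, map_add, hx, hx']

theorem PhiM_mul_PhiM (v w : B ⊗[k] M) : PhiM k A M B v * PhiM k A M B w = 0 := by
  induction v using TensorProduct.induction_on with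
  | zero => simp
  | tmul b m =>
    induction w using TensorProduct.induction_on with
    | zero => simp
    | tmul b' m' =>
      rw [PhiM_tmul, PhiM_tmul, Algebra.TensorProduct.tmul_mul_tmul, TrivSqZeroExt.inr_mul_inr,
        TensorProduct.tmul_zero]
    | add y y' hy hy' => rw [map_add, mul_add, hy, hy', add_zero]
  | add x x' hx hx' => rw [map_add, add_mul, hx, hx', add_zero]

theorem Wmap_baseChange {N N' : Type u} [AddCommGroup N] [Module k N] [AddCommGroup N']
    [Module k N'] {B' : Type u} [CommRing B'] [Algebra k B'] (φ : B →ₐ[k] B') (f : N →ₗ[k] N')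
    (x : B ⊗[k] N) :
    VecGrp.Wmap φ (f.baseChange B x) = f.baseChange B' (VecGrp.Wmap φ x) := by
  induction x using TensorProduct.induction_on with
  | zero => simp
  | tmul b a => rfl
  | add x y hx hy => rw [map_add, map_add, map_add, map_add, hx, hy]

end lin

section act

variable {k : Type u} [Field k] {G : Over (Spec (CommRingCat.of k))} [GrpObj G]
  {A : Type u} [CommRing A] [Algebra k A]
  {M : Type u} [AddCommGroup M] [Module A M] [Module k M] [IsScalarTower k A M]
  (ρA : VecGrp.GMod G A) (ρM : VecGrp.GMod G M)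
  (B : Type u) [CommRing B] [Algebra k B]

/-- the action on `B ⊗ (A ⊕ M)`. -/
noncomputable def act (g : VecGrp.pt k B ⟶ G) : Module.End B (B ⊗[k] TrivSqZeroExt A M) :=
  (PhiA k A M B).comp ((ρA.ρ B g).toLinearMap.comp (PiA k A M B)) +
    (PhiM k A M B).comp ((ρM.ρ B g).toLinearMap.comp (PiM k A M B))

variable {B}

theorem act_apply (g : VecGrp.pt k B ⟶ G) (z : B ⊗[k] TrivSqZeroExt A M) :
    act ρA ρM B g z = PhiA k A M B (ρA.ρ B g (PiA k A M B z)) +
      PhiM k A M B (ρM.ρ B g (PiM k A M B z)) := rfl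

theorem act_one : act ρA ρM B (1 : VecGrp.pt k B ⟶ G) = 1 := by
  apply LinearMap.ext
  intro z
  rw [act_apply, map_one, map_one]
  exact decomp z

theorem act_mul (g g' : VecGrp.pt k B ⟶ G) :
    act ρA ρM B (g * g') = act ρA ρM B g * act ρA ρM B g' := by
  apply LinearMap.ext
  intro z
  rw [Module.End.mul_apply, act_apply, act_apply, act_apply, PiA_add, PiM_add, map_mul, map_mul]
  rfl

variable (B)

/-- the action as a monoid homomorphism. -/
noncomputable def actHom : (VecGrp.pt k B ⟶ G) →* Module.End B (B ⊗[k] TrivSqZeroExt A M) where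
  toFun := act ρA ρM B
  map_one' := act_one ρA ρM
  map_mul' := act_mul ρA ρM

variable {B}

theorem act_nat {B' : Type u} [CommRing B'] [Algebra k B'] (φ : B →ₐ[k] B')
    (g : VecGrp.pt k B ⟶ G) (z : B ⊗[k] TrivSqZeroExt A M) :
    VecGrp.Wmap φ (act ρA ρM B g z) = act ρA ρM B' (VecGrp.ptMap φ ≫ g) (VecGrp.Wmap φ z) := by
  rw [act_apply, act_apply, map_add]
  congr 1
  · change VecGrp.Wmap φ ((inlL k A M).baseChange B _) = (inlL k A M).baseChange B' _
    rw [Wmap_baseChange, ρA.naturality]
    congr 2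
    exact Wmap_baseChange φ (fstL k A M) z
  · change VecGrp.Wmap φ ((inrL k A M).baseChange B _) = (inrL k A M).baseChange B' _
    rw [Wmap_baseChange, ρM.naturality]
    congr 2
    exact Wmap_baseChange φ (sndL k A M) z

/-- the rational action on the trivial square zero extension. -/
noncomputable def sigma : VecGrp.GMod G (TrivSqZeroExt A M) where
  ρ B _ _ := (LinearMap.GeneralLinearGroup.generalLinearEquiv B
      (B ⊗[k] TrivSqZeroExt A M)).toMonoidHom.comp ((actHom ρA ρM B).toHomUnits)
  naturality {B B'} _ _ _ _ φ g z := act_nat ρA ρM φ g z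

theorem sigma_apply (g : VecGrp.pt k B ⟶ G) (z : B ⊗[k] TrivSqZeroExt A M) :
    (sigma ρA ρM).ρ B g z = act ρA ρM B g z := rfl

theorem sigma_isMult (hρ : ρA.IsMult) (hc : VecGrp.GMod.IsCompat ρA ρM) :
    (sigma ρA ρM).IsMult := by
  intro B _ _ g
  constructor
  · intro z z'
    rw [sigma_apply, sigma_apply, sigma_apply]
    have hz := decomp (k := k) (A := A) (M := M) z
    have hz' := decomp (k := k) (A := A) (M := M) z'
    set x := PiA k A M B z
    set w := PiM k A M B z
    set x' := PiA k A M B z'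
    set w' := PiM k A M B z'
    have hprod : z * z' = PhiA k A M B (x * x') +
        PhiM k A M B (VecGrp.GMod.smulW k A M B x w' + VecGrp.GMod.smulW k A M B x' w) := by
      rw [← hz, ← hz', add_mul, mul_add, mul_add, PhiM_mul_PhiM, add_zero, ← PhiA_mul,
        PhiA_mul_PhiM, mul_comm (PhiM k A M B w) (PhiA k A M B x'), PhiA_mul_PhiM, map_add,
        add_assoc]
    have e1 : act ρA ρM B g z = PhiA k A M B (ρA.ρ B g x) + PhiM k A M B (ρM.ρ B g w) := rfl
    have e2 : act ρA ρM B g z' = PhiA k A M B (ρA.ρ B g x') + PhiM k A M B (ρM.ρ B g w') := rfl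
    rw [e1, e2, hprod, act_apply, PiA_add, PiM_add, (hρ B g).1, map_add, hc, hc, add_mul, mul_add,
      mul_add, PhiM_mul_PhiM,
      add_zero, ← PhiA_mul, PhiA_mul_PhiM,
      mul_comm (PhiM k A M B (ρM.ρ B g w)) (PhiA k A M B (ρA.ρ B g x')), PhiA_mul_PhiM, map_add,
      add_assoc]
  · rw [sigma_apply, act_apply]
    have h1 : (1 : B ⊗[k] TrivSqZeroExt A M) = PhiA k A M B 1 := PhiA_one.symm
    rw [h1, PiA_PhiA, PiM_PhiA, map_zero, map_zero, add_zero, (hρ B g).2]

theorem fst_mem_of_fixed {r : TrivSqZeroExt A M} (hr : r ∈ (sigma ρA ρM).fixedUnder (𝟙 G))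
    (B : Type u) [CommRing B] [Algebra k B] (g : VecGrp.pt k B ⟶ G) :
    ρA.ρ B (g ≫ 𝟙 G) ((1 : B) ⊗ₜ[k] r.fst) = (1 : B) ⊗ₜ[k] r.fst := by
  have h := hr B g
  rw [sigma_apply, act_apply] at h
  have h2 := congrArg (PiA k A M B) h
  rw [map_add, PiA_PhiA, PiA_PhiM, add_zero, PiA_tmul] at h2
  exact h2

theorem snd_mem_of_fixed {r : TrivSqZeroExt A M} (hr : r ∈ (sigma ρA ρM).fixedUnder (𝟙 G)) :
    r.snd ∈ ρM.fixedUnder (𝟙 G) := by
  intro B _ _ g
  have h := hr B g
  rw [sigma_apply, act_apply] at h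
  have h2 := congrArg (PiM k A M B) h
  rw [map_add, PiM_PhiA, PiM_PhiM, zero_add, PiM_tmul] at h2
  exact h2

theorem inr_mem_fixed {m : M} (hm : m ∈ ρM.fixedUnder (𝟙 G)) :
    (TrivSqZeroExt.inr m : TrivSqZeroExt A M) ∈ (sigma ρA ρM).fixedUnder (𝟙 G) := by
  intro B _ _ g
  rw [sigma_apply, act_apply, PiA_tmul, PiM_tmul, TrivSqZeroExt.fst_inr, TrivSqZeroExt.snd_inr,
    TensorProduct.tmul_zero, map_zero, map_zero, zero_add, hm B g, PhiM_tmul]

end act

section fin

variable {k : Type u} [Field k] {A : Type u} [CommRing A] [Algebra k A]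
  {M : Type u} [AddCommGroup M] [Module A M] [Module k M] [IsScalarTower k A M]

theorem finiteType_tsze [Algebra.FiniteType k A] [Module.Finite A M] :
    Algebra.FiniteType k (TrivSqZeroExt A M) := by
  haveI : IsScalarTower k A (TrivSqZeroExt A M) := IsScalarTower.of_algebraMap_eq (fun c => rfl)
  let f : (A × M) →ₗ[A] TrivSqZeroExt A M :=
    (Algebra.linearMap A (TrivSqZeroExt A M)).coprod (TrivSqZeroExt.inrHom A M)
  have hf : Function.Surjective f := by
    intro r
    refine ⟨(r.fst, r.snd), ?_⟩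
    change algebraMap A (TrivSqZeroExt A M) r.fst + TrivSqZeroExt.inr r.snd = r
    exact TrivSqZeroExt.inl_fst_add_inr_snd_eq r
  haveI : Module.Finite A (TrivSqZeroExt A M) := Module.Finite.of_surjective f hf
  exact Algebra.FiniteType.trans (inferInstance : Algebra.FiniteType k A)
    (inferInstance : Algebra.FiniteType A (TrivSqZeroExt A M))

end fin

/-- `M^G` is a finitely generated `A^G`-module. -/
theorem main (k : Type u) [Field k] [IsAlgClosed k]
    (G : Over (Spec (CommRingCat.of k))) [GrpObj G] (hG : VecGrp.IsReductiveGrp k G)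
    (thmA : VecGrp.ReductiveInvariantsFG k)
    (A : Type u) [CommRing A] [Algebra k A] [Algebra.FiniteType k A] (ρA : VecGrp.GMod G A)
    (hρ : ρA.IsMult)
    (M : Type u) [AddCommGroup M] [Module A M] [Module k M] [IsScalarTower k A M]
    [Module.Finite A M]
    (ρM : VecGrp.GMod G M) (hc : VecGrp.GMod.IsCompat ρA ρM) :
    ∃ s : Finset M, (↑s : Set M) ⊆ ρM.fixedUnder (𝟙 G) ∧
      ρM.fixedUnder (𝟙 G) ≤
        (Submodule.span ↥(ρA.fixedSubalgebra hρ (𝟙 G)) (↑s : Set M)).restrictScalars k := by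
  classical
  obtain ⟨s, hs1, hs2⟩ := thmA G hG (TrivSqZeroExt A M) (sigma ρA ρM) (sigma_isMult ρA ρM hρ hc)
    finiteType_tsze
  refine ⟨s.image TrivSqZeroExt.snd, ?_, ?_⟩
  · rw [Finset.coe_image]
    rintro _ ⟨r, hr, rfl⟩
    exact snd_mem_of_fixed ρA ρM (hs1 hr)
  · intro m hm
    have h1 : (TrivSqZeroExt.inr m : TrivSqZeroExt A M) ∈
        Algebra.adjoin k (↑s : Set (TrivSqZeroExt A M)) := hs2 (inr_mem_fixed ρA ρM hm)
    have key : ∀ r : TrivSqZeroExt A M, r ∈ Algebra.adjoin k (↑s : Set (TrivSqZeroExt A M)) →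
        r.fst ∈ ρA.fixedSubalgebra hρ (𝟙 G) ∧
          r.snd ∈ Submodule.span ↥(ρA.fixedSubalgebra hρ (𝟙 G))
            (↑(s.image TrivSqZeroExt.snd) : Set M) := by
      intro r hr
      induction hr using Algebra.adjoin_induction with
      | mem r hr =>
        refine ⟨fun B _ _ g => fst_mem_of_fixed ρA ρM (hs1 hr) B g, ?_⟩
        apply Submodule.subset_span
        rw [Finset.coe_image]
        exact ⟨r, hr, rfl⟩
      | algebraMap c =>
        refine ⟨?_, ?_⟩
        · change algebraMap k A c ∈ _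
          exact Subalgebra.algebraMap_mem _ c
        · change (0 : M) ∈ _
          exact Submodule.zero_mem _
      | add x y _ _ hx hy =>
        exact ⟨by rw [TrivSqZeroExt.fst_add]; exact add_mem hx.1 hy.1,
          by rw [TrivSqZeroExt.snd_add]; exact add_mem hx.2 hy.2⟩
      | mul x y _ _ hx hy =>
        refine ⟨by rw [TrivSqZeroExt.fst_mul]; exact mul_mem hx.1 hy.1, ?_⟩
        rw [TrivSqZeroExt.snd_mul]
        apply add_mem
        · exact Submodule.smul_mem _ (⟨x.fst, hx.1⟩ : ↥(ρA.fixedSubalgebra hρ (𝟙 G))) hy.2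
        · exact Submodule.smul_mem _ (⟨y.fst, hy.1⟩ : ↥(ρA.fixedSubalgebra hρ (𝟙 G))) hx.2
    have := (key _ h1).2
    rw [TrivSqZeroExt.snd_inr] at this
    exact this

end Groth.Agent.H62.GrossW
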