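import Groth.Agent.H62.GrossR
import Groth.Agent.H73.GmH1_GP
import Groth.Agent.H43.GaGmFn
import Groth.Agent.H51.Gr11200_BAS

/-!
# A closed subgroup without non-trivial characters is observable
-/

universe u

open CategoryTheory MonoidalCategory CartesianMonoidalCategory MonObj GrpObj AlgebraicGeometry
open scoped TensorProduct

namespace Groth.Agent.H62.GrossX

open Groth.Agent.H62.GrossA Groth.Agent.H62.GrossC Groth.Agent.H62.GrossD Groth.Agent.H62.GrossE
  Groth.Agent.H62.GrossR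

attribute [local instance] Groth.Agent.H62.GrossA.algΓ

section character

variable {k : Type u} [Field k]

theorem comp_mul_of_mul {H M : Over (Spec (CommRingCat.of k))} [GrpObj H] [GrpObj M] (χ : H ⟶ M)
    (hχ : μ[H] ≫ χ = (fst H H ≫ χ) * (snd H H ≫ χ)) {X : Over (Spec (CommRingCat.of k))}
    (f g : X ⟶ H) : (f * g) ≫ χ = (f ≫ χ) * (g ≫ χ) := by
  rw [Hom.mul_def, Category.assoc, hχ, MonObj.comp_mul, ← Category.assoc, ← Category.assoc,
    lift_fst, lift_snd]

theorem isMonHom_of_mul {H M : Over (Spec (CommRingCat.of k))} [GrpObj H] [GrpObj M] (χ : H ⟶ M)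
    (hχ : μ[H] ≫ χ = (fst H H ≫ χ) * (snd H H ≫ χ)) : IsMonHom χ := by
  have h1 : ((1 : 𝟙_ (Over (Spec (CommRingCat.of k))) ⟶ H) ≫ χ) = 1 := by
    have h := comp_mul_of_mul χ hχ (1 : 𝟙_ (Over (Spec (CommRingCat.of k))) ⟶ H) 1
    rw [_root_.mul_one] at h
    exact (mul_eq_left.1 h.symm)
  have e1 : ∀ (N : Over (Spec (CommRingCat.of k))) [GrpObj N],
      (1 : 𝟙_ (Over (Spec (CommRingCat.of k))) ⟶ N) = η[N] := by
    intro N _
    rw [Hom.one_def, toUnit_unique (toUnit _) (𝟙 _), Category.id_comp]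
  refine ⟨?_, ?_⟩
  · rw [← e1 H, ← e1 M]
    exact h1
  · have h2 : (χ ⊗ₘ χ) = lift (fst H H ≫ χ) (snd H H ≫ χ) := by
      apply CartesianMonoidalCategory.hom_ext
      · rw [tensorHom_fst, lift_fst]
      · rw [tensorHom_snd, lift_snd]
    rw [hχ, h2, Hom.mul_def]

theorem exists_character (H : Over (Spec (CommRingCat.of k))) [GrpObj H] [IsAffine H.left]
    (u : Γ(H.left, ⊤))
    (hmul : ∀ (B : Type u) [CommRing B] [Algebra k B] (h h' : VecGrp.pt k B ⟶ H),
      ev (h * h') u = ev h u * ev h' u)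
    (hone : ∀ (B : Type u) [CommRing B] [Algebra k B], ev (1 : VecGrp.pt k B ⟶ H) u = 1) :
    ∃ χ : H ⟶ Red.Gm (Spec (CommRingCat.of k)), IsMonHom χ ∧ Red.gmFn χ = u := by
  have h1 : u * pullA ι[H] u = 1 := by
    have h2 := ev_uP (X := H) (u * pullA ι[H] u)
    rw [← h2, map_mul, ev_pullA, ← Hom.inv_def, ← hmul, _root_.mul_inv_cancel, hone]
  have hunit : IsUnit u := IsUnit.of_mul_eq_one _ h1
  obtain ⟨χ, hχ⟩ := Groth.Agent.H73.GmH1_GP.exists_gm_of_unit
    (S := Spec (CommRingCat.of k)) (T := H) u hunit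
  refine ⟨χ, ?_, hχ⟩
  apply isMonHom_of_mul
  apply Groth.Agent.S13371.gm_ext
  rw [Groth.Agent.H43.GaGmFn.gmFn_mul, Groth.Agent.S13371.gmFn_comp,
    Groth.Agent.S13371.gmFn_comp, Groth.Agent.S13371.gmFn_comp, hχ]
  haveI : IsAffine (H ⊗ H).left := isAffine_prod H H
  change pullA μ[H] u = pullA (fst H H) u * pullA (snd H H) u
  rw [← ev_uP (X := H ⊗ H) (pullA μ[H] u),
    ← ev_uP (X := H ⊗ H) (pullA (fst H H) u * pullA (snd H H) u), map_mul, ev_pullA, ev_pullA,
    ev_pullA, ← hmul]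
  congr 1
  rw [Hom.mul_def, lift_comp_fst_snd]

end character

section cramer

theorem cols_eq_zero_of_minors {K : Type*} [Field K] {d e : ℕ}
    (N : Matrix (Fin d) (Fin (d + e)) K)
    (h0 : (N.submatrix id (Fin.castAdd e)).det = 1)
    (h1 : ∀ (a : Fin d) (b : Fin e),
      (N.submatrix id (Function.update (Fin.castAdd e) a (Fin.natAdd d b))).det = 0) :
    ∀ (j : Fin d) (b : Fin e), N j (Fin.natAdd d b) = 0 := by
  intro j b
  have hupd : ∀ a, (N.submatrix id (Fin.castAdd e)).updateCol a (fun j => N j (Fin.natAdd d b)) =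
      N.submatrix id (Function.update (Fin.castAdd e) a (Fin.natAdd d b)) := by
    intro a
    ext r c
    rw [Matrix.updateCol_apply, Matrix.submatrix_apply, Matrix.submatrix_apply]
    by_cases hc : c = a
    · subst hc
      rw [if_pos rfl, Function.update_self]
      rfl
    · rw [if_neg hc, Function.update_of_ne hc]
  have hcr : Matrix.cramer (N.submatrix id (Fin.castAdd e)) (fun j => N j (Fin.natAdd d b)) = 0 := by
    funext a
    rw [Matrix.cramer_apply, hupd, h1]
    rfl
  have h2 := Matrix.mulVec_cramer (N.submatrix id (Fin.castAdd e)) (fun j => N j (Fin.natAdd d b))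
  rw [hcr, Matrix.mulVec_zero, h0, one_smul] at h2
  exact (congrFun h2 j).symm

end cramer

section block

variable {k : Type u} [Field k] [IsAlgClosed k]
  {G H : Over (Spec (CommRingCat.of k))} [GrpObj G] [GrpObj H] [IsAffine G.left] [Smooth G.hom]
  (i : H ⟶ G) [IsMonHom i]
  {d e : ℕ} (w : Fin (d + e) → Γ(G.left, ⊤)) (y : Fin (d + e) → (VecGrp.pt k k ⟶ G))
  (hdet : (Mmat w y).det ≠ 0)
  (hst : ∀ (x : VecGrp.pt k k ⟶ G) (j : Fin (d + e)), ∃ c : Fin (d + e) → k,
    pullA (lT x) (w j) = ∑ l, c l • w l)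
  (hI : ∀ a : Fin d, pullA i (w (Fin.castAdd e a)) = 0)
  (z : Fin e → (VecGrp.pt k k ⟶ H))
  (hz : (Matrix.of fun (b m : Fin e) => ev (z m ≫ i) (w (Fin.natAdd d b))).det ≠ 0)

include hdet hst hI hz in
/-- the matrix of a point of `H` is block triangular. -/
theorem vanish {B : Type u} [CommRing B] [Algebra k B] (h : VecGrp.pt k B ⟶ H) (a : Fin d)
    (b : Fin e) : ev (h ≫ i) (dmat w y (Fin.castAdd e a) (Fin.natAdd d b)) = 0 := by
  let c : Fin e → B := fun b => ev (h ≫ i) (dmat w y (Fin.castAdd e a) (Fin.natAdd d b))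
  let M : Matrix (Fin e) (Fin e) k := Matrix.of fun (b m : Fin e) => ev (z m ≫ i) (w (Fin.natAdd d b))
  let M' : Matrix (Fin e) (Fin e) B := M.map (algebraMap k B)
  have hunit : IsUnit M'.det := by
    have h1 : M'.det = algebraMap k B M.det := by
      change ((algebraMap k B).mapMatrix M).det = _
      rw [← RingHom.map_det]
    rw [h1]
    exact (isUnit_iff_ne_zero.2 hz).map (algebraMap k B)
  have hzero : Matrix.vecMul c M' = 0 := by
    funext m
    let zB : VecGrp.pt k B ⟶ H := VecGrp.ptMap (Algebra.ofId k B) ≫ z m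
    have h1 := star_pts w y hdet hst (h ≫ i) (zB ≫ i) (Fin.castAdd e a)
    have hL : ev ((h ≫ i) * (zB ≫ i)) (w (Fin.castAdd e a)) = 0 := by
      rw [← MonObj.mul_comp, ← ev_pullA, hI, map_zero]
    rw [hL, Fin.sum_univ_add] at h1
    have h2 : ∀ a' : Fin d, ev (h ≫ i) (dmat w y (Fin.castAdd e a) (Fin.castAdd e a')) *
        ev (zB ≫ i) (w (Fin.castAdd e a')) = 0 := by
      intro a'
      rw [← ev_pullA zB i, hI, map_zero, mul_zero]
    rw [Finset.sum_congr rfl fun a' _ => h2 a', Finset.sum_const_zero, zero_add] at h1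
    change ∑ b, c b * M' b m = 0
    rw [h1]
    refine Finset.sum_congr rfl fun b _ => ?_
    change c b * algebraMap k B (ev (z m ≫ i) (w (Fin.natAdd d b))) =
      c b * ev (zB ≫ i) (w (Fin.natAdd d b))
    congr 1
    change _ = ev ((VecGrp.ptMap (Algebra.ofId k B) ≫ z m) ≫ i) (w (Fin.natAdd d b))
    rw [Category.assoc, ev_ptMap]
    rfl
  have hc : c = Matrix.vecMul (Matrix.vecMul c M') M'⁻¹ := by
    rw [Matrix.vecMul_vecMul, Matrix.mul_nonsing_inv _ hunit, Matrix.vecMul_one]
  have hc0 : c = 0 := by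
    rw [hc, hzero, Matrix.zero_vecMul]
  exact congrFun hc0 b

/-- the upper left block at a point of `H`. -/
noncomputable def Dp {B : Type u} [CommRing B] [Algebra k B] (h : VecGrp.pt k B ⟶ H) :
    Matrix (Fin d) (Fin d) B :=
  Matrix.of fun a a' => ev (h ≫ i) (dmat w y (Fin.castAdd e a) (Fin.castAdd e a'))

include hdet hst hI hz in
theorem block_mul {B : Type u} [CommRing B] [Algebra k B] (h : VecGrp.pt k B ⟶ H)
    (x : VecGrp.pt k B ⟶ G) (a : Fin d) (l : Fin (d + e)) :
    ev ((h ≫ i) * x) (dmat w y (Fin.castAdd e a) l) =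
      ∑ a', Dp i w y h a a' * ev x (dmat w y (Fin.castAdd e a') l) := by
  have h1 := congrFun (congrFun (dmat_mul w y hdet hst B (h ≫ i) x) (Fin.castAdd e a)) l
  rw [Matrix.map_apply, Matrix.mul_apply, Fin.sum_univ_add] at h1
  simp only [Matrix.map_apply] at h1
  rw [h1]
  have h2 : ∀ b : Fin e, ev (h ≫ i) (dmat w y (Fin.castAdd e a) (Fin.natAdd d b)) *
      ev x (dmat w y (Fin.natAdd d b) l) = 0 := by
    intro b
    rw [vanish i w y hdet hst hI z hz h a b, zero_mul]
  rw [Finset.sum_congr rfl fun b _ => h2 b, Finset.sum_const_zero, add_zero]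
  rfl

include hdet hst hI hz in
theorem Dp_mul {B : Type u} [CommRing B] [Algebra k B] (h h' : VecGrp.pt k B ⟶ H) :
    Dp i w y (h * h') = Dp i w y h * Dp i w y h' := by
  ext a a'
  rw [Matrix.mul_apply]
  change ev ((h * h') ≫ i) _ = _
  rw [MonObj.mul_comp, block_mul i w y hdet hst hI z hz]
  rfl

include hdet in
theorem Dp_one {B : Type u} [CommRing B] [Algebra k B] :
    Dp i w y (1 : VecGrp.pt k B ⟶ H) = 1 := by
  ext a a'
  change ev ((1 : VecGrp.pt k B ⟶ H) ≫ i) _ = _
  rw [MonObj.one_comp]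
  have h1 := congrFun (congrFun (dmat_one w y hdet B) (Fin.castAdd e a)) (Fin.castAdd e a')
  rw [Matrix.map_apply] at h1
  rw [h1, Matrix.one_apply, Matrix.one_apply]
  by_cases haa : a = a'
  · subst haa
    rw [if_pos rfl, if_pos rfl]
  · rw [if_neg haa, if_neg (fun hh => haa (Fin.castAdd_injective d e hh))]

/-- the determinant of the upper left block, a function on `H`. -/
noncomputable def uH : Γ(H.left, ⊤) :=
  (Matrix.of fun (a a' : Fin d) => pullA i (dmat w y (Fin.castAdd e a) (Fin.castAdd e a'))).det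

theorem ev_uH {B : Type u} [CommRing B] [Algebra k B] (h : VecGrp.pt k B ⟶ H) :
    ev h (uH i w y) = (Dp i w y h).det := by
  rw [uH, AlgHom.map_det]
  congr 1

/-- the minors of the first `d` rows. -/
noncomputable def minor (S : Fin d → Fin (d + e)) : Γ(G.left, ⊤) :=
  (Matrix.of fun (a c : Fin d) => dmat w y (Fin.castAdd e a) (S c)).det

theorem ev_minor {B : Type u} [CommRing B] [Algebra k B] (x : VecGrp.pt k B ⟶ G)
    (S : Fin d → Fin (d + e)) :
    ev x (minor w y S) =
      (Matrix.of fun (a c : Fin d) => ev x (dmat w y (Fin.castAdd e a) (S c))).det := by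
  rw [minor, AlgHom.map_det]
  rfl

include hdet hst hI hz in
theorem minor_left {B : Type u} [CommRing B] [Algebra k B] (h : VecGrp.pt k B ⟶ H)
    (x : VecGrp.pt k B ⟶ G) (S : Fin d → Fin (d + e)) :
    ev ((h ≫ i) * x) (minor w y S) = (Dp i w y h).det * ev x (minor w y S) := by
  rw [ev_minor, ev_minor, ← Matrix.det_mul]
  congr 1
  ext a c
  rw [Matrix.mul_apply]
  change ev ((h ≫ i) * x) _ = _
  rw [block_mul i w y hdet hst hI z hz]
  rfl

end block

section main

variable {k : Type u} [Field k] [IsAlgClosed k]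

theorem main (G : Over (Spec (CommRingCat.of k))) [GrpObj G] [IsAffine G.left] [Smooth G.hom]
    (H : Over (Spec (CommRingCat.of k))) [GrpObj H] [Smooth H.hom] (i : H ⟶ G) [IsMonHom i]
    [IsClosedImmersion i.left]
    (hχ : ∀ (χ : H ⟶ Red.Gm (Spec (CommRingCat.of k))), IsMonHom χ → χ = 1) :
    AGF.IsObservableIn k i := by
  classical
  haveI : IsAffine H.left := isAffine_of_isAffineHom i.left
  haveI := isReduced_of_smooth_field G
  haveI := isReduced_of_smooth_field H
  haveI : LocallyOfFiniteType G.hom := inferInstance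
  haveI : LocallyOfFiniteType H.hom := inferInstance
  have hsurj : Function.Surjective (pullA i) :=
    (IsClosedImmersion.isAffine_surjective_of_isAffine i.left).2
  haveI : Algebra.FiniteType k Γ(G.left, ⊤) := finiteType_Γ G
  haveI : IsNoetherianRing Γ(G.left, ⊤) := Algebra.FiniteType.isNoetherianRing k _
  obtain ⟨s, hs⟩ : (RingHom.ker (pullA i)).FG := IsNoetherian.noetherian _
  have hsI : ∀ f ∈ s, pullA i f = 0 := fun f hf => by
    have h1 : f ∈ RingHom.ker (pullA i) := by
      rw [← hs]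
      exact Ideal.subset_span hf
    exact h1
  obtain ⟨d, e, w, hli, hspan, hwI, hind, hU⟩ :=
    Groth.Agent.H51.Gr11200.exists_adapted_basis (Wsp s)
      ((RingHom.ker (pullA i)).restrictScalars k) (fg_Wsp s)
  have hwW : ∀ j, w j ∈ Wsp s := fun j => by
    rw [← hspan]
    exact Submodule.subset_span ⟨j, rfl⟩
  have hspan' : ∀ F ∈ Wsp s, ∃ c : Fin (d + e) → k, F = ∑ l, c l • w l := by
    intro F hF
    rw [← hspan] at hF
    obtain ⟨c, hc⟩ := (Submodule.mem_span_range_iff_exists_fun k).1 hF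
    exact ⟨c, hc.symm⟩
  have hst : ∀ (x : VecGrp.pt k k ⟶ G) (j : Fin (d + e)), ∃ c : Fin (d + e) → k,
      pullA (lT x) (w j) = ∑ l, c l • w l := fun x j => hspan' _ (lT_mem_Wsp (hwW j) x)
  obtain ⟨y, hdet⟩ := Groth.Agent.H57.GrossLin.exists_det_ne_zero (k := k) (O := Γ(G.left, ⊤))
    (P := VecGrp.pt k k ⟶ G) (fun p => (ev p).toLinearMap)
    (fun f hf => eq_of_forall_ev (fun p => by simpa using hf p)) (d + e) w hli
  have hdet' : (Mmat w y).det ≠ 0 := hdet
  have hI : ∀ a : Fin d, pullA i (w (Fin.castAdd e a)) = 0 := fun a => hwI a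
  have hlibar : LinearIndependent k (fun b : Fin e => pullA i (w (Fin.natAdd d b))) := by
    rw [Fintype.linearIndependent_iff]
    intro c hc
    have h1 : (∑ b, c b • w (Fin.natAdd d b)) ∈ (RingHom.ker (pullA i)).restrictScalars k := by
      change pullA i (∑ b, c b • w (Fin.natAdd d b)) = 0
      rw [map_sum]
      simp only [map_smul]
      exact hc
    intro b
    exact congrFun (hind c h1) b
  obtain ⟨z, hz⟩ := Groth.Agent.H57.GrossLin.exists_det_ne_zero (k := k) (O := Γ(H.left, ⊤))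
    (P := VecGrp.pt k k ⟶ H) (fun p => (ev p).toLinearMap)
    (fun f hf => eq_of_forall_ev (fun p => by simpa using hf p)) e
    (fun b : Fin e => pullA i (w (Fin.natAdd d b))) hlibar
  have hz' : (Matrix.of fun (b m : Fin e) => ev (z m ≫ i) (w (Fin.natAdd d b))).det ≠ 0 := by
    have h0 : (Matrix.of fun (b m : Fin e) => ev (z m ≫ i) (w (Fin.natAdd d b))) =
        Matrix.of fun (b m : Fin e) => (ev (z m)).toLinearMap (pullA i (w (Fin.natAdd d b))) := by
      ext b m
      exact (ev_pullA (z m) i _).symm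
    rw [h0]
    exact hz
  -- the character
  obtain ⟨χ, hχm, hχu⟩ := exists_character H (uH i w y)
    (fun B _ _ h h' => by
      rw [ev_uH, ev_uH, ev_uH, Dp_mul i w y hdet' hst hI z hz', Matrix.det_mul])
    (fun B _ _ => by rw [ev_uH, Dp_one i w y hdet', Matrix.det_one])
  have hu1 : uH i w y = 1 := by
    rw [← hχu, hχ χ hχm, Groth.Agent.H43.GaGmFn.gmFn_one]
  have hDp : ∀ (B : Type u) [CommRing B] [Algebra k B] (h : VecGrp.pt k B ⟶ H),
      (Dp i w y h).det = 1 := fun B _ _ h => by rw [← ev_uH, hu1, map_one]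
  -- invariance of the minors composed with inversion
  have hQ : ∀ S : Fin d → Fin (d + e), AGF.IsRTransInv i (pullA ι[G] (minor w y S)) := by
    intro S
    apply isRTransInv_of_pts
    intro B _ _ x t
    rw [ev_pullA, ev_pullA, ← Hom.inv_def, ← Hom.inv_def, _root_.mul_inv_rev, ← GrpObj.inv_comp,
      minor_left i w y hdet' hst hI z hz', hDp, _root_.one_mul]
  intro g hg
  have hgQ : ∀ S : Fin d → Fin (d + e),
      ev g⁻¹ (minor w y S) = ev (1 : VecGrp.pt k k ⟶ G) (minor w y S) := by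
    intro S
    have h1 := IsRTransInv.ev_mul (hg _ (hQ S)) (1 : VecGrp.pt k k ⟶ G) (𝟙 (VecGrp.pt k k))
    rw [Category.id_comp, _root_.one_mul, ev_pullA, ev_pullA, ← Hom.inv_def, ← Hom.inv_def,
      inv_one] at h1
    exact h1
  have hN1 : ∀ (a : Fin d) (l : Fin (d + e)),
      ev (1 : VecGrp.pt k k ⟶ G) (dmat w y (Fin.castAdd e a) l) =
        (1 : Matrix (Fin (d + e)) (Fin (d + e)) k) (Fin.castAdd e a) l := by
    intro a l
    have h1 := congrFun (congrFun (dmat_one w y hdet' k) (Fin.castAdd e a)) l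
    rw [Matrix.map_apply] at h1
    exact h1
  let N : Matrix (Fin d) (Fin (d + e)) k :=
    Matrix.of fun a l => ev g⁻¹ (dmat w y (Fin.castAdd e a) l)
  have h0 : (N.submatrix id (Fin.castAdd e)).det = 1 := by
    have e0 : N.submatrix id (Fin.castAdd e) =
        Matrix.of fun (a c : Fin d) => ev g⁻¹ (dmat w y (Fin.castAdd e a) (Fin.castAdd e c)) := rfl
    rw [e0, ← ev_minor, hgQ, ev_minor]
    have e1 : (Matrix.of fun (a c : Fin d) =>
        ev (1 : VecGrp.pt k k ⟶ G) (dmat w y (Fin.castAdd e a) (Fin.castAdd e c))) = 1 := by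
      ext a c
      rw [Matrix.of_apply, hN1, Matrix.one_apply, Matrix.one_apply]
      by_cases hac : a = c
      · subst hac
        rw [if_pos rfl, if_pos rfl]
      · rw [if_neg hac, if_neg (fun hh => hac (Fin.castAdd_injective d e hh))]
    rw [e1, Matrix.det_one]
  have h1 : ∀ (a : Fin d) (b : Fin e),
      (N.submatrix id (Function.update (Fin.castAdd e) a (Fin.natAdd d b))).det = 0 := by
    intro a b
    have e0 : N.submatrix id (Function.update (Fin.castAdd e) a (Fin.natAdd d b)) =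
        Matrix.of fun (a' c : Fin d) => ev g⁻¹ (dmat w y (Fin.castAdd e a')
          ((Function.update (Fin.castAdd e) a (Fin.natAdd d b)) c)) := rfl
    rw [e0, ← ev_minor, hgQ, ev_minor]
    apply Matrix.det_eq_zero_of_column_eq_zero a
    intro a'
    rw [Matrix.of_apply, Function.update_self, hN1, Matrix.one_apply, if_neg]
    intro hh
    have h2 := congrArg Fin.val hh
    rw [Fin.val_castAdd, Fin.val_natAdd] at h2
    have h3 := a'.isLt
    omega
  have hcols := cols_eq_zero_of_minors N h0 h1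
  have hw0 : ∀ a : Fin d, ev g⁻¹ (w (Fin.castAdd e a)) = 0 := by
    intro a
    have h2 := star_pts w y hdet' hst g⁻¹ (1 : VecGrp.pt k k ⟶ G) (Fin.castAdd e a)
    rw [_root_.mul_one, Fin.sum_univ_add] at h2
    rw [h2]
    have e1 : ∀ a' : Fin d, ev g⁻¹ (dmat w y (Fin.castAdd e a) (Fin.castAdd e a')) *
        ev (1 : VecGrp.pt k k ⟶ G) (w (Fin.castAdd e a')) = 0 := by
      intro a'
      have h3 : ev (1 : VecGrp.pt k k ⟶ G) (w (Fin.castAdd e a')) = 0 := by
        have h4 : (1 : VecGrp.pt k k ⟶ G) = (1 : VecGrp.pt k k ⟶ H) ≫ i :=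
          (MonObj.one_comp i).symm
        rw [h4, ← ev_pullA, hI, map_zero]
      rw [h3, mul_zero]
    have e2 : ∀ b : Fin e, ev g⁻¹ (dmat w y (Fin.castAdd e a) (Fin.natAdd d b)) *
        ev (1 : VecGrp.pt k k ⟶ G) (w (Fin.natAdd d b)) = 0 := by
      intro b
      have h3 : ev g⁻¹ (dmat w y (Fin.castAdd e a) (Fin.natAdd d b)) = 0 := hcols a b
      rw [h3, zero_mul]
    rw [Finset.sum_congr rfl fun a' _ => e1 a', Finset.sum_congr rfl fun b _ => e2 b,
      Finset.sum_const_zero, Finset.sum_const_zero, add_zero]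
  have hs0 : ∀ f ∈ s, ev g⁻¹ f = 0 := by
    intro f hf
    obtain ⟨c, hc⟩ := hU f ⟨mem_Wsp_self hf, hsI f hf⟩
    rw [hc, map_sum]
    simp only [map_smul, hw0, smul_zero, Finset.sum_const_zero]
  have hker : RingHom.ker (pullA i) ≤ RingHom.ker (ev g⁻¹) := by
    rw [← hs, Ideal.span_le]
    intro f hf
    exact hs0 f hf
  obtain ⟨y', hy'⟩ := factor_of_ker_le i hsurj g⁻¹ hker
  refine ⟨y'⁻¹, ?_⟩
  rw [GrpObj.inv_comp, hy', _root_.inv_inv]

end main

end Groth.Agent.H62.GrossX
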