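import Groth.Agent.H62.Reynolds2U
import Groth.Agent.H62.ChevalleyMod

/-!
# helper62: invariants of a coherent `G`-module are `m`-adically separated and complete

`A` a Noetherian comodule algebra over a linearly reductive `H`, `m` a `G`-stable maximal ideal, `A^G`
a complete Noetherian local ring, `M` a finite `(A, H)`-module.  Then on `M^G` the `m`-adic filtration
is separated and complete (`eq_zero_of_forall_mem`, `exists_limit`).
-/

set_option autoImplicit false
set_option linter.style.haveILetI false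
set_option linter.unusedSectionVars false

universe u v w w'
open TensorProduct IsLocalRing

namespace Groth.Agent.H62.InvComplete

variable {k : Type u} [Field k] {H : Type v} [CommRing H] [Bialgebra k H]
variable {A : Type w} [CommRing A] [Algebra k A] [HopfRep.Comod k H A] [GLin.IsCoactAlg k H A]
variable {M : Type w'} [AddCommGroup M] [Module k M] [Module A M] [IsScalarTower k A M]
  [HopfRep.Comod k H M] [TameAct.IsHopfMod k H A M]

theorem smul_mem_fixedPts {r : A} (hr : r ∈ GLin.invariants k H A) {x : M}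
    (hx : x ∈ HopfRep.fixedPts k H M) : r • x ∈ HopfRep.fixedPts k H M := by
  change HopfRep.Comod.coact (k := k) (A := H) (r • x) = (r • x) ⊗ₜ[k] (1 : H)
  rw [TameAct.IsHopfMod.coact_smul (k := k) (A := H), (GLin.mem_invariants_iff k H A r).mp hr,
    (H62.mem_fixedPts_iff x).mp hx, TameAct.hmSMul_tmul, mul_one]

variable (k H A M) in
/-- The invariants `M^G` as a module over the ring of invariants `A^G`. -/
def fixedSub : Submodule ↥(GLin.invariants k H A) M where
  carrier := HopfRep.fixedPts k H M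
  add_mem' := (HopfRep.fixedPts k H M).add_mem
  zero_mem' := (HopfRep.fixedPts k H M).zero_mem
  smul_mem' := fun r _ hx => smul_mem_fixedPts r.2 hx

theorem mem_fixedSub {x : M} : x ∈ fixedSub k H A M ↔ x ∈ HopfRep.fixedPts k H M := Iff.rfl

variable (k H M) in
/-- The filtration of `M^G` induced by the `m`-adic filtration of `M`. -/
def Fil (m : Ideal A) (n : ℕ) : Submodule ↥(GLin.invariants k H A) ↥(fixedSub k H A M) :=
  Submodule.comap (fixedSub k H A M).subtype
    ((m ^ n • ⊤ : Submodule A M).restrictScalars ↥(GLin.invariants k H A))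

theorem mem_Fil {m : Ideal A} {n : ℕ} {x : ↥(fixedSub k H A M)} :
    x ∈ Fil k H M m n ↔ (x : M) ∈ (m ^ n • ⊤ : Submodule A M) := Iff.rfl

theorem Fil_antitone (m : Ideal A) : Antitone (Fil k H M m) := fun _ _ hab _ hx =>
  Submodule.smul_mono_left (Ideal.pow_le_pow_right hab) hx

section Local

variable [IsLocalRing ↥(GLin.invariants k H A)]

/-- `m ∩ A^G` lies in the maximal ideal of `A^G`. -/
theorem mem_maximalIdeal_of_mem (m : Ideal A) [m.IsMaximal] {r : A}
    (hr : r ∈ GLin.invariants k H A) (hrm : r ∈ m) :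
    (⟨r, hr⟩ : ↥(GLin.invariants k H A)) ∈ maximalIdeal ↥(GLin.invariants k H A) := by
  have hne : Ideal.comap (GLin.invariants k H A).val.toRingHom m ≠ ⊤ :=
    Ideal.comap_ne_top _ (Ideal.IsMaximal.ne_top inferInstance)
  exact le_maximalIdeal hne hrm

/-- The maximal ideal of `A^G` lies in a `G`-stable maximal ideal `m`. -/
theorem coe_mem_of_mem_maximalIdeal (hG : HopfRep.IsLinearlyReductive k H)
    (m : Ideal A) [m.IsMaximal]
    (hm : HopfRep.IsSubcomod (k := k) (A := H) (m.restrictScalars k))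
    {r : ↥(GLin.invariants k H A)} (hr : r ∈ maximalIdeal ↥(GLin.invariants k H A)) :
    (r : A) ∈ m := by
  by_contra hrm
  obtain ⟨y, i, hi, hyi⟩ := Ideal.IsMaximal.exists_inv (I := m) inferInstance hrm
  have h1 : U.reynolds A hG (y * (r : A) + i) = 1 := by
    rw [hyi]
    exact U.reynolds_of_mem_invariants hG (Subalgebra.one_mem _)
  rw [map_add, U.reynolds_mul hG y r.2] at h1
  have hEy : U.reynolds A hG y ∈ GLin.invariants k H A := U.reynolds_mem_invariants hG y
  have hEi : U.reynolds A hG i ∈ GLin.invariants k H A := U.reynolds_mem_invariants hG i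
  have hEim : U.reynolds A hG i ∈ m :=
    U.reynolds_mem_of_isSubcomod hG hm (w := i) hi
  have h2 : (⟨U.reynolds A hG y, hEy⟩ : ↥(GLin.invariants k H A)) * r +
      ⟨U.reynolds A hG i, hEi⟩ = 1 := Subtype.ext h1
  have h3 : (1 : ↥(GLin.invariants k H A)) ∈ maximalIdeal ↥(GLin.invariants k H A) := by
    rw [← h2]
    exact Ideal.add_mem _ (Ideal.mul_mem_left _ _ hr) (mem_maximalIdeal_of_mem m hEi hEim)
  exact (Ideal.ne_top_iff_one _).mp (Ideal.IsMaximal.ne_top inferInstance) h3

/-- (i): an invariant lying in every `m ^ n • M` vanishes. -/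
theorem eq_zero_of_forall_mem (hG : HopfRep.IsLinearlyReductive k H) [IsNoetherianRing A]
    [Module.Finite A M] (m : Ideal A) [m.IsMaximal]
    (hm : HopfRep.IsSubcomod (k := k) (A := H) (m.restrictScalars k))
    {x : M} (hx : x ∈ HopfRep.fixedPts k H M) (h : ∀ n : ℕ, x ∈ (m ^ n • ⊤ : Submodule A M)) :
    x = 0 := by
  have h1 : x ∈ (⨅ i : ℕ, m ^ i • ⊤ : Submodule A M) := (Submodule.mem_iInf _).mpr h
  obtain ⟨r, hr⟩ := (Ideal.mem_iInf_smul_pow_eq_bot_iff m x).mp h1
  have h2 := U.reynolds_smul hG (r : A) hx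
  rw [hr, U.reynolds_of_mem_fixedPts hG hx] at h2
  have he_inv : U.reynolds A hG (r : A) ∈ GLin.invariants k H A :=
    U.reynolds_mem_invariants hG _
  have he_m : U.reynolds A hG (r : A) ∈ m :=
    U.reynolds_mem_of_isSubcomod hG hm (w := (r : A)) r.2
  have he0 := mem_maximalIdeal_of_mem m he_inv he_m
  have hu : IsUnit (1 - (⟨U.reynolds A hG (r : A), he_inv⟩ : ↥(GLin.invariants k H A))) :=
    isUnit_one_sub_self_of_mem_nonunits _ he0
  have h3 : (1 - (⟨U.reynolds A hG (r : A), he_inv⟩ : ↥(GLin.invariants k H A))) • x = 0 := by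
    rw [sub_smul, one_smul, Subalgebra.smul_def]
    exact sub_eq_zero.mpr h2
  exact hu.smul_left_cancel.mp (by rw [h3, smul_zero])

theorem pow_smul_top_le_Fil (hG : HopfRep.IsLinearlyReductive k H)
    (m : Ideal A) [m.IsMaximal]
    (hm : HopfRep.IsSubcomod (k := k) (A := H) (m.restrictScalars k)) (t : ℕ) :
    (maximalIdeal ↥(GLin.invariants k H A) ^ t • ⊤ :
      Submodule ↥(GLin.invariants k H A) ↥(fixedSub k H A M)) ≤ Fil k H M m t := by
  have h1 : maximalIdeal ↥(GLin.invariants k H A) ≤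
      Ideal.comap (GLin.invariants k H A).val.toRingHom m :=
    fun r hr => coe_mem_of_mem_maximalIdeal hG m hm hr
  have h2 : maximalIdeal ↥(GLin.invariants k H A) ^ t ≤
      Ideal.comap (GLin.invariants k H A).val.toRingHom (m ^ t) :=
    (Ideal.pow_right_mono h1 t).trans (Ideal.le_comap_pow _ t)
  rw [Submodule.smul_le]
  intro r hr x _
  rw [mem_Fil]
  change (r : A) • (x : M) ∈ (m ^ t • ⊤ : Submodule A M)
  exact Submodule.smul_mem_smul (h2 hr) Submodule.mem_top

theorem finite_fixedSub (hG : HopfRep.IsLinearlyReductive k H) [IsNoetherianRing A]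
    [Module.Finite A M] : Module.Finite ↥(GLin.invariants k H A) ↥(fixedSub k H A M) := by
  haveI : IsNoetherian A M := isNoetherian_of_isNoetherianRing_of_finite A M
  obtain ⟨s, hs, hgen⟩ :=
    U.exists_finset_fixedPts_generating (k := k) (A := H) (R := A) (M := M) hG
  rw [Module.Finite.iff_fg]
  refine ⟨s, le_antisymm (Submodule.span_le.mpr hs) ?_⟩
  intro x hx
  obtain ⟨c, hc, rfl⟩ := hgen x hx
  refine Submodule.sum_mem _ fun y hy => ?_
  have h1 : c y • y = (⟨c y, hc y hy⟩ : ↥(GLin.invariants k H A)) • y := rfl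
  rw [h1]
  exact Submodule.smul_mem _ _ (Submodule.subset_span hy)

/-- (ii): an `m`-adic Cauchy sequence of invariants has an invariant limit. -/
theorem exists_limit (hG : HopfRep.IsLinearlyReductive k H) [IsNoetherianRing A]
    [Module.Finite A M] (m : Ideal A) [m.IsMaximal]
    (hm : HopfRep.IsSubcomod (k := k) (A := H) (m.restrictScalars k))
    [IsNoetherianRing ↥(GLin.invariants k H A)]
    [IsAdicComplete (maximalIdeal ↥(GLin.invariants k H A)) ↥(GLin.invariants k H A)]
    (x : ℕ → M) (hx : ∀ n, x n ∈ HopfRep.fixedPts k H M)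
    (hc : ∀ n, x (n + 1) - x n ∈ (m ^ n • ⊤ : Submodule A M)) :
    ∃ y ∈ HopfRep.fixedPts k H M, ∀ n, y - x n ∈ (m ^ n • ⊤ : Submodule A M) := by
  haveI := finite_fixedSub (A := A) (M := M) hG
  haveI : IsAdicComplete (maximalIdeal ↥(GLin.invariants k H A)) ↥(fixedSub k H A M) :=
    Groth.Agent.H87.ComplExact.isAdicComplete_of_finite _ _
  let ξ : ℕ → ↥(fixedSub k H A M) := fun n => ⟨x n, hx n⟩
  have hξ : ∀ a d, ξ (a + d) - ξ a ∈ Fil k H M m a := by
    intro a d
    induction d with
    | zero => simp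
    | succ d ih =>
      have h1 : ξ (a + (d + 1)) - ξ a = (ξ (a + d + 1) - ξ (a + d)) + (ξ (a + d) - ξ a) := by
        rw [← add_assoc]; abel
      rw [h1]
      exact Submodule.add_mem _ (Fil_antitone m (Nat.le_add_right a d) (hc (a + d))) ih
  have hξ' : ∀ {a b}, a ≤ b → ξ b - ξ a ∈ Fil k H M m a := by
    intro a b hab
    obtain ⟨d, rfl⟩ := Nat.exists_eq_add_of_le hab
    exact hξ a d
  have h0 : ∀ z : ↥(fixedSub k H A M), (∀ n, z ∈ Fil k H M m n) → z = 0 := by
    intro z hz
    exact Subtype.ext (eq_zero_of_forall_mem hG m hm z.2 hz)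
  choose ν hν using ChevalleyMod.chevalley_module (Fil k H M m) (Fil_antitone m) h0
  let ν' : ℕ → ℕ := fun t => (Finset.range (t + 1)).sup ν + t
  have hν'1 : ∀ t, ν t ≤ ν' t := fun t =>
    (Finset.le_sup (f := ν) (Finset.self_mem_range_succ t)).trans (Nat.le_add_right _ _)
  have hν'2 : ∀ t, t ≤ ν' t := fun t => Nat.le_add_left _ _
  have hν'mono : Monotone ν' := by
    intro a b hab
    exact Nat.add_le_add (Finset.sup_mono (Finset.range_mono (by omega))) hab
  obtain ⟨y, hy⟩ := IsPrecomplete.prec (IsAdicComplete.toIsPrecomplete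
    (I := maximalIdeal ↥(GLin.invariants k H A)) (M := ↥(fixedSub k H A M)))
    (f := fun t => ξ (ν' t)) (by
      intro a b hab
      rw [SModEq.sub_mem]
      have h1 : ξ (ν' b) - ξ (ν' a) ∈ Fil k H M m (ν' a) := hξ' (hν'mono hab)
      have h2 : ξ (ν' b) - ξ (ν' a) ∈ Fil k H M m (ν a) := Fil_antitone m (hν'1 a) h1
      have h3 := hν a h2
      rw [← neg_sub]
      exact Submodule.neg_mem _ h3)
  refine ⟨(y : M), y.2, fun n => ?_⟩
  have h1 : ξ (ν' n) - y ∈ (maximalIdeal ↥(GLin.invariants k H A) ^ n • ⊤ :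
      Submodule ↥(GLin.invariants k H A) ↥(fixedSub k H A M)) := by
    have := hy n
    rwa [SModEq.sub_mem] at this
  have h2 : ξ (ν' n) - y ∈ Fil k H M m n := pow_smul_top_le_Fil hG m hm n h1
  have h3 : ξ (ν' n) - ξ n ∈ Fil k H M m n := hξ' (hν'2 n)
  have h4 : y - ξ n = (ξ (ν' n) - ξ n) - (ξ (ν' n) - y) := by abel
  have h5 : y - ξ n ∈ Fil k H M m n := by
    rw [h4]; exact Submodule.sub_mem _ h3 h2
  exact h5

end Local

end Groth.Agent.H62.InvComplete
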