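import Mathlib
import Groth.Agent.H62.RosUnit
import Groth.Agent.H62.StabOpenE
import Groth.Agent.H62.EquivZMTb

/-!
# Invariant rational functions on a factorial variety under a character-free connected group
-/

set_option autoImplicit false
universe u
open TensorProduct

namespace Groth.Agent.H62.InvFrac

open Groth.Agent Groth.Agent.H62.LinTriv Groth.Agent.H62.OrbitPts Groth.Agent.H62.StabOpen

section

variable {k : Type u} [Field k] [IsAlgClosed k]
  {A : Type u} [CommRing A] [HopfAlgebra k A] [Algebra.FiniteType k A] [IsDomain A]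
  {B : Type u} [CommRing B] [Algebra k B] [Algebra.FiniteType k B] [IsDomain B]
  [HopfRep.Comod k A B] [GLin.IsCoactAlg k A B]

local notation "ρ" => HopfRep.Comod.coact (k := k) (A := A) (V := B)

omit [IsAlgClosed k] [Algebra.FiniteType k A] [IsDomain A] [Algebra.FiniteType k B] [IsDomain B] in
theorem act_eq (φ : A →ₐ[k] k) (b : B) :
    HopfRep.Comod.act k A B φ b = EquivZMTb.actHom B φ b := by
  rw [EquivZMTb.actHom_apply]
  rfl

omit [IsAlgClosed k] [Algebra.FiniteType k A] [IsDomain A] [Algebra.FiniteType k B] [IsDomain B] in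
theorem actHom_eq_sliceR (φ : A →ₐ[k] k) (b : B) :
    EquivZMTb.actHom B φ b = sliceR φ (ρ b) := rfl

theorem exists_mul_of_dvd {g₀ : B} (h : ∀ φ : A →ₐ[k] k, g₀ ∣ EquivZMTb.actHom B φ g₀) :
    ∃ u : B ⊗[k] A, ρ g₀ = (g₀ ⊗ₜ[k] (1 : A)) * u := by
  let W : Submodule k B := (Ideal.span {g₀}).restrictScalars k
  have hW : HopfRep.IsSubcomod (k := k) (A := A) W := by
    apply EquivZMTb.isSubcomod_of_forall_point_mem
    intro φ w hw
    rw [← EquivZMTb.actHom_apply]
    change w ∈ Ideal.span {g₀} at hw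
    change EquivZMTb.actHom B φ w ∈ Ideal.span {g₀}
    rw [Ideal.mem_span_singleton] at hw ⊢
    obtain ⟨b, rfl⟩ := hw
    rw [map_mul]
    exact Dvd.dvd.mul_right (h φ) _
  have h1 := hW g₀ (Ideal.subset_span rfl)
  obtain ⟨z, hz⟩ := h1
  rw [← hz]
  clear hz
  induction z using TensorProduct.induction_on with
  | zero => exact ⟨0, by simp⟩
  | tmul w a =>
    obtain ⟨b, hb⟩ := Ideal.mem_span_singleton.mp w.2
    refine ⟨b ⊗ₜ a, ?_⟩
    rw [LinearMap.rTensor_tmul, Submodule.subtype_apply, Algebra.TensorProduct.tmul_mul_tmul,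
      one_mul, ← hb]
  | add z z' hz hz' =>
    obtain ⟨u, hu⟩ := hz
    obtain ⟨u', hu'⟩ := hz'
    exact ⟨u + u', by rw [map_add, hu, hu', mul_add]⟩

omit [IsAlgClosed k] [Algebra.FiniteType k A] [IsDomain A] [Algebra.FiniteType k B] in
theorem exists_inv {g₀ : B} (hg₀ : g₀ ≠ 0) {u : B ⊗[k] A}
    (hu : ρ g₀ = (g₀ ⊗ₜ[k] (1 : A)) * u) : ∃ u' : B ⊗[k] A, u * u' = 1 := by
  have hmul := GLin.IsCoactAlg.coact_mul (k := k) (A := A) (R := B)
  have hone := GLin.IsCoactAlg.coact_one (k := k) (A := A) (R := B)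
  let m := Algebra.TensorProduct.map (AlgHom.id k B) (HopfAlgebra.antipodeAlgHom k A)
  refine ⟨Shear.shear (k := k) (H := A) (S := B) hmul hone (m u), ?_⟩
  have h1 : Shear.coactInv (k := k) (H := A) (S := B) hmul hone g₀ = (g₀ ⊗ₜ[k] (1 : A)) * m u := by
    change m (ρ g₀) = _
    rw [hu, map_mul]
    congr 1
    simp [m]
  have h2 := Shear.shear_coactInv (k := k) (H := A) (S := B) hmul hone g₀
  rw [h1, map_mul] at h2
  have h3 : Shear.shear (k := k) (H := A) (S := B) hmul hone (g₀ ⊗ₜ[k] (1 : A)) = ρ g₀ := by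
    rw [Shear.shear, Algebra.TensorProduct.lift_tmul, map_one, mul_one]
    rfl
  rw [h3, hu, mul_assoc] at h2
  have hnzd : g₀ ⊗ₜ[k] (1 : A) ∈ nonZeroDivisors (B ⊗[k] A) :=
    Shear.tmul_one_mem_nonZeroDivisors (mem_nonZeroDivisors_of_ne_zero hg₀)
  have h4 : (u * Shear.shear (k := k) (H := A) (S := B) hmul hone (m u) - 1) *
      (g₀ ⊗ₜ[k] (1 : A)) = 0 := by
    rw [sub_mul, one_mul, mul_comm, h2, sub_self]
  exact sub_eq_zero.mp ((mem_nonZeroDivisors_iff_right.mp hnzd) _ h4)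

omit [IsAlgClosed k] [Algebra.FiniteType k B] [Algebra.FiniteType k A] [IsDomain A]
  [HopfRep.Comod k A B] [GLin.IsCoactAlg k A B] [HopfAlgebra k A] in
theorem tmul_left_cancel {M : Type u} [AddCommGroup M] [Module k M] {b : B} (hb : b ≠ 0)
    {m m' : M} (h : b ⊗ₜ[k] m = b ⊗ₜ[k] m') : m = m' := by
  obtain ⟨g, hg⟩ := LinearMap.exists_leftInverse_of_injective (LinearMap.toSpanSingleton k B b)
    (LinearMap.ker_toSpanSingleton (R := k) (M := B) hb)
  have hgb : g b = 1 := by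
    have := LinearMap.congr_fun hg 1
    simpa using this
  have h1 := congrArg (fun t => TensorProduct.lid k M (g.rTensor M t)) h
  simpa [hgb] using h1

theorem coact_eq_tmul_one (hchar : ∀ a : A, IsGroupLikeElem k a → a = 1)
    {g₀ : B} (hg₀ : g₀ ≠ 0) (h : ∀ φ : A →ₐ[k] k, g₀ ∣ EquivZMTb.actHom B φ g₀) :
    ρ g₀ = g₀ ⊗ₜ[k] (1 : A) := by
  obtain ⟨u, hu⟩ := exists_mul_of_dvd h
  obtain ⟨u', huu'⟩ := exists_inv hg₀ hu
  obtain ⟨x₀⟩ := H25.GeomDomain.exists_algHom_of_finiteType k B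
  let εpt : A →ₐ[k] k := Bialgebra.counitAlgHom k A
  have hact_ε : EquivZMTb.actHom B εpt g₀ = g₀ := by
    apply eq_of_forall_point (k := k)
    intro z
    rw [apply_actHom, OrbitSep.actPt_counit]
  have hsl : sliceR εpt u = 1 := by
    have h1 : EquivZMTb.actHom B εpt g₀ = g₀ * sliceR εpt u := by
      rw [actHom_eq_sliceR, hu, map_mul, sliceR_tmul, map_one, one_smul]
    rw [hact_ε] at h1
    have h2 : g₀ * (sliceR εpt u - 1) = 0 := by
      rw [mul_sub, ← h1, mul_one, sub_self]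
    rcases mul_eq_zero.mp h2 with h3 | h3
    · exact absurd h3 hg₀
    · exact sub_eq_zero.mp h3
  have hε : ∀ x : B →ₐ[k] k, εpt (sliceA x u) = 1 := by
    intro x
    rw [apply_sliceA, ← apply_sliceR, hsl, map_one]
  set χ := sliceA x₀ u with hχ
  have hall : ∀ x : B →ₐ[k] k, sliceA x u = χ := by
    intro x
    obtain ⟨c, hc⟩ := RosUnit.sliceA_eq_smul u u' huu' x x₀
    have h1 := congrArg εpt hc
    rw [map_smul, hε, hε, smul_eq_mul, mul_one] at h1
    rw [hc, ← h1, one_smul]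
  have hu1 : u = (1 : B) ⊗ₜ[k] χ := by
    rw [← sub_eq_zero]
    apply eq_zero_of_forall_ev
    intro x g
    rw [map_sub, sub_eq_zero, ev_tmul, map_one, one_mul, ← apply_sliceA, hall]
  have hρ : ρ g₀ = g₀ ⊗ₜ[k] χ := by
    rw [hu, hu1, Algebra.TensorProduct.tmul_mul_tmul, mul_one, one_mul]
  have hgl : IsGroupLikeElem k χ := by
    refine ⟨hε x₀, ?_⟩
    have h1 := H40.coassoc_apply (k := k) (C := A) (V := B) g₀
    change (TensorProduct.assoc k B A A) ((ρ).rTensor A (ρ g₀)) =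
      (CoalgebraStruct.comul (R := k) (A := A)).lTensor B (ρ g₀) at h1
    rw [hρ, LinearMap.rTensor_tmul, hρ, TensorProduct.assoc_tmul, LinearMap.lTensor_tmul] at h1
    exact (tmul_left_cancel hg₀ h1).symm
  rw [hρ, hchar χ hgl]

theorem main (hchar : ∀ a : A, IsGroupLikeElem k a → a = 1) [UniqueFactorizationMonoid B]
    (f g : B) (hg : g ≠ 0)
    (hinv : ∀ φ : A →ₐ[k] k, HopfRep.Comod.act k A B φ f * g = f * HopfRep.Comod.act k A B φ g) :
    ∃ f' g' : B, (∀ φ : A →ₐ[k] k, HopfRep.Comod.act k A B φ f' = f') ∧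
      (∀ φ : A →ₐ[k] k, HopfRep.Comod.act k A B φ g' = g') ∧ g' ≠ 0 ∧ f * g' = f' * g := by
  obtain ⟨g₀, f₀, d, hrel, hdg, hdf⟩ := UniqueFactorizationMonoid.exists_reduced_factors g hg f
  have hd : d ≠ 0 := by
    rintro rfl
    apply hg
    rw [← hdg, zero_mul]
  have hg₀ : g₀ ≠ 0 := by
    rintro rfl
    apply hg
    rw [← hdg, mul_zero]
  have hstar : ∀ φ : A →ₐ[k] k,
      EquivZMTb.actHom B φ f₀ * g₀ = f₀ * EquivZMTb.actHom B φ g₀ := by
    intro φ
    have h1 := hinv φ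
    rw [act_eq, act_eq, ← hdg, ← hdf, map_mul, map_mul] at h1
    have hαd : EquivZMTb.actHom B φ d ≠ 0 := by
      intro h0
      apply hd
      rw [← actHom_inv_actHom φ d, h0, map_zero]
    apply mul_left_cancel₀ (mul_ne_zero hd hαd)
    linear_combination h1
  have hdvd : ∀ φ : A →ₐ[k] k, g₀ ∣ EquivZMTb.actHom B φ g₀ := by
    intro φ
    apply hrel.dvd_of_dvd_mul_left
    rw [← hstar φ]
    exact dvd_mul_left _ _
  have hρ := coact_eq_tmul_one hchar hg₀ hdvd
  have hg₀inv : ∀ φ : A →ₐ[k] k, EquivZMTb.actHom B φ g₀ = g₀ := by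
    intro φ
    rw [actHom_eq_sliceR, hρ, sliceR_tmul, map_one, one_smul]
  refine ⟨f₀, g₀, ?_, ?_, hg₀, ?_⟩
  · intro φ
    rw [act_eq]
    have h1 := hstar φ
    rw [hg₀inv] at h1
    exact mul_right_cancel₀ hg₀ h1
  · intro φ
    rw [act_eq, hg₀inv]
  · rw [← hdf, ← hdg]
    ring

end

end Groth.Agent.H62.InvFrac
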