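import Mathlib
import Groth.Prelude.Def_DDual2
set_option autoImplicit false
universe w₁ w₂ v₁ v₂ u₁ u₂ u
open CategoryTheory Limits
attribute [local instance] HasDerivedCategory.standard

namespace Groth.Agent.H62.Inv_FF

/-- (FF) If `F ⋙ G ≅ 𝟭` for exact functors between abelian categories, then the induced functors
on derived categories also compose to the identity (up to isomorphism). -/
theorem FF {C₁ : Type u₁} [Category.{v₁} C₁] [Abelian C₁] [HasDerivedCategory.{w₁} C₁]
    {C₂ : Type u₂} [Category.{v₂} C₂] [Abelian C₂] [HasDerivedCategory.{w₂} C₂]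
    (F : C₁ ⥤ C₂) [F.Additive] [PreservesFiniteLimits F] [PreservesFiniteColimits F]
    (G : C₂ ⥤ C₁) [G.Additive] [PreservesFiniteLimits G] [PreservesFiniteColimits G]
    (η : F ⋙ G ≅ 𝟭 C₁) :
    Nonempty (F.mapDerivedCategory ⋙ G.mapDerivedCategory ≅ 𝟭 (DerivedCategory C₁)) := by
  let e : (DerivedCategory.Q : CochainComplex C₁ ℤ ⥤ DerivedCategory C₁) ⋙
      (F.mapDerivedCategory ⋙ G.mapDerivedCategory) ≅ DerivedCategory.Q :=
    (Functor.associator _ _ _).symm ≪≫
      Functor.isoWhiskerRight F.mapDerivedCategoryFactors G.mapDerivedCategory ≪≫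
      Functor.associator _ _ _ ≪≫
      Functor.isoWhiskerLeft _ G.mapDerivedCategoryFactors ≪≫
      (Functor.associator _ _ _).symm ≪≫
      Functor.isoWhiskerRight
        (Functor.mapHomologicalComplexCompIso η (ComplexShape.up ℤ) ≪≫
          Functor.mapHomologicalComplexIdIso C₁ (ComplexShape.up ℤ)) DerivedCategory.Q ≪≫
      Functor.leftUnitor _
  letI : Localization.Lifting (DerivedCategory.Q : CochainComplex C₁ ℤ ⥤ DerivedCategory C₁)
      (HomologicalComplex.quasiIso C₁ (ComplexShape.up ℤ)) DerivedCategory.Q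
      (F.mapDerivedCategory ⋙ G.mapDerivedCategory) := ⟨e⟩
  exact ⟨Localization.liftNatIso (DerivedCategory.Q : CochainComplex C₁ ℤ ⥤ DerivedCategory C₁)
    (HomologicalComplex.quasiIso C₁ (ComplexShape.up ℤ)) DerivedCategory.Q DerivedCategory.Q
    (F.mapDerivedCategory ⋙ G.mapDerivedCategory) (𝟭 (DerivedCategory C₁)) (Iso.refl _)⟩

end Groth.Agent.H62.Inv_FF
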