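import Groth.Agent.H62.IsoComp

/-!
# `genIn` is a subcomodule; weight bookkeeping (helper62)
-/

set_option autoImplicit false
universe u v w x

open TensorProduct

namespace Groth.Agent.H62.IsoComp

open Groth.Agent.H40 W4c3ghconstell

section GenIn

variable {k : Type u} [Field k] {A : Type v} [CommRing A] [Bialgebra k A]
variable {R : Type w} [CommRing R] [Algebra k R] [HopfRep.Comod k A R]
variable {M : Type x} [AddCommGroup M] [Module k M] [Module R M] [IsScalarTower k R M]
  [HopfRep.Comod k A M] [TameAct.IsHopfMod k A R M]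

omit [HopfRep.Comod k A R] [HopfRep.Comod k A M] [TameAct.IsHopfMod k A R M] in
theorem hmSMul_mem (G : Submodule R M) (t : R ⊗[k] A) (y : (G.restrictScalars k) ⊗[k] A) :
    TameAct.hmSMul k A R M t ((G.restrictScalars k).subtype.rTensor A y) ∈
      LinearMap.range ((G.restrictScalars k).subtype.rTensor A) := by
  induction y using TensorProduct.induction_on with
  | zero => simp
  | add y z hy hz => rw [map_add, map_add]; exact Submodule.add_mem _ hy hz
  | tmul g a =>
    induction t using TensorProduct.induction_on with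
    | zero => simp
    | add s t hs ht => rw [map_add, LinearMap.add_apply]; exact Submodule.add_mem _ hs ht
    | tmul r b =>
      rw [LinearMap.rTensor_tmul, TameAct.hmSMul_tmul]
      exact tmul_mem_range_rTensor (G.restrictScalars k) (w := r • (g : M))
        (show r • (g : M) ∈ G from G.smul_mem r g.2) _

theorem isSubcomod_span_of_subset {s : Set M} {G : Submodule R M} (hG : G = Submodule.span R s)
    (hs : ∀ x ∈ s, ρ k A M x ∈ LinearMap.range ((G.restrictScalars k).subtype.rTensor A)) :
    HopfRep.IsSubcomod (k := k) (A := A) (G.restrictScalars k) := by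
  intro w hw
  have hw' : w ∈ Submodule.span R s := by rw [← hG]; exact hw
  clear hw
  induction hw' using Submodule.span_induction with
  | mem x hx => exact hs x hx
  | zero => simp
  | add x y _ _ hx hy => rw [map_add]; exact Submodule.add_mem _ hx hy
  | smul r x _ hx =>
    rw [TameAct.IsHopfMod.coact_smul (k := k) (A := A)]
    obtain ⟨y, hy⟩ := hx
    have := hmSMul_mem (k := k) (A := A) G (HopfRep.Comod.coact (k := k) (A := A) r) y
    rw [hy] at this
    exact this

omit [HopfRep.Comod k A R] [TameAct.IsHopfMod k A R M] in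
variable (k A R M) in
theorem genIn_le (S : Set (SimpSub k A)) (N : Submodule R M) : genIn k A R M S N ≤ N := by
  unfold genIn
  rw [Submodule.span_le]
  intro x hx
  simp only [Set.mem_iUnion] at hx
  obtain ⟨D, _, hx⟩ := hx
  exact hx.1

omit [HopfRep.Comod k A R] [TameAct.IsHopfMod k A R M] in
theorem inf_isoComp_le_genIn {S : Set (SimpSub k A)} (N : Submodule R M) {D : SimpSub k A}
    (hD : D ∈ S) :
    N.restrictScalars k ⊓ isoComp M D.1 ≤ (genIn k A R M S N).restrictScalars k := by
  intro x hx
  refine Submodule.subset_span ?_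
  simp only [Set.mem_iUnion]
  exact ⟨D, hD, hx⟩

omit [HopfRep.Comod k A R] [TameAct.IsHopfMod k A R M] in
theorem genIn_genIn (S : Set (SimpSub k A)) (N : Submodule R M) :
    genIn k A R M S (genIn k A R M S N) = genIn k A R M S N := by
  apply le_antisymm (genIn_le k A R M S _)
  conv_lhs => unfold genIn
  rw [Submodule.span_le]
  intro x hx
  simp only [Set.mem_iUnion] at hx
  obtain ⟨D, hD, hx⟩ := hx
  exact inf_isoComp_le_genIn (genIn k A R M S N) hD ⟨inf_isoComp_le_genIn N hD hx, hx.2⟩

theorem isSubcomod_genIn (S : Set (SimpSub k A)) {N : Submodule R M}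
    (hN : HopfRep.IsSubcomod (k := k) (A := A) (N.restrictScalars k)) :
    HopfRep.IsSubcomod (k := k) (A := A) ((genIn k A R M S N).restrictScalars k) := by
  refine isSubcomod_span_of_subset (s := ⋃ D ∈ S,
    ((N.restrictScalars k ⊓ isoComp M D.1 : Submodule k M) : Set M)) rfl ?_
  intro x hx
  simp only [Set.mem_iUnion] at hx
  obtain ⟨D, hD, hx⟩ := hx
  have h1 : HopfRep.IsSubcomod (k := k) (A := A) (N.restrictScalars k ⊓ isoComp M D.1) :=
    isSubcomod_inf hN (isSubcomod_isoComp D.2.2.1)
  exact range_rTensor_subtype_mono (inf_isoComp_le_genIn N hD) (h1 x hx)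

end GenIn

section Theta

variable {k : Type u} [Field k] {A : Type v} [AddCommGroup A] [Module k A] [Coalgebra k A]
variable {M : Type x} [AddCommGroup M] [Module k M] [HopfRep.Comod k A M]

/-- the finiteness data of a constellation -/
structure FinData (M : Type x) [AddCommGroup M] [Module k M] [HopfRep.Comod k A M]
    (h : SimpSub k A → ℕ) : Prop where
  fin : ∀ D : SimpSub k A, Module.Finite k ↥(isoComp M D.1)
  rank : ∀ D : SimpSub k A, Module.finrank k ↥(isoComp M D.1) = h D

variable {h : SimpSub k A → ℕ} {θ : SimpSub k A → ℚ}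

theorem hilbAt_mono (hF : FinData M h) {X Y : Submodule k M} (hXY : X ≤ Y) (D : SimpSub k A) :
    hilbAt M X D ≤ hilbAt M Y D := by
  have := hF.fin D
  unfold hilbAt
  have : Module.Finite k ↥(Y ⊓ isoComp M D.1) := Submodule.finiteDimensional_inf_right _ _
  exact Submodule.finrank_mono (inf_le_inf_right _ hXY)

theorem hilbAt_le (hF : FinData M h) (X : Submodule k M) (D : SimpSub k A) :
    hilbAt M X D ≤ h D := by
  have := hF.fin D
  unfold hilbAt
  rw [← hF.rank D]
  exact Submodule.finrank_mono inf_le_right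

theorem hilbAt_eq_of_le (hF : FinData M h) {X : Submodule k M} {D : SimpSub k A}
    (hle : isoComp M D.1 ≤ X) : hilbAt M X D = h D := by
  unfold hilbAt
  rw [inf_eq_right.mpr hle, hF.rank D]

theorem hilbAt_top (hF : FinData M h) (D : SimpSub k A) : hilbAt M (⊤ : Submodule k M) D = h D :=
  hilbAt_eq_of_le hF le_top

theorem hilbAt_eq_zero {X : Submodule k M} {D : SimpSub k A}
    (h0 : X ⊓ isoComp M D.1 = ⊥) : hilbAt M X D = 0 := by
  unfold hilbAt
  rw [h0, finrank_bot]

theorem isoComp_le_of_hilbAt_eq (hF : FinData M h) {X : Submodule k M} {D : SimpSub k A}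
    (he : hilbAt M X D = h D) : isoComp M D.1 ≤ X := by
  have := hF.fin D
  unfold hilbAt at he
  rw [← hF.rank D] at he
  have := Submodule.eq_of_le_of_finrank_eq (inf_le_right : X ⊓ isoComp M D.1 ≤ isoComp M D.1) he
  rw [← this]
  exact inf_le_left

theorem hilbAt_pos (hF : FinData M h) {X : Submodule k M} {D : SimpSub k A}
    (hne : X ⊓ isoComp M D.1 ≠ ⊥) : 0 < hilbAt M X D := by
  have := hF.fin D
  unfold hilbAt
  have : Module.Finite k ↥(X ⊓ isoComp M D.1) := Submodule.finiteDimensional_inf_right _ _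
  rw [Module.finrank_pos_iff]
  exact (Submodule.nontrivial_iff_ne_bot).mpr hne

theorem summable_theta (hF : FinData M h)
    (hsum : Summable (fun D => (θ D : ℝ) * (h D : ℝ))) (X : Submodule k M) :
    Summable (fun D => (θ D : ℝ) * (hilbAt M X D : ℝ)) := by
  refine Summable.of_norm_bounded (g := fun D => |(θ D : ℝ) * (h D : ℝ)|) hsum.abs ?_
  intro D
  rw [Real.norm_eq_abs, abs_mul, abs_mul, Nat.abs_cast, Nat.abs_cast]
  have : (hilbAt M X D : ℝ) ≤ (h D : ℝ) := by exact_mod_cast hilbAt_le hF X D
  exact mul_le_mul_of_nonneg_left this (abs_nonneg _)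

theorem theta_top (hF : FinData M h) (hsum : HasSum (fun D => (θ D : ℝ) * (h D : ℝ)) 0) :
    theta M θ (⊤ : Submodule k M) = 0 := by
  unfold theta
  have : (fun D : SimpSub k A => (θ D : ℝ) * (hilbAt M (⊤ : Submodule k M) D : ℝ)) =
      fun D => (θ D : ℝ) * (h D : ℝ) := by
    funext D
    rw [hilbAt_top hF]
  rw [this]
  exact hsum.tsum_eq

/-- comparison of weights -/
theorem theta_le_theta (hF : FinData M h) (hsum : Summable (fun D => (θ D : ℝ) * (h D : ℝ)))
    {X Y : Submodule k M}
    (h1 : ∀ D, θ D < 0 → hilbAt M Y D ≤ hilbAt M X D)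
    (h2 : ∀ D, 0 ≤ θ D → hilbAt M X D ≤ hilbAt M Y D) :
    theta M θ X ≤ theta M θ Y := by
  unfold theta
  refine Summable.tsum_le_tsum ?_ (summable_theta hF hsum X) (summable_theta hF hsum Y)
  intro D
  rcases lt_or_ge (θ D) 0 with hneg | hpos
  · have a : (hilbAt M Y D : ℝ) ≤ (hilbAt M X D : ℝ) := by exact_mod_cast h1 D hneg
    have b : (θ D : ℝ) ≤ 0 := by exact_mod_cast hneg.le
    exact mul_le_mul_of_nonpos_left a b
  · have a : (hilbAt M X D : ℝ) ≤ (hilbAt M Y D : ℝ) := by exact_mod_cast h2 D hpos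
    have b : (0 : ℝ) ≤ (θ D : ℝ) := by exact_mod_cast hpos
    exact mul_le_mul_of_nonneg_left a b

end Theta

section Both

variable {k : Type u} [Field k] {A : Type v} [CommRing A] [Bialgebra k A]
variable {R : Type w} [CommRing R] [Algebra k R]
variable {M : Type x} [AddCommGroup M] [Module k M] [Module R M] [IsScalarTower k R M]
  [HopfRep.Comod k A M]
variable {h : SimpSub k A → ℕ} {θ : SimpSub k A → ℚ}

theorem isoComp_le_genIn_top {S : Set (SimpSub k A)} {D : SimpSub k A} (hD : D ∈ S) :
    isoComp M D.1 ≤ (genIn k A R M S ⊤).restrictScalars k := by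
  refine le_trans (le_inf ?_ le_rfl) (inf_isoComp_le_genIn (⊤ : Submodule R M) hD)
  rw [Submodule.restrictScalars_top]
  exact le_top

theorem hilbAt_genIn_eq {S : Set (SimpSub k A)} (N : Submodule R M) {D : SimpSub k A}
    (hD : D ∈ S) :
    hilbAt M ((genIn k A R M S N).restrictScalars k) D = hilbAt M (N.restrictScalars k) D := by
  unfold hilbAt
  have : (genIn k A R M S N).restrictScalars k ⊓ isoComp M D.1 =
      N.restrictScalars k ⊓ isoComp M D.1 := by
    apply le_antisymm
    · exact inf_le_inf_right _ (fun x hx => genIn_le k A R M S N hx)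
    · exact le_inf (inf_isoComp_le_genIn N hD) inf_le_right
  rw [this]

theorem theta_genIn_le (hF : FinData M h) (hsum : Summable (fun D => (θ D : ℝ) * (h D : ℝ)))
    (N : Submodule R M) :
    theta M θ ((genIn k A R M {D | θ D < 0} N).restrictScalars k) ≤
      theta M θ (N.restrictScalars k) := by
  apply theta_le_theta hF hsum
  · intro D hD
    rw [hilbAt_genIn_eq N (S := {D | θ D < 0}) hD]
  · intro D _
    exact hilbAt_mono hF (fun x hx => genIn_le k A R M _ N hx) D

theorem inf_isoComp_eq_bot_of_genIn_eq_bot {S : Set (SimpSub k A)} {N : Submodule R M}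
    (h0 : genIn k A R M S N = ⊥) {D : SimpSub k A} (hD : D ∈ S) :
    N.restrictScalars k ⊓ isoComp M D.1 = ⊥ := by
  rw [eq_bot_iff]
  refine le_trans (inf_isoComp_le_genIn N hD) ?_
  rw [h0, Submodule.restrictScalars_bot]

/-- if `N` has no isotypic part of negative weight then its weight is `≥ 0` -/
theorem theta_nonneg_of_bot {N : Submodule k M}
    (h0 : ∀ D, θ D < 0 → N ⊓ isoComp M D.1 = ⊥) : 0 ≤ theta M θ N := by
  unfold theta
  refine tsum_nonneg fun D => ?_
  rcases lt_or_ge (θ D) 0 with hneg | hpos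
  · rw [hilbAt_eq_zero (h0 D hneg)]; simp
  · exact mul_nonneg (by exact_mod_cast hpos) (Nat.cast_nonneg _)

/-- if `N ≠ 0` is a subcomodule with no isotypic part of negative weight, and `θ` does not
vanish where `h` does not, then the weight of `N` is positive -/
theorem theta_pos_of_bot (hF : FinData M h) (hsum : Summable (fun D => (θ D : ℝ) * (h D : ℝ)))
    (hsup : (⨆ D : SimpSub k A, isoComp M D.1) = ⊤) (hθ : ∀ D, h D ≠ 0 → θ D ≠ 0)
    {N : Submodule k M} (hN : HopfRep.IsSubcomod (k := k) (A := A) N) (hN0 : N ≠ ⊥)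
    (h0 : ∀ D, θ D < 0 → N ⊓ isoComp M D.1 = ⊥) : 0 < theta M θ N := by
  obtain ⟨D₁, hD₁⟩ := exists_inf_isoComp_ne_bot hN hsup hN0
  have hpos : 0 < hilbAt M N D₁ := hilbAt_pos hF hD₁
  have hh : h D₁ ≠ 0 := by
    have := hilbAt_le hF N D₁
    omega
  have hθ1 : θ D₁ ≠ 0 := hθ D₁ hh
  have hθ2 : 0 < θ D₁ := by
    rcases lt_or_ge (θ D₁) 0 with hneg | hge
    · exact absurd (h0 D₁ hneg) hD₁
    · exact lt_of_le_of_ne hge (Ne.symm hθ1)
  unfold theta
  refine Summable.tsum_pos (summable_theta hF hsum N) (fun D => ?_) D₁ ?_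
  · rcases lt_or_ge (θ D) 0 with hneg | hge
    · rw [hilbAt_eq_zero (h0 D hneg)]; simp
    · exact mul_nonneg (by exact_mod_cast hge) (Nat.cast_nonneg _)
  · exact mul_pos (by exact_mod_cast hθ2) (by exact_mod_cast hpos)

end Both

end Groth.Agent.H62.IsoComp
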