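import Mathlib
import Groth.Prelude.Def_Red2
import Groth.Prelude.Def_ActBC
import Groth.Agent.H43.LSDefs

/-!
# (LS-LMON) for the S16621 squad: being a homomorphism of group schemes is local on the base
-/

set_option autoImplicit false
universe u
open CategoryTheory Limits MonoidalCategory CartesianMonoidalCategory MonObj GrpObj AlgebraicGeometry
open Groth.Agent.H43.LS

namespace Groth.Agent.H62.LS_LMON

/-- a morphism of group objects compatible with the multiplications is a homomorphism. -/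
theorem isMonHom_of_mul_hom {C : Type*} [Category C] [CartesianMonoidalCategory C] {G H : C}
    [GrpObj G] [GrpObj H] (χ : G ⟶ H) (hχ : μ[G] ≫ χ = (χ ⊗ₘ χ) ≫ μ[H]) : IsMonHom χ := by
  have hmul : ∀ {X : C} (f g : X ⟶ G), (f * g) ≫ χ = (f ≫ χ) * (g ≫ χ) := by
    intro X f g
    rw [Hom.mul_def, Category.assoc, hχ, Hom.mul_def, ← Category.assoc]
    congr 1
    apply CartesianMonoidalCategory.hom_ext
    · rw [Category.assoc, tensorHom_fst, ← Category.assoc, lift_fst, lift_fst]
    · rw [Category.assoc, tensorHom_snd, ← Category.assoc, lift_snd, lift_snd]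
  have h1 : ((1 : 𝟙_ C ⟶ G) ≫ χ) = 1 := by
    have h := hmul (1 : 𝟙_ C ⟶ G) 1
    rw [_root_.mul_one] at h
    exact mul_eq_left.1 h.symm
  have e1 : ∀ (N : C) [GrpObj N], (1 : 𝟙_ C ⟶ N) = η[N] := by
    intro N _
    rw [Hom.one_def, toUnit_unique (toUnit _) (𝟙 _), Category.id_comp]
  refine ⟨?_, hχ⟩
  rw [← e1 G, ← e1 H]
  exact h1

/-- morphisms over `S` which agree over the members of an open cover of `S` are equal. -/
theorem hom_ext_of_local {S : Scheme.{u}} {X Y : Over S} (ψ₁ ψ₂ : X ⟶ Y) {κ : Type u}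
    (U : κ → S.Opens) (hU : ∀ s : S, ∃ i, s ∈ U i)
    (h : ∀ i, (Over.pullback (U i).ι).map ψ₁ = (Over.pullback (U i).ι).map ψ₂) : ψ₁ = ψ₂ := by
  apply Over.OverMorphism.ext
  have hcov : TopologicalSpace.IsOpenCover U :=
    eq_top_iff.2 fun s _ => TopologicalSpace.Opens.mem_iSup.2 (hU s)
  let 𝒰 : X.left.OpenCover := (S.openCoverOfIsOpenCover U hcov).pullback₁ X.hom
  apply Scheme.Cover.hom_ext 𝒰
  intro (i : κ)
  change pullback.fst X.hom (U i).ι ≫ ψ₁.left = pullback.fst X.hom (U i).ι ≫ ψ₂.left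
  have e : ∀ ψ : X ⟶ Y, pullback.fst X.hom (U i).ι ≫ ψ.left =
      ((Over.pullback (U i).ι).map ψ).left ≫ pullback.fst Y.hom (U i).ι := by
    intro ψ
    exact (pullback.lift_fst _ _ _).symm
  rw [e, e, h]

/-- (LS-LMON) -/
theorem isMonHom_of_local {S : Scheme.{u}} {G H : Over S} [GrpObj G] [GrpObj H] (φ : G ⟶ H)
    {κ : Type u} (U : κ → S.Opens) (hU : ∀ s : S, ∃ i, s ∈ U i)
    (h : ∀ i, IsMonHom ((Over.pullback (U i).ι).map φ)) : IsMonHom φ := by
  apply isMonHom_of_mul_hom
  apply hom_ext_of_local _ _ U hU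
  intro i
  haveI := h i
  have h1 : (Functor.LaxMonoidal.μ (Over.pullback (U i).ι) G G ≫
        (Over.pullback (U i).ι).map μ[G]) ≫ (Over.pullback (U i).ι).map φ =
      ((Over.pullback (U i).ι).map φ ⊗ₘ (Over.pullback (U i).ι).map φ) ≫
        (Functor.LaxMonoidal.μ (Over.pullback (U i).ι) H H ≫
          (Over.pullback (U i).ι).map μ[H]) :=
    IsMonHom.mul_hom (f := (Over.pullback (U i).ι).map φ)
  rw [Category.assoc, ← Category.assoc ((Over.pullback (U i).ι).map φ ⊗ₘ _),
    Functor.LaxMonoidal.μ_natural, Category.assoc] at h1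
  rw [Functor.map_comp, Functor.map_comp]
  exact (cancel_epi (Functor.LaxMonoidal.μ (Over.pullback (U i).ι) G G)).1 h1

end Groth.Agent.H62.LS_LMON
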