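import Mathlib
import Groth.Prelude.Def_Red2
import Groth.Prelude.Def_ActBC
import Groth.Agent.H43.LSDefs

/-!
# (LS-SEP) for the S16621 squad: `D_S(M) ⟶ S` is separated
-/

set_option autoImplicit false
universe u
open CategoryTheory Limits MonoidalCategory CartesianMonoidalCategory MonObj GrpObj AlgebraicGeometry
open Groth.Agent.H43.LS

namespace Groth.Agent.H62.LS_SEP

/-- (LS-SEP) -/
theorem isSeparated_DS (S : Scheme.{u}) (M : Type) [AddCommGroup M] :
    IsSeparated (Red.DS S M).hom := by
  change IsSeparated (pullback.snd (Red.diag (ULift.{u} ℤ) M).hom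
    (Limits.IsTerminal.from specULiftZIsTerminal S))
  haveI : IsAffine (Red.diag (ULift.{u} ℤ) M).left := by
    change IsAffine (Spec _)
    infer_instance
  infer_instance

end Groth.Agent.H62.LS_SEP
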