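import Groth.Agent.S11794
import Mathlib.RingTheory.Spectrum.Prime.Chevalley
import Mathlib.RingTheory.Spectrum.Prime.Jacobson
import Mathlib.RingTheory.HopfAlgebra.Convolution
import Mathlib.RingTheory.Ideal.MinimalPrime.Localization

/-!
# helper62: orbits of rational points under an affine group (coordinate-ring form)

`k` a field, `A` a commutative Hopf algebra, `R` a `k`-algebra with a multiplicative coaction.
For a `k`-point `y : R →ₐ[k] k` the orbit is `{g ∘ orbitHom y}`; its closure is cut out by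
`ker (orbitHom y)`.  Orbit relation is an equivalence relation; two points whose orbit closures
coincide lie in the same orbit (`k` algebraically closed, finite type; via Chevalley's theorem).
-/

set_option autoImplicit false
set_option linter.unusedSectionVars false
universe u
open TensorProduct Topology

namespace Groth.Agent.H62.OrbitPts

open Groth.Agent

section ClosedPt

/-- a nonempty constructible subset of the spectrum of a Jacobson ring contains a closed point -/
theorem exists_isMaximal_of_isConstructible {R : Type u} [CommRing R] [IsJacobsonRing R]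
    {s : Set (PrimeSpectrum R)} (hs : IsConstructible s) (hne : s.Nonempty) :
    ∃ w ∈ s, w.asIdeal.IsMaximal := by
  obtain ⟨S, rfl⟩ := PrimeSpectrum.exists_constructibleSetData_iff.mpr hs
  obtain ⟨x, hx⟩ := hne
  simp only [PrimeSpectrum.ConstructibleSetData.toSet, Set.mem_iUnion] at hx
  obtain ⟨C, hC, hxC⟩ := hx
  have hlc : IsLocallyClosed C.toSet := by
    unfold PrimeSpectrum.BasicConstructibleSetData.toSet
    rw [Set.diff_eq]
    exact (PrimeSpectrum.isClosed_zeroLocus _).isLocallyClosed.inter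
      (PrimeSpectrum.isClosed_zeroLocus _).isOpen_compl.isLocallyClosed
  obtain ⟨w, hwC, hwcl⟩ := nonempty_inter_closedPoints ⟨x, hxC⟩ hlc
  exact ⟨w, Set.mem_biUnion hC hwC, (PrimeSpectrum.isClosed_singleton_iff_isMaximal w).mp hwcl⟩

/-- two algebra maps to the field vanishing on the same maximal ideal agree -/
theorem algHom_eq_of_le_ker {k : Type u} [Field k] {R : Type u} [CommRing R] [Algebra k R]
    (𝔫 : Ideal R) (h𝔫 : 𝔫.IsMaximal) (u₁ u₂ : R →ₐ[k] k)
    (h₁ : ∀ f ∈ 𝔫, u₁ f = 0) (h₂ : ∀ f ∈ 𝔫, u₂ f = 0) : u₁ = u₂ := by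
  have hk : 𝔫 = RingHom.ker (u₁ : R →+* k) :=
    h𝔫.eq_of_le (RingHom.ker_ne_top _) (fun f hf => h₁ f hf)
  apply AlgHom.ext
  intro f
  have hf : f - algebraMap k R (u₁ f) ∈ 𝔫 := by
    rw [hk, RingHom.mem_ker]
    change u₁ (f - algebraMap k R (u₁ f)) = 0
    rw [map_sub, AlgHom.commutes, Algebra.algebraMap_self_apply, sub_self]
  have h0 := h₂ _ hf
  rw [map_sub, AlgHom.commutes, Algebra.algebraMap_self_apply, sub_eq_zero] at h0
  exact h0.symm

/-- two algebra maps between finite type algebras over an algebraically closed field with the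
same (proper) kernel have a common point in their images on `k`-points. -/
theorem exists_common_point {k : Type u} [Field k] [IsAlgClosed k] {R A : Type u} [CommRing R]
    [CommRing A] [Algebra k R] [Algebra k A] [Algebra.FiniteType k R] [Algebra.FiniteType k A]
    [Nontrivial A] (φ ψ : R →ₐ[k] A) (h : RingHom.ker φ = RingHom.ker ψ) :
    ∃ g₁ g₂ : A →ₐ[k] k, g₁.comp φ = g₂.comp ψ := by
  have hN : IsNoetherianRing R := Algebra.FiniteType.isNoetherianRing k R
  have hJ : IsJacobsonRing R := isJacobsonRing_of_finiteType (A := k) (B := R)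
  have hfp : ∀ χ : R →ₐ[k] A, (χ : R →+* A).FinitePresentation := by
    intro χ
    apply RingHom.FinitePresentation.of_finiteType.mp
    have h1 : ((χ : R →+* A).comp (algebraMap k R)).FiniteType := by
      rw [AlgHom.comp_algebraMap]
      exact RingHom.finiteType_algebraMap.mpr inferInstance
    exact RingHom.FiniteType.of_comp_finiteType h1
  have hne : RingHom.ker φ ≠ ⊤ := RingHom.ker_ne_top _
  obtain ⟨⟨η, hη⟩⟩ := Ideal.nonempty_minimalPrimes hne
  have hη1 : η ∈ ((⊥ : Ideal A).comap (φ : R →+* A)).minimalPrimes := by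
    rw [← RingHom.ker_eq_comap_bot]; exact hη
  have hη2 : η ∈ ((⊥ : Ideal A).comap (ψ : R →+* A)).minimalPrimes := by
    rw [← RingHom.ker_eq_comap_bot]
    have : RingHom.ker (ψ : R →+* A) = RingHom.ker φ := h.symm
    rw [this]; exact hη
  obtain ⟨P₁, hP₁, -, hP₁η⟩ := Ideal.exists_comap_eq_of_mem_minimalPrimes (φ : R →+* A) η hη1
  obtain ⟨P₂, hP₂, -, hP₂η⟩ := Ideal.exists_comap_eq_of_mem_minimalPrimes (ψ : R →+* A) η hη2
  have hηp : η.IsPrime := hη.1.1
  let T₁ : Set (PrimeSpectrum R) := Set.range (PrimeSpectrum.comap (φ : R →+* A))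
  let T₂ : Set (PrimeSpectrum R) := Set.range (PrimeSpectrum.comap (ψ : R →+* A))
  have hT : IsConstructible (T₁ ∩ T₂) :=
    (PrimeSpectrum.isConstructible_range_comap (hfp φ)).inter
      (PrimeSpectrum.isConstructible_range_comap (hfp ψ))
  have hTne : (T₁ ∩ T₂).Nonempty := by
    refine ⟨⟨η, hηp⟩, ⟨⟨P₁, hP₁⟩, ?_⟩, ⟨⟨P₂, hP₂⟩, ?_⟩⟩
    · exact PrimeSpectrum.ext hP₁η
    · exact PrimeSpectrum.ext hP₂η
  obtain ⟨w, ⟨⟨Q₁, hQ₁⟩, ⟨Q₂, hQ₂⟩⟩, hwmax⟩ := exists_isMaximal_of_isConstructible hT hTne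
  have key : ∀ (χ : R →ₐ[k] A) (Q : PrimeSpectrum A),
      PrimeSpectrum.comap (χ : R →+* A) Q = w → ∃ g : A →ₐ[k] k, ∀ f ∈ w.asIdeal, g (χ f) = 0 := by
    intro χ Q hQ
    obtain ⟨𝔪, h𝔪, hQ𝔪⟩ := Ideal.exists_le_maximal Q.asIdeal Q.2.ne_top
    obtain ⟨g, hg⟩ := S11795.exists_point_of_isMaximal k A 𝔪 h𝔪
    refine ⟨g, fun f hf => hg _ (hQ𝔪 ?_)⟩
    rw [← hQ] at hf
    exact hf
  obtain ⟨g₁, hg₁⟩ := key φ Q₁ hQ₁
  obtain ⟨g₂, hg₂⟩ := key ψ Q₂ hQ₂
  exact ⟨g₁, g₂, algHom_eq_of_le_ker w.asIdeal hwmax _ _ hg₁ hg₂⟩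

end ClosedPt

section Orbits

variable {k : Type u} [Field k] {A : Type u} [CommRing A] [HopfAlgebra k A]
variable {R : Type u} [CommRing R] [Algebra k R] [HopfRep.Comod k A R] [GLin.IsCoactAlg k A R]

variable (k A) in
theorem isCoactAlg_regular : GLin.IsCoactAlg k A A :=
  ⟨Bialgebra.comul_one, Bialgebra.comul_mul⟩

/-- left translation `a ↦ Σ g(a₁) a₂` by a point `g` -/
noncomputable def trans (g : A →ₐ[k] k) : A →ₐ[k] A :=
  haveI := isCoactAlg_regular k A
  GLin.orbitHom k A g

theorem trans_apply (g : A →ₐ[k] k) (a : A) :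
    trans g a = TensorProduct.lid k A (g.toLinearMap.rTensor A
      (CoalgebraStruct.comul (R := k) a)) := by
  haveI := isCoactAlg_regular k A
  exact S11794.orbitHom_apply g a

theorem orbitHom_comp (y : R →ₐ[k] k) (g : A →ₐ[k] k) (f : R) :
    GLin.orbitHom k A (g.comp (GLin.orbitHom k A y)) f = trans g (GLin.orbitHom k A y f) := by
  have hlin : (GLin.orbitHom k A y).toLinearMap = S11794.oLin A y :=
    LinearMap.ext fun f => S11794.orbitHom_apply y f
  have hc := LinearMap.congr_fun (S11794.isComodHom_oLin (A := A) y) f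
  simp only [LinearMap.comp_apply] at hc
  rw [trans_apply, S11794.orbitHom_apply, S11794.oLin_apply, S11794.orbitHom_apply]
  have h2 : (g.comp (GLin.orbitHom k A y)).toLinearMap = g.toLinearMap ∘ₗ S11794.oLin A y := by
    rw [← hlin]; rfl
  rw [h2, LinearMap.rTensor_comp, LinearMap.comp_apply, ← hc]
  rfl

theorem inv_aux (g : A →ₐ[k] k) (t : A ⊗[k] A) :
    g (HopfAlgebra.antipodeAlgHom k A (TensorProduct.lid k A (g.toLinearMap.rTensor A t))) =
      g (LinearMap.mul' k A ((HopfAlgebraStruct.antipode (R := k) (A := A)).lTensor A t)) := by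
  induction t using TensorProduct.induction_on with
  | zero => simp
  | add s t hs ht => simp only [map_add, hs, ht]
  | tmul a b =>
    simp only [LinearMap.rTensor_tmul, AlgHom.toLinearMap_apply, TensorProduct.lid_tmul,
      map_smul, smul_eq_mul, LinearMap.lTensor_tmul, LinearMap.mul'_apply, map_mul]
    rfl

theorem inv_comp_trans (g : A →ₐ[k] k) (a : A) :
    g (HopfAlgebra.antipodeAlgHom k A (trans g a)) = CoalgebraStruct.counit (R := k) a := by
  rw [trans_apply, inv_aux, HopfAlgebra.mul_antipode_lTensor_comul_apply, AlgHom.commutes,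
    Algebra.algebraMap_self_apply]

/-- the orbit relation on `k`-points -/
def Orb (y z : R →ₐ[k] k) : Prop := ∃ g : A →ₐ[k] k, z = g.comp (GLin.orbitHom k A y)

variable (A) in
theorem Orb.trans' {y z w : R →ₐ[k] k} (h1 : Orb (A := A) y z) (h2 : Orb (A := A) z w) :
    Orb (A := A) y w := by
  obtain ⟨g, rfl⟩ := h1
  obtain ⟨h, rfl⟩ := h2
  refine ⟨h.comp (trans g), ?_⟩
  apply AlgHom.ext
  intro f
  simp only [AlgHom.comp_apply]
  rw [orbitHom_comp]

variable (A) in
theorem Orb.symm' {y z : R →ₐ[k] k} (h1 : Orb (A := A) y z) : Orb (A := A) z y := by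
  obtain ⟨g, rfl⟩ := h1
  refine ⟨g.comp (HopfAlgebra.antipodeAlgHom k A), ?_⟩
  apply AlgHom.ext
  intro f
  simp only [AlgHom.comp_apply]
  rw [orbitHom_comp, inv_comp_trans, ← S11794.apply_eq_counit_orbitHom]

/-- `ker (orbitHom y) ≤ ker z` implies `ker (orbitHom y) ≤ ker (orbitHom z)` -/
theorem ker_orbitHom_le_of_le (y z : R →ₐ[k] k)
    (h : RingHom.ker (GLin.orbitHom k A y) ≤ RingHom.ker z) :
    RingHom.ker (GLin.orbitHom k A y) ≤ RingHom.ker (GLin.orbitHom k A z) := by
  intro f hf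
  obtain ⟨t, ht⟩ := S11794.isSubcomod_ker_orbitHom (A := A) y f hf
  rw [RingHom.mem_ker, S11794.orbitHom_apply, S11794.oLin_apply]
  have h0 : z.toLinearMap ∘ₗ
      ((RingHom.ker (GLin.orbitHom k A y)).restrictScalars k).subtype = 0 := by
    apply LinearMap.ext
    rintro ⟨w, hw⟩
    exact h hw
  have h1 : z.toLinearMap.rTensor A (H40.ρ k A R f) = 0 := by
    change z.toLinearMap.rTensor A (HopfRep.Comod.coact (k := k) (A := A) f) = 0
    rw [← ht, ← LinearMap.comp_apply, ← LinearMap.rTensor_comp, h0, LinearMap.rTensor_zero,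
      LinearMap.zero_apply]
  rw [h1, map_zero]

theorem ker_orbitHom_le_ker (y : R →ₐ[k] k) :
    RingHom.ker (GLin.orbitHom k A y) ≤ RingHom.ker y := by
  intro f hf
  rw [RingHom.mem_ker, S11794.apply_eq_counit_orbitHom (A := A) y, (RingHom.mem_ker).mp hf,
    map_zero]

theorem ker_orbitHom_eq_of_orb {y z : R →ₐ[k] k} (h : Orb (A := A) y z) :
    RingHom.ker (GLin.orbitHom k A y) = RingHom.ker (GLin.orbitHom k A z) := by
  have key : ∀ {y z : R →ₐ[k] k}, Orb (A := A) y z →
      RingHom.ker (GLin.orbitHom k A y) ≤ RingHom.ker (GLin.orbitHom k A z) := by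
    rintro y z ⟨g, rfl⟩ f hf
    rw [RingHom.mem_ker, orbitHom_comp, (RingHom.mem_ker).mp hf, map_zero]
  exact le_antisymm (key h) (key (Orb.symm' A h))

/-- points with the same orbit closure lie in the same orbit -/
theorem orb_of_ker_eq [IsAlgClosed k] [Algebra.FiniteType k A] [Algebra.FiniteType k R]
    (y z : R →ₐ[k] k)
    (h : RingHom.ker (GLin.orbitHom k A y) = RingHom.ker (GLin.orbitHom k A z)) :
    Orb (A := A) y z := by
  haveI : Nontrivial A := by
    refine ⟨⟨0, 1, fun h01 => ?_⟩⟩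
    have := congrArg (CoalgebraStruct.counit (R := k) (A := A)) h01
    rw [map_zero, Bialgebra.counit_one] at this
    exact zero_ne_one this
  obtain ⟨g₁, g₂, h12⟩ := exists_common_point (GLin.orbitHom k A y) (GLin.orbitHom k A z) h
  have h1 : Orb (A := A) y (g₁.comp (GLin.orbitHom k A y)) := ⟨g₁, rfl⟩
  have h2 : Orb (A := A) z (g₁.comp (GLin.orbitHom k A y)) := ⟨g₂, h12⟩
  exact Orb.trans' A h1 (Orb.symm' A h2)

/-- the statement-level closure relation is `ker (orbitHom y) ≤ ker z` -/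
theorem cl_iff [IsAlgClosed k] [Algebra.FiniteType k A] (y z : R →ₐ[k] k) :
    (∀ f : R, (∀ g : A →ₐ[k] k, y (HopfRep.Comod.act k A R g f) = 0) → z f = 0) ↔
      RingHom.ker (GLin.orbitHom k A y) ≤ RingHom.ker z := by
  constructor
  · intro h f hf
    rw [RingHom.mem_ker]
    apply h
    intro g
    rw [S11794.apply_act, (RingHom.mem_ker).mp hf, map_zero]
  · intro h f hf
    have hnil : IsNilpotent (GLin.orbitHom k A y f) :=
      S11794.isNilpotent_of_forall_point k A _ fun g => by rw [← S11794.apply_act]; exact hf g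
    obtain ⟨m, hm⟩ := hnil
    have hfm : f ^ m ∈ RingHom.ker (GLin.orbitHom k A y) := by
      rw [RingHom.mem_ker, map_pow]; exact hm
    have hz0 : z (f ^ m) = 0 := (RingHom.mem_ker).mp (h hfm)
    rw [map_pow] at hz0
    exact eq_zero_of_pow_eq_zero hz0

/-- the statement-level orbit relation -/
theorem orb_iff (y z : R →ₐ[k] k) :
    (∃ g : A →ₐ[k] k, ∀ f : R, z f = y (HopfRep.Comod.act k A R g f)) ↔ Orb (A := A) y z := by
  constructor
  · rintro ⟨g, hg⟩
    refine ⟨g, AlgHom.ext fun f => ?_⟩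
    rw [hg f, S11794.apply_act]; rfl
  · rintro ⟨g, rfl⟩
    refine ⟨g, fun f => ?_⟩
    rw [S11794.apply_act]; rfl

end Orbits

end Groth.Agent.H62.OrbitPts
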