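import Mathlib.RingTheory.IntegralClosure.IntegrallyClosed
import Mathlib.RingTheory.Polynomial.ScaleRoots
import Mathlib.RingTheory.Localization.FractionRing
import Mathlib.Algebra.Ring.Subring.Basic
import Mathlib.Algebra.Ring.Pi
import Mathlib.Tactic.LinearCombination
import Mathlib.Tactic.FieldSimp

/-!
# Equalizers inside a finite product of normal domains (helper62)

`S = Π i, D i` a finite product of integrally closed domains, `F` a family of ring maps `S → R`
preserving non-zero-divisors, `A ⊆ S` the subring where all members of `F` agree.  Then `A` is a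
finite product of integrally closed domains (`main`).
-/

set_option autoImplicit false
universe u v
open Polynomial

namespace Groth.Agent.H62.ProdNormal

/-- In an integrally closed domain a homogenized integral equation gives divisibility. -/
theorem dvd_of_scaleRoots_eval_eq_zero {D : Type*} [CommRing D] [IsDomain D] [IsIntegrallyClosed D]
    (p : D[X]) (hp : p.Monic) (a b : D) (hb : b ≠ 0) (h : (p.scaleRoots b).eval a = 0) : b ∣ a := by
  have hinj := IsFractionRing.injective D (FractionRing D)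
  have hbK : algebraMap D (FractionRing D) b ≠ 0 := by
    intro h0
    exact hb (hinj (by rw [h0, map_zero]))
  have hab : algebraMap D (FractionRing D) b *
      (algebraMap D (FractionRing D) a / algebraMap D (FractionRing D) b) =
      algebraMap D (FractionRing D) a := by
    field_simp
  have h1 : eval₂ (algebraMap D (FractionRing D)) (algebraMap D (FractionRing D) b *
      (algebraMap D (FractionRing D) a / algebraMap D (FractionRing D) b)) (p.scaleRoots b) = 0 := by
    rw [hab, Polynomial.eval₂_at_apply, h, map_zero]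
  rw [scaleRoots_eval₂_mul] at h1
  have h2 : eval₂ (algebraMap D (FractionRing D))
      (algebraMap D (FractionRing D) a / algebraMap D (FractionRing D) b) p = 0 :=
    (mul_eq_zero.mp h1).resolve_left (pow_ne_zero _ hbK)
  have hint : IsIntegral D (algebraMap D (FractionRing D) a / algebraMap D (FractionRing D) b) :=
    ⟨p, hp, h2⟩
  obtain ⟨y, hy⟩ := IsIntegrallyClosed.isIntegral_iff.mp hint
  refine ⟨y, hinj ?_⟩
  rw [map_mul, hy, hab]

section Main

variable {ι : Type u} [Fintype ι] (D : ι → Type u) [∀ i, CommRing (D i)] [∀ i, IsDomain (D i)]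

open Classical in
/-- indicator function of a set of indices, as an element of the product ring -/
noncomputable def ind (c : Set ι) : Π i, D i := fun i => if i ∈ c then 1 else 0

variable {D}

omit [Fintype ι] in
theorem mem_nzd_of_forall_ne {s : Π i, D i} (h : ∀ i, s i ≠ 0) :
    s ∈ nonZeroDivisors (Π i, D i) := by
  rw [mem_nonZeroDivisors_iff_right]
  intro x hx
  funext i
  have := congrFun hx i
  simp only [Pi.mul_apply, Pi.zero_apply] at this
  exact (mul_eq_zero.mp this).resolve_right (h i)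

variable {R : Type v} [CommRing R] (F : Set ((Π i, D i) →+* R)) (A : Subring (Π i, D i))

omit [Fintype ι] in
theorem ind_zeroSet_mem
    (hF : ∀ f ∈ F, ∀ s ∈ nonZeroDivisors (Π i, D i), f s ∈ nonZeroDivisors R)
    (hA : ∀ a, a ∈ A ↔ ∀ f ∈ F, ∀ f' ∈ F, f a = f' a) {a : Π i, D i} (ha : a ∈ A) :
    ind D {i | a i = 0} ∈ A := by
  classical
  set e := ind D {i | a i = 0} with he
  have hae : a * e = 0 := by
    funext i
    simp only [Pi.mul_apply, Pi.zero_apply, he, ind, Set.mem_ofPred_eq]
    split_ifs with h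
    · rw [h, zero_mul]
    · rw [mul_zero]
  have hee : e * e = e := by
    funext i
    simp only [Pi.mul_apply, he, ind]
    split_ifs <;> simp
  have hnzd : a + e ∈ nonZeroDivisors (Π i, D i) := by
    apply mem_nzd_of_forall_ne
    intro i
    simp only [Pi.add_apply, he, ind, Set.mem_ofPred_eq]
    split_ifs with h
    · rw [h, zero_add]; exact one_ne_zero
    · rw [add_zero]; exact h
  rw [hA]
  intro f hf f' hf'
  have hα : f a = f' a := (hA a).1 ha f hf f' hf'
  have h1 : f' a * f e = 0 := by rw [← hα, ← map_mul, hae, map_zero]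
  have h2 : f a * f' e = 0 := by rw [hα, ← map_mul, hae, map_zero]
  have h3 : f e * f e = f e := by rw [← map_mul, hee]
  have h4 : f' e * f' e = f' e := by rw [← map_mul, hee]
  have n1 : f a + f e ∈ nonZeroDivisors R := by rw [← map_add]; exact hF f hf _ hnzd
  have n2 : f' a + f' e ∈ nonZeroDivisors R := by rw [← map_add]; exact hF f' hf' _ hnzd
  have k1 : f' e = f e * f' e := by
    have : (f a + f e) * (f' e - f e * f' e) = 0 := by
      linear_combination (1 - f e) * h2 - f' e * h3
    exact sub_eq_zero.mp ((mul_left_mem_nonZeroDivisors_eq_zero_iff n1).1 this)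
  have k2 : f e = f e * f' e := by
    have : (f' a + f' e) * (f e - f e * f' e) = 0 := by
      linear_combination (1 - f' e) * h1 - f e * h4
    exact sub_eq_zero.mp ((mul_left_mem_nonZeroDivisors_eq_zero_iff n2).1 this)
  exact k2.trans k1.symm

/-- the relation on indices: same vanishing behaviour for all elements of `A` -/
def rel : Setoid ι where
  r i j := ∀ a ∈ A, a i = 0 ↔ a j = 0
  iseqv := ⟨fun _ _ _ => Iff.rfl, fun h a ha => (h a ha).symm,
    fun h1 h2 a ha => (h1 a ha).trans (h2 a ha)⟩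

/-- the class of indices over a point of the quotient -/
def cls (c : Quotient (rel A)) : Set ι := {i | Quotient.mk (rel A) i = c}

omit [Fintype ι] in
theorem exists_sep
    (hF : ∀ f ∈ F, ∀ s ∈ nonZeroDivisors (Π i, D i), f s ∈ nonZeroDivisors R)
    (hA : ∀ a, a ∈ A ↔ ∀ f ∈ F, ∀ f' ∈ F, f a = f' a) (i₀ j : ι) :
    ∃ u ∈ A, (∀ i, u i = 0 ∨ u i = 1) ∧ u i₀ = 1 ∧ (¬ (rel A).r i₀ j → u j = 0) := by
  classical
  by_cases hr : (rel A).r i₀ j
  · exact ⟨1, A.one_mem, fun i => Or.inr rfl, rfl, fun h => absurd hr h⟩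
  · have hr' : ¬ ∀ a ∈ A, a i₀ = 0 ↔ a j = 0 := hr
    push Not at hr'
    obtain ⟨a, ha, hne⟩ := hr'
    have hz := ind_zeroSet_mem F A hF hA ha
    rcases hne with ⟨h0, hj⟩ | ⟨h0, hj⟩
    · refine ⟨ind D {i | a i = 0}, hz, fun i => ?_, ?_, fun _ => ?_⟩
      · simp only [ind]; split_ifs
        · exact Or.inr rfl
        · exact Or.inl rfl
      · simp only [ind, Set.mem_ofPred_eq, if_pos h0]
      · simp only [ind, Set.mem_ofPred_eq, if_neg hj]
    · refine ⟨1 - ind D {i | a i = 0}, A.sub_mem A.one_mem hz, fun i => ?_, ?_, fun _ => ?_⟩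
      · simp only [Pi.sub_apply, Pi.one_apply, ind]; split_ifs
        · exact Or.inl (sub_self _)
        · exact Or.inr (sub_zero _)
      · simp only [Pi.sub_apply, Pi.one_apply, ind, Set.mem_ofPred_eq, if_neg h0, sub_zero]
      · simp only [Pi.sub_apply, Pi.one_apply, ind, Set.mem_ofPred_eq, if_pos hj, sub_self]

theorem ind_cls_mem
    (hF : ∀ f ∈ F, ∀ s ∈ nonZeroDivisors (Π i, D i), f s ∈ nonZeroDivisors R)
    (hA : ∀ a, a ∈ A ↔ ∀ f ∈ F, ∀ f' ∈ F, f a = f' a) (c : Quotient (rel A)) :
    ind D (cls A c) ∈ A := by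
  classical
  obtain ⟨i₀, rfl⟩ := Quotient.exists_rep c
  choose U hUA hU01 hU1 hU0 using fun j => exists_sep F A hF hA i₀ j
  have hprod : ∏ j, U j = ind D (cls A (Quotient.mk (rel A) i₀)) := by
    funext i
    rw [Finset.prod_apply]
    by_cases hi : i ∈ cls A (Quotient.mk (rel A) i₀)
    · have hri : (rel A).r i₀ i := (rel A).iseqv.symm (Quotient.exact hi)
      simp only [ind, if_pos hi]
      refine Finset.prod_eq_one (fun j _ => ?_)
      rcases hU01 j i with h | h
      · have := (hri (U j) (hUA j)).2 h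
        rw [hU1 j] at this
        exact absurd this one_ne_zero
      · exact h
    · have hri : ¬ (rel A).r i₀ i := fun h => hi (Quotient.sound h).symm
      simp only [ind, if_neg hi]
      exact Finset.prod_eq_zero (Finset.mem_univ i) (hU0 i hri)
  rw [← hprod]
  exact Subring.prod_mem A (fun j _ => hUA j)

/-- restriction of a function to a class of indices -/
def proj (c : Quotient (rel A)) : (Π i, D i) →+* Π i : cls A c, D i :=
  RingHom.pi (fun i : cls A c => Pi.evalRingHom D (i : ι))

omit [Fintype ι] [∀ i, IsDomain (D i)] in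
theorem rel_of_mem_cls {c : Quotient (rel A)} (i i' : cls A c) : (rel A).r (i : ι) (i' : ι) :=
  Quotient.exact (i.2.trans i'.2.symm)

omit [Fintype ι] [∀ i, IsDomain (D i)] in
theorem ne_zero_all {c : Quotient (rel A)} {y : Π i : cls A c, D i} (hy : y ∈ A.map (proj A c))
    (h0 : y ≠ 0) (i : cls A c) : y i ≠ 0 := by
  obtain ⟨a, ha, rfl⟩ := Subring.mem_map.mp hy
  obtain ⟨i₁, hi₁⟩ := Function.ne_iff.mp h0
  intro hi
  exact hi₁ ((rel_of_mem_cls A i i₁ a ha).1 hi)

omit [Fintype ι] in
theorem isDomain_E (c : Quotient (rel A)) : IsDomain ↥(A.map (proj A c)) := by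
  obtain ⟨i₀, hi₀⟩ := Quotient.exists_rep c
  have hnt : Nontrivial ↥(A.map (proj A c)) := by
    refine ⟨⟨0, 1, fun h => ?_⟩⟩
    have : (0 : D i₀) = 1 := congrFun (congrArg Subtype.val h) ⟨i₀, hi₀⟩
    exact zero_ne_one this
  have hnz : NoZeroDivisors ↥(A.map (proj A c)) := by
    refine ⟨fun {y z} h => ?_⟩
    by_contra hcon
    push Not at hcon
    have hy : (y : Π i : cls A c, D i) ≠ 0 := fun h' => hcon.1 (Subtype.ext h')
    have hz : (z : Π i : cls A c, D i) ≠ 0 := fun h' => hcon.2 (Subtype.ext h')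
    have h1 := ne_zero_all A y.2 hy ⟨i₀, hi₀⟩
    have h2 := ne_zero_all A z.2 hz ⟨i₀, hi₀⟩
    have : (y : Π i : cls A c, D i) ⟨i₀, hi₀⟩ * (z : Π i : cls A c, D i) ⟨i₀, hi₀⟩ = 0 :=
      congrFun (congrArg Subtype.val h) ⟨i₀, hi₀⟩
    exact mul_ne_zero h1 h2 this
  exact NoZeroDivisors.to_isDomain _

theorem isIntegrallyClosed_E [∀ i, IsIntegrallyClosed (D i)]
    (hF : ∀ f ∈ F, ∀ s ∈ nonZeroDivisors (Π i, D i), f s ∈ nonZeroDivisors R)
    (hA : ∀ a, a ∈ A ↔ ∀ f ∈ F, ∀ f' ∈ F, f a = f' a) (c : Quotient (rel A)) :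
    IsIntegrallyClosed ↥(A.map (proj A c)) := by
  have hdom := isDomain_E A c
  classical
  rw [isIntegrallyClosed_iff (FractionRing ↥(A.map (proj A c)))]
  intro x hx
  obtain ⟨a, b, hb, rfl⟩ := IsFractionRing.div_surjective (A := ↥(A.map (proj A c))) x
  obtain ⟨p, hp, hpx⟩ := hx
  have hinj := IsFractionRing.injective ↥(A.map (proj A c)) (FractionRing ↥(A.map (proj A c)))
  have h1 := scaleRoots_eval₂_eq_zero_of_eval₂_div_eq_zero hinj hpx hb
  rw [Polynomial.eval₂_at_apply] at h1
  have h2 : (p.scaleRoots b).eval a = 0 := hinj (by rw [h1, map_zero])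
  have hb0 : (b : Π i : cls A c, D i) ≠ 0 := fun h' => nonZeroDivisors.ne_zero hb (Subtype.ext h')
  have hdiv : ∀ i : cls A c, (b : Π i : cls A c, D i) i ∣ (a : Π i : cls A c, D i) i := by
    intro i
    let φ : ↥(A.map (proj A c)) →+* D i :=
      (Pi.evalRingHom (fun i : cls A c => D i) i).comp (Subring.subtype _)
    have hφp : (p.map φ).Monic := hp.map φ
    have h3 : ((p.map φ).scaleRoots (φ b)).eval (φ a) = 0 := by
      rw [← map_scaleRoots p b φ (by rw [hp.leadingCoeff, map_one]; exact one_ne_zero),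
        Polynomial.eval_map, Polynomial.eval₂_at_apply, h2, map_zero]
    exact dvd_of_scaleRoots_eval_eq_zero _ hφp _ _ (ne_zero_all A b.2 hb0 i) h3
  choose s hs using hdiv
  obtain ⟨a', ha', haa⟩ := Subring.mem_map.mp a.2
  obtain ⟨b', hb', hbb⟩ := Subring.mem_map.mp b.2
  have he : ind D (cls A c) ∈ A := ind_cls_mem F A hF hA c
  let s' : Π i, D i := fun i => if h : i ∈ cls A c then s ⟨i, h⟩ else 0
  let b'' : Π i, D i := b' * ind D (cls A c) + (1 - ind D (cls A c))
  let a'' : Π i, D i := a' * ind D (cls A c)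
  have hb''A : b'' ∈ A := A.add_mem (A.mul_mem hb' he) (A.sub_mem A.one_mem he)
  have ha''A : a'' ∈ A := A.mul_mem ha' he
  have ha'i : ∀ (i : ι) (h : i ∈ cls A c), a' i = (a : Π i : cls A c, D i) ⟨i, h⟩ := by
    intro i h; rw [← haa]; rfl
  have hb'i : ∀ (i : ι) (h : i ∈ cls A c), b' i = (b : Π i : cls A c, D i) ⟨i, h⟩ := by
    intro i h; rw [← hbb]; rfl
  have hmul : b'' * s' = a'' := by
    funext i
    simp only [b'', a'', s', Pi.mul_apply, Pi.add_apply, Pi.sub_apply, Pi.one_apply, ind]
    by_cases h : i ∈ cls A c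
    · simp only [if_pos h, dif_pos h, mul_one, sub_self, add_zero]
      rw [ha'i i h, hb'i i h, hs ⟨i, h⟩]
    · simp only [if_neg h, dif_neg h, mul_zero, sub_zero, zero_add]
  have hb''nzd : b'' ∈ nonZeroDivisors (Π i, D i) := by
    apply mem_nzd_of_forall_ne
    intro i
    simp only [b'', Pi.mul_apply, Pi.add_apply, Pi.sub_apply, Pi.one_apply, ind]
    by_cases h : i ∈ cls A c
    · simp only [if_pos h, mul_one, sub_self, add_zero]
      rw [hb'i i h]
      exact ne_zero_all A b.2 hb0 ⟨i, h⟩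
    · simp only [if_neg h, mul_zero, sub_zero, zero_add]
      exact one_ne_zero
  have hs'A : s' ∈ A := by
    rw [hA]
    intro f hf f' hf'
    have e1 : f b'' * f s' = f b'' * f' s' := by
      rw [← map_mul, hmul, (hA a'').1 ha''A f hf f' hf', ← hmul, map_mul,
        (hA b'').1 hb''A f hf f' hf']
    exact (mul_cancel_left_mem_nonZeroDivisors (hF f hf _ hb''nzd)).1 e1
  have hsE : proj A c s' ∈ A.map (proj A c) := Subring.mem_map.mpr ⟨s', hs'A, rfl⟩
  refine ⟨⟨proj A c s', hsE⟩, ?_⟩
  have hab : a = b * ⟨proj A c s', hsE⟩ := by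
    apply Subtype.ext
    funext i
    show (a : Π i : cls A c, D i) i = (b : Π i : cls A c, D i) i * proj A c s' i
    have h8 : proj A c s' i = s i := by
      show s' i = s i
      simp only [s', dif_pos i.2]
    rw [h8, hs i]
  have hbK : algebraMap ↥(A.map (proj A c)) (FractionRing ↥(A.map (proj A c))) b ≠ 0 :=
    map_ne_zero_of_mem_nonZeroDivisors _ hinj hb
  rw [hab, map_mul, mul_div_cancel_left₀ _ hbK]

/-- the comparison map -/
def toProd : A →+* Π c : Quotient (rel A), ↥(A.map (proj A c)) :=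
  RingHom.pi (fun c => (proj A c).restrict A (A.map (proj A c))
    (fun x hx => Subring.mem_map.mpr ⟨x, hx, rfl⟩))

theorem bijective_toProd
    (hF : ∀ f ∈ F, ∀ s ∈ nonZeroDivisors (Π i, D i), f s ∈ nonZeroDivisors R)
    (hA : ∀ a, a ∈ A ↔ ∀ f ∈ F, ∀ f' ∈ F, f a = f' a) : Function.Bijective (toProd A) := by
  classical
  have hfin : Fintype (Quotient (rel A)) := Fintype.ofFinite _
  constructor
  · rw [injective_iff_map_eq_zero]
    intro a ha
    apply Subtype.ext
    funext i
    have h1 := congrFun ha (Quotient.mk (rel A) i)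
    have h2 : (a : Π i, D i) i = 0 := congrFun (congrArg Subtype.val h1) ⟨i, rfl⟩
    exact h2
  · intro y
    have hy : ∀ c, ∃ a ∈ A, proj A c a = (y c : Π i : cls A c, D i) :=
      fun c => Subring.mem_map.mp (y c).2
    choose g hgA hg using hy
    have hmem : (∑ c, ind D (cls A c) * g c) ∈ A :=
      A.sum_mem (fun c _ => A.mul_mem (ind_cls_mem F A hF hA c) (hgA c))
    refine ⟨⟨_, hmem⟩, ?_⟩
    funext c
    apply Subtype.ext
    funext i
    show (∑ c', ind D (cls A c') * g c') (i : ι) = (y c : Π i : cls A c, D i) i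
    rw [Finset.sum_apply, Finset.sum_eq_single c]
    · simp only [Pi.mul_apply, ind, if_pos i.2, one_mul]
      rw [← hg c]
      rfl
    · intro c' _ hc'
      have hni : (i : ι) ∉ cls A c' := fun h => hc' (h.symm.trans i.2)
      simp only [Pi.mul_apply, ind, if_neg hni, zero_mul]
    · intro h
      exact absurd (Finset.mem_univ c) h

theorem main [∀ i, IsIntegrallyClosed (D i)]
    (hF : ∀ f ∈ F, ∀ s ∈ nonZeroDivisors (Π i, D i), f s ∈ nonZeroDivisors R)
    (hA : ∀ a, a ∈ A ↔ ∀ f ∈ F, ∀ f' ∈ F, f a = f' a) :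
    ∃ (κ : Type u) (_ : Fintype κ) (E : κ → Type u) (_ : ∀ j, CommRing (E j))
      (_ : ∀ j, IsDomain (E j)) (_ : ∀ j, IsIntegrallyClosed (E j)), Nonempty (A ≃+* Π j, E j) :=
  ⟨Quotient (rel A), Fintype.ofFinite _, fun c => ↥(A.map (proj A c)), fun _ => inferInstance,
    fun c => isDomain_E A c, fun c => isIntegrallyClosed_E F A hF hA c,
    ⟨RingEquiv.ofBijective (toProd A) (bijective_toProd F A hF hA)⟩⟩

end Main

end Groth.Agent.H62.ProdNormal
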