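import Mathlib

set_option autoImplicit false

universe u

open CategoryTheory CategoryTheory.Limits AlgebraicGeometry MonoidalCategory CartesianMonoidalCategory
  MonObj GrpObj

namespace Groth.Agent.H62.QAffEXT

/-- morphisms to an affine scheme are determined after precomposition with a morphism inducing an
isomorphism on global sections. -/
theorem cancel_of_isIso_appTop {X W T : Scheme.{u}} [IsAffine T] (w : X ⟶ W) [IsIso w.appTop]
    {f f' : W ⟶ T} (h : w ≫ f = w ≫ f') : f = f' := by
  apply ext_of_isAffine
  have h1 := congrArg Scheme.Hom.appTop h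
  rw [Scheme.Hom.comp_appTop, Scheme.Hom.comp_appTop] at h1
  exact (cancel_mono w.appTop).mp h1

/-- extension of a morphism to an affine scheme along a morphism inducing an isomorphism on global
sections. -/
theorem exists_ext_scheme {X W T : Scheme.{u}} [IsAffine T] (w : X ⟶ W) [IsIso w.appTop]
    (φ : X ⟶ T) : ∃ f : W ⟶ T, w ≫ f = φ := by
  refine ⟨W.toSpecΓ ≫ Spec.map (φ.appTop ≫ inv w.appTop) ≫ T.isoSpec.inv, ?_⟩
  rw [← Category.assoc, Scheme.toSpecΓ_naturality, Category.assoc, ← Category.assoc (Spec.map _),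
    ← Spec.map_comp, Category.assoc, IsIso.inv_hom_id, Category.comp_id, ← Category.assoc,
    ← Scheme.toSpecΓ_naturality, Category.assoc]
  have : T.toSpecΓ ≫ T.isoSpec.inv = 𝟙 T := T.isoSpec.hom_inv_id
  rw [this, Category.comp_id]

/-- morphisms to an affine scheme only see global sections. -/
theorem existsUnique_ext {S : Scheme.{u}} [IsAffine S] {X W T : Over S} (w : X ⟶ W)
    [IsIso w.left.appTop] [IsAffine T.left] (φ : X ⟶ T) : ∃! f : W ⟶ T, w ≫ f = φ := by
  obtain ⟨f₀, hf₀⟩ := exists_ext_scheme w.left φ.left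
  have hover : f₀ ≫ T.hom = W.hom := by
    apply cancel_of_isIso_appTop w.left
    rw [← Category.assoc, hf₀, Over.w φ, Over.w w]
  refine ⟨Over.homMk f₀ hover, ?_, ?_⟩
  · apply Over.OverMorphism.ext
    exact hf₀
  · intro f hf
    apply Over.OverMorphism.ext
    apply cancel_of_isIso_appTop w.left
    change w.left ≫ f.left = w.left ≫ f₀
    rw [hf₀, ← Over.comp_left, hf]

end Groth.Agent.H62.QAffEXT
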