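import Mathlib

set_option autoImplicit false

universe u

open CategoryTheory CategoryTheory.Limits AlgebraicGeometry MonoidalCategory CartesianMonoidalCategory
  MonObj GrpObj

namespace Groth.Agent.H62.QAffGRP

/-- transport of a group structure along a morphism `j : G ⟶ Z` along which morphisms to `Z`
extend uniquely. -/
theorem exists_grpObj_of_ext {C : Type*} [Category C] [CartesianMonoidalCategory C] {G Z : C}
    [GrpObj G] (j : G ⟶ Z)
    (h1 : ∀ φ : G ⟶ Z, ∃! f : Z ⟶ Z, j ≫ f = φ)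
    (h2 : ∀ φ : G ⊗ G ⟶ Z, ∃! f : Z ⊗ Z ⟶ Z, (j ⊗ₘ j) ≫ f = φ)
    (h3 : ∀ f g : (Z ⊗ Z) ⊗ Z ⟶ Z, ((j ⊗ₘ j) ⊗ₘ j) ≫ f = ((j ⊗ₘ j) ⊗ₘ j) ≫ g → f = g) :
    ∃ (_ : GrpObj Z), IsMonHom j := by
  have u1 : ∀ f g : Z ⟶ Z, j ≫ f = j ≫ g → f = g := by
    intro f g h
    obtain ⟨f₀, -, hu⟩ := h1 (j ≫ g)
    rw [hu f h, hu g rfl]
  have u2 : ∀ f g : Z ⊗ Z ⟶ Z, (j ⊗ₘ j) ≫ f = (j ⊗ₘ j) ≫ g → f = g := by
    intro f g h
    obtain ⟨f₀, -, hu⟩ := h2 ((j ⊗ₘ j) ≫ g)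
    rw [hu f h, hu g rfl]
  obtain ⟨m, hm, -⟩ := h2 (μ[G] ≫ j)
  obtain ⟨iv, hiv, -⟩ := h1 (ι[G] ≫ j)
  have hm' : ∀ {W : C} (k : Z ⟶ W), (j ⊗ₘ j) ≫ m ≫ k = μ[G] ≫ j ≫ k := by
    intro W k
    rw [← Category.assoc, hm, Category.assoc]
  have one_mul' : ((η[G] ≫ j) ▷ Z) ≫ m = (λ_ Z).hom := by
    rw [← cancel_epi (λ_ Z).inv, Iso.inv_hom_id]
    apply u1
    rw [Category.comp_id, ← Category.assoc, leftUnitor_inv_naturality, Category.assoc,
      ← Category.assoc (𝟙_ C ◁ j), whisker_exchange, comp_whiskerRight, Category.assoc,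
      Category.assoc, ← Category.assoc (j ▷ G), ← MonoidalCategory.tensorHom_def, hm, MonObj.one_mul_assoc,
      Iso.inv_hom_id_assoc]
  have mul_one' : (Z ◁ (η[G] ≫ j)) ≫ m = (ρ_ Z).hom := by
    rw [← cancel_epi (ρ_ Z).inv, Iso.inv_hom_id]
    apply u1
    rw [Category.comp_id, ← Category.assoc, rightUnitor_inv_naturality, Category.assoc,
      ← Category.assoc (j ▷ 𝟙_ C), ← whisker_exchange, whiskerLeft_comp, Category.assoc,
      Category.assoc, ← Category.assoc (G ◁ j), ← MonoidalCategory.tensorHom_def', hm, MonObj.mul_one_assoc,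
      Iso.inv_hom_id_assoc]
  have mul_assoc' : (m ▷ Z) ≫ m = (α_ Z Z Z).hom ≫ (Z ◁ m) ≫ m := by
    apply h3
    have e1 : ((j ⊗ₘ j) ⊗ₘ j) ≫ (m ▷ Z) = (μ[G] ▷ G) ≫ (j ⊗ₘ j) := by
      rw [← tensorHom_id, tensorHom_comp_tensorHom, hm, Category.comp_id,
        ← tensorHom_id, tensorHom_comp_tensorHom, Category.id_comp]
    have e2 : (j ⊗ₘ (j ⊗ₘ j)) ≫ (Z ◁ m) = (G ◁ μ[G]) ≫ (j ⊗ₘ j) := by
      rw [← id_tensorHom, tensorHom_comp_tensorHom, hm, Category.comp_id,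
        ← id_tensorHom, tensorHom_comp_tensorHom, Category.id_comp]
    rw [← Category.assoc, e1, Category.assoc, hm, ← Category.assoc (((j ⊗ₘ j) ⊗ₘ j)),
      associator_naturality, Category.assoc, ← Category.assoc (j ⊗ₘ (j ⊗ₘ j)), e2, Category.assoc,
      hm, MonObj.mul_assoc_assoc]
  have left_inv' : lift iv (𝟙 Z) ≫ m = toUnit Z ≫ η[G] ≫ j := by
    apply u1
    rw [← Category.assoc, comp_lift, hiv, Category.comp_id]
    have e : lift (ι[G] ≫ j) j = lift ι[G] (𝟙 G) ≫ (j ⊗ₘ j) := by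
      rw [lift_map, Category.id_comp]
    rw [e, Category.assoc, hm, GrpObj.left_inv_assoc, ← Category.assoc j, comp_toUnit]
  have right_inv' : lift (𝟙 Z) iv ≫ m = toUnit Z ≫ η[G] ≫ j := by
    apply u1
    rw [← Category.assoc, comp_lift, hiv, Category.comp_id]
    have e : lift j (ι[G] ≫ j) = lift (𝟙 G) ι[G] ≫ (j ⊗ₘ j) := by
      rw [lift_map, Category.id_comp]
    rw [e, Category.assoc, hm, GrpObj.right_inv_assoc, ← Category.assoc j, comp_toUnit]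
  let inst : GrpObj Z :=
    { one := η[G] ≫ j
      mul := m
      one_mul := one_mul'
      mul_one := mul_one'
      mul_assoc := mul_assoc'
      inv := iv
      left_inv := left_inv'
      right_inv := right_inv' }
  exact ⟨inst, ⟨rfl, hm.symm⟩⟩

end Groth.Agent.H62.QAffGRP
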