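import Mathlib

set_option autoImplicit false

universe u

open CategoryTheory CategoryTheory.Limits AlgebraicGeometry MonoidalCategory CartesianMonoidalCategory
  MonObj GrpObj

namespace Groth.Agent.H62.QAffKU

lemma appLE_top_top {X Y : Scheme.{u}} (f : X ⟶ Y) (e : (⊤ : X.Opens) ≤ f ⁻¹ᵁ ⊤) :
    f.appLE ⊤ ⊤ e = f.appTop :=
  (Scheme.Hom.app_eq_appLE f (U := ⊤)).symm

/-- Künneth for global sections over a field. -/
theorem isPushout_appTop {k : Type u} [Field k] (X T : Over (Spec (CommRingCat.of k)))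
    [QuasiCompact X.hom] [QuasiSeparated X.hom] [QuasiCompact T.hom] [QuasiSeparated T.hom] :
    IsPushout X.hom.appTop T.hom.appTop (fst X T).left.appTop (snd X T).left.appTop := by
  haveI : Subsingleton ↥(Spec (CommRingCat.of k)) :=
    inferInstanceAs (Subsingleton (PrimeSpectrum k))
  have H : IsPullback (pullback.fst X.hom T.hom) (pullback.snd X.hom T.hom) X.hom T.hom :=
    IsPullback.of_hasPullback _ _
  haveI : CompactSpace X.left := QuasiCompact.compactSpace_of_compactSpace X.hom
  haveI : QuasiSeparatedSpace X.left := quasiSeparatedSpace_of_quasiSeparated X.hom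
  haveI : CompactSpace T.left := QuasiCompact.compactSpace_of_compactSpace T.hom
  haveI : QuasiSeparatedSpace T.left := quasiSeparatedSpace_of_quasiSeparated T.hom
  have hUY : (⊤ : (pullback X.hom T.hom).Opens) =
      pullback.fst X.hom T.hom ⁻¹ᵁ ⊤ ⊓ pullback.snd X.hom T.hom ⁻¹ᵁ ⊤ := by simp
  have hflat : (X.hom.appLE ⊤ ⊤ (by simp)).hom.Flat :=
    RingHom.Flat.of_isField (isField_of_isIntegral_of_subsingleton _) _
  have hiso := isIso_pushoutSection_of_isCompact_of_flat_right_of_ringHomFlat H
    (US := ⊤) (UT := ⊤) (UX := ⊤) (by simp) (by simp) hUY (isAffineOpen_top _)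
    isCompact_univ isQuasiSeparated_univ isCompact_univ isQuasiSeparated_univ hflat
  have hpo := (isIso_pushoutSection_iff H _ _ hUY).mp hiso
  have e1 : X.hom.appLE ⊤ ⊤ (by simp) = X.hom.appTop := appLE_top_top _ _
  have e2 : T.hom.appLE ⊤ ⊤ (by simp) = T.hom.appTop := appLE_top_top _ _
  have e3 : (pullback.fst X.hom T.hom).appLE ⊤ ⊤ (by simp) = (pullback.fst X.hom T.hom).appTop :=
    appLE_top_top _ _
  have e4 : (pullback.snd X.hom T.hom).appLE ⊤ ⊤ (by simp) = (pullback.snd X.hom T.hom).appTop :=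
    appLE_top_top _ _
  rw [e1, e2, e3, e4] at hpo
  exact hpo

theorem isIso_tensorHom_appTop {k : Type u} [Field k] {X X' T T' : Over (Spec (CommRingCat.of k))}
    [QuasiCompact X.hom] [QuasiSeparated X.hom] [QuasiCompact T.hom] [QuasiSeparated T.hom]
    [QuasiCompact X'.hom] [QuasiSeparated X'.hom] [QuasiCompact T'.hom] [QuasiSeparated T'.hom]
    (a : X ⟶ X') (b : T ⟶ T') [IsIso a.left.appTop] [IsIso b.left.appTop] :
    IsIso (a ⊗ₘ b).left.appTop := by
  have P := isPushout_appTop X T
  have P' := isPushout_appTop X' T'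
  have hf : (fst X' T').left.appTop ≫ (a ⊗ₘ b).left.appTop =
      a.left.appTop ≫ (fst X T).left.appTop := by
    rw [← Scheme.Hom.comp_appTop, ← Scheme.Hom.comp_appTop, ← Over.comp_left, ← Over.comp_left,
      tensorHom_fst]
  have hs : (snd X' T').left.appTop ≫ (a ⊗ₘ b).left.appTop =
      b.left.appTop ≫ (snd X T).left.appTop := by
    rw [← Scheme.Hom.comp_appTop, ← Scheme.Hom.comp_appTop, ← Over.comp_left, ← Over.comp_left,
      tensorHom_snd]
  have ha : X'.hom.appTop ≫ a.left.appTop = X.hom.appTop := by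
    rw [← Scheme.Hom.comp_appTop, Over.w a]
  have hb : T'.hom.appTop ≫ b.left.appTop = T.hom.appTop := by
    rw [← Scheme.Hom.comp_appTop, Over.w b]
  have ha' : X.hom.appTop ≫ inv a.left.appTop = X'.hom.appTop := by
    rw [← ha, Category.assoc, IsIso.hom_inv_id, Category.comp_id]
  have hb' : T.hom.appTop ≫ inv b.left.appTop = T'.hom.appTop := by
    rw [← hb, Category.assoc, IsIso.hom_inv_id, Category.comp_id]
  have hw : X.hom.appTop ≫ inv a.left.appTop ≫ (fst X' T').left.appTop =
      T.hom.appTop ≫ inv b.left.appTop ≫ (snd X' T').left.appTop := by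
    rw [← Category.assoc, ha', ← Category.assoc, hb', P'.w]
  let d := P.desc (inv a.left.appTop ≫ (fst X' T').left.appTop)
    (inv b.left.appTop ≫ (snd X' T').left.appTop) hw
  have hd1 : (fst X T).left.appTop ≫ d = inv a.left.appTop ≫ (fst X' T').left.appTop :=
    P.inl_desc _ _ _
  have hd2 : (snd X T).left.appTop ≫ d = inv b.left.appTop ≫ (snd X' T').left.appTop :=
    P.inr_desc _ _ _
  refine ⟨d, ?_, ?_⟩
  · apply P'.hom_ext
    · rw [← Category.assoc, hf, Category.assoc, hd1, IsIso.hom_inv_id_assoc, Category.comp_id]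
    · rw [← Category.assoc, hs, Category.assoc, hd2, IsIso.hom_inv_id_assoc, Category.comp_id]
  · apply P.hom_ext
    · rw [← Category.assoc, hd1, Category.assoc, hf, IsIso.inv_hom_id_assoc, Category.comp_id]
    · rw [← Category.assoc, hd2, Category.assoc, hs, IsIso.inv_hom_id_assoc, Category.comp_id]

end Groth.Agent.H62.QAffKU
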