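import Mathlib
set_option autoImplicit false
universe u
open CategoryTheory CategoryTheory.Limits AlgebraicGeometry

namespace Groth.Agent.H62.RR_LINE

theorem S_comp {A B C : Type u} [CommRing A] [CommRing B] [CommRing C] (f : A →+* B) (g : B →+* C) :
    Spec.map (CommRingCat.ofHom (g.comp f)) =
      Spec.map (CommRingCat.ofHom g) ≫ Spec.map (CommRingCat.ofHom f) := by
  rw [CommRingCat.ofHom_comp, Spec.map_comp]

theorem S_inj {A B : Type u} [CommRing A] [CommRing B] {f g : A →+* B}
    (h : Spec.map (CommRingCat.ofHom f) = Spec.map (CommRingCat.ofHom g)) : f = g := by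
  have h1 := Spec.map_injective h
  exact congrArg CommRingCat.Hom.hom h1

theorem exists_ringHom {A B : Type u} [CommRing A] [CommRing B]
    (f : Spec (CommRingCat.of B) ⟶ Spec (CommRingCat.of A)) :
    ∃ φ : A →+* B, Spec.map (CommRingCat.ofHom φ) = f := by
  refine ⟨(Spec.preimage f).hom, ?_⟩
  rw [CommRingCat.ofHom_hom, Spec.map_preimage]

/-- (LINE) -/
theorem exists_line {k K : Type u} [Field k] [Field K] [Algebra k K] (n : ℕ)
    (V : (Spec (CommRingCat.of (MvPolynomial (Fin n) k))).Opens)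
    (α β : Spec (CommRingCat.of K) ⟶ (V : Scheme.{u}))
    (hα : α ≫ V.ι ≫ Spec.map (CommRingCat.ofHom (algebraMap k (MvPolynomial (Fin n) k))) =
      Spec.map (CommRingCat.ofHom (algebraMap k K)))
    (hβ : β ≫ V.ι ≫ Spec.map (CommRingCat.ofHom (algebraMap k (MvPolynomial (Fin n) k))) =
      Spec.map (CommRingCat.ofHom (algebraMap k K))) :
    ∃ (W : (Spec (CommRingCat.of (Polynomial K))).Opens) (h : (W : Scheme.{u}) ⟶ (V : Scheme.{u}))
      (a b : Spec (CommRingCat.of K) ⟶ (W : Scheme.{u})),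
      h ≫ V.ι ≫ Spec.map (CommRingCat.ofHom (algebraMap k (MvPolynomial (Fin n) k))) =
        W.ι ≫ Spec.map (CommRingCat.ofHom (algebraMap K (Polynomial K))) ≫
          Spec.map (CommRingCat.ofHom (algebraMap k K)) ∧
      a ≫ W.ι ≫ Spec.map (CommRingCat.ofHom (algebraMap K (Polynomial K))) = 𝟙 _ ∧
      b ≫ W.ι ≫ Spec.map (CommRingCat.ofHom (algebraMap K (Polynomial K))) = 𝟙 _ ∧
      a ≫ h = α ∧ b ≫ h = β := by
  classical
  obtain ⟨φA, hφA⟩ := exists_ringHom (α ≫ V.ι)
  obtain ⟨φB, hφB⟩ := exists_ringHom (β ≫ V.ι)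
  have hAk : φA.comp (algebraMap k (MvPolynomial (Fin n) k)) = algebraMap k K := by
    apply S_inj
    rw [S_comp, hφA, Category.assoc, hα]
  have hBk : φB.comp (algebraMap k (MvPolynomial (Fin n) k)) = algebraMap k K := by
    apply S_inj
    rw [S_comp, hφB, Category.assoc, hβ]
  let u : Fin n → K := fun i => φA (MvPolynomial.X i)
  let v : Fin n → K := fun i => φB (MvPolynomial.X i)
  let ℓ : MvPolynomial (Fin n) k →ₐ[k] Polynomial K :=
    MvPolynomial.aeval (fun i => Polynomial.C (u i) + Polynomial.X * Polynomial.C (v i - u i))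
  let L : Spec (CommRingCat.of (Polynomial K)) ⟶ Spec (CommRingCat.of (MvPolynomial (Fin n) k)) :=
    Spec.map (CommRingCat.ofHom ℓ.toRingHom)
  have hℓC : ∀ c : k, ℓ (MvPolynomial.C c) = Polynomial.C (algebraMap k K c) := by
    intro c
    have : ℓ (MvPolynomial.C c) = algebraMap k (Polynomial K) c := by
      rw [← MvPolynomial.algebraMap_eq]
      exact ℓ.commutes c
    rw [this, IsScalarTower.algebraMap_apply k K (Polynomial K), Polynomial.algebraMap_apply,
      Algebra.algebraMap_self_apply]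
  have hℓX : ∀ i, ℓ (MvPolynomial.X i) =
      Polynomial.C (u i) + Polynomial.X * Polynomial.C (v i - u i) := fun i =>
    MvPolynomial.aeval_X _ i
  have c0 : (Polynomial.evalRingHom (0 : K)).comp ℓ.toRingHom = φA := by
    apply MvPolynomial.ringHom_ext
    · intro c
      have h1 : φA (MvPolynomial.C c) = algebraMap k K c := by
        have := RingHom.congr_fun hAk c
        rwa [RingHom.comp_apply, MvPolynomial.algebraMap_eq] at this
      change Polynomial.eval 0 (ℓ (MvPolynomial.C c)) = _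
      rw [hℓC, Polynomial.eval_C, h1]
    · intro i
      change Polynomial.eval 0 (ℓ (MvPolynomial.X i)) = _
      rw [hℓX]
      simp [u]
  have c1 : (Polynomial.evalRingHom (1 : K)).comp ℓ.toRingHom = φB := by
    apply MvPolynomial.ringHom_ext
    · intro c
      have h1 : φB (MvPolynomial.C c) = algebraMap k K c := by
        have := RingHom.congr_fun hBk c
        rwa [RingHom.comp_apply, MvPolynomial.algebraMap_eq] at this
      change Polynomial.eval 1 (ℓ (MvPolynomial.C c)) = _
      rw [hℓC, Polynomial.eval_C, h1]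
    · intro i
      change Polynomial.eval 1 (ℓ (MvPolynomial.X i)) = _
      rw [hℓX]
      simp [u, v]
  have hsec : ∀ t : K, (Polynomial.evalRingHom t).comp (algebraMap K (Polynomial K)) =
      RingHom.id K := by
    intro t
    ext c
    simp
  let W : (Spec (CommRingCat.of (Polynomial K))).Opens := L ⁻¹ᵁ V
  let h : (W : Scheme.{u}) ⟶ (V : Scheme.{u}) := L.resLE V W le_rfl
  have hhι : h ≫ V.ι = W.ι ≫ L := Scheme.Hom.resLE_comp_ι L le_rfl
  -- generic construction of the points
  have key : ∀ (t : K) (γ : Spec (CommRingCat.of K) ⟶ (V : Scheme.{u})) (φ : MvPolynomial (Fin n) k →+* K),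
      Spec.map (CommRingCat.ofHom φ) = γ ≫ V.ι →
      (Polynomial.evalRingHom t).comp ℓ.toRingHom = φ →
      ∃ a : Spec (CommRingCat.of K) ⟶ (W : Scheme.{u}),
        a ≫ W.ι ≫ Spec.map (CommRingCat.ofHom (algebraMap K (Polynomial K))) = 𝟙 _ ∧ a ≫ h = γ := by
    intro t γ φ hφ hc
    let z : Spec (CommRingCat.of K) ⟶ Spec (CommRingCat.of (Polynomial K)) :=
      Spec.map (CommRingCat.ofHom (Polynomial.evalRingHom t))
    have hzL : z ≫ L = γ ≫ V.ι := by
      rw [← hφ, ← hc, S_comp]
    have hrange : Set.range z ⊆ Set.range W.ι := by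
      rw [Scheme.Opens.range_ι]
      rintro _ ⟨x, rfl⟩
      change L (z x) ∈ V
      have h1 : L (z x) = (z ≫ L) x := rfl
      rw [h1, hzL]
      change V.ι (γ x) ∈ V
      exact (γ x).2
    refine ⟨IsOpenImmersion.lift W.ι z hrange, ?_, ?_⟩
    · rw [← Category.assoc, IsOpenImmersion.lift_fac, ← S_comp, hsec t]
      change Spec.map (𝟙 _) = _
      rw [Spec.map_id]
    · rw [← cancel_mono V.ι, Category.assoc, hhι, ← Category.assoc, IsOpenImmersion.lift_fac, hzL]
  obtain ⟨a, ha1, ha2⟩ := key 0 α φA hφA c0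
  obtain ⟨b, hb1, hb2⟩ := key 1 β φB hφB c1
  refine ⟨W, h, a, b, ?_, ha1, hb1, ha2, hb2⟩
  rw [← Category.assoc, hhι, Category.assoc, ← S_comp, ← S_comp]
  congr 3
  refine RingHom.ext fun c => ?_
  change ℓ (algebraMap k (MvPolynomial (Fin n) k) c) = algebraMap K (Polynomial K) (algebraMap k K c)
  rw [MvPolynomial.algebraMap_eq, hℓC, Polynomial.algebraMap_apply, Algebra.algebraMap_self_apply]

end Groth.Agent.H62.RR_LINE
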