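import Groth.Agent.H62.RelPoly

/-!
# helper62: relative Hilbert finiteness — invariants of `B[x₁..xₙ]` (B Noetherian comodule algebra,
linear coaction on the variables) are finitely generated over `B^G`.
-/

set_option autoImplicit false
set_option linter.unusedSectionVars false
universe u v w
open TensorProduct MvPolynomial

namespace Groth.Agent.H62.RelHilbert

open Groth.Agent.H62.RelPoly

section Graded

variable {σ τ : Type*} {B B' : Type*} [CommSemiring B] [CommSemiring B']

theorem map_homogeneousComponent_of_graded' (F : MvPolynomial σ B →+ MvPolynomial τ B')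
    (hF : ∀ (i : ℕ) (p : MvPolynomial σ B), p.IsHomogeneous i → (F p).IsHomogeneous i)
    (d : ℕ) (p : MvPolynomial σ B) :
    F (homogeneousComponent d p) = homogeneousComponent d (F p) := by
  classical
  have hp : F p = ∑ i ∈ Finset.range (p.totalDegree + 1), F (homogeneousComponent i p) := by
    rw [← map_sum, sum_homogeneousComponent]
  rw [hp, map_sum]
  have h : ∀ i ∈ Finset.range (p.totalDegree + 1),
      homogeneousComponent d (F (homogeneousComponent i p)) =
        if d = i then F (homogeneousComponent d p) else 0 := by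
    intro i _
    rw [homogeneousComponent_of_mem (hF i _ (homogeneousComponent_isHomogeneous i p))]
    split_ifs with h
    · rw [h]
    · rfl
  rw [Finset.sum_congr rfl h, Finset.sum_ite_eq]
  split_ifs with h
  · rfl
  · rw [Finset.mem_range, not_lt] at h
    rw [homogeneousComponent_eq_zero _ _ (by omega), map_zero]

end Graded

section Inv

variable (k : Type u) [Field k] (H : Type v) [CommRing H] [Bialgebra k H]
  (B : Type w) [CommRing B] [Algebra k B] (n : ℕ)

/-- `B[x] ⊗ H ≃ (H ⊗ B)[x]`. -/
noncomputable def τ' : MvPolynomial (Fin n) B ⊗[k] H ≃ₐ[k] MvPolynomial (Fin n) (H ⊗[k] B) :=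
  (Algebra.TensorProduct.comm k (MvPolynomial (Fin n) B) H).trans
    ((MvPolynomial.rTensorAlgEquiv (R := k) (S := H) (N := B) (σ := Fin n)).restrictScalars k)

theorem coeff_τ' (p : MvPolynomial (Fin n) B) (h : H) (d : Fin n →₀ ℕ) :
    coeff d (τ' k H B n (p ⊗ₜ[k] h)) = h ⊗ₜ[k] coeff d p := by
  simp [τ']

theorem isHomogeneous_τ'_tmul {p : MvPolynomial (Fin n) B} {e : ℕ} (hp : p.IsHomogeneous e)
    (h : H) : (τ' k H B n (p ⊗ₜ[k] h)).IsHomogeneous e := by
  intro d hd
  apply hp
  intro h0
  apply hd
  rw [coeff_τ', h0, TensorProduct.tmul_zero]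

variable [HopfRep.Comod k H B] [HopfRep.Comod k H (MvPolynomial (Fin n) B)]
  [GLin.IsCoactAlg k H (MvPolynomial (Fin n) B)]

/-- The coaction read in `(H ⊗ B)[x]`. -/
noncomputable def σ' : MvPolynomial (Fin n) B →ₐ[k] MvPolynomial (Fin n) (H ⊗[k] B) :=
  (τ' k H B n).toAlgHom.comp (GLin.coactAlgHom k H (MvPolynomial (Fin n) B))

theorem σ'_apply (p : MvPolynomial (Fin n) B) :
    σ' k H B n p = τ' k H B n (H40.ρ k H (MvPolynomial (Fin n) B) p) := rfl

/-- `p ↦ p ⊗ 1` read in `(H ⊗ B)[x]`. -/
noncomputable def j₁ : MvPolynomial (Fin n) B →ₗ[k] MvPolynomial (Fin n) (H ⊗[k] B) :=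
  (τ' k H B n).toLinearMap ∘ₗ (TensorProduct.mk k (MvPolynomial (Fin n) B) H).flip 1

theorem j₁_apply (p : MvPolynomial (Fin n) B) : j₁ k H B n p = τ' k H B n (p ⊗ₜ[k] (1 : H)) := rfl

variable {k H B n}

theorem τ'_rTensor_isHomogeneous (t : B ⊗[k] H) :
    (τ' k H B n ((ι k B n).toLinearMap.rTensor H t)).IsHomogeneous 0 := by
  induction t using TensorProduct.induction_on with
  | zero => rw [map_zero, map_zero]; exact isHomogeneous_zero _ _ _
  | tmul b h =>
    rw [LinearMap.rTensor_tmul]
    exact isHomogeneous_τ'_tmul k H B n (isHomogeneous_C _ b) h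
  | add x y hx hy => rw [map_add, map_add]; exact hx.add hy

theorem σ'_isHomogeneous
    (hC : ∀ b : B, H40.ρ k H (MvPolynomial (Fin n) B) (C b) =
      (ι k B n).toLinearMap.rTensor H (H40.ρ k H B b))
    (hX : ∀ j : Fin n, ∃ m : Fin n → H, H40.ρ k H (MvPolynomial (Fin n) B) (X j) =
      ∑ i, (X i : MvPolynomial (Fin n) B) ⊗ₜ[k] m i)
    {p : MvPolynomial (Fin n) B} {d : ℕ}
    (hp : p.IsHomogeneous d) : (σ' k H B n p).IsHomogeneous d := by
  have hCh : ∀ b : B, (σ' k H B n (C b)).IsHomogeneous 0 := by
    intro b
    rw [σ'_apply, hC]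
    exact τ'_rTensor_isHomogeneous _
  have hXh : ∀ j : Fin n, (σ' k H B n (X j)).IsHomogeneous 1 := by
    intro j
    obtain ⟨m, hm⟩ := hX j
    rw [σ'_apply, hm, map_sum]
    exact IsHomogeneous.sum _ _ _ fun i _ =>
      isHomogeneous_τ'_tmul k H B n (isHomogeneous_X B i) (m i)
  have hσ : (σ' k H B n : MvPolynomial (Fin n) B →+* MvPolynomial (Fin n) (H ⊗[k] B)) =
      MvPolynomial.eval₂Hom
        ((σ' k H B n : MvPolynomial (Fin n) B →+* MvPolynomial (Fin n) (H ⊗[k] B)).comp C)
        (fun i => σ' k H B n (X i)) := by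
    apply MvPolynomial.ringHom_ext
    · intro b
      rw [MvPolynomial.eval₂Hom_C]
      rfl
    · intro i
      rw [MvPolynomial.eval₂Hom_X']
      rfl
  have h := hp.eval₂
    ((σ' k H B n : MvPolynomial (Fin n) B →+* MvPolynomial (Fin n) (H ⊗[k] B)).comp C)
    (fun i => σ' k H B n (X i)) (fun b => hCh b) hXh
  rw [one_mul] at h
  have h2 : σ' k H B n p = MvPolynomial.eval₂
      ((σ' k H B n : MvPolynomial (Fin n) B →+* MvPolynomial (Fin n) (H ⊗[k] B)).comp C)
      (fun i => σ' k H B n (X i)) p := by
    conv_lhs => rw [show σ' k H B n p =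
      (σ' k H B n : MvPolynomial (Fin n) B →+* MvPolynomial (Fin n) (H ⊗[k] B)) p from rfl, hσ]
    rfl
  rw [h2]
  exact h

theorem homogeneousComponent_mem_invariants
    (hC : ∀ b : B, H40.ρ k H (MvPolynomial (Fin n) B) (C b) =
      (ι k B n).toLinearMap.rTensor H (H40.ρ k H B b))
    (hX : ∀ j : Fin n, ∃ m : Fin n → H, H40.ρ k H (MvPolynomial (Fin n) B) (X j) =
      ∑ i, (X i : MvPolynomial (Fin n) B) ⊗ₜ[k] m i)
    {p : MvPolynomial (Fin n) B} (hp : p ∈ GLin.invariants k H (MvPolynomial (Fin n) B))
    (d : ℕ) :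
    homogeneousComponent d p ∈ GLin.invariants k H (MvPolynomial (Fin n) B) := by
  have h1 : σ' k H B n (homogeneousComponent d p) = homogeneousComponent d (σ' k H B n p) :=
    map_homogeneousComponent_of_graded'
      ((σ' k H B n : MvPolynomial (Fin n) B →+* MvPolynomial (Fin n) (H ⊗[k] B)) :
        MvPolynomial (Fin n) B →+ MvPolynomial (Fin n) (H ⊗[k] B))
      (fun i q hq => σ'_isHomogeneous hC hX hq) d p
  have h2 : j₁ k H B n (homogeneousComponent d p) = homogeneousComponent d (j₁ k H B n p) :=
    map_homogeneousComponent_of_graded' (j₁ k H B n).toAddMonoidHom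
      (fun i q hq => isHomogeneous_τ'_tmul k H B n hq 1) d p
  have h3 : σ' k H B n p = j₁ k H B n p := by
    rw [σ'_apply, show H40.ρ k H _ p = p ⊗ₜ[k] (1 : H) from hp]
    rfl
  change HopfRep.Comod.coact (k := k) (A := H) (homogeneousComponent d p) =
    homogeneousComponent d p ⊗ₜ[k] (1 : H)
  apply (τ' k H B n).injective
  change σ' k H B n (homogeneousComponent d p) = j₁ k H B n (homogeneousComponent d p)
  rw [h1, h2, h3]

end Inv

section Main

variable {k : Type u} [Field k] {H : Type u} [CommRing H] [Bialgebra k H]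
  {B : Type u} [CommRing B] [Algebra k B] [HopfRep.Comod k H B] [GLin.IsCoactAlg k H B] {n : ℕ}
  [HopfRep.Comod k H (MvPolynomial (Fin n) B)] [GLin.IsCoactAlg k H (MvPolynomial (Fin n) B)]

theorem coeff_zero_mem_invariants
    (hC : ∀ b : B, H40.ρ k H (MvPolynomial (Fin n) B) (C b) =
      (ι k B n).toLinearMap.rTensor H (H40.ρ k H B b))
    {b : B} (hb : (C b : MvPolynomial (Fin n) B) ∈ GLin.invariants k H (MvPolynomial (Fin n) B)) :
    b ∈ GLin.invariants k H B := by
  have h1 : H40.ρ k H (MvPolynomial (Fin n) B) (C b) = (C b) ⊗ₜ[k] (1 : H) := hb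
  rw [hC] at h1
  have h2 : (ι k B n).toLinearMap.rTensor H (b ⊗ₜ[k] (1 : H)) =
      (C b : MvPolynomial (Fin n) B) ⊗ₜ[k] (1 : H) := by
    rw [LinearMap.rTensor_tmul]; rfl
  rw [← h2] at h1
  have hinj : Function.Injective (ι k B n).toLinearMap :=
    fun x y hxy => MvPolynomial.C_injective (Fin n) B hxy
  exact H62.rTensor_injective _ hinj H h1

theorem exists_finset_adjoin_invariants [IsNoetherianRing B]
    (hG : HopfRep.IsLinearlyReductive k H)
    (hC : ∀ b : B, H40.ρ k H (MvPolynomial (Fin n) B) (C b) =
      (ι k B n).toLinearMap.rTensor H (H40.ρ k H B b))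
    (hX : ∀ j : Fin n, ∃ m : Fin n → H, H40.ρ k H (MvPolynomial (Fin n) B) (X j) =
      ∑ i, (X i : MvPolynomial (Fin n) B) ⊗ₜ[k] m i) :
    ∃ s : Finset (MvPolynomial (Fin n) B),
      (∀ f ∈ s, f ∈ GLin.invariants k H (MvPolynomial (Fin n) B)) ∧
      ∀ f ∈ GLin.invariants k H (MvPolynomial (Fin n) B),
        f ∈ Algebra.adjoin k
          ((C : B → MvPolynomial (Fin n) B) '' (GLin.invariants k H B : Set B) ∪
            (s : Set (MvPolynomial (Fin n) B))) := by
  classical
  have hN : IsNoetherianRing (GLin.invariants k H (MvPolynomial (Fin n) B)) :=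
    H62.isNoetherianRing_invariants hG
  let gens : Set (GLin.invariants k H (MvPolynomial (Fin n) B)) :=
    {c | ∃ d : ℕ, 0 < d ∧ (c : MvPolynomial (Fin n) B).IsHomogeneous d}
  have hfg : (Submodule.span (GLin.invariants k H (MvPolynomial (Fin n) B)) gens).FG :=
    IsNoetherian.noetherian _
  obtain ⟨t, ht, hspan⟩ := (Submodule.fg_span_iff_fg_span_finset_subset gens).mp hfg
  have hy : ∀ y : GLin.invariants k H (MvPolynomial (Fin n) B), y ∈ t →
      ∃ e : ℕ, 0 < e ∧ (y : MvPolynomial (Fin n) B).IsHomogeneous e := fun y hy => ht hy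
  choose! e he0 heh using hy
  set S : Set (MvPolynomial (Fin n) B) :=
    (C : B → MvPolynomial (Fin n) B) '' (GLin.invariants k H B : Set B) ∪
      ((t.image (Subtype.val : GLin.invariants k H (MvPolynomial (Fin n) B) →
        MvPolynomial (Fin n) B) : Finset _) : Set (MvPolynomial (Fin n) B)) with hS
  refine ⟨t.image (Subtype.val : GLin.invariants k H (MvPolynomial (Fin n) B) →
    MvPolynomial (Fin n) B), ?_, ?_⟩
  · intro f hf
    obtain ⟨c, -, rfl⟩ := Finset.mem_image.mp hf
    exact c.2
  · have key : ∀ (d : ℕ) (p : MvPolynomial (Fin n) B),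
        p ∈ GLin.invariants k H (MvPolynomial (Fin n) B) → p.IsHomogeneous d →
        p ∈ Algebra.adjoin k S := by
      intro d
      induction d using Nat.strong_induction_on with
      | _ d ih =>
        intro p hpC hp
        rcases Nat.eq_zero_or_pos d with rfl | hd
        · have hpc : p = C (coeff 0 p) := by
            rw [← homogeneousComponent_zero, homogeneousComponent_eq_self hp]
          rw [hpc] at hpC ⊢
          exact Algebra.subset_adjoin
            (Or.inl ⟨coeff 0 p, coeff_zero_mem_invariants hC hpC, rfl⟩)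
        · have hmem : (⟨p, hpC⟩ : GLin.invariants k H (MvPolynomial (Fin n) B)) ∈
              Submodule.span (GLin.invariants k H (MvPolynomial (Fin n) B)) gens :=
            Submodule.subset_span ⟨d, hd, hp⟩
          rw [hspan] at hmem
          obtain ⟨c, -, hc⟩ := Submodule.mem_span_finset.mp hmem
          have hc' : p = ∑ y ∈ t, (c y : MvPolynomial (Fin n) B) * (y : MvPolynomial (Fin n) B) := by
            have h1 := congrArg (GLin.invariants k H (MvPolynomial (Fin n) B)).val hc
            rw [map_sum] at h1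
            have h2 : ∀ y ∈ t, (GLin.invariants k H (MvPolynomial (Fin n) B)).val (c y • y) =
                (c y : MvPolynomial (Fin n) B) * (y : MvPolynomial (Fin n) B) := fun y _ => rfl
            rw [Finset.sum_congr rfl h2] at h1
            exact h1.symm
          have hp_eq : p = ∑ y ∈ t,
              ∑ j ∈ Finset.range ((c y : MvPolynomial (Fin n) B).totalDegree + 1),
                homogeneousComponent d
                  (homogeneousComponent j (c y : MvPolynomial (Fin n) B) *
                    (y : MvPolynomial (Fin n) B)) := by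
            have h1 : p = homogeneousComponent d p := (homogeneousComponent_eq_self hp).symm
            have h2 : homogeneousComponent d p = ∑ y ∈ t, homogeneousComponent d
                ((c y : MvPolynomial (Fin n) B) * (y : MvPolynomial (Fin n) B)) := by
              conv_lhs => rw [hc']
              rw [map_sum]
            rw [h1, h2]
            refine Finset.sum_congr rfl fun y _ => ?_
            have h3 : (c y : MvPolynomial (Fin n) B) * (y : MvPolynomial (Fin n) B) =
                ∑ j ∈ Finset.range ((c y : MvPolynomial (Fin n) B).totalDegree + 1),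
                  homogeneousComponent j (c y : MvPolynomial (Fin n) B) *
                    (y : MvPolynomial (Fin n) B) := by
              rw [← Finset.sum_mul, sum_homogeneousComponent]
            rw [h3, map_sum]
          rw [hp_eq]
          refine Subalgebra.sum_mem _ fun y hy => Subalgebra.sum_mem _ fun j _ => ?_
          have hmem2 : homogeneousComponent j (c y : MvPolynomial (Fin n) B) *
              (y : MvPolynomial (Fin n) B) ∈ homogeneousSubmodule (Fin n) B (j + e y) :=
            (homogeneousComponent_isHomogeneous j _).mul (heh y hy)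
          rw [homogeneousComponent_of_mem hmem2]
          split_ifs with hdj
          · have hlt : j < d := by have := he0 y hy; omega
            refine Subalgebra.mul_mem _
              (ih j hlt _ (homogeneousComponent_mem_invariants hC hX (c y).2 j)
                (homogeneousComponent_isHomogeneous j _))
              (Algebra.subset_adjoin (Or.inr ?_))
            exact Finset.mem_coe.mpr (Finset.mem_image_of_mem _ hy)
          · exact Subalgebra.zero_mem _
    intro f hf
    rw [← sum_homogeneousComponent f]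
    exact Subalgebra.sum_mem _ fun i _ =>
      key i _ (homogeneousComponent_mem_invariants hC hX hf i)
        (homogeneousComponent_isHomogeneous i f)

end Main

end Groth.Agent.H62.RelHilbert
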