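import Groth.Agent.H62.RelHilbert

/-!
# helper62: relative Hilbert finiteness theorem (coaction form)
`T` a finite type algebra over a Noetherian comodule algebra `B`, compatibly coacted on by a linearly
reductive `H`: then `T^G` is generated over (the image of) `B^G` by finitely many elements.
-/

set_option autoImplicit false
set_option linter.unusedSectionVars false
universe u
open TensorProduct MvPolynomial

namespace Groth.Agent.H62.RelHilbert

open Groth.Agent.H62.RelPoly Groth.Agent.H62.Hilbert

variable {k : Type u} [Field k] {H : Type u} [CommRing H] [Bialgebra k H]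
  {B : Type u} [CommRing B] [Algebra k B] [IsNoetherianRing B]
  [HopfRep.Comod k H B] [GLin.IsCoactAlg k H B]
  {T : Type u} [CommRing T] [Algebra k T] [HopfRep.Comod k H T] [GLin.IsCoactAlg k H T]
  [Algebra B T] [IsScalarTower k B T] [Algebra.FiniteType B T]

omit [IsNoetherianRing B] [Algebra.FiniteType B T] in
/-- A `B`-algebra map out of `B[x]` whose values on the variables transform through the same matrix
is a comodule map. -/
theorem isComodHom_of_generators {n : ℕ} [HopfRep.Comod k H (MvPolynomial (Fin n) B)]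
    [GLin.IsCoactAlg k H (MvPolynomial (Fin n) B)] (m : Fin n → Fin n → H)
    (hC : ∀ a : B, H40.ρ k H (MvPolynomial (Fin n) B) (C a) =
      (ι k B n).toLinearMap.rTensor H (H40.ρ k H B a))
    (hXc : ∀ j, H40.ρ k H (MvPolynomial (Fin n) B) (X j) =
      ∑ i, (X i : MvPolynomial (Fin n) B) ⊗ₜ[k] m i j)
    (ψk : MvPolynomial (Fin n) B →ₐ[k] T) (hψC : ∀ a, ψk (C a) = algebraMap B T a)
    (t : Fin n → T) (hψX : ∀ i, ψk (X i) = t i)
    (ht : ∀ j, H40.ρ k H T (t j) = ∑ i, t i ⊗ₜ[k] m i j)
    (hBT : Hoch.IsComodHom H (IsScalarTower.toAlgHom k B T).toLinearMap) :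
    Hoch.IsComodHom H ψk.toLinearMap := by
  have key : (GLin.coactAlgHom k H T).comp ψk =
      (Algebra.TensorProduct.map ψk (AlgHom.id k H)).comp
        (GLin.coactAlgHom k H (MvPolynomial (Fin n) B)) := by
    apply MvPolynomial.algHom_ext'
    · apply AlgHom.ext
      intro a
      have e0 : (IsScalarTower.toAlgHom k B (MvPolynomial (Fin n) B)) a = C a := rfl
      rw [AlgHom.comp_apply, AlgHom.comp_apply, AlgHom.comp_apply, AlgHom.comp_apply, e0,
        GLin.coactAlgHom_apply, GLin.coactAlgHom_apply, hψC, RelPoly.map_id_eq_rTensor]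
      have e1 : H40.ρ k H T (algebraMap B T a) =
          (IsScalarTower.toAlgHom k B T).toLinearMap.rTensor H (H40.ρ k H B a) :=
        LinearMap.congr_fun hBT a
      refine e1.trans ?_
      rw [hC a, ← LinearMap.rTensor_comp_apply]
      congr 2
      apply LinearMap.ext
      intro a'
      rw [LinearMap.comp_apply, AlgHom.toLinearMap_apply, AlgHom.toLinearMap_apply,
        AlgHom.toLinearMap_apply, IsScalarTower.toAlgHom_apply, ι_apply, hψC]
    · intro j
      rw [AlgHom.comp_apply, AlgHom.comp_apply, GLin.coactAlgHom_apply, GLin.coactAlgHom_apply,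
        hψX]
      refine (ht j).trans ?_
      rw [hXc j, map_sum]
      refine Finset.sum_congr rfl fun i _ => ?_
      rw [Algebra.TensorProduct.map_tmul, AlgHom.id_apply, hψX]
  refine LinearMap.ext fun p => ?_
  exact (AlgHom.congr_fun key p).trans (RelPoly.map_id_eq_rTensor ψk _)


theorem exists_finset_invariants_eq_adjoin (hG : HopfRep.IsLinearlyReductive k H)
    (hBT : Hoch.IsComodHom H (IsScalarTower.toAlgHom k B T).toLinearMap) :
    ∃ s : Finset T, GLin.invariants k H T =
      Algebra.adjoin k (⇑(algebraMap B T) '' ↑(GLin.invariants k H B) ∪ ↑s) := by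
  classical
  obtain ⟨S₀, hS₀⟩ := (Algebra.FiniteType.out : (⊤ : Subalgebra B T).FG)
  have h1 : ∀ s : T, ∃ W : Submodule k T, Module.Finite k W ∧ s ∈ W ∧
      HopfRep.IsSubcomod (k := k) (A := H) W := fun s => H40.exists_finite_subcomod_mem s
  choose Wf hWfin hWmem hWsub using h1
  let V : Submodule k T := ⨆ s : {x // x ∈ S₀}, Wf s.1
  have hVsub : HopfRep.IsSubcomod (k := k) (A := H) V := H40.isSubcomod_iSup fun s => hWsub s.1
  have : ∀ s : {x // x ∈ S₀}, Module.Finite k (Wf s.1) := fun s => hWfin s.1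
  have hVfin : Module.Finite k V := Submodule.finiteDimensional_iSup _
  let cV : HopfRep.Comod k H V := H62.subComod V hVsub
  have hι : Hoch.IsComodHom H V.subtype := H62.isComodHom_subtype V hVsub
  let b := Module.finBasis k V
  let m : Fin (Module.finrank k V) → Fin (Module.finrank k V) → H := fun i j => mcoef H b i j
  have hΔ : ∀ i j, CoalgebraStruct.comul (R := k) (m i j) = ∑ l, m i l ⊗ₜ[k] m l j :=
    fun i j => comul_mcoef (A := H) b i j
  have hε : ∀ i j, CoalgebraStruct.counit (R := k) (m i j) = if i = j then 1 else 0 :=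
    fun i j => counit_mcoef (A := H) b i j
  let cP : HopfRep.Comod k H (MvPolynomial (Fin (Module.finrank k V)) B) :=
    polyComod (B := B) m hΔ hε
  have hcP : GLin.IsCoactAlg k H (MvPolynomial (Fin (Module.finrank k V)) B) :=
    polyComod_isCoactAlg (B := B) m hΔ hε
  have hC : ∀ a : B, H40.ρ k H (MvPolynomial (Fin (Module.finrank k V)) B) (C a) =
      (ι k B (Module.finrank k V)).toLinearMap.rTensor H (H40.ρ k H B a) :=
    fun a => polyComod_coact_C (B := B) m hΔ hε a
  have hXc : ∀ j, H40.ρ k H (MvPolynomial (Fin (Module.finrank k V)) B) (X j) =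
      ∑ i, (X i : MvPolynomial (Fin (Module.finrank k V)) B) ⊗ₜ[k] m i j :=
    fun j => polyComod_coact_X (B := B) m hΔ hε j
  have hX : ∀ j, ∃ m' : Fin (Module.finrank k V) → H,
      H40.ρ k H (MvPolynomial (Fin (Module.finrank k V)) B) (X j) =
      ∑ i, (X i : MvPolynomial (Fin (Module.finrank k V)) B) ⊗ₜ[k] m' i :=
    fun j => ⟨fun i => m i j, hXc j⟩
  obtain ⟨sP, hsP1, hsP2⟩ := exists_finset_adjoin_invariants hG hC hX
  -- the surjection
  let ψ : MvPolynomial (Fin (Module.finrank k V)) B →ₐ[B] T :=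
    MvPolynomial.aeval (fun i => ((b i : V) : T))
  let ψk : MvPolynomial (Fin (Module.finrank k V)) B →ₐ[k] T := ψ.restrictScalars k
  have hψC : ∀ a, ψk (C a) = algebraMap B T a := fun a => by
    change MvPolynomial.aeval (fun i => ((b i : V) : T)) (C a) = _
    rw [MvPolynomial.aeval_C]
  have hψX : ∀ i, ψk (X i) = ((b i : V) : T) := fun i => by
    change MvPolynomial.aeval (fun i => ((b i : V) : T)) (X i) = _
    rw [MvPolynomial.aeval_X]
  have ht : ∀ j, H40.ρ k H T (V.subtype (b j)) =
      ∑ i, V.subtype (b i) ⊗ₜ[k] m i j := fun j => coact_ι_basis b V.subtype hι j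
  have hψcomod : Hoch.IsComodHom H ψk.toLinearMap :=
    isComodHom_of_generators m hC hXc ψk hψC (fun i => V.subtype (b i)) hψX ht hBT
  have hrange : ∀ w : V, (w : T) ∈ ψ.range := by
    intro w
    have hw : w ∈ Submodule.span k (Set.range b) := by rw [b.span_eq]; trivial
    refine Submodule.span_induction
      (p := fun (w : ↥V) _ => V.subtype w ∈ ψ.range) ?_ ?_ ?_ ?_ hw
    · rintro _ ⟨i, rfl⟩
      exact ⟨X i, hψX i⟩
    · rw [map_zero]; exact Subalgebra.zero_mem _
    · intro x y _ _ hx hy
      rw [map_add]; exact Subalgebra.add_mem _ hx hy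
    · intro r x _ hx
      rw [map_smul, ← algebraMap_smul B r (V.subtype x)]
      exact Subalgebra.smul_mem _ hx _
  have hsurj : Function.Surjective ψ := by
    rw [← AlgHom.range_eq_top, eq_top_iff, ← hS₀, Algebra.adjoin_le_iff]
    intro s hs
    have hsV : s ∈ V := (le_iSup (fun s : {x // x ∈ S₀} => Wf s.1) ⟨s, hs⟩) (hWmem s)
    exact hrange ⟨s, hsV⟩
  have hBinv : ∀ a ∈ GLin.invariants k H B, algebraMap B T a ∈ GLin.invariants k H T := by
    intro a ha
    exact H62.map_mem_fixedPts hBT ha
  refine ⟨sP.image ψk, ?_⟩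
  apply le_antisymm
  · intro f hf
    obtain ⟨p, rfl⟩ := hsurj f
    have hnat := H62.reynolds_natural hG hψcomod p
    have hE : H62.reynolds T hG (ψk p) = ψk p := H62.reynolds_of_mem_fixedPts hG hf
    have h3 : ψk (H62.reynolds (MvPolynomial (Fin (Module.finrank k V)) B) hG p) = ψk p :=
      hnat.symm.trans hE
    have h4 := hsP2 _ (H62.reynolds_mem hG p)
    have h5 : ψk (H62.reynolds (MvPolynomial (Fin (Module.finrank k V)) B) hG p) ∈
        (Algebra.adjoin k ((C : B → MvPolynomial (Fin (Module.finrank k V)) B) ''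
          (GLin.invariants k H B : Set B) ∪
            (sP : Set (MvPolynomial (Fin (Module.finrank k V)) B)))).map ψk :=
      Subalgebra.mem_map.mpr ⟨_, h4, rfl⟩
    rw [AlgHom.map_adjoin, Set.image_union, Set.image_image] at h5
    have h6 : (fun x => ψk (C x)) '' (GLin.invariants k H B : Set B) =
        ⇑(algebraMap B T) '' ↑(GLin.invariants k H B) := by
      apply Set.image_congr
      intro a _
      exact hψC a
    rw [h6] at h5
    change ψk p ∈ _
    rw [← h3, Finset.coe_image]
    exact h5
  · rw [Algebra.adjoin_le_iff]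
    rintro f (⟨a, ha, rfl⟩ | hf)
    · exact hBinv a ha
    · obtain ⟨q, hq, rfl⟩ := Finset.mem_image.mp (Finset.mem_coe.mp hf)
      exact H62.map_mem_fixedPts hψcomod (hsP1 q hq)

end Groth.Agent.H62.RelHilbert
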