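import Groth.Agent.H62.Hilbert2

/-!
# helper62: the polynomial ring `B[x₁..xₙ]` over a comodule algebra `B`, with the coaction extending
that of `B` and acting on the variables through a matrix corepresentation `m`.
-/

set_option autoImplicit false
set_option linter.unusedSectionVars false
universe u v w
open TensorProduct MvPolynomial

namespace Groth.Agent.H62.RelPoly

section Construct

variable {k : Type u} [CommRing k] {H : Type v} [CommRing H] [Bialgebra k H]
  {B : Type w} [CommRing B] [Algebra k B] [HopfRep.Comod k H B] [GLin.IsCoactAlg k H B]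
  {n : ℕ} (m : Fin n → Fin n → H)

variable (k B n) in
/-- `C : B → B[x]` as a `k`-algebra map. -/
noncomputable def ι : B →ₐ[k] MvPolynomial (Fin n) B :=
  IsScalarTower.toAlgHom k B (MvPolynomial (Fin n) B)

theorem ι_apply (b : B) : ι k B n b = C b := rfl

variable (k H B n) in
/-- `b ↦ Σ C b₀ ⊗ b₁`. -/
noncomputable def fB : B →ₐ[k] MvPolynomial (Fin n) B ⊗[k] H :=
  (Algebra.TensorProduct.map (ι k B n) (AlgHom.id k H)).comp (GLin.coactAlgHom k H B)

variable (k B) in
/-- `x_j ↦ Σ x_i ⊗ m i j`. -/
noncomputable def gX (j : Fin n) : MvPolynomial (Fin n) B ⊗[k] H :=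
  ∑ i, (X i : MvPolynomial (Fin n) B) ⊗ₜ[k] m i j

variable (k B) in
/-- The coaction on `B[x]` as an algebra map. -/
noncomputable def ρP : MvPolynomial (Fin n) B →ₐ[k] MvPolynomial (Fin n) B ⊗[k] H :=
  { MvPolynomial.eval₂Hom (fB k H B n : B →+* MvPolynomial (Fin n) B ⊗[k] H) (gX k B m) with
    commutes' := fun c => by
      change MvPolynomial.eval₂Hom (fB k H B n : B →+* MvPolynomial (Fin n) B ⊗[k] H) (gX k B m)
        (algebraMap k (MvPolynomial (Fin n) B) c) = _
      rw [MvPolynomial.algebraMap_apply, MvPolynomial.eval₂Hom_C]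
      exact (fB k H B n).commutes c }

theorem ρP_C (b : B) : ρP k B m (C b) = fB k H B n b := by
  change MvPolynomial.eval₂Hom (fB k H B n : B →+* MvPolynomial (Fin n) B ⊗[k] H) (gX k B m) (C b) = _
  rw [MvPolynomial.eval₂Hom_C]
  rfl

theorem ρP_X (j : Fin n) : ρP k B m (X j) = gX k B m j := by
  change MvPolynomial.eval₂Hom (fB k H B n : B →+* MvPolynomial (Fin n) B ⊗[k] H) (gX k B m) (X j) = _
  rw [MvPolynomial.eval₂Hom_X']

theorem map_id_eq_rTensor {P Q : Type*} [CommRing P] [Algebra k P] [CommRing Q] [Algebra k Q]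
    (f : P →ₐ[k] Q) (x : P ⊗[k] H) :
    Algebra.TensorProduct.map f (AlgHom.id k H) x = f.toLinearMap.rTensor H x := by
  induction x using TensorProduct.induction_on with
  | zero => simp
  | tmul p a => simp
  | add x y hx hy => simp only [map_add, hx, hy]

theorem map_id_eq_lTensor {P : Type*} [CommRing P] [Algebra k P] {Q Q' : Type*} [CommRing Q]
    [Algebra k Q] [CommRing Q'] [Algebra k Q'] (f : Q →ₐ[k] Q') (x : P ⊗[k] Q) :
    Algebra.TensorProduct.map (AlgHom.id k P) f x = f.toLinearMap.lTensor P x := by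
  induction x using TensorProduct.induction_on with
  | zero => simp
  | tmul p a => simp
  | add x y hx hy => simp only [map_add, hx, hy]

theorem fB_apply (b : B) :
    fB k H B n b = (ι k B n).toLinearMap.rTensor H (H40.ρ k H B b) := by
  change Algebra.TensorProduct.map (ι k B n) (AlgHom.id k H) (H40.ρ k H B b) = _
  exact map_id_eq_rTensor _ _

theorem algAssoc_eq {P : Type*} [CommRing P] [Algebra k P] (t : (P ⊗[k] H) ⊗[k] H) :
    Algebra.TensorProduct.assoc k k k P H H t = TensorProduct.assoc k P H H t := by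
  induction t using TensorProduct.induction_on with
  | zero => simp
  | add x y hx hy => simp only [map_add, hx, hy]
  | tmul x c =>
    induction x using TensorProduct.induction_on with
    | zero => simp
    | add x y hx hy => simp only [TensorProduct.add_tmul, map_add, hx, hy]
    | tmul a b => rfl

/-- naturality of the associator -/
theorem assoc_rTensor_rTensor {P Q : Type*} [AddCommGroup P] [Module k P] [AddCommGroup Q]
    [Module k Q] (f : P →ₗ[k] Q) (t : (P ⊗[k] H) ⊗[k] H) :
    TensorProduct.assoc k Q H H ((f.rTensor H).rTensor H t) =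
      f.rTensor (H ⊗[k] H) (TensorProduct.assoc k P H H t) := by
  induction t using TensorProduct.induction_on with
  | zero => simp
  | add x y hx hy => simp only [map_add, hx, hy]
  | tmul x c =>
    induction x using TensorProduct.induction_on with
    | zero => simp
    | add x y hx hy => simp only [TensorProduct.add_tmul, map_add, hx, hy]
    | tmul a b => simp

theorem rTensor_lTensor_comm {P Q : Type*} [AddCommGroup P] [Module k P] [AddCommGroup Q]
    [Module k Q] {M M' : Type*} [AddCommGroup M] [Module k M] [AddCommGroup M'] [Module k M']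
    (f : P →ₗ[k] Q) (g : M →ₗ[k] M') (t : P ⊗[k] M) :
    f.rTensor M' (g.lTensor P t) = g.lTensor Q (f.rTensor M t) := by
  induction t using TensorProduct.induction_on with
  | zero => simp
  | add x y hx hy => simp only [map_add, hx, hy]
  | tmul a b => simp

/-- The two sides of coassociativity as algebra maps. -/
theorem coassoc_algHom
    (hΔ : ∀ i j, CoalgebraStruct.comul (R := k) (m i j) = ∑ l, m i l ⊗ₜ[k] m l j) :
    (Algebra.TensorProduct.assoc k k k (MvPolynomial (Fin n) B) H H).toAlgHom.comp
        ((Algebra.TensorProduct.map (ρP k B m) (AlgHom.id k H)).comp (ρP k B m)) =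
      (Algebra.TensorProduct.map (AlgHom.id k (MvPolynomial (Fin n) B))
        (Bialgebra.comulAlgHom k H)).comp (ρP k B m) := by
  apply MvPolynomial.algHom_ext'
  · apply AlgHom.ext
    intro b
    simp only [AlgHom.comp_apply, IsScalarTower.toAlgHom_apply, MvPolynomial.algebraMap_eq,
      AlgEquiv.coe_toAlgHom]
    rw [ρP_C, map_id_eq_rTensor, map_id_eq_lTensor, algAssoc_eq, fB_apply]
    -- LHS : assoc ((ρP.rTensor) ((ι.rTensor) (ρ b)))
    have h1 : (ρP k B m).toLinearMap.rTensor H ((ι k B n).toLinearMap.rTensor H (H40.ρ k H B b)) =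
        ((ι k B n).toLinearMap.rTensor H).rTensor H ((H40.ρ k H B).rTensor H (H40.ρ k H B b)) := by
      rw [← LinearMap.rTensor_comp_apply, ← LinearMap.rTensor_comp_apply]
      congr 2
      apply LinearMap.ext
      intro b'
      simp only [LinearMap.comp_apply, AlgHom.toLinearMap_apply]
      rw [ι_apply, ρP_C, fB_apply]
    rw [h1, assoc_rTensor_rTensor, H40.coassoc_apply, rTensor_lTensor_comm]
    rfl
  · intro j
    simp only [AlgHom.comp_apply, AlgEquiv.coe_toAlgHom]
    rw [ρP_X, gX, map_sum, map_sum, map_sum]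
    have hL : ∀ i ∈ Finset.univ, (Algebra.TensorProduct.assoc k k k (MvPolynomial (Fin n) B) H H)
        ((Algebra.TensorProduct.map (ρP k B m) (AlgHom.id k H))
          ((X i : MvPolynomial (Fin n) B) ⊗ₜ[k] m i j)) =
        ∑ l, (X l : MvPolynomial (Fin n) B) ⊗ₜ[k] (m l i ⊗ₜ[k] m i j) := by
      intro i _
      rw [Algebra.TensorProduct.map_tmul, ρP_X, gX, AlgHom.id_apply, TensorProduct.sum_tmul,
        map_sum]
      rfl
    have hR : ∀ l ∈ Finset.univ, (Algebra.TensorProduct.map (AlgHom.id k (MvPolynomial (Fin n) B))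
        (Bialgebra.comulAlgHom k H)) ((X l : MvPolynomial (Fin n) B) ⊗ₜ[k] m l j) =
        ∑ i, (X l : MvPolynomial (Fin n) B) ⊗ₜ[k] (m l i ⊗ₜ[k] m i j) := by
      intro l _
      rw [Algebra.TensorProduct.map_tmul, AlgHom.id_apply, Bialgebra.comulAlgHom_apply, hΔ,
        TensorProduct.tmul_sum]
    rw [Finset.sum_congr rfl hL, Finset.sum_congr rfl hR, Finset.sum_comm]

theorem counit_algHom
    (hε : ∀ i j, CoalgebraStruct.counit (R := k) (m i j) = if i = j then 1 else 0) :
    (Algebra.TensorProduct.map (AlgHom.id k (MvPolynomial (Fin n) B))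
        (Bialgebra.counitAlgHom k H)).comp (ρP k B m) =
      (Algebra.TensorProduct.includeLeft : MvPolynomial (Fin n) B →ₐ[k] _) := by
  apply MvPolynomial.algHom_ext'
  · apply AlgHom.ext
    intro b
    simp only [AlgHom.comp_apply, IsScalarTower.toAlgHom_apply, MvPolynomial.algebraMap_eq]
    rw [ρP_C, map_id_eq_lTensor, fB_apply, ← rTensor_lTensor_comm]
    have := H40.counit_apply (k := k) (C := H) (V := B) b
    change (ι k B n).toLinearMap.rTensor k
      ((CoalgebraStruct.counit (R := k) (A := H)).lTensor B (H40.ρ k H B b)) = _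
    rw [this, LinearMap.rTensor_tmul]
    rfl
  · intro j
    simp only [AlgHom.comp_apply]
    rw [ρP_X, gX, map_sum]
    have hL : ∀ i ∈ Finset.univ, (Algebra.TensorProduct.map (AlgHom.id k (MvPolynomial (Fin n) B))
        (Bialgebra.counitAlgHom k H)) ((X i : MvPolynomial (Fin n) B) ⊗ₜ[k] m i j) =
        if i = j then (X j : MvPolynomial (Fin n) B) ⊗ₜ[k] (1 : k) else 0 := by
      intro i _
      rw [Algebra.TensorProduct.map_tmul, AlgHom.id_apply, Bialgebra.counitAlgHom_apply, hε]
      split_ifs with h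
      · rw [h]
      · rw [TensorProduct.tmul_zero]
    rw [Finset.sum_congr rfl hL, Finset.sum_ite_eq' Finset.univ j]
    simp

/-- The comodule structure on `B[x]`. -/
@[reducible] noncomputable def polyComod
    (hΔ : ∀ i j, CoalgebraStruct.comul (R := k) (m i j) = ∑ l, m i l ⊗ₜ[k] m l j)
    (hε : ∀ i j, CoalgebraStruct.counit (R := k) (m i j) = if i = j then 1 else 0) :
    HopfRep.Comod k H (MvPolynomial (Fin n) B) where
  coact := (ρP k B m).toLinearMap
  coassoc := by
    apply LinearMap.ext
    intro p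
    have h := AlgHom.congr_fun (coassoc_algHom (B := B) m hΔ) p
    simp only [AlgHom.comp_apply, AlgEquiv.coe_toAlgHom] at h
    rw [map_id_eq_rTensor, map_id_eq_lTensor, algAssoc_eq] at h
    exact h
  counit_comp := by
    apply LinearMap.ext
    intro p
    have h := AlgHom.congr_fun (counit_algHom (B := B) m hε) p
    simp only [AlgHom.comp_apply] at h
    rw [map_id_eq_lTensor] at h
    exact h

theorem polyComod_isCoactAlg
    (hΔ : ∀ i j, CoalgebraStruct.comul (R := k) (m i j) = ∑ l, m i l ⊗ₜ[k] m l j)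
    (hε : ∀ i j, CoalgebraStruct.counit (R := k) (m i j) = if i = j then 1 else 0) :
    @GLin.IsCoactAlg k _ H _ _ (MvPolynomial (Fin n) B) _ _ (polyComod (B := B) m hΔ hε) :=
  @GLin.IsCoactAlg.mk k _ H _ _ (MvPolynomial (Fin n) B) _ _ (polyComod (B := B) m hΔ hε)
    (map_one (ρP k B m)) (fun f g => map_mul (ρP k B m) f g)

theorem polyComod_coact_C
    (hΔ : ∀ i j, CoalgebraStruct.comul (R := k) (m i j) = ∑ l, m i l ⊗ₜ[k] m l j)
    (hε : ∀ i j, CoalgebraStruct.counit (R := k) (m i j) = if i = j then 1 else 0) (b : B) :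
    (polyComod (B := B) m hΔ hε).coact (C b) =
      (ι k B n).toLinearMap.rTensor H (H40.ρ k H B b) := by
  change ρP k B m (C b) = _
  rw [ρP_C, fB_apply]

theorem polyComod_coact_X
    (hΔ : ∀ i j, CoalgebraStruct.comul (R := k) (m i j) = ∑ l, m i l ⊗ₜ[k] m l j)
    (hε : ∀ i j, CoalgebraStruct.counit (R := k) (m i j) = if i = j then 1 else 0) (j : Fin n) :
    (polyComod (B := B) m hΔ hε).coact (X j : MvPolynomial (Fin n) B) =
      ∑ i, (X i : MvPolynomial (Fin n) B) ⊗ₜ[k] m i j := ρP_X m j

end Construct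

end Groth.Agent.H62.RelPoly
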