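import Groth.Agent.H62.ReynoldsU

/-!
# helper62: universe-polymorphic copy of `H62/Reynolds2.lean`
(Reynolds identity, `(I R) ∩ R^G = I`, `R^G` Noetherian, `M^G` finite over `R^G`), for
`k : Type u`, `A : Type v`, `R : Type w`, `M : Type w'`.
-/

set_option autoImplicit false
universe u v w w'
set_option linter.unusedSectionVars false

open TensorProduct

namespace Groth.Agent.H62.U

section Sub

variable {k : Type u} [Field k] {A : Type v} [CommRing A] [Bialgebra k A]
variable {V : Type w} [AddCommGroup V] [Module k V] [HopfRep.Comod k A V]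

/-- The Reynolds operator preserves subcomodules. -/
theorem reynolds_mem_of_isSubcomod (hG : HopfRep.IsLinearlyReductive k A) {W : Submodule k V}
    (hW : HopfRep.IsSubcomod (k := k) (A := A) W) {w : V} (hw : w ∈ W) :
    reynolds V hG w ∈ W := by
  let _ := subComod W hW
  have hsub := isComodHom_subtype W hW
  have h := reynolds_natural hG hsub ⟨w, hw⟩
  have h' : reynolds V hG w = W.subtype (reynolds W hG ⟨w, hw⟩) := h
  rw [h']
  exact (reynolds W hG ⟨w, hw⟩).2

end Sub

section Alg

variable {k : Type u} [Field k] {A : Type v} [CommRing A] [Bialgebra k A]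

theorem mem_invariants_iff_mem_fixedPts {R : Type w} [CommRing R] [Algebra k R]
    [HopfRep.Comod k A R] [GLin.IsCoactAlg k A R] (z : R) :
    z ∈ GLin.invariants k A R ↔ z ∈ HopfRep.fixedPts k A R := Iff.rfl

theorem mul_tmul_one_eq {R : Type w} [CommRing R] [Algebra k R] (y : R) (t : R ⊗[k] A) :
    t * (y ⊗ₜ[k] (1 : A)) = (LinearMap.mulRight k y).rTensor A t := by
  induction t using TensorProduct.induction_on with
  | zero => simp
  | tmul r a => simp [Algebra.TensorProduct.tmul_mul_tmul]
  | add s t hs ht => rw [add_mul, map_add, hs, ht]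

theorem isComodHom_mulRight {R : Type w} [CommRing R] [Algebra k R]
    [HopfRep.Comod k A R] [GLin.IsCoactAlg k A R] {y : R} (hy : y ∈ GLin.invariants k A R) :
    Hoch.IsComodHom A (LinearMap.mulRight k y) := by
  refine LinearMap.ext fun z => ?_
  simp only [LinearMap.comp_apply, LinearMap.mulRight_apply]
  rw [GLin.IsCoactAlg.coact_mul, (GLin.mem_invariants_iff k A R y).mp hy]
  exact mul_tmul_one_eq y _

variable {R : Type w} [CommRing R] [Algebra k R] [HopfRep.Comod k A R] [GLin.IsCoactAlg k A R]

/-- The Reynolds identity. -/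
theorem reynolds_mul (hG : HopfRep.IsLinearlyReductive k A) (x : R) {y : R}
    (hy : y ∈ GLin.invariants k A R) : reynolds R hG (x * y) = reynolds R hG x * y := by
  have h := reynolds_natural hG (isComodHom_mulRight hy) x
  simpa only [LinearMap.mulRight_apply] using h

theorem reynolds_mem_invariants (hG : HopfRep.IsLinearlyReductive k A) (x : R) :
    reynolds R hG x ∈ GLin.invariants k A R := reynolds_mem hG x

theorem reynolds_of_mem_invariants (hG : HopfRep.IsLinearlyReductive k A) {x : R}
    (hx : x ∈ GLin.invariants k A R) : reynolds R hG x = x :=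
  reynolds_of_mem_fixedPts hG ((mem_invariants_iff_mem_fixedPts x).mp hx)

/-- `(I R) ∩ R^G = I` for ideals `I` of the invariant ring. -/
theorem comap_map_invariants (hG : HopfRep.IsLinearlyReductive k A)
    (I : Ideal (GLin.invariants k A R)) :
    Ideal.comap (GLin.invariants k A R).val.toRingHom
        (Ideal.map (GLin.invariants k A R).val.toRingHom I) = I := by
  apply le_antisymm _ Ideal.le_comap_map
  intro x hx
  rw [Ideal.mem_comap] at hx
  have key : ∀ z ∈ Ideal.map (GLin.invariants k A R).val.toRingHom I, ∀ r : R,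
      ∃ a ∈ I, reynolds R hG (r * z) = (a : R) := by
    intro z hz
    refine Submodule.span_induction
      (p := fun z _ => ∀ r : R, ∃ a ∈ I, reynolds R hG (r * z) = (a : R)) ?_ ?_ ?_ ?_ hz
    · rintro _ ⟨a, ha, rfl⟩ r
      refine ⟨⟨reynolds R hG r, reynolds_mem_invariants hG r⟩ * a, I.mul_mem_left _ ha, ?_⟩
      exact reynolds_mul hG r a.2
    · intro r
      exact ⟨0, I.zero_mem, by simp⟩
    · intro z1 z2 _ _ h1 h2 r
      obtain ⟨a1, ha1, e1⟩ := h1 r
      obtain ⟨a2, ha2, e2⟩ := h2 r
      exact ⟨a1 + a2, I.add_mem ha1 ha2, by rw [mul_add, map_add, e1, e2]; rfl⟩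
    · intro c z _ h r
      obtain ⟨a, ha, e⟩ := h (r * c)
      exact ⟨a, ha, by rw [smul_eq_mul, ← mul_assoc, e]⟩
  obtain ⟨a, ha, e⟩ := key _ hx 1
  rw [one_mul] at e
  have hx' : reynolds R hG ((GLin.invariants k A R).val.toRingHom x) = x :=
    reynolds_of_mem_invariants hG x.2
  rw [hx'] at e
  have hxa : x = a := Subtype.ext e
  rw [hxa]
  exact ha

/-- The ring of invariants of a Noetherian ring is Noetherian. -/
theorem isNoetherianRing_invariants (hG : HopfRep.IsLinearlyReductive k A) [IsNoetherianRing R] :
    IsNoetherianRing (GLin.invariants k A R) := by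
  have hsm : StrictMono (fun I : Ideal (GLin.invariants k A R) =>
      Ideal.map (GLin.invariants k A R).val.toRingHom I) := by
    intro I J hIJ
    refine lt_of_le_of_ne (Ideal.map_mono hIJ.le) ?_
    intro h
    apply hIJ.ne
    have h' : Ideal.map (GLin.invariants k A R).val.toRingHom I =
        Ideal.map (GLin.invariants k A R).val.toRingHom J := h
    calc I = Ideal.comap (GLin.invariants k A R).val.toRingHom
          (Ideal.map (GLin.invariants k A R).val.toRingHom I) := (comap_map_invariants hG I).symm
      _ = Ideal.comap (GLin.invariants k A R).val.toRingHom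
          (Ideal.map (GLin.invariants k A R).val.toRingHom J) := by rw [h']
      _ = J := comap_map_invariants hG J
  rw [isNoetherianRing_iff, isNoetherian_iff']
  exact hsm.wellFoundedGT

end Alg

section Mod

variable {k : Type u} [Field k] {A : Type v} [CommRing A] [Bialgebra k A]

theorem hmSMul_tmul_one_eq {R : Type w} [CommRing R] [Algebra k R]
    {M : Type w'} [AddCommGroup M] [Module k M] [Module R M] [IsScalarTower k R M]
    (n : M) (t : R ⊗[k] A) :
    TameAct.hmSMul k A R M t (n ⊗ₜ[k] (1 : A)) =
      ((LinearMap.toSpanSingleton R M n).restrictScalars k).rTensor A t := by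
  induction t using TensorProduct.induction_on with
  | zero => simp
  | tmul r a => simp
  | add s t hs ht => rw [map_add, LinearMap.add_apply, map_add, hs, ht]

variable {R : Type w} [CommRing R] [Algebra k R] [HopfRep.Comod k A R] [GLin.IsCoactAlg k A R]
variable {M : Type w'} [AddCommGroup M] [Module k M] [Module R M] [IsScalarTower k R M]
  [HopfRep.Comod k A M] [TameAct.IsHopfMod k A R M]

omit [GLin.IsCoactAlg k A R] in
theorem isComodHom_toSpanSingleton {n : M} (hn : n ∈ HopfRep.fixedPts k A M) :
    Hoch.IsComodHom A ((LinearMap.toSpanSingleton R M n).restrictScalars k) := by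
  refine LinearMap.ext fun r => ?_
  simp only [LinearMap.comp_apply, LinearMap.coe_restrictScalars,
    LinearMap.toSpanSingleton_apply]
  rw [TameAct.IsHopfMod.coact_smul (k := k) (A := A), (mem_fixedPts_iff n).mp hn]
  exact hmSMul_tmul_one_eq n _

/-- Reynolds identity for modules. -/
theorem reynolds_smul (hG : HopfRep.IsLinearlyReductive k A) (r : R) {n : M}
    (hn : n ∈ HopfRep.fixedPts k A M) :
    reynolds M hG (r • n) = reynolds R hG r • n := by
  have h := reynolds_natural hG (isComodHom_toSpanSingleton (R := R) hn) r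
  simpa only [LinearMap.coe_restrictScalars, LinearMap.toSpanSingleton_apply] using h

/-- `M^G` is finitely generated over `R^G` when `M` is a Noetherian `R`-module. -/
theorem exists_finset_fixedPts_generating (hG : HopfRep.IsLinearlyReductive k A)
    [IsNoetherian R M] :
    ∃ s : Finset M, (↑s : Set M) ⊆ (HopfRep.fixedPts k A M : Set M) ∧
      ∀ m ∈ HopfRep.fixedPts k A M, ∃ c : M → R,
        (∀ y ∈ s, c y ∈ GLin.invariants k A R) ∧ m = ∑ y ∈ s, c y • y := by
  have hfg : (Submodule.span R (HopfRep.fixedPts k A M : Set M)).FG := IsNoetherian.noetherian _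
  obtain ⟨s, hs, hspan⟩ := (Submodule.fg_span_iff_fg_span_finset_subset _).mp hfg
  refine ⟨s, hs, ?_⟩
  intro m hm
  have hm' : m ∈ Submodule.span R (s : Set M) := by
    rw [← hspan]; exact Submodule.subset_span hm
  obtain ⟨c, -, hc⟩ := Submodule.mem_span_finset.mp hm'
  refine ⟨fun y => reynolds R hG (c y), fun y _ => reynolds_mem_invariants hG _, ?_⟩
  have h1 : reynolds M hG m = m := reynolds_of_mem_fixedPts hG hm
  calc m = reynolds M hG m := h1.symm
    _ = reynolds M hG (∑ y ∈ s, c y • y) := by rw [hc]
    _ = ∑ y ∈ s, reynolds M hG (c y • y) := map_sum _ _ _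
    _ = ∑ y ∈ s, reynolds R hG (c y) • y :=
        Finset.sum_congr rfl fun y hy => reynolds_smul hG (c y) (hs hy)

end Mod

end Groth.Agent.H62.U
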