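import Groth.Agent.H62.RelHilbert2
import Mathlib.Algebra.Module.Shrink
import Mathlib.Logic.Small.Basic

/-!
# helper62: universe-polymorphic Reynolds operator

`HopfRep.IsLinearlyReductive k A` (for `A : Type v`) only quantifies over comodules in `Type v`.
Here: finite-dimensional comodules in any universe are semisimple (transport through `Shrink`), and a
copy of the Reynolds operator library `H62/Reynolds.lean` for comodules in arbitrary universes.
-/

set_option autoImplicit false
set_option linter.unusedSectionVars false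
universe u v w w'

open TensorProduct

namespace Groth.Agent.H62.U

section Transport

variable {k : Type u} [Field k] {C : Type v} [CommRing C] [Bialgebra k C]
variable {V : Type w} [AddCommGroup V] [Module k V] [HopfRep.Comod k C V]
variable {V' : Type w'} [AddCommGroup V'] [Module k V']

/-- Transport of a comodule structure along a linear equivalence. -/
@[reducible] noncomputable def comodOfEquiv (e : V' ≃ₗ[k] V) : HopfRep.Comod k C V' where
  coact := (e.symm.toLinearMap.rTensor C) ∘ₗ (HopfRep.Comod.coact (k := k) (A := C)) ∘ₗ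
    e.toLinearMap
  coassoc := by
    apply LinearMap.ext
    intro x
    simp only [LinearMap.comp_apply, LinearEquiv.coe_coe]
    have h1 : ((e.symm.toLinearMap.rTensor C) ∘ₗ (HopfRep.Comod.coact (k := k) (A := C)) ∘ₗ
        e.toLinearMap).rTensor C (e.symm.toLinearMap.rTensor C (H40.ρ k C V (e x))) =
        (e.symm.toLinearMap.rTensor C).rTensor C
          ((H40.ρ k C V).rTensor C (H40.ρ k C V (e x))) := by
      rw [← LinearMap.rTensor_comp_apply, ← LinearMap.rTensor_comp_apply]
      congr 2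
      apply LinearMap.ext
      intro y
      simp [H40.ρ]
    exact (congrArg _ h1).trans (by
      rw [RelPoly.assoc_rTensor_rTensor, H40.coassoc_apply, RelPoly.rTensor_lTensor_comm])
  counit_comp := by
    apply LinearMap.ext
    intro x
    simp only [LinearMap.comp_apply, LinearEquiv.coe_coe]
    have h := H40.counit_apply (k := k) (C := C) (V := V) (e x)
    change (CoalgebraStruct.counit (R := k) (A := C)).lTensor V'
      (e.symm.toLinearMap.rTensor C (H40.ρ k C V (e x))) = _
    rw [← RelPoly.rTensor_lTensor_comm, h]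
    simp

theorem isComodHom_equiv (e : V' ≃ₗ[k] V) :
    @Hoch.IsComodHom k _ C _ _ _ V' _ _ (comodOfEquiv e) V _ _ _ e.toLinearMap := by
  letI := comodOfEquiv (C := C) e
  apply LinearMap.ext
  intro x
  change H40.ρ k C V (e x) =
    e.toLinearMap.rTensor C (e.symm.toLinearMap.rTensor C (H40.ρ k C V (e x)))
  rw [← LinearMap.rTensor_comp_apply]
  have : e.toLinearMap ∘ₗ e.symm.toLinearMap = LinearMap.id := by
    apply LinearMap.ext; intro y; simp
  rw [this, LinearMap.rTensor_id, LinearMap.id_apply]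

omit [HopfRep.Comod k C V] in
theorem algebraMap_injective : Function.Injective (algebraMap k C) := by
  have h : Function.LeftInverse (Bialgebra.counitAlgHom k C) (algebraMap k C) := fun x => by
    rw [AlgHom.commutes]; rfl
  exact h.injective

/-- Linear reductivity gives semisimplicity of finite-dimensional comodules in every universe. -/
theorem isSemisimpleComod_of_linRed (hG : HopfRep.IsLinearlyReductive k C)
    (V : Type w) [AddCommGroup V] [Module k V] [HopfRep.Comod k C V] [Module.Finite k V] :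
    HopfRep.IsSemisimpleComod k C V := by
  haveI : Small.{v} k := small_of_injective (algebraMap_injective (k := k) (C := C))
  haveI : Small.{v} V := small_of_injective (Module.finBasis k V).equivFun.injective
  let e : Shrink.{v} V ≃ₗ[k] V := Shrink.linearEquiv k V
  letI : HopfRep.Comod k C (Shrink.{v} V) := comodOfEquiv e
  have he : Hoch.IsComodHom C e.toLinearMap := isComodHom_equiv e
  haveI : Module.Finite k (Shrink.{v} V) := Module.Finite.equiv e.symm
  have hss := hG (Shrink.{v} V) inferInstance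
  intro W hW
  obtain ⟨W', hW', hc⟩ := hss (W.comap e.toLinearMap) (isSubcomod_comap he hW)
  refine ⟨W'.map e.toLinearMap, isSubcomod_map he hW', ?_⟩
  have h1 := (Submodule.orderIsoMapComap e).isCompl hc
  have h2 : (Submodule.orderIsoMapComap e) (W.comap e.toLinearMap) = W :=
    Submodule.map_comap_eq_of_surjective e.surjective W
  rw [h2] at h1
  exact h1

end Transport

section Reductive

variable {k : Type u} [Field k] {A : Type v} [CommRing A] [Bialgebra k A]

/-- Image of a finite-dimensional comodule without invariants has no invariants. -/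
theorem range_inf_fixedPts_eq_bot (hG : HopfRep.IsLinearlyReductive k A)
    {U : Type w} [AddCommGroup U] [Module k U] [HopfRep.Comod k A U] [Module.Finite k U]
    (hU : HopfRep.fixedPts k A U = ⊥)
    {X : Type w'} [AddCommGroup X] [Module k X] [HopfRep.Comod k A X]
    {f : U →ₗ[k] X} (hf : Hoch.IsComodHom A f) :
    LinearMap.range f ⊓ HopfRep.fixedPts k A X = ⊥ := by
  obtain ⟨D, hD, hKD⟩ := isSemisimpleComod_of_linRed hG U (LinearMap.ker f) (H93.isSubcomod_ker hf)
  rw [eq_bot_iff]
  rintro y ⟨⟨u, rfl⟩, hy⟩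
  have hu : u ∈ LinearMap.ker f ⊔ D := by rw [hKD.sup_eq_top]; trivial
  obtain ⟨κ, hκ, d, hd, rfl⟩ := Submodule.mem_sup.mp hu
  have hfκ : f κ = 0 := hκ
  have hfd : f (κ + d) = f d := by rw [map_add, hfκ, zero_add]
  rw [SetLike.mem_coe, hfd] at hy
  rw [hfd]
  have hdfix : d ∈ HopfRep.fixedPts k A U := by
    rw [mem_fixedPts_iff]
    have ht : HopfRep.Comod.coact (k := k) (A := A) d - d ⊗ₜ[k] (1 : A) ∈
        LinearMap.range (D.subtype.rTensor A) :=
      Submodule.sub_mem _ (hD d hd) (H40.tmul_mem_range_rTensor D hd 1)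
    obtain ⟨t', ht'⟩ := ht
    have hinj : Function.Injective (f ∘ₗ D.subtype) := by
      intro a b hab
      have h1 : ((a : U) - b) ∈ LinearMap.ker f ⊓ D := by
        refine ⟨?_, D.sub_mem a.2 b.2⟩
        show ((a : U) - b) ∈ LinearMap.ker f
        rw [LinearMap.mem_ker, map_sub, sub_eq_zero]
        exact hab
      rw [hKD.inf_eq_bot, Submodule.mem_bot, sub_eq_zero] at h1
      exact Subtype.ext h1
    have h0 : (f ∘ₗ D.subtype).rTensor A t' = 0 := by
      rw [LinearMap.rTensor_comp, LinearMap.comp_apply, ht', map_sub, ← H93.comodHom_apply hf,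
        LinearMap.rTensor_tmul, (mem_fixedPts_iff _).mp hy, sub_self]
    have ht0 : t' = 0 := rTensor_injective _ hinj A (by rw [h0, map_zero])
    rw [ht0, map_zero] at ht'
    exact sub_eq_zero.mp ht'.symm
  rw [hU, Submodule.mem_bot] at hdfix
  rw [hdfix, map_zero]
  exact Submodule.zero_mem _

theorem exists_compl_fixedPts (hG : HopfRep.IsLinearlyReductive k A)
    (U : Type w) [AddCommGroup U] [Module k U] [HopfRep.Comod k A U] [Module.Finite k U] :
    ∃ Cc : Submodule k U, HopfRep.IsSubcomod (k := k) (A := A) Cc ∧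
      IsCompl (HopfRep.fixedPts k A U) Cc :=
  isSemisimpleComod_of_linRed hG U _ isSubcomod_fixedPts

/-- In a finite-dimensional comodule, every subcomodule without invariants lies in any
subcomodule complement of the invariants. -/
theorem le_of_inf_fixedPts_eq_bot (hG : HopfRep.IsLinearlyReductive k A)
    {U : Type w} [AddCommGroup U] [Module k U] [HopfRep.Comod k A U] [Module.Finite k U]
    {Cc : Submodule k U} (hC : HopfRep.IsSubcomod (k := k) (A := A) Cc)
    (hcompl : IsCompl (HopfRep.fixedPts k A U) Cc)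
    {U' : Submodule k U} (hU' : HopfRep.IsSubcomod (k := k) (A := A) U')
    (hinv : U' ⊓ HopfRep.fixedPts k A U = ⊥) : U' ≤ Cc := by
  have hfix := fixedPts_sub_eq_bot hU' hinv
  let _ := subComod U' hU'
  have hsub := isComodHom_subtype U' hU'
  have hπc : Hoch.IsComodHom A ((HopfRep.fixedPts k A U).projection Cc hcompl) :=
    isComodHom_projection isSubcomod_fixedPts hC hcompl
  have hcomp := H93.isComodHom_comp hsub hπc
  have hL := range_inf_fixedPts_eq_bot hG hfix hcomp
  intro x hx
  have h2 : (HopfRep.fixedPts k A U).projection Cc hcompl x ∈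
      LinearMap.range (((HopfRep.fixedPts k A U).projection Cc hcompl) ∘ₗ U'.subtype) ⊓
        HopfRep.fixedPts k A U :=
    ⟨⟨⟨x, hx⟩, rfl⟩, Submodule.projection_apply_mem hcompl x⟩
  rw [hL, Submodule.mem_bot] at h2
  exact (Submodule.projection_apply_eq_zero_iff hcompl).mp h2

variable (k A) in
/-- Finite-dimensional subcomodules without invariants. -/
def noInvSet (V : Type w) [AddCommGroup V] [Module k V] [HopfRep.Comod k A V] :
    Set (Submodule k V) :=
  {U | HopfRep.IsSubcomod (k := k) (A := A) U ∧ Module.Finite k U ∧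
    U ⊓ HopfRep.fixedPts k A V = ⊥}

variable (k A) in
/-- The sum of all finite-dimensional subcomodules without invariants. -/
def N (V : Type w) [AddCommGroup V] [Module k V] [HopfRep.Comod k A V] : Submodule k V :=
  sSup (noInvSet k A V)

theorem isSubcomod_N {V : Type w} [AddCommGroup V] [Module k V] [HopfRep.Comod k A V] :
    HopfRep.IsSubcomod (k := k) (A := A) (N k A V) :=
  H40.isSubcomod_sSup (fun _ hU => hU.1)

variable {V : Type w} [AddCommGroup V] [Module k V] [HopfRep.Comod k A V]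

theorem inf_fixedPts_eq_bot_of_le_sup (hG : HopfRep.IsLinearlyReductive k A)
    {U U1 U2 : Submodule k V} (hsU : HopfRep.IsSubcomod (k := k) (A := A) U)
    [Module.Finite k U] (hU : U ≤ U1 ⊔ U2) (h1le : U1 ≤ U) (h2le : U2 ≤ U)
    (hs1 : HopfRep.IsSubcomod (k := k) (A := A) U1) (hi1 : U1 ⊓ HopfRep.fixedPts k A V = ⊥)
    (hs2 : HopfRep.IsSubcomod (k := k) (A := A) U2) (hi2 : U2 ⊓ HopfRep.fixedPts k A V = ⊥) :
    U ⊓ HopfRep.fixedPts k A V = ⊥ := by
  let _ := subComod U hsU
  have hsub := isComodHom_subtype U hsU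
  obtain ⟨Cc, hC, hcompl⟩ := exists_compl_fixedPts hG U
  have hle : ∀ Ui : Submodule k V, HopfRep.IsSubcomod (k := k) (A := A) Ui →
      Ui ⊓ HopfRep.fixedPts k A V = ⊥ → Ui.comap U.subtype ≤ Cc := by
    intro Ui hsi hii
    apply le_of_inf_fixedPts_eq_bot hG hC hcompl (isSubcomod_comap hsub hsi)
    rw [eq_bot_iff]
    rintro x ⟨hx1, hx2⟩
    have h3 : (x : V) ∈ Ui ⊓ HopfRep.fixedPts k A V := ⟨hx1, map_mem_fixedPts hsub hx2⟩
    rw [hii, Submodule.mem_bot] at h3
    rw [Submodule.mem_bot]
    exact Subtype.ext h3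
  rw [eq_bot_iff]
  rintro x ⟨hxU, hxfix⟩
  obtain ⟨x1, hx1, x2, hx2, hsum⟩ := Submodule.mem_sup.mp (hU hxU)
  have hC1 : (⟨x1, h1le hx1⟩ : U) ∈ Cc := hle U1 hs1 hi1 hx1
  have hC2 : (⟨x2, h2le hx2⟩ : U) ∈ Cc := hle U2 hs2 hi2 hx2
  have hxeq : (⟨x, hxU⟩ : U) = ⟨x1, h1le hx1⟩ + ⟨x2, h2le hx2⟩ := Subtype.ext hsum.symm
  have hsumC : (⟨x, hxU⟩ : U) ∈ Cc := by rw [hxeq]; exact Cc.add_mem hC1 hC2
  have hsumfix : (⟨x, hxU⟩ : U) ∈ HopfRep.fixedPts k A U :=
    mem_fixedPts_of_map_mem hsub U.injective_subtype hxfix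
  have h4 : (⟨x, hxU⟩ : U) ∈ HopfRep.fixedPts k A U ⊓ Cc := ⟨hsumfix, hsumC⟩
  rw [hcompl.inf_eq_bot, Submodule.mem_bot] at h4
  rw [Submodule.mem_bot]
  exact congrArg Subtype.val h4

theorem sup_mem_noInvSet (hG : HopfRep.IsLinearlyReductive k A) {U1 U2 : Submodule k V}
    (h1 : U1 ∈ noInvSet k A V) (h2 : U2 ∈ noInvSet k A V) : U1 ⊔ U2 ∈ noInvSet k A V := by
  obtain ⟨hs1, hf1, hi1⟩ := h1
  obtain ⟨hs2, hf2, hi2⟩ := h2
  have hsU : HopfRep.IsSubcomod (k := k) (A := A) (U1 ⊔ U2) := H93.isSubcomod_sup hs1 hs2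
  have : Module.Finite k ↥(U1 ⊔ U2) := Submodule.finite_sup U1 U2
  exact ⟨hsU, inferInstance, inf_fixedPts_eq_bot_of_le_sup hG hsU le_rfl le_sup_left le_sup_right
    hs1 hi1 hs2 hi2⟩

theorem fixedPts_inf_N (hG : HopfRep.IsLinearlyReductive k A) :
    HopfRep.fixedPts k A V ⊓ N k A V = ⊥ := by
  rw [eq_bot_iff]
  rintro x ⟨hxfix, hxN⟩
  have hne : (noInvSet k A V).Nonempty :=
    ⟨⊥, H93.isSubcomod_bot, inferInstance, bot_inf_eq _⟩
  have hdir : DirectedOn (· ≤ ·) (noInvSet k A V) := by
    intro U1 h1 U2 h2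
    exact ⟨U1 ⊔ U2, sup_mem_noInvSet hG h1 h2, le_sup_left, le_sup_right⟩
  obtain ⟨U, hU, hxU⟩ := (Submodule.mem_sSup_of_directed hne hdir).mp hxN
  have h5 : x ∈ U ⊓ HopfRep.fixedPts k A V := ⟨hxU, hxfix⟩
  rw [hU.2.2] at h5
  exact h5

theorem fixedPts_sup_N (hG : HopfRep.IsLinearlyReductive k A) :
    HopfRep.fixedPts k A V ⊔ N k A V = ⊤ := by
  rw [eq_top_iff]
  intro v _
  obtain ⟨U, hfin, hvU, hsU⟩ := H40.exists_finite_subcomod_mem (k := k) (C := A) v
  have := hfin
  let _ := subComod U hsU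
  have hsub := isComodHom_subtype U hsU
  obtain ⟨Cc, hC, hcompl⟩ := exists_compl_fixedPts hG U
  have hv' : (⟨v, hvU⟩ : U) ∈ HopfRep.fixedPts k A U ⊔ Cc := by
    rw [hcompl.sup_eq_top]; trivial
  obtain ⟨a, ha, c, hc, hac⟩ := Submodule.mem_sup.mp hv'
  have hv_eq : v = (a : V) + (c : V) := (congrArg Subtype.val hac).symm
  rw [hv_eq]
  refine Submodule.add_mem _ (Submodule.mem_sup_left (map_mem_fixedPts hsub ha))
    (Submodule.mem_sup_right ?_)
  have hmem : Cc.map U.subtype ∈ noInvSet k A V := by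
    refine ⟨isSubcomod_map hsub hC, inferInstance, ?_⟩
    rw [eq_bot_iff]
    rintro y ⟨⟨c', hc', rfl⟩, hyfix⟩
    have h1 : c' ∈ HopfRep.fixedPts k A U ⊓ Cc :=
      ⟨mem_fixedPts_of_map_mem hsub U.injective_subtype hyfix, hc'⟩
    rw [hcompl.inf_eq_bot, Submodule.mem_bot] at h1
    rw [h1, map_zero]
    exact Submodule.zero_mem _
  exact (le_sSup hmem) ⟨c, hc, rfl⟩

theorem isCompl_fixedPts_N (hG : HopfRep.IsLinearlyReductive k A) :
    IsCompl (HopfRep.fixedPts k A V) (N k A V) :=
  IsCompl.of_eq (fixedPts_inf_N hG) (fixedPts_sup_N hG)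

theorem map_mem_noInvSet (hG : HopfRep.IsLinearlyReductive k A)
    {X : Type w'} [AddCommGroup X] [Module k X] [HopfRep.Comod k A X]
    {f : V →ₗ[k] X} (hf : Hoch.IsComodHom A f) {U : Submodule k V} (hU : U ∈ noInvSet k A V) :
    U.map f ∈ noInvSet k A X := by
  obtain ⟨hs, hfin, hi⟩ := hU
  have := hfin
  refine ⟨isSubcomod_map hf hs, inferInstance, ?_⟩
  have hfix := fixedPts_sub_eq_bot hs hi
  let _ := subComod U hs
  have hsub := isComodHom_subtype U hs
  have hL := range_inf_fixedPts_eq_bot hG hfix (H93.isComodHom_comp hsub hf)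
  rw [LinearMap.range_comp, Submodule.range_subtype] at hL
  exact hL

theorem map_N_le (hG : HopfRep.IsLinearlyReductive k A)
    {X : Type w'} [AddCommGroup X] [Module k X] [HopfRep.Comod k A X]
    {f : V →ₗ[k] X} (hf : Hoch.IsComodHom A f) : (N k A V).map f ≤ N k A X := by
  rw [Submodule.map_le_iff_le_comap]
  apply sSup_le
  intro U hU
  rw [← Submodule.map_le_iff_le_comap]
  exact le_sSup (map_mem_noInvSet hG hf hU)

theorem apply_eq_zero_of_mem_N (hG : HopfRep.IsLinearlyReductive k A)
    {X : Type w'} [AddCommGroup X] [Module k X] [HopfRep.Comod k A X]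
    {f : V →ₗ[k] X} (hf : Hoch.IsComodHom A f) (hrange : ∀ v, f v ∈ HopfRep.fixedPts k A X)
    {n : V} (hn : n ∈ N k A V) : f n = 0 := by
  have h1 : f n ∈ N k A X := map_N_le hG hf ⟨n, hn, rfl⟩
  have h2 : f n ∈ HopfRep.fixedPts k A X ⊓ N k A X := ⟨hrange n, h1⟩
  rw [fixedPts_inf_N hG, Submodule.mem_bot] at h2
  exact h2

variable (V) in
/-- The Reynolds operator: projection onto the invariants along `N`. -/
noncomputable def reynolds (hG : HopfRep.IsLinearlyReductive k A) : V →ₗ[k] V :=
  (HopfRep.fixedPts k A V).projection (N k A V) (isCompl_fixedPts_N hG)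

theorem isComodHom_reynolds (hG : HopfRep.IsLinearlyReductive k A) :
    Hoch.IsComodHom A (reynolds V hG) :=
  isComodHom_projection isSubcomod_fixedPts isSubcomod_N _

theorem reynolds_idem (hG : HopfRep.IsLinearlyReductive k A) :
    reynolds V hG ∘ₗ reynolds V hG = reynolds V hG :=
  Submodule.isIdempotentElem_projection (isCompl_fixedPts_N hG)

theorem reynolds_eq_self_iff (hG : HopfRep.IsLinearlyReductive k A) (x : V) :
    reynolds V hG x = x ↔ x ∈ HopfRep.fixedPts k A V :=
  Submodule.projection_eq_self_iff (isCompl_fixedPts_N hG) x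

theorem reynolds_mem (hG : HopfRep.IsLinearlyReductive k A) (x : V) :
    reynolds V hG x ∈ HopfRep.fixedPts k A V :=
  Submodule.projection_apply_mem (isCompl_fixedPts_N hG) x

theorem reynolds_of_mem_N (hG : HopfRep.IsLinearlyReductive k A) {x : V} (hx : x ∈ N k A V) :
    reynolds V hG x = 0 :=
  Submodule.projection_apply_of_mem_right (isCompl_fixedPts_N hG) hx

theorem reynolds_of_mem_fixedPts (hG : HopfRep.IsLinearlyReductive k A) {x : V}
    (hx : x ∈ HopfRep.fixedPts k A V) : reynolds V hG x = x :=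
  Submodule.projection_apply_of_mem_left (isCompl_fixedPts_N hG) hx

theorem exists_decomp (hG : HopfRep.IsLinearlyReductive k A) (v : V) :
    ∃ a ∈ HopfRep.fixedPts k A V, ∃ n ∈ N k A V, a + n = v := by
  have hv : v ∈ HopfRep.fixedPts k A V ⊔ N k A V := by rw [fixedPts_sup_N hG]; trivial
  exact Submodule.mem_sup.mp hv

/-- Uniqueness of the Reynolds operator. -/
theorem eq_reynolds (hG : HopfRep.IsLinearlyReductive k A) {E : V →ₗ[k] V}
    (h1 : Hoch.IsComodHom A E) (h2 : E ∘ₗ E = E)
    (h3 : ∀ x, E x = x ↔ x ∈ HopfRep.fixedPts k A V) : E = reynolds V hG := by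
  have hrange : ∀ v, E v ∈ HopfRep.fixedPts k A V :=
    fun v => (h3 (E v)).mp (LinearMap.congr_fun h2 v)
  ext v
  obtain ⟨a, ha, n, hn, rfl⟩ := exists_decomp hG v
  rw [map_add, map_add, (h3 a).mpr ha, apply_eq_zero_of_mem_N hG h1 hrange hn,
    reynolds_of_mem_fixedPts hG ha, reynolds_of_mem_N hG hn]

/-- Naturality of the Reynolds operator. -/
theorem reynolds_natural (hG : HopfRep.IsLinearlyReductive k A)
    {X : Type w'} [AddCommGroup X] [Module k X] [HopfRep.Comod k A X]
    {f : V →ₗ[k] X} (hf : Hoch.IsComodHom A f) (v : V) :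
    reynolds X hG (f v) = f (reynolds V hG v) := by
  obtain ⟨a, ha, n, hn, rfl⟩ := exists_decomp hG v
  rw [map_add, map_add, map_add, reynolds_of_mem_fixedPts hG ha, reynolds_of_mem_N hG hn,
    reynolds_of_mem_fixedPts hG (map_mem_fixedPts hf ha),
    reynolds_of_mem_N hG (map_N_le hG hf ⟨n, hn, rfl⟩), add_zero, add_zero]

end Reductive

end Groth.Agent.H62.U
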