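import Groth.Agent.H62.StrEtaleQuotA
import Groth.Agent.H62.OrbitFin
import Groth.Agent.H62.OrbitSep
import Groth.Prelude.Def_GLin
import Mathlib.FieldTheory.IsAlgClosed.Basic
import Mathlib.RingTheory.FiniteType
import Mathlib.RingTheory.Spectrum.Prime.Topology
import Mathlib.RingTheory.Spectrum.Prime.RingHom

/-!
# helper62: strongly étale morphisms: étale, injective on orbits, closed orbits correspond
-/

set_option autoImplicit false
set_option linter.unusedSectionVars false
set_option linter.unusedVariables false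
set_option linter.style.haveILetI false
universe u
open TensorProduct
open GLin

namespace Groth.Agent.H62.StrEtaleOrbit

section Top

variable {S R : Type*} [CommRing S] [CommRing R]

/-- If `φ` induces a bijection `S/I → R/I'`, then closedness of subsets of `V(I')` can be tested
after pushing forward along `Spec φ`. -/
theorem isClosed_image_comap_iff (φ : S →+* R) (I : Ideal S) (I' : Ideal R)
    (hII' : I ≤ I'.comap φ) (hbij : Function.Bijective (Ideal.quotientMap I' φ hII'))
    (T : Set (PrimeSpectrum R)) (hT : T ⊆ PrimeSpectrum.zeroLocus I') :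
    IsClosed T ↔ IsClosed (PrimeSpectrum.comap φ '' T) := by
  have hι' := PrimeSpectrum.isClosedEmbedding_comap_of_surjective (R ⧸ I') (Ideal.Quotient.mk I')
    Ideal.Quotient.mk_surjective
  have hι := PrimeSpectrum.isClosedEmbedding_comap_of_surjective (S ⧸ I) (Ideal.Quotient.mk I)
    Ideal.Quotient.mk_surjective
  have hh := PrimeSpectrum.isHomeomorph_comap_of_bijective hbij
  have hrange : Set.range (PrimeSpectrum.comap (Ideal.Quotient.mk I')) =
      PrimeSpectrum.zeroLocus I' := by
    rw [range_comap_of_surjective _ _ Ideal.Quotient.mk_surjective, Ideal.mk_ker]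
  set T' := PrimeSpectrum.comap (Ideal.Quotient.mk I') ⁻¹' T with hT'
  have hTT' : PrimeSpectrum.comap (Ideal.Quotient.mk I') '' T' = T := by
    rw [hT', Set.image_preimage_eq_inter_range, hrange]
    exact Set.inter_eq_left.mpr hT
  have hcomm : ∀ p, PrimeSpectrum.comap φ (PrimeSpectrum.comap (Ideal.Quotient.mk I') p) =
      PrimeSpectrum.comap (Ideal.Quotient.mk I)
        (PrimeSpectrum.comap (Ideal.quotientMap I' φ hII') p) := by
    intro p
    rw [← PrimeSpectrum.comap_comp_apply, ← PrimeSpectrum.comap_comp_apply,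
      Ideal.quotientMap_comp_mk]
  have himg : PrimeSpectrum.comap φ '' T = PrimeSpectrum.comap (Ideal.Quotient.mk I) ''
      (PrimeSpectrum.comap (Ideal.quotientMap I' φ hII') '' T') := by
    rw [← hTT', Set.image_image, Set.image_image]
    exact Set.image_congr fun p _ => hcomm p
  rw [himg, ← hι.isClosed_iff_image_isClosed, ← hh.isClosedEmbedding.isClosed_iff_image_isClosed]
  constructor
  · intro h
    exact h.preimage hι'.continuous
  · intro h
    rw [← hTT']
    exact hι'.isClosedMap _ h

end Top

section Cart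

variable {S₀ S R₀ R : Type*} [CommRing S₀] [CommRing S] [CommRing R₀] [CommRing R]
  [Algebra S₀ S] [Algebra S₀ R₀] [Algebra S R] [Algebra R₀ R] [Algebra S₀ R]
  [IsScalarTower S₀ S R] [IsScalarTower S₀ R₀ R]

theorem etale_of_cart [Algebra.Etale S₀ R₀]
    (hcart : Function.Bijective (Algebra.TensorProduct.productMap
      (IsScalarTower.toAlgHom S₀ S R) (IsScalarTower.toAlgHom S₀ R₀ R))) : Algebra.Etale S R := by
  let f : S ⊗[S₀] R₀ →ₐ[S] R :=
    Algebra.TensorProduct.lift (Algebra.ofId S R) (IsScalarTower.toAlgHom S₀ R₀ R)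
      (fun _ _ => Commute.all _ _)
  have hf : ∀ t, f t = Algebra.TensorProduct.productMap
      (IsScalarTower.toAlgHom S₀ S R) (IsScalarTower.toAlgHom S₀ R₀ R) t := by
    intro t
    induction t using TensorProduct.induction_on with
    | zero => rw [map_zero, map_zero]
    | tmul s b =>
      change Algebra.TensorProduct.lift (Algebra.ofId S R) (IsScalarTower.toAlgHom S₀ R₀ R)
        (fun _ _ => Commute.all _ _) (s ⊗ₜ[S₀] b) = _
      rw [Algebra.TensorProduct.lift_tmul, Algebra.TensorProduct.productMap_apply_tmul]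
      rfl
    | add x y hx hy => rw [map_add, map_add, hx, hy]
  have hbij : Function.Bijective f :=
    ⟨fun a b hab => hcart.1 (by rw [← hf, ← hf, hab]),
      fun y => (hcart.2 y).imp fun t ht => (hf t).trans ht⟩
  exact Algebra.Etale.of_equiv (AlgEquiv.ofBijective f hbij)

variable {k : Type*} [Field k] [Algebra k S₀] [Algebra k S] [Algebra k R₀] [Algebra k R]
  [IsScalarTower k S₀ S] [IsScalarTower k R₀ R] [IsScalarTower k S R]

/-- The fibres of `X → X//G` and `Y → Y//G` over corresponding rational points are isomorphic. -/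
theorem bijective_quotientMap_fibre
    (hcart : Function.Bijective (Algebra.TensorProduct.productMap
      (IsScalarTower.toAlgHom S₀ S R) (IsScalarTower.toAlgHom S₀ R₀ R)))
    (x : R →ₐ[k] k)
    (hII' : (RingHom.ker ((x.toRingHom.comp (algebraMap S R)).comp (algebraMap S₀ S))).map
        (algebraMap S₀ S) ≤
      ((RingHom.ker (x.toRingHom.comp (algebraMap R₀ R))).map (algebraMap R₀ R)).comap
        (algebraMap S R)) :
    Function.Bijective (Ideal.quotientMap
      ((RingHom.ker (x.toRingHom.comp (algebraMap R₀ R))).map (algebraMap R₀ R))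
      (algebraMap S R) hII') := by
  set n₀ := RingHom.ker ((x.toRingHom.comp (algebraMap S R)).comp (algebraMap S₀ S)) with hn₀
  set m₀ := RingHom.ker (x.toRingHom.comp (algebraMap R₀ R)) with hm₀
  set IY := n₀.map (algebraMap S₀ S) with hIY
  set IX := m₀.map (algebraMap R₀ R) with hIX
  have hxk : ∀ c : k, x (algebraMap k R c) = c := fun c => by
    rw [AlgHom.commutes]; rfl
  -- scalars
  have hR₀sc : ∀ b : R₀, b - algebraMap k R₀ (x (algebraMap R₀ R b)) ∈ m₀ := by
    intro b
    rw [hm₀, RingHom.mem_ker]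
    change x (algebraMap R₀ R (b - algebraMap k R₀ (x (algebraMap R₀ R b)))) = 0
    rw [map_sub, map_sub, ← IsScalarTower.algebraMap_apply k R₀ R, hxk, sub_self]
  have hS₀sc : ∀ c : S₀, c - algebraMap k S₀ (x (algebraMap S R (algebraMap S₀ S c))) ∈ n₀ := by
    intro c
    rw [hn₀, RingHom.mem_ker]
    change x (algebraMap S R (algebraMap S₀ S
      (c - algebraMap k S₀ (x (algebraMap S R (algebraMap S₀ S c)))))) = 0
    rw [map_sub, map_sub, map_sub, ← IsScalarTower.algebraMap_apply k S₀ S,
      ← IsScalarTower.algebraMap_apply k S R, hxk, sub_self]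
  have hPt : ∀ s b, Algebra.TensorProduct.productMap
      (IsScalarTower.toAlgHom S₀ S R) (IsScalarTower.toAlgHom S₀ R₀ R) (s ⊗ₜ[S₀] b) =
      algebraMap S R s * algebraMap R₀ R b := fun s b => by
    rw [Algebra.TensorProduct.productMap_apply_tmul]; rfl
  constructor
  · -- injectivity through a retraction
    let β : R₀ →ₐ[S₀] S ⧸ IY :=
      { (algebraMap k (S ⧸ IY)).comp (x.toRingHom.comp (algebraMap R₀ R)) with
        commutes' := fun c => by
          change algebraMap k (S ⧸ IY) (x (algebraMap R₀ R (algebraMap S₀ R₀ c))) =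
            algebraMap S₀ (S ⧸ IY) c
          rw [← IsScalarTower.algebraMap_apply S₀ R₀ R, IsScalarTower.algebraMap_apply S₀ S R,
            IsScalarTower.algebraMap_apply k S (S ⧸ IY),
            IsScalarTower.algebraMap_apply S₀ S (S ⧸ IY), IsScalarTower.algebraMap_apply k S₀ S]
          symm
          rw [Ideal.Quotient.algebraMap_eq, Ideal.Quotient.eq, ← map_sub]
          exact Ideal.mem_map_of_mem _ (hS₀sc c) }
    let ε' : S ⊗[S₀] R₀ →ₐ[S₀] S ⧸ IY :=
      Algebra.TensorProduct.productMap (IsScalarTower.toAlgHom S₀ S (S ⧸ IY)) β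
    let ε : R →ₐ[S₀] S ⧸ IY := ε'.comp (AlgEquiv.ofBijective _ hcart).symm.toAlgHom
    have hεP : ∀ t, ε (Algebra.TensorProduct.productMap
        (IsScalarTower.toAlgHom S₀ S R) (IsScalarTower.toAlgHom S₀ R₀ R) t) = ε' t := by
      intro t
      change ε' ((AlgEquiv.ofBijective _ hcart).symm ((AlgEquiv.ofBijective _ hcart) t)) = ε' t
      rw [AlgEquiv.symm_apply_apply]
    have hε1 : ∀ s : S, ε (algebraMap S R s) = Ideal.Quotient.mk IY s := by
      intro s
      have h1 := hεP (s ⊗ₜ[S₀] (1 : R₀))
      rw [hPt, map_one, mul_one] at h1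
      rw [h1]
      change Algebra.TensorProduct.productMap (IsScalarTower.toAlgHom S₀ S (S ⧸ IY)) β
        (s ⊗ₜ[S₀] (1 : R₀)) = _
      rw [Algebra.TensorProduct.productMap_apply_tmul, map_one, mul_one]
      rfl
    have hε2 : ∀ b : R₀, ε (algebraMap R₀ R b) = algebraMap k (S ⧸ IY) (x (algebraMap R₀ R b)) := by
      intro b
      have h1 := hεP ((1 : S) ⊗ₜ[S₀] b)
      rw [hPt, map_one, one_mul] at h1
      rw [h1]
      change Algebra.TensorProduct.productMap (IsScalarTower.toAlgHom S₀ S (S ⧸ IY)) β
        ((1 : S) ⊗ₜ[S₀] b) = _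
      rw [Algebra.TensorProduct.productMap_apply_tmul, map_one, one_mul]
      rfl
    have hεI : IX ≤ RingHom.ker ε.toRingHom := by
      rw [hIX, Ideal.map_le_iff_le_comap]
      intro b hb
      rw [Ideal.mem_comap, RingHom.mem_ker]
      change ε (algebraMap R₀ R b) = 0
      rw [hε2]
      have hb' : x (algebraMap R₀ R b) = 0 := hb
      rw [hb', map_zero]
    rw [injective_iff_map_eq_zero]
    intro z hz
    obtain ⟨s, rfl⟩ := Ideal.Quotient.mk_surjective z
    rw [Ideal.quotientMap_mk, Ideal.Quotient.eq_zero_iff_mem] at hz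
    have h1 : ε (algebraMap S R s) = 0 := hεI hz
    rw [hε1] at h1
    exact h1
  · intro y
    obtain ⟨r, rfl⟩ := Ideal.Quotient.mk_surjective y
    obtain ⟨t, rfl⟩ := hcart.2 r
    induction t using TensorProduct.induction_on with
    | zero => exact ⟨0, by rw [map_zero, map_zero, map_zero]⟩
    | tmul s b =>
      refine ⟨Ideal.Quotient.mk IY (s * algebraMap k S (x (algebraMap R₀ R b))), ?_⟩
      rw [Ideal.quotientMap_mk, hPt, Ideal.Quotient.eq, map_mul, ← mul_sub,
        ← IsScalarTower.algebraMap_apply k S R, IsScalarTower.algebraMap_apply k R₀ R, ← map_sub]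
      refine Ideal.mul_mem_left _ _ ?_
      have := Ideal.mem_map_of_mem (algebraMap R₀ R) (hR₀sc b)
      rw [← neg_sub, map_neg]
      exact Ideal.neg_mem_iff _ |>.mpr this
    | add a b ha hb =>
      obtain ⟨ya, hya⟩ := ha
      obtain ⟨yb, hyb⟩ := hb
      exact ⟨ya + yb, by rw [map_add, hya, hyb, map_add, map_add]⟩

end Cart

theorem main (k : Type u) [Field k] [IsAlgClosed k] [CharZero k]
    (A : Type u) [CommRing A] [HopfAlgebra k A] [Algebra.FiniteType k A]
    (S : Type u) [CommRing S] [Algebra k S] [Algebra.FiniteType k S] [HopfRep.Comod k A S] [GLin.IsCoactAlg k A S]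
    (R : Type u) [CommRing R] [Algebra k R] [Algebra.FiniteType k R] [HopfRep.Comod k A R] [GLin.IsCoactAlg k A R]
    [Algebra S R] [IsScalarTower k S R]
    (hequiv : (∀ s : S, HopfRep.Comod.coact (k := k) (A := A) (algebraMap S R s) =
      Algebra.TensorProduct.map (IsScalarTower.toAlgHom k S R) (AlgHom.id k A) (HopfRep.Comod.coact (k := k) (A := A) s)))
    (S₀ : Type u) [CommRing S₀] [Algebra k S₀] [Algebra S₀ S] [IsScalarTower k S₀ S]
    (hS₀i : Function.Injective (algebraMap S₀ S)) (hS₀ : (IsScalarTower.toAlgHom k S₀ S).range = GLin.invariants k A S)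
    (R₀ : Type u) [CommRing R₀] [Algebra k R₀] [Algebra R₀ R] [IsScalarTower k R₀ R]
    (hR₀i : Function.Injective (algebraMap R₀ R)) (hR₀ : (IsScalarTower.toAlgHom k R₀ R).range = GLin.invariants k A R)
    [Algebra S₀ R₀] [Algebra S₀ R] [IsScalarTower S₀ S R] [IsScalarTower S₀ R₀ R]
    (het₀ : Algebra.Etale S₀ R₀)
    (hcart : Function.Bijective (Algebra.TensorProduct.productMap (IsScalarTower.toAlgHom S₀ S R) (IsScalarTower.toAlgHom S₀ R₀ R))) :
    Algebra.Etale S R ∧
      ∀ x : R →ₐ[k] k,
        (∀ g : A →ₐ[k] k, GLin.actPt k g (x.comp (IsScalarTower.toAlgHom k S R)) = x.comp (IsScalarTower.toAlgHom k S R) →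
          GLin.actPt k g x = x) ∧
        (GLin.IsClosedOrbit k A x ↔ GLin.IsClosedOrbit k A (x.comp (IsScalarTower.toAlgHom k S R))) := by
  haveI := het₀
  have hR₀mem : ∀ c : R₀, algebraMap R₀ R c ∈ GLin.invariants k A R := fun c => by
    rw [← hR₀]; exact ⟨c, rfl⟩
  have hPt : ∀ s b, Algebra.TensorProduct.productMap
      (IsScalarTower.toAlgHom S₀ S R) (IsScalarTower.toAlgHom S₀ R₀ R) (s ⊗ₜ[S₀] b) =
      algebraMap S R s * algebraMap R₀ R b := fun s b => by
    rw [Algebra.TensorProduct.productMap_apply_tmul]; rfl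
  refine ⟨etale_of_cart hcart, fun x => ⟨?_, ?_⟩⟩
  · intro g hg
    apply AlgHom.ext
    intro r
    obtain ⟨t, rfl⟩ := hcart.2 r
    induction t using TensorProduct.induction_on with
    | zero => rw [map_zero, map_zero, map_zero]
    | tmul s b =>
      rw [hPt, map_mul, map_mul]
      have h1 : GLin.actPt k g x (algebraMap S R s) = x (algebraMap S R s) := by
        have h2 := AlgHom.congr_fun hg s
        change g (GLin.orbitHom k A (x.comp (IsScalarTower.toAlgHom k S R)) s) = _ at h2
        rw [OrbitFin.orbitHom_comp_toAlgHom hequiv x s] at h2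
        exact h2
      have h3 : GLin.actPt k g x (algebraMap R₀ R b) = x (algebraMap R₀ R b) := by
        change g (GLin.orbitHom k A x (algebraMap R₀ R b)) = _
        rw [OrbitSep.orbitHom_of_mem_invariants x (hR₀mem b), AlgHom.commutes]
        rfl
      rw [h1, h3]
    | add a b ha hb => rw [map_add, map_add, map_add, ha, hb]
  · have ho : (GLin.orbitHom k A (x.comp (IsScalarTower.toAlgHom k S R))).toRingHom =
        (GLin.orbitHom k A x).toRingHom.comp (algebraMap S R) :=
      RingHom.ext fun s => OrbitFin.orbitHom_comp_toAlgHom hequiv x s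
    unfold GLin.IsClosedOrbit
    rw [ho, PrimeSpectrum.comap_comp, Set.range_comp]
    have hII' : (RingHom.ker ((x.toRingHom.comp (algebraMap S R)).comp (algebraMap S₀ S))).map
          (algebraMap S₀ S) ≤
        ((RingHom.ker (x.toRingHom.comp (algebraMap R₀ R))).map (algebraMap R₀ R)).comap
          (algebraMap S R) := by
      rw [Ideal.map_le_iff_le_comap]
      intro c hc
      rw [Ideal.mem_comap, Ideal.mem_comap, ← IsScalarTower.algebraMap_apply S₀ S R,
        IsScalarTower.algebraMap_apply S₀ R₀ R]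
      apply Ideal.mem_map_of_mem
      rw [RingHom.mem_ker]
      change x (algebraMap R₀ R (algebraMap S₀ R₀ c)) = 0
      rw [← IsScalarTower.algebraMap_apply S₀ R₀ R, IsScalarTower.algebraMap_apply S₀ S R]
      exact hc
    apply isClosed_image_comap_iff (algebraMap S R) _ _ hII'
      (bijective_quotientMap_fibre hcart x hII')
    rintro _ ⟨p, rfl⟩
    rw [PrimeSpectrum.mem_zeroLocus]
    have hle : (RingHom.ker (x.toRingHom.comp (algebraMap R₀ R))).map (algebraMap R₀ R) ≤
        RingHom.ker (GLin.orbitHom k A x).toRingHom := by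
      rw [Ideal.map_le_iff_le_comap]
      intro b hb
      rw [Ideal.mem_comap, RingHom.mem_ker]
      change GLin.orbitHom k A x (algebraMap R₀ R b) = 0
      have hb' : x (algebraMap R₀ R b) = 0 := hb
      rw [OrbitSep.orbitHom_of_mem_invariants x (hR₀mem b), hb', map_zero]
    intro r hr
    exact Ideal.ker_le_comap _ (hle hr)


end Groth.Agent.H62.StrEtaleOrbit
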