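import Mathlib.RingTheory.Etale.Basic
import Mathlib.RingTheory.TensorProduct.Quotient
import Mathlib.RingTheory.TensorProduct.Maps

/-!
# helper62: base change of a cartesian étale square along compatible quotients (pure algebra)
-/

set_option autoImplicit false
set_option linter.unusedSectionVars false
set_option linter.style.haveILetI false
open TensorProduct

namespace Groth.Agent.H62.StrEtaleQuot

section Lift

variable {X Y Z : Type*} [CommRing X] [CommRing Y] [CommRing Z]

/-- Lifting a ring hom through an injective ring hom whose range contains its image. -/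
noncomputable def liftInj (j : Y →+* Z) (hj : Function.Injective j) (f : X →+* Z)
    (hf : ∀ x, f x ∈ j.range) : X →+* Y :=
  ((RingEquiv.ofBijective j.rangeRestrict
    ⟨fun a b hab => hj (congrArg Subtype.val hab), j.rangeRestrict_surjective⟩).symm :
      j.range →+* Y).comp (f.codRestrict j.range hf)

theorem liftInj_spec (j : Y →+* Z) (hj : Function.Injective j) (f : X →+* Z)
    (hf : ∀ x, f x ∈ j.range) (x : X) : j (liftInj j hj f hf x) = f x := by
  have h := (RingEquiv.ofBijective j.rangeRestrict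
    ⟨fun a b hab => hj (congrArg Subtype.val hab), j.rangeRestrict_surjective⟩).apply_symm_apply
      (f.codRestrict j.range hf x)
  exact congrArg Subtype.val h

end Lift

section Etale

variable {S₀ R₀ S₁ R₁ : Type*} [CommRing S₀] [CommRing R₀] [CommRing S₁] [CommRing R₁]
  [Algebra S₀ R₀] [Algebra S₁ R₁]

/-- If `S₀ → S₁`, `R₀ → R₁` are compatible surjections, the kernel of the second being generated by
the kernel of the first, then `R₁ = S₁ ⊗_{S₀} R₀`; in particular étaleness descends. -/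
theorem etale_quot (σS : S₀ →+* S₁) (σR : R₀ →+* R₁) (hσS : Function.Surjective σS)
    (hσR : Function.Surjective σR)
    (h4 : ∀ c, σR (algebraMap S₀ R₀ c) = algebraMap S₁ R₁ (σS c))
    (hker : RingHom.ker σR ≤ (RingHom.ker σS).map (algebraMap S₀ R₀)) [Algebra.Etale S₀ R₀] :
    Algebra.Etale S₁ R₁ := by
  letI : Algebra S₀ S₁ := σS.toAlgebra
  letI : Algebra R₀ R₁ := σR.toAlgebra
  letI : Algebra S₀ R₁ := ((algebraMap S₁ R₁).comp σS).toAlgebra
  haveI : IsScalarTower S₀ S₁ R₁ := IsScalarTower.of_algebraMap_eq' rfl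
  haveI : IsScalarTower S₀ R₀ R₁ := IsScalarTower.of_algebraMap_eq' (by
    ext c
    exact (h4 c).symm)
  let f : S₁ ⊗[S₀] R₀ →ₐ[S₁] R₁ :=
    Algebra.TensorProduct.lift (Algebra.ofId S₁ R₁) (IsScalarTower.toAlgHom S₀ R₀ R₁)
      (fun _ _ => Commute.all _ _)
  have hf1 : ∀ b : R₀, f ((1 : S₁) ⊗ₜ[S₀] b) = σR b := by
    intro b
    change Algebra.TensorProduct.lift (Algebra.ofId S₁ R₁) (IsScalarTower.toAlgHom S₀ R₀ R₁)
      (fun _ _ => Commute.all _ _) ((1 : S₁) ⊗ₜ[S₀] b) = σR b
    rw [Algebra.TensorProduct.lift_tmul, map_one, one_mul]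
    rfl
  have hform : ∀ z : S₁ ⊗[S₀] R₀, ∃ b : R₀, z = (1 : S₁) ⊗ₜ[S₀] b := by
    intro z
    induction z using TensorProduct.induction_on with
    | zero => exact ⟨0, (TensorProduct.tmul_zero _ _).symm⟩
    | tmul s b =>
      obtain ⟨c, rfl⟩ := hσS s
      refine ⟨algebraMap S₀ R₀ c * b, ?_⟩
      have h1 : σS c = c • (1 : S₁) := by
        rw [Algebra.smul_def, mul_one]; rfl
      rw [h1, TensorProduct.smul_tmul, Algebra.smul_def]
    | add x y hx hy =>
      obtain ⟨a, rfl⟩ := hx
      obtain ⟨b, rfl⟩ := hy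
      exact ⟨a + b, (TensorProduct.tmul_add _ _ _).symm⟩
  have hbij : Function.Bijective f := by
    constructor
    · rw [injective_iff_map_eq_zero]
      intro z hz
      obtain ⟨b, rfl⟩ := hform z
      rw [hf1] at hz
      have hb : b ∈ (RingHom.ker σS).map (algebraMap S₀ R₀) := hker hz
      refine Submodule.span_induction (p := fun b _ => (1 : S₁) ⊗ₜ[S₀] b = 0) ?_ ?_ ?_ ?_ hb
      · rintro _ ⟨c, hc, rfl⟩
        have h1 : (1 : S₁) ⊗ₜ[S₀] (algebraMap S₀ R₀ c) = (c • (1 : S₁)) ⊗ₜ[S₀] (1 : R₀) := by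
          rw [TensorProduct.smul_tmul, Algebra.smul_def, mul_one]
        rw [h1, Algebra.smul_def, mul_one]
        have h2 : algebraMap S₀ S₁ c = 0 := hc
        rw [h2, TensorProduct.zero_tmul]
      · exact TensorProduct.tmul_zero _ _
      · intro x y _ _ hx hy
        rw [TensorProduct.tmul_add, hx, hy, add_zero]
      · intro r x _ hx
        have h1 : (1 : S₁) ⊗ₜ[S₀] (r • x) = ((1 : S₁) ⊗ₜ[S₀] r) * ((1 : S₁) ⊗ₜ[S₀] x) := by
          rw [Algebra.TensorProduct.tmul_mul_tmul, one_mul, smul_eq_mul]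
        rw [h1, hx, mul_zero]
    · intro y
      obtain ⟨b, rfl⟩ := hσR y
      exact ⟨(1 : S₁) ⊗ₜ[S₀] b, hf1 b⟩
  exact Algebra.Etale.of_equiv (AlgEquiv.ofBijective f hbij)

end Etale

section Cart

variable {S₀ S R₀ R S₁ Sb R₁ Rb : Type*} [CommRing S₀] [CommRing S] [CommRing R₀] [CommRing R]
  [CommRing S₁] [CommRing Sb] [CommRing R₁] [CommRing Rb]
  [Algebra S₀ S] [Algebra S₀ R₀] [Algebra S R] [Algebra R₀ R] [Algebra S₀ R]
  [IsScalarTower S₀ S R] [IsScalarTower S₀ R₀ R]
  [Algebra S₁ Sb] [Algebra S₁ R₁] [Algebra Sb Rb] [Algebra R₁ Rb] [Algebra S₁ Rb]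
  [IsScalarTower S₁ Sb Rb] [IsScalarTower S₁ R₁ Rb]

/-- The quotient of a cartesian square of rings by compatible surjections is cartesian. -/
theorem bijective_productMap_quot
    (qS : S →+* Sb) (qR : R →+* Rb) (σS : S₀ →+* S₁) (σR : R₀ →+* R₁)
    (hqS : Function.Surjective qS) (hqR : Function.Surjective qR) (hσR : Function.Surjective σR)
    (h1 : ∀ s, qR (algebraMap S R s) = algebraMap Sb Rb (qS s))
    (h2 : ∀ b, qR (algebraMap R₀ R b) = algebraMap R₁ Rb (σR b))
    (h3 : ∀ c, qS (algebraMap S₀ S c) = algebraMap S₁ Sb (σS c))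
    (h4 : ∀ c, σR (algebraMap S₀ R₀ c) = algebraMap S₁ R₁ (σS c))
    (hker : RingHom.ker qR ≤ (RingHom.ker qS).map (algebraMap S R))
    (hcart : Function.Bijective (Algebra.TensorProduct.productMap
      (IsScalarTower.toAlgHom S₀ S R) (IsScalarTower.toAlgHom S₀ R₀ R))) :
    Function.Bijective (Algebra.TensorProduct.productMap
      (IsScalarTower.toAlgHom S₁ Sb Rb) (IsScalarTower.toAlgHom S₁ R₁ Rb)) := by
  -- the comparison map `Θ : S ⊗[S₀] R₀ → Sb ⊗[S₁] R₁`
  let Θ : S ⊗[S₀] R₀ →+ Sb ⊗[S₁] R₁ :=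
    TensorProduct.liftAddHom
      { toFun := fun s =>
          { toFun := fun b => qS s ⊗ₜ[S₁] σR b
            map_zero' := by rw [map_zero, TensorProduct.tmul_zero]
            map_add' := fun b b' => by rw [map_add, TensorProduct.tmul_add] }
        map_zero' := by
          ext b
          change qS 0 ⊗ₜ[S₁] σR b = 0
          rw [map_zero, TensorProduct.zero_tmul]
        map_add' := fun s s' => by
          ext b
          change qS (s + s') ⊗ₜ[S₁] σR b = qS s ⊗ₜ[S₁] σR b + qS s' ⊗ₜ[S₁] σR b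
          rw [map_add, TensorProduct.add_tmul] }
      (fun c s b => by
        change qS (c • s) ⊗ₜ[S₁] σR b = qS s ⊗ₜ[S₁] σR (c • b)
        rw [Algebra.smul_def, Algebra.smul_def, map_mul, map_mul, h3, h4, ← Algebra.smul_def,
          ← Algebra.smul_def, TensorProduct.smul_tmul])
  have hΘ : ∀ s b, Θ (s ⊗ₜ[S₀] b) = qS s ⊗ₜ[S₁] σR b := fun s b => rfl
  set P := Algebra.TensorProduct.productMap
    (IsScalarTower.toAlgHom S₀ S R) (IsScalarTower.toAlgHom S₀ R₀ R) with hP
  set P' := Algebra.TensorProduct.productMap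
    (IsScalarTower.toAlgHom S₁ Sb Rb) (IsScalarTower.toAlgHom S₁ R₁ Rb) with hP'
  have hPt : ∀ s b, P (s ⊗ₜ[S₀] b) = algebraMap S R s * algebraMap R₀ R b := fun s b => by
    rw [hP, Algebra.TensorProduct.productMap_apply_tmul]; rfl
  have hP't : ∀ s b, P' (s ⊗ₜ[S₁] b) = algebraMap Sb Rb s * algebraMap R₁ Rb b := fun s b => by
    rw [hP', Algebra.TensorProduct.productMap_apply_tmul]; rfl
  -- the square commutes
  have hsq : ∀ t : S ⊗[S₀] R₀, P' (Θ t) = qR (P t) := by
    intro t
    induction t using TensorProduct.induction_on with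
    | zero => simp
    | tmul s b => rw [hΘ, hP't, hPt, map_mul, h1, h2]
    | add x y hx hy => rw [map_add, map_add, map_add, map_add, hx, hy]
  -- `Θ` is surjective
  have hΘsurj : Function.Surjective Θ := by
    intro z
    induction z using TensorProduct.induction_on with
    | zero => exact ⟨0, map_zero _⟩
    | tmul s b =>
      obtain ⟨s, rfl⟩ := hqS s
      obtain ⟨b, rfl⟩ := hσR b
      exact ⟨s ⊗ₜ[S₀] b, hΘ s b⟩
    | add x y hx hy =>
      obtain ⟨a, rfl⟩ := hx
      obtain ⟨b, rfl⟩ := hy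
      exact ⟨a + b, map_add _ _ _⟩
  -- `Θ` kills `P ⁻¹ (J R)`
  have hΘker : ∀ t : S ⊗[S₀] R₀, P t ∈ (RingHom.ker qS).map (algebraMap S R) → Θ t = 0 := by
    have key : ∀ r ∈ (RingHom.ker qS).map (algebraMap S R), ∀ t, P t = r → Θ t = 0 := by
      intro r hr
      refine Submodule.span_induction
        (p := fun r _ => ∀ t, P t = r → Θ t = 0) ?_ ?_ ?_ ?_ hr
      · rintro _ ⟨a, ha, rfl⟩ t ht
        have e : t = a ⊗ₜ[S₀] (1 : R₀) := hcart.1 (by rw [ht, hPt, map_one, mul_one])
        rw [e, hΘ]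
        have ha' : qS a = 0 := ha
        rw [ha', TensorProduct.zero_tmul]
      · intro t ht
        have e : t = 0 := hcart.1 (by rw [ht, map_zero])
        rw [e, map_zero]
      · intro x y _ _ hx hy t ht
        obtain ⟨tx, rfl⟩ := hcart.2 x
        obtain ⟨ty, rfl⟩ := hcart.2 y
        have e : t = tx + ty := hcart.1 (by rw [ht, map_add])
        rw [e, map_add, hx tx rfl, hy ty rfl, add_zero]
      · intro r' x _ hx t ht
        obtain ⟨tx, rfl⟩ := hcart.2 x
        obtain ⟨tr, rfl⟩ := hcart.2 r'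
        have e : t = tr * tx := hcart.1 (by rw [ht, map_mul, smul_eq_mul])
        have hx0 := hx tx rfl
        -- `Θ (tr * tx) = 0` by induction on `tr` and `tx`
        have hmul : ∀ u v : S ⊗[S₀] R₀, Θ (u * v) = Θ u * Θ v := by
          intro u v
          induction u using TensorProduct.induction_on with
          | zero => simp
          | tmul s b =>
            induction v using TensorProduct.induction_on with
            | zero => simp
            | tmul s' b' =>
              rw [Algebra.TensorProduct.tmul_mul_tmul, hΘ, hΘ, hΘ, map_mul, map_mul,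
                Algebra.TensorProduct.tmul_mul_tmul]
            | add x y hx hy => rw [mul_add, map_add, map_add, mul_add, hx, hy]
          | add x y hx hy => rw [add_mul, map_add, map_add, add_mul, hx, hy]
        rw [e, hmul, hx0, mul_zero]
    intro t ht
    exact key _ ht t rfl
  constructor
  · rw [injective_iff_map_eq_zero]
    intro z hz
    obtain ⟨t, rfl⟩ := hΘsurj z
    rw [hsq] at hz
    exact hΘker t (hker hz)
  · intro y
    obtain ⟨r, rfl⟩ := hqR y
    obtain ⟨t, rfl⟩ := hcart.2 r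
    exact ⟨Θ t, hsq t⟩

end Cart

end Groth.Agent.H62.StrEtaleQuot
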