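import Groth.Agent.H62.StrEtaleQuotA
import Groth.Agent.H62.Reynolds2U

/-!
# helper62: a strongly étale morphism restricts to a strongly étale morphism over a closed invariant
subscheme (Reynolds operator part and assembly)
-/

set_option autoImplicit false
set_option linter.unusedSectionVars false
set_option linter.unusedVariables false
set_option linter.style.haveILetI false
universe u v w w'
open TensorProduct

namespace Groth.Agent.H62.StrEtaleQuot

section Rey

variable {k : Type u} [Field k] {A : Type v} [CommRing A] [Bialgebra k A]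

/-- Invariants lift along surjective comodule maps. -/
theorem exists_fixed_preimage (hG : HopfRep.IsLinearlyReductive k A)
    {V : Type w} [AddCommGroup V] [Module k V] [HopfRep.Comod k A V]
    {W : Type w'} [AddCommGroup W] [Module k W] [HopfRep.Comod k A W]
    {f : V →ₗ[k] W} (hf : Hoch.IsComodHom A f) (hsurj : Function.Surjective f) {y : W}
    (hy : y ∈ HopfRep.fixedPts k A W) : ∃ x ∈ HopfRep.fixedPts k A V, f x = y := by
  obtain ⟨x₀, rfl⟩ := hsurj y
  refine ⟨U.reynolds V hG x₀, U.reynolds_mem hG x₀, ?_⟩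
  rw [← U.reynolds_natural hG hf x₀, U.reynolds_of_mem_fixedPts hG hy]

variable {S : Type w} [CommRing S] [Algebra k S] [HopfRep.Comod k A S] [GLin.IsCoactAlg k A S]
  {R : Type w'} [CommRing R] [Algebra k R] [HopfRep.Comod k A R] [GLin.IsCoactAlg k A R]
  [Algebra S R] [IsScalarTower k S R]
  {S₀ R₀ : Type*} [CommRing S₀] [CommRing R₀] [Algebra S₀ S] [Algebra R₀ R] [Algebra S₀ R₀]
  [Algebra S₀ R] [IsScalarTower S₀ S R] [IsScalarTower S₀ R₀ R]

/-- `J R ∩ R₀ = (J ∩ S₀) R₀` when `R` is generated by `S` and `R₀ = R^G`. -/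
theorem mem_map_of_algebraMap_mem (hG : HopfRep.IsLinearlyReductive k A)
    (hφ : Hoch.IsComodHom A (IsScalarTower.toAlgHom k S R).toLinearMap)
    (hS₀ : ∀ s ∈ GLin.invariants k A S, ∃ c : S₀, algebraMap S₀ S c = s)
    (hR₀ : ∀ b : R₀, algebraMap R₀ R b ∈ GLin.invariants k A R)
    (hR₀i : Function.Injective (algebraMap R₀ R))
    (hsurj : Function.Surjective (Algebra.TensorProduct.productMap
      (IsScalarTower.toAlgHom S₀ S R) (IsScalarTower.toAlgHom S₀ R₀ R)))
    (J : Ideal S) (hJ : HopfRep.IsSubcomod (k := k) (A := A) (J.restrictScalars k))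
    {b : R₀} (hb : algebraMap R₀ R b ∈ J.map (algebraMap S R)) :
    b ∈ (J.comap (algebraMap S₀ S)).map (algebraMap S₀ R₀) := by
  set K : Ideal R₀ := (J.comap (algebraMap S₀ S)).map (algebraMap S₀ R₀) with hK
  have hPt : ∀ s b, Algebra.TensorProduct.productMap
      (IsScalarTower.toAlgHom S₀ S R) (IsScalarTower.toAlgHom S₀ R₀ R) (s ⊗ₜ[S₀] b) =
      algebraMap S R s * algebraMap R₀ R b := fun s b => by
    rw [Algebra.TensorProduct.productMap_apply_tmul]; rfl
  have Q : ∀ t : S ⊗[S₀] R₀, ∀ a ∈ J, ∃ c ∈ K,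
      U.reynolds R hG (Algebra.TensorProduct.productMap
        (IsScalarTower.toAlgHom S₀ S R) (IsScalarTower.toAlgHom S₀ R₀ R) t * algebraMap S R a) =
        algebraMap R₀ R c := by
    intro t a ha
    induction t using TensorProduct.induction_on with
    | zero => exact ⟨0, K.zero_mem, by rw [map_zero, zero_mul, map_zero, map_zero]⟩
    | tmul s b' =>
      have hsa : s * a ∈ J := J.mul_mem_left s ha
      have hE1 : U.reynolds S hG (s * a) ∈ J :=
        U.reynolds_mem_of_isSubcomod hG hJ (w := s * a) hsa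
      have hE2 : U.reynolds S hG (s * a) ∈ GLin.invariants k A S :=
        U.reynolds_mem_invariants hG _
      obtain ⟨c₀, hc₀⟩ := hS₀ _ hE2
      have hc₀J : c₀ ∈ J.comap (algebraMap S₀ S) := by
        rw [Ideal.mem_comap, hc₀]; exact hE1
      refine ⟨algebraMap S₀ R₀ c₀ * b', K.mul_mem_right _ (Ideal.mem_map_of_mem _ hc₀J), ?_⟩
      have e1 : algebraMap S R s * algebraMap R₀ R b' * algebraMap S R a =
          algebraMap S R (s * a) * algebraMap R₀ R b' := by
        rw [map_mul]; ring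
      rw [hPt, e1, U.reynolds_mul hG _ (hR₀ b')]
      have e2 : U.reynolds R hG (algebraMap S R (s * a)) =
          algebraMap S R (U.reynolds S hG (s * a)) :=
        U.reynolds_natural hG hφ (s * a)
      rw [e2, ← hc₀, map_mul, ← IsScalarTower.algebraMap_apply S₀ R₀ R,
        ← IsScalarTower.algebraMap_apply S₀ S R]
    | add x y hx hy =>
      obtain ⟨c1, hc1, e1⟩ := hx
      obtain ⟨c2, hc2, e2⟩ := hy
      exact ⟨c1 + c2, K.add_mem hc1 hc2, by rw [map_add, add_mul, map_add, e1, e2, map_add]⟩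
  have P : ∀ z ∈ J.map (algebraMap S R), ∀ r : R, ∃ c ∈ K,
      U.reynolds R hG (r * z) = algebraMap R₀ R c := by
    intro z hz
    refine Submodule.span_induction
      (p := fun z _ => ∀ r : R, ∃ c ∈ K, U.reynolds R hG (r * z) = algebraMap R₀ R c)
      ?_ ?_ ?_ ?_ hz
    · rintro _ ⟨a, ha, rfl⟩ r
      obtain ⟨t, rfl⟩ := hsurj r
      exact Q t a ha
    · intro r
      exact ⟨0, K.zero_mem, by rw [mul_zero, map_zero, map_zero]⟩
    · intro x y _ _ hx hy r
      obtain ⟨c1, hc1, e1⟩ := hx r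
      obtain ⟨c2, hc2, e2⟩ := hy r
      exact ⟨c1 + c2, K.add_mem hc1 hc2, by rw [mul_add, map_add, e1, e2, map_add]⟩
    · intro r' x _ hx r
      obtain ⟨c, hc, e⟩ := hx (r * r')
      exact ⟨c, hc, by rw [smul_eq_mul, ← mul_assoc, e]⟩
  obtain ⟨c, hc, e⟩ := P _ hb 1
  rw [one_mul, U.reynolds_of_mem_invariants hG (hR₀ b)] at e
  rw [hR₀i e]
  exact hc

end Rey

end Groth.Agent.H62.StrEtaleQuot
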