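import Groth.Agent.H62.StrEtaleQuotB
import Groth.Prelude.Def_GLin
import Mathlib.FieldTheory.IsAlgClosed.Basic
import Mathlib.RingTheory.FiniteType

/-!
# helper62: strongly étale restricts to closed invariant subschemes — assembly
-/

set_option autoImplicit false
set_option linter.unusedSectionVars false
set_option linter.unusedVariables false
set_option linter.style.haveILetI false
universe u
open TensorProduct
open GLin

namespace Groth.Agent.H62.StrEtaleQuot

theorem main (k : Type u) [Field k] [IsAlgClosed k] [CharZero k]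
    (A : Type u) [CommRing A] [HopfAlgebra k A] [Algebra.FiniteType k A] (hG : HopfRep.IsLinearlyReductive k A)
    (S : Type u) [CommRing S] [Algebra k S] [Algebra.FiniteType k S] [HopfRep.Comod k A S] [GLin.IsCoactAlg k A S]
    (R : Type u) [CommRing R] [Algebra k R] [Algebra.FiniteType k R] [HopfRep.Comod k A R] [GLin.IsCoactAlg k A R]
    [Algebra S R] [IsScalarTower k S R]
    (hequiv : (∀ s : S, HopfRep.Comod.coact (k := k) (A := A) (algebraMap S R s) =
      Algebra.TensorProduct.map (IsScalarTower.toAlgHom k S R) (AlgHom.id k A) (HopfRep.Comod.coact (k := k) (A := A) s)))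
    (S₀ : Type u) [CommRing S₀] [Algebra k S₀] [Algebra S₀ S] [IsScalarTower k S₀ S]
    (hS₀i : Function.Injective (algebraMap S₀ S)) (hS₀ : (IsScalarTower.toAlgHom k S₀ S).range = GLin.invariants k A S)
    (R₀ : Type u) [CommRing R₀] [Algebra k R₀] [Algebra R₀ R] [IsScalarTower k R₀ R]
    (hR₀i : Function.Injective (algebraMap R₀ R)) (hR₀ : (IsScalarTower.toAlgHom k R₀ R).range = GLin.invariants k A R)
    [Algebra S₀ R₀] [Algebra S₀ R] [IsScalarTower S₀ S R] [IsScalarTower S₀ R₀ R]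
    (het : Algebra.Etale S R) (het₀ : Algebra.Etale S₀ R₀)
    (hcart : Function.Bijective (Algebra.TensorProduct.productMap (IsScalarTower.toAlgHom S₀ S R) (IsScalarTower.toAlgHom S₀ R₀ R)))
    (J : Ideal S) (hJ : HopfRep.IsSubcomod (k := k) (A := A) (J.restrictScalars k))
    [HopfRep.Comod k A (S ⧸ J)] [GLin.IsCoactAlg k A (S ⧸ J)]
    (hqS : (∀ s : S, HopfRep.Comod.coact (k := k) (A := A) ((Ideal.Quotient.mkₐ k J) s) =
        Algebra.TensorProduct.map (Ideal.Quotient.mkₐ k J) (AlgHom.id k A) (HopfRep.Comod.coact (k := k) (A := A) s)))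
    [HopfRep.Comod k A (R ⧸ J.map (algebraMap S R))] [GLin.IsCoactAlg k A (R ⧸ J.map (algebraMap S R))]
    (hqR : (∀ s : R, HopfRep.Comod.coact (k := k) (A := A) ((Ideal.Quotient.mkₐ k (J.map (algebraMap S R))) s) =
        Algebra.TensorProduct.map (Ideal.Quotient.mkₐ k (J.map (algebraMap S R))) (AlgHom.id k A) (HopfRep.Comod.coact (k := k) (A := A) s)))
    (S₁ : Type u) [CommRing S₁] [Algebra k S₁] [Algebra S₁ (S ⧸ J)] [IsScalarTower k S₁ (S ⧸ J)]
    (hS₁i : Function.Injective (algebraMap S₁ (S ⧸ J)))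
    (hS₁ : (IsScalarTower.toAlgHom k S₁ (S ⧸ J)).range = GLin.invariants k A (S ⧸ J))
    (R₁ : Type u) [CommRing R₁] [Algebra k R₁] [Algebra R₁ (R ⧸ J.map (algebraMap S R))] [IsScalarTower k R₁ (R ⧸ J.map (algebraMap S R))]
    (hR₁i : Function.Injective (algebraMap R₁ (R ⧸ J.map (algebraMap S R))))
    (hR₁ : (IsScalarTower.toAlgHom k R₁ (R ⧸ J.map (algebraMap S R))).range = GLin.invariants k A (R ⧸ J.map (algebraMap S R)))
    [Algebra S₁ R₁] [Algebra S₁ (R ⧸ J.map (algebraMap S R))]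
    [IsScalarTower S₁ (S ⧸ J) (R ⧸ J.map (algebraMap S R))] [IsScalarTower S₁ R₁ (R ⧸ J.map (algebraMap S R))] :
    Algebra.Etale (S ⧸ J) (R ⧸ J.map (algebraMap S R)) ∧ Algebra.Etale S₁ R₁ ∧
      Function.Bijective (Algebra.TensorProduct.productMap
        (IsScalarTower.toAlgHom S₁ (S ⧸ J) (R ⧸ J.map (algebraMap S R)))
        (IsScalarTower.toAlgHom S₁ R₁ (R ⧸ J.map (algebraMap S R)))) := by
  haveI := het
  haveI := het₀
  have hφ : Hoch.IsComodHom A (IsScalarTower.toAlgHom k S R).toLinearMap :=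
    LinearMap.ext fun s => (hequiv s).trans (RelPoly.map_id_eq_rTensor _ _)
  have hqS' : Hoch.IsComodHom A (Ideal.Quotient.mkₐ k J).toLinearMap :=
    LinearMap.ext fun s => (hqS s).trans (RelPoly.map_id_eq_rTensor _ _)
  have hqR' : Hoch.IsComodHom A (Ideal.Quotient.mkₐ k (J.map (algebraMap S R))).toLinearMap :=
    LinearMap.ext fun s => (hqR s).trans (RelPoly.map_id_eq_rTensor _ _)
  -- invariants
  have hS₀mem : ∀ c : S₀, algebraMap S₀ S c ∈ GLin.invariants k A S := fun c => by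
    rw [← hS₀]; exact ⟨c, rfl⟩
  have hS₀ex : ∀ s ∈ GLin.invariants k A S, ∃ c : S₀, algebraMap S₀ S c = s := fun s hs => by
    rw [← hS₀] at hs; exact hs
  have hR₀mem : ∀ c : R₀, algebraMap R₀ R c ∈ GLin.invariants k A R := fun c => by
    rw [← hR₀]; exact ⟨c, rfl⟩
  have hR₀ex : ∀ s ∈ GLin.invariants k A R, ∃ c : R₀, algebraMap R₀ R c = s := fun s hs => by
    rw [← hR₀] at hs; exact hs
  have hS₁mem : ∀ c : S₁, algebraMap S₁ (S ⧸ J) c ∈ GLin.invariants k A (S ⧸ J) := fun c => by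
    rw [← hS₁]; exact ⟨c, rfl⟩
  have hS₁ex : ∀ s ∈ GLin.invariants k A (S ⧸ J), ∃ c : S₁, algebraMap S₁ (S ⧸ J) c = s :=
    fun s hs => by rw [← hS₁] at hs; exact hs
  have hR₁mem : ∀ c : R₁, algebraMap R₁ (R ⧸ J.map (algebraMap S R)) c ∈
      GLin.invariants k A (R ⧸ J.map (algebraMap S R)) := fun c => by
    rw [← hR₁]; exact ⟨c, rfl⟩
  have hR₁ex : ∀ s ∈ GLin.invariants k A (R ⧸ J.map (algebraMap S R)),
      ∃ c : R₁, algebraMap R₁ (R ⧸ J.map (algebraMap S R)) c = s :=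
    fun s hs => by rw [← hR₁] at hs; exact hs
  -- the induced maps on invariants
  let σS : S₀ →+* S₁ := liftInj (algebraMap S₁ (S ⧸ J)) hS₁i
    ((Ideal.Quotient.mk J).comp (algebraMap S₀ S)) (fun c => by
      have h1 : (Ideal.Quotient.mkₐ k J).toLinearMap (algebraMap S₀ S c) ∈
          HopfRep.fixedPts k A (S ⧸ J) := H62.map_mem_fixedPts hqS' (hS₀mem c)
      obtain ⟨s₁, hs₁⟩ := hS₁ex _ h1
      exact ⟨s₁, hs₁⟩)
  have hσS : ∀ c, algebraMap S₁ (S ⧸ J) (σS c) = Ideal.Quotient.mk J (algebraMap S₀ S c) :=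
    fun c => liftInj_spec _ _ _ _ c
  let σR : R₀ →+* R₁ := liftInj (algebraMap R₁ (R ⧸ J.map (algebraMap S R))) hR₁i
    ((Ideal.Quotient.mk (J.map (algebraMap S R))).comp (algebraMap R₀ R)) (fun c => by
      have h1 : (Ideal.Quotient.mkₐ k (J.map (algebraMap S R))).toLinearMap (algebraMap R₀ R c) ∈
          HopfRep.fixedPts k A (R ⧸ J.map (algebraMap S R)) :=
        H62.map_mem_fixedPts hqR' (hR₀mem c)
      obtain ⟨s₁, hs₁⟩ := hR₁ex _ h1
      exact ⟨s₁, hs₁⟩)
  have hσR : ∀ c, algebraMap R₁ (R ⧸ J.map (algebraMap S R)) (σR c) =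
      Ideal.Quotient.mk (J.map (algebraMap S R)) (algebraMap R₀ R c) :=
    fun c => liftInj_spec _ _ _ _ c
  have hσS_surj : Function.Surjective σS := by
    intro s₁
    obtain ⟨s, hs, hqs⟩ := exists_fixed_preimage hG hqS'
      (Ideal.Quotient.mkₐ_surjective k J) (hS₁mem s₁)
    obtain ⟨c, rfl⟩ := hS₀ex s hs
    exact ⟨c, hS₁i ((hσS c).trans hqs)⟩
  have hσR_surj : Function.Surjective σR := by
    intro r₁
    obtain ⟨r, hr, hqr⟩ := exists_fixed_preimage hG hqR'
      (Ideal.Quotient.mkₐ_surjective k (J.map (algebraMap S R))) (hR₁mem r₁)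
    obtain ⟨c, rfl⟩ := hR₀ex r hr
    exact ⟨c, hR₁i ((hσR c).trans hqr)⟩
  have hqq : ∀ s : S, algebraMap (S ⧸ J) (R ⧸ J.map (algebraMap S R)) (Ideal.Quotient.mk J s) =
      Ideal.Quotient.mk (J.map (algebraMap S R)) (algebraMap S R s) := fun s => rfl
  have h4 : ∀ c, σR (algebraMap S₀ R₀ c) = algebraMap S₁ R₁ (σS c) := by
    intro c
    apply hR₁i
    rw [hσR, ← IsScalarTower.algebraMap_apply S₁ R₁ (R ⧸ J.map (algebraMap S R)),
      IsScalarTower.algebraMap_apply S₁ (S ⧸ J) (R ⧸ J.map (algebraMap S R)), hσS, hqq,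
      ← IsScalarTower.algebraMap_apply S₀ R₀ R, IsScalarTower.algebraMap_apply S₀ S R]
  have hkerS : RingHom.ker σS = J.comap (algebraMap S₀ S) := by
    ext c
    rw [RingHom.mem_ker, Ideal.mem_comap, ← Ideal.Quotient.eq_zero_iff_mem, ← hσS]
    constructor
    · intro h; rw [h, map_zero]
    · intro h; exact hS₁i (by rw [h, map_zero])
  have hkerR : RingHom.ker σR ≤ (RingHom.ker σS).map (algebraMap S₀ R₀) := by
    intro b hb
    rw [hkerS]
    apply mem_map_of_algebraMap_mem hG hφ hS₀ex hR₀mem hR₀i hcart.2 J hJ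
    rw [← Ideal.Quotient.eq_zero_iff_mem, ← hσR, (hb : σR b = 0), map_zero]
  refine ⟨?_, ?_, ?_⟩
  · exact Algebra.Etale.of_equiv (Algebra.TensorProduct.quotIdealMapEquivQuotTensor R J).symm
  · exact etale_quot σS σR hσS_surj hσR_surj h4 hkerR
  · exact bijective_productMap_quot (Ideal.Quotient.mk J)
      (Ideal.Quotient.mk (J.map (algebraMap S R))) σS σR Ideal.Quotient.mk_surjective
      Ideal.Quotient.mk_surjective hσR_surj hqq (fun b => (hσR b).symm) (fun c => (hσS c).symm) h4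
      (by rw [Ideal.mk_ker, Ideal.mk_ker]) hcart

end Groth.Agent.H62.StrEtaleQuot
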