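import Groth.Prelude.Def_ComodTens
import Mathlib

/-!
# Matrices of comodule structures in a basis; tensor powers (helper62)

`HasMat c b m`: the comodule structure `c` has matrix `m` in the finite basis `b`,
`ρ (b j) = ∑ i, b i ⊗ m i j`.  Calculus for the constructions of `ComodTens` and an existence
statement for the tensor powers.
-/

set_option autoImplicit false
universe u v v' w w'

open TensorProduct Pointwise

namespace Groth.Agent.H62.TensMat

section Basic

variable {k : Type u} [CommRing k] {A : Type v} [AddCommGroup A] [Module k A] [Coalgebra k A]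
variable {V : Type w} [AddCommGroup V] [Module k V] {W : Type w'} [AddCommGroup W] [Module k W]
variable {ι : Type*} [Fintype ι]

/-- the comodule structure `c` has matrix `m` in the basis `b` -/
def HasMat (c : HopfRep.Comod k A V) (b : Module.Basis ι k V) (m : ι → ι → A) : Prop :=
  ∀ j, c.coact (b j) = ∑ i, b i ⊗ₜ[k] m i j

theorem HasMat.ofEquiv (e : V ≃ₗ[k] W) {c : HopfRep.Comod k A V} {b : Module.Basis ι k V}
    {m : ι → ι → A} (h : HasMat c b m) :
    HasMat (ComodTens.Comod.ofEquiv e c) (b.map e) m := by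
  intro j
  rw [Module.Basis.map_apply, ComodTens.ofEquiv_coact_apply, h j, map_sum]
  simp only [LinearMap.rTensor_tmul, LinearEquiv.coe_coe, Module.Basis.map_apply]

end Basic

section Bialg

variable {k : Type u} [CommRing k] {A : Type v} [CommRing A] [Bialgebra k A]
variable {V : Type w} [AddCommGroup V] [Module k V] {W : Type w'} [AddCommGroup W] [Module k W]
variable {ι κ : Type*} [Fintype ι] [Fintype κ]

theorem HasMat.tensor {c : HopfRep.Comod k A V} {d : HopfRep.Comod k A W}
    {b : Module.Basis ι k V} {b' : Module.Basis κ k W} {m : ι → ι → A} {m' : κ → κ → A}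
    (h : HasMat c b m) (h' : HasMat d b' m') :
    HasMat (ComodTens.Comod.tensor c d) (b.tensorProduct b')
      (fun p q => m p.1 q.1 * m' p.2 q.2) := by
  rintro ⟨j, j'⟩
  rw [Module.Basis.tensorProduct_apply, ComodTens.tensor_coact_tmul_of_sum c d Finset.univ
    Finset.univ (b j) (b' j') (fun i => b i) (fun i => m i j) (fun i => b' i) (fun i => m' i j')
    (h j) (h' j'), Fintype.sum_prod_type]
  simp only [Module.Basis.tensorProduct_apply]

theorem HasMat.twist {c : HopfRep.Comod k A V} {b : Module.Basis ι k V} {m : ι → ι → A}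
    (h : HasMat c b m) (g : A) (hg : IsGroupLikeElem k g) :
    HasMat (ComodTens.Comod.twist c g hg) b (fun i j => m i j * g) := by
  intro j
  exact ComodTens.twist_coact_of_sum c g hg Finset.univ (b j) (fun i => b i) (fun i => m i j) (h j)

theorem HasMat.comodAlong {B : Type v'} [CommRing B] [Bialgebra k B] (φ : A →ₐc[k] B)
    {c : HopfRep.Comod k A V} {b : Module.Basis ι k V} {m : ι → ι → A} (h : HasMat c b m) :
    HasMat (GLin.comodAlong φ c) b (fun i j => φ (m i j)) := by
  intro j
  change TensorProduct.map LinearMap.id (φ : A →ₗ[k] B) (c.coact (b j)) = _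
  rw [h j, map_sum]
  simp

theorem hasMat_trivial :
    HasMat (HopfRep.Comod.trivial k A k) (Module.Basis.singleton Unit k) (fun _ _ => (1 : A)) := by
  intro j
  rw [Fintype.sum_unique]
  change ((TensorProduct.mk k k A).flip 1) ((Module.Basis.singleton Unit k) j) = _
  simp

theorem hasMat_stdVec (n : ℕ) :
    HasMat (ComodTens.stdVec n k) (Pi.basisFun k (Fin n)) (fun j i => CoordGrp.Mat.X j i) :=
  ComodTens.stdVec_coact_basisFun n k

theorem exists_hasMat_tpow {ι₀ : Type} [Fintype ι₀] [DecidableEq ι₀] (c : HopfRep.Comod k A V)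
    (b₀ : Module.Basis ι₀ k V) (m₀ : ι₀ → ι₀ → A) (h₀ : HasMat c b₀ m₀) (a : ℕ) :
    ∃ (ι : Type) (_ : Fintype ι) (_ : DecidableEq ι) (b : Module.Basis ι k (TensorPower k a V))
      (m : ι → ι → A), HasMat (ComodTens.Comod.tpow c a) b m ∧
      Submodule.span k (Set.range fun p : ι × ι => m p.1 p.2) =
        (Submodule.span k (Set.range fun p : ι₀ × ι₀ => m₀ p.1 p.2)) ^ a := by
  induction a with
  | zero =>
    refine ⟨Unit, inferInstance, inferInstance, (Module.Basis.singleton Unit k).map
      (PiTensorProduct.isEmptyEquiv (Fin 0) (R := k) (s := fun _ : Fin 0 => V)).symm,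
      fun _ _ => 1, ?_, ?_⟩
    · exact hasMat_trivial.ofEquiv _
    · rw [pow_zero, Submodule.one_eq_span]
      congr 1
      ext x
      simp
  | succ a ih =>
    obtain ⟨ι, i1, i2, b, m, hb, hs⟩ := ih
    refine ⟨ι × ι₀, inferInstance, inferInstance,
      ((b.tensorProduct (b₀.map (PiTensorProduct.subsingletonEquiv (R := k)
        (s := fun _ : Fin 1 => V) (0 : Fin 1)).symm)).map
        (TensorPower.mulEquiv (R := k) (M := V) (n := a) (m := 1))),
      fun p q => m p.1 q.1 * m₀ p.2 q.2, ?_, ?_⟩
    · exact (hb.tensor (h₀.ofEquiv _)).ofEquiv _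
    · rw [pow_succ, ← hs, Submodule.span_mul_span]
      congr 1
      ext x
      constructor
      · rintro ⟨⟨⟨i, i₀⟩, ⟨j, j₀⟩⟩, rfl⟩
        exact Set.mul_mem_mul ⟨(i, j), rfl⟩ ⟨(i₀, j₀), rfl⟩
      · intro hx
        obtain ⟨y, ⟨⟨i, j⟩, rfl⟩, z, ⟨⟨i₀, j₀⟩, rfl⟩, rfl⟩ := Set.mem_mul.mp hx
        exact ⟨((i, i₀), (j, j₀)), rfl⟩

end Bialg

end Groth.Agent.H62.TensMat
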