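import Groth.Agent.H62.TotInt

/-!
# Total integral ⇒ comodule retraction of the coaction — helper62
-/

set_option autoImplicit false
universe u v w
open TensorProduct

namespace Groth.Agent.H62.TotInt

section Retr

variable {k : Type u} [CommRing k] {A : Type v} [CommRing A] [HopfAlgebra k A]
variable {B : Type w} [CommRing B] [Algebra k B]

local notation "𝓢" => HopfAlgebraStruct.antipode (R := k) (A := A)
local notation "Δₐ" => CoalgebraStruct.comul (R := k) (A := A)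
local notation "εₐ" => CoalgebraStruct.counit (R := k) (A := A)

/-- `(b ⊗ c) ⊗ a ↦ b * α (S c * a)`. -/
noncomputable def P (α : A →ₗ[k] B) : (B ⊗[k] A) ⊗[k] A →ₗ[k] B :=
  LinearMap.mul' k B ∘ₗ (α ∘ₗ LinearMap.mul' k A ∘ₗ (𝓢).rTensor A).lTensor B ∘ₗ
    (TensorProduct.assoc k B A A).toLinearMap

@[simp] theorem P_tmul (α : A →ₗ[k] B) (b : B) (c a : A) :
    P α ((b ⊗ₜ[k] c) ⊗ₜ[k] a) = b * α (𝓢 c * a) := by
  simp [P]

/-- `((t ⊗ u) ⊗ w) ↦ t * (α ⊗ id) ((S ⊗ S) (comm u) * w)`. -/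
noncomputable def Ψ (α : A →ₗ[k] B) :
    ((B ⊗[k] A) ⊗[k] (A ⊗[k] A)) ⊗[k] (A ⊗[k] A) →ₗ[k] B ⊗[k] A :=
  LinearMap.mul' k (B ⊗[k] A) ∘ₗ
    (α.rTensor A ∘ₗ LinearMap.mul' k (A ⊗[k] A) ∘ₗ
      (TensorProduct.map 𝓢 𝓢 ∘ₗ (TensorProduct.comm k A A).toLinearMap).rTensor
        (A ⊗[k] A)).lTensor (B ⊗[k] A) ∘ₗ
    (TensorProduct.assoc k (B ⊗[k] A) (A ⊗[k] A) (A ⊗[k] A)).toLinearMap

theorem Ψ_tmul' (α : A →ₗ[k] B) (t : B ⊗[k] A) (u w : A ⊗[k] A) :
    Ψ α ((t ⊗ₜ[k] u) ⊗ₜ[k] w) =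
      t * α.rTensor A (TensorProduct.map 𝓢 𝓢 (TensorProduct.comm k A A u) * w) := by
  simp [Ψ]

@[simp] theorem Ψ_tmul (α : A →ₗ[k] B) (b : B) (x x₂ x₃ a₁ a₂ : A) :
    Ψ α (((b ⊗ₜ[k] x) ⊗ₜ[k] (x₂ ⊗ₜ[k] x₃)) ⊗ₜ[k] (a₁ ⊗ₜ[k] a₂)) =
      (b * α (𝓢 x₃ * a₁)) ⊗ₜ[k] (x * (𝓢 x₂ * a₂)) := by
  rw [Ψ_tmul']; simp

/-- The retraction `b ⊗ a ↦ Σ b₀ α (S b₁ * a)`. -/
noncomputable def lam [HopfRep.Comod k A B] (α : A →ₗ[k] B) : B ⊗[k] A →ₗ[k] B :=
  P α ∘ₗ (H40.ρ k A B).rTensor A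

theorem P_assoc_symm (α : A →ₗ[k] B) (hα1 : α 1 = 1) (y : B ⊗[k] A) :
    P α ((TensorProduct.assoc k B A A).symm ((Δₐ).lTensor B y)) = H40.contr B εₐ y := by
  induction y using TensorProduct.induction_on with
  | zero => simp
  | tmul b c =>
    rw [LinearMap.lTensor_tmul]
    have h : P α ((TensorProduct.assoc k B A A).symm (b ⊗ₜ[k] Δₐ c)) =
        b * α (algebraMap k A (εₐ c)) := by
      simp [P]
    rw [h, H40.contr_tmul, Algebra.algebraMap_eq_smul_one, map_smul, hα1, mul_smul_comm,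
      mul_one]
  | add x y hx hy => simp only [map_add, hx, hy]

theorem lam_coact [HopfRep.Comod k A B] (α : A →ₗ[k] B) (hα1 : α 1 = 1) (b : B) :
    lam α (H40.ρ k A B b) = b := by
  have h := H40.coassoc_apply (k := k) (C := A) (V := B) b
  have h2 : (H40.ρ k A B).rTensor A (H40.ρ k A B b) =
      (TensorProduct.assoc k B A A).symm ((Δₐ).lTensor B (H40.ρ k A B b)) := by
    rw [← h, LinearEquiv.symm_apply_apply]
  rw [lam, LinearMap.comp_apply, h2, P_assoc_symm α hα1, H40.contr_counit_coact]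

theorem coact_P_tmul [HopfRep.Comod k A B] [GLin.IsCoactAlg k A B] {α : A →ₗ[k] B}
    (hα : Hoch.IsComodHom A α) (y : B ⊗[k] A) (a : A) :
    H40.ρ k A B (P α (y ⊗ₜ[k] a)) =
      Ψ α ((TensorProduct.map (H40.ρ k A B) Δₐ y) ⊗ₜ[k] Δₐ a) := by
  induction y using TensorProduct.induction_on with
  | zero => simp
  | tmul b c =>
    rw [P_tmul, TensorProduct.map_tmul, Ψ_tmul']
    have h1 : H40.ρ k A B (b * α (𝓢 c * a)) =
        H40.ρ k A B b * H40.ρ k A B (α (𝓢 c * a)) :=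
      GLin.IsCoactAlg.coact_mul (k := k) (A := A) _ _
    rw [h1, coact_alpha hα, Bialgebra.comul_mul, H83.comul_antipode]
  | add x y hx hy => simp only [TensorProduct.add_tmul, map_add, hx, hy]

theorem Ψ_assoc (α : A →ₗ[k] B) (b : B) (a₁ a₂ : A) (z : (A ⊗[k] A) ⊗[k] A) :
    Ψ α ((TensorProduct.assoc k B A (A ⊗[k] A)).symm
        (b ⊗ₜ[k] TensorProduct.assoc k A A A z) ⊗ₜ[k] (a₁ ⊗ₜ[k] a₂)) =
    Ψ α ((TensorProduct.assoc k B A (A ⊗[k] A)).symm
        (b ⊗ₜ[k] TensorProduct.assoc k A A A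
          ((((TensorProduct.mk k A A).flip 1) ∘ₗ LinearMap.mul' k A ∘ₗ
            (𝓢).lTensor A).rTensor A z)) ⊗ₜ[k] (a₁ ⊗ₜ[k] a₂)) := by
  induction z using TensorProduct.induction_on with
  | zero => simp
  | tmul x c =>
    induction x using TensorProduct.induction_on with
    | zero => simp
    | tmul x₁ x₂ => simp [mul_assoc]
    | add x y hx hy =>
      simp only [TensorProduct.add_tmul, TensorProduct.tmul_add, map_add, hx, hy]
  | add x y hx hy =>
    simp only [TensorProduct.add_tmul, TensorProduct.tmul_add, map_add, hx, hy]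

theorem Ψ_key (α : A →ₗ[k] B) (y : B ⊗[k] A) (w : A ⊗[k] A) :
    Ψ α ((Δₐ).lTensor (B ⊗[k] A)
        ((TensorProduct.assoc k B A A).symm ((Δₐ).lTensor B y)) ⊗ₜ[k] w) =
      (P α).rTensor A ((TensorProduct.assoc k (B ⊗[k] A) A A).symm (y ⊗ₜ[k] w)) := by
  induction w using TensorProduct.induction_on with
  | zero => simp
  | tmul a₁ a₂ =>
    induction y using TensorProduct.induction_on with
    | zero => simp
    | tmul b c =>
      rw [LinearMap.lTensor_tmul, lTensor_assoc_symm, ← Coalgebra.coassoc_apply, Ψ_assoc]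
      have h3 : ((((TensorProduct.mk k A A).flip 1) ∘ₗ LinearMap.mul' k A ∘ₗ
          (𝓢).lTensor A).rTensor A ((Δₐ).rTensor A (Δₐ c))) =
          ((1 : A) ⊗ₜ[k] (1 : A)) ⊗ₜ[k] c := by
        rw [LinearMap.rTensor_comp_apply, rTensor_mulS_comul]
        simp
      rw [h3]
      simp
    | add x y hx hy => simp only [TensorProduct.add_tmul, map_add, hx, hy]
  | add x y hx hy => simp only [TensorProduct.tmul_add, map_add, hx, hy]

theorem lam_rTensor_assoc_symm [HopfRep.Comod k A B] (α : A →ₗ[k] B) (b : B) (w : A ⊗[k] A) :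
    (lam α).rTensor A ((TensorProduct.assoc k B A A).symm (b ⊗ₜ[k] w)) =
      (P α).rTensor A
        ((TensorProduct.assoc k (B ⊗[k] A) A A).symm (H40.ρ k A B b ⊗ₜ[k] w)) := by
  induction w using TensorProduct.induction_on with
  | zero => simp
  | tmul a₁ a₂ => simp [lam]
  | add x y hx hy => simp only [TensorProduct.tmul_add, map_add, hx, hy]

/-- `lam α` is a comodule map `Ind B → B`. -/
theorem coact_lam [HopfRep.Comod k A B] [GLin.IsCoactAlg k A B] {α : A →ₗ[k] B}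
    (hα : Hoch.IsComodHom A α) (x : B ⊗[k] A) :
    H40.ρ k A B (lam α x) = (lam α).rTensor A (Hoch.Ind.coactAux k A B x) := by
  induction x using TensorProduct.induction_on with
  | zero => simp
  | tmul b a =>
    have e1 : lam α (b ⊗ₜ[k] a) = P α (H40.ρ k A B b ⊗ₜ[k] a) := by simp [lam]
    rw [e1, coact_P_tmul hα, map_coact_comul_coact, Ψ_key, Hoch.Ind.coactAux_tmul,
      lam_rTensor_assoc_symm]
  | add x y hx hy => simp only [map_add, hx, hy]

omit [HopfAlgebra k A] in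
theorem rTensor_assoc_symm_one_tmul [Bialgebra k A] (lam₀ : B ⊗[k] A →ₗ[k] B)
    (u : A ⊗[k] A) :
    lam₀.rTensor A ((TensorProduct.assoc k B A A).symm ((1 : B) ⊗ₜ[k] u)) =
      (lam₀ ∘ₗ TensorProduct.mk k B A 1).rTensor A u := by
  induction u using TensorProduct.induction_on with
  | zero => simp
  | tmul a₁ a₂ => simp
  | add x y hx hy => simp only [TensorProduct.tmul_add, map_add, hx, hy]

end Retr

end Groth.Agent.H62.TotInt
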