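import Groth.Agent.H62.TriFlag
import Groth.Agent.H62.IsoComp

/-!
# Criteria for trigonalizable / unipotent via chains inside the regular comodule (helper62)
-/

set_option autoImplicit false
universe u v w

open TensorProduct

namespace Groth.Agent.H62.TriFlag

open Groth.Agent Groth.Agent.H40

section Crit

variable {k : Type u} [Field k] {B : Type v} [CommRing B] [Bialgebra k B]

/-- a simple comodule embeds into the regular comodule -/
theorem exists_embedding {V : Type v} [AddCommGroup V] [Module k V] [HopfRep.Comod k B V]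
    (hsimple : HopfRep.IsSimpleComod k B V) :
    ∃ φ : V →ₗ[k] B, Hoch.IsComodHom B φ ∧ Function.Injective φ ∧
      H74.Coeff.IsSimpleSub B (LinearMap.range φ) := by
  haveI := hsimple.1
  obtain ⟨v, hv⟩ := exists_ne (0 : V)
  obtain ⟨lam, hlam⟩ : ∃ lam : Module.Dual k V, lam v ≠ 0 := by
    by_contra hcon
    push Not at hcon
    exact hv ((Module.forall_dual_apply_eq_zero_iff k v).mp hcon)
  let φ : V →ₗ[k] B := Cf.cf (k := k) (A := B) (V := V) inferInstance lam
  have hφ : Hoch.IsComodHom B φ := by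
    unfold Hoch.IsComodHom
    ext x
    exact Cf.comul_cf (k := k) (A := B) (V := V) inferInstance lam x
  have hφ0 : φ ≠ 0 := by
    intro h0
    apply hlam
    rw [← Cf.counit_cf (k := k) (A := B) (V := V) inferInstance lam v]
    change CoalgebraStruct.counit (R := k) (φ v) = 0
    rw [h0]
    simp
  exact ⟨φ, hφ, H74.Coeff.injective_of_ne_zero hsimple hφ hφ0,
    H74.Coeff.isSimpleSub_range hsimple hφ hφ0⟩

/-- the least step of a chain met by a nonzero subspace -/
theorem exists_least_step {V' : Submodule k B} (hV' : V' ≠ ⊥) {m : ℕ} {G : ℕ → Submodule k B}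
    (hG0 : G 0 = ⊥) (hVm : V' ≤ G m) : ∃ i, V' ⊓ G i = ⊥ ∧ V' ⊓ G (i + 1) ≠ ⊥ := by
  classical
  have hex : ∃ j, V' ⊓ G j ≠ ⊥ := ⟨m, by rw [inf_eq_left.mpr hVm]; exact hV'⟩
  have hj := Nat.find_spec hex
  have hj0 : Nat.find hex ≠ 0 := by
    intro h0
    apply hj
    rw [h0, hG0, inf_bot_eq]
  obtain ⟨i, hi⟩ := Nat.exists_eq_succ_of_ne_zero hj0
  refine ⟨i, ?_, ?_⟩
  · by_contra hc
    exact Nat.find_min hex (by omega : i < Nat.find hex) hc
  · rw [← Nat.succ_eq_add_one, ← hi]
    exact hj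

theorem isTrigonalizable_of_chains
    (h : ∀ V' : Submodule k B, Module.Finite k ↥V' →
      HopfRep.IsSubcomod (k := k) (A := B) V' →
      ∃ (m : ℕ) (G : ℕ → Submodule k B), G 0 = ⊥ ∧ V' ≤ G m ∧
        (∀ i, HopfRep.IsSubcomod (k := k) (A := B) (G i)) ∧
        ∀ i, ∀ x ∈ G (i + 1), ∀ y ∈ G (i + 1), Dep (G i) x y) :
    HopfRep.IsTrigonalizable k B := by
  intro V _ _ _ hfin hsimple
  haveI := hfin
  haveI := hsimple.1
  obtain ⟨φ, hφ, hinj, hsub⟩ := exists_embedding hsimple
  haveI : Module.Finite k ↥(LinearMap.range φ) := Module.Finite.range φ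
  obtain ⟨m, G, hG0, hVm, hGsub, hGdep⟩ := h (LinearMap.range φ) inferInstance hsub.1
  obtain ⟨i, hi, hi1⟩ := exists_least_step hsub.2.1 hG0 hVm
  have hle : LinearMap.range φ ≤ G (i + 1) := by
    rcases hsub.2.2 (LinearMap.range φ ⊓ G (i + 1))
      (H40.isSubcomod_inf hsub.1 (hGsub (i + 1))) inf_le_left with h1 | h1
    · exact absurd h1 hi1
    · exact inf_eq_left.mp h1
  have h1 : Module.finrank k ↥(LinearMap.range φ) ≤ 1 :=
    finrank_le_one_of_dep hi (fun x hx y hy => hGdep i x (hle hx) y (hle hy))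
  have h2 : Module.finrank k ↥(LinearMap.range φ) = Module.finrank k V :=
    LinearMap.finrank_range_of_inj hinj
  have h3 : 0 < Module.finrank k V := Module.finrank_pos
  omega

theorem isUnipotent_of_chains
    (h : ∀ V' : Submodule k B, Module.Finite k ↥V' →
      HopfRep.IsSubcomod (k := k) (A := B) V' →
      ∃ (m : ℕ) (G : ℕ → Submodule k B), G 0 = ⊥ ∧ V' ≤ G m ∧
        ∀ i, ∀ x ∈ G (i + 1), CoalgebraStruct.comul (R := k) x - x ⊗ₜ[k] (1 : B) ∈
          LinearMap.range ((G i).subtype.rTensor B)) :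
    HopfRep.IsUnipotent k B := by
  intro V _ _ _ hfin hnt
  haveI := hfin
  haveI := hnt
  -- a simple subcomodule
  obtain ⟨S, -, hS⟩ := H74.Coeff.exists_isSimpleSub_le (C := B) (W := (⊤ : Submodule k V))
    H40.isSubcomod_top top_ne_bot
  letI := H62.subComod S hS.1
  have hsimple := H74.Coeff.isSimpleComod_sub hS
  obtain ⟨φ, hφ, hinj, hsub⟩ := exists_embedding hsimple
  haveI : Module.Finite k ↥(LinearMap.range φ) := Module.Finite.range φ
  obtain ⟨m, G, hG0, hVm, hGtriv⟩ := h (LinearMap.range φ) inferInstance hsub.1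
  obtain ⟨i, hi, hi1⟩ := exists_least_step hsub.2.1 hG0 hVm
  obtain ⟨b, hb, hb0⟩ := Submodule.exists_mem_ne_zero_of_ne_bot hi1
  have e1 := hGtriv i b hb.2
  have e2 : CoalgebraStruct.comul (R := k) b - b ⊗ₜ[k] (1 : B) ∈
      LinearMap.range ((LinearMap.range φ).subtype.rTensor B) :=
    Submodule.sub_mem _ (hsub.1 b hb.1) (tmul_mem_range_rTensor _ hb.1 _)
  have e3 : CoalgebraStruct.comul (R := k) b - b ⊗ₜ[k] (1 : B) ∈
      LinearMap.range ((LinearMap.range φ ⊓ G i).subtype.rTensor B) := by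
    rw [IsoComp.mem_range_rTensor_iff_contr] at e1 e2 ⊢
    exact fun f => ⟨e2 f, e1 f⟩
  rw [hi] at e3
  have e4 : CoalgebraStruct.comul (R := k) b - b ⊗ₜ[k] (1 : B) = 0 := by
    obtain ⟨t, ht⟩ := e3
    rw [← ht]
    have : t = 0 := by
      haveI : Subsingleton ((⊥ : Submodule k B) ⊗[k] B) := by
        haveI : Subsingleton (⊥ : Submodule k B) := inferInstance
        infer_instance
      exact Subsingleton.elim _ _
    rw [this, map_zero]
  -- pull back to `S`
  obtain ⟨s, rfl⟩ := hb.1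
  have hs0 : s ≠ 0 := by
    intro h0
    apply hb0
    rw [h0, map_zero]
  have hsfix : HopfRep.Comod.coact (k := k) (A := B) s = s ⊗ₜ[k] (1 : B) := by
    apply H62.rTensor_injective φ hinj B
    have h1 := LinearMap.congr_fun hφ s
    simp only [LinearMap.comp_apply] at h1
    rw [← h1, LinearMap.rTensor_tmul]
    exact sub_eq_zero.mp e4
  intro hfix
  have hmem : (s : V) ∈ HopfRep.fixedPts k B V := by
    change HopfRep.Comod.coact (k := k) (A := B) (s : V) = (s : V) ⊗ₜ[k] (1 : B)
    rw [← H62.subCoact_spec S hS.1 s]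
    change S.subtype.rTensor B (HopfRep.Comod.coact (k := k) (A := B) s) = _
    rw [hsfix, LinearMap.rTensor_tmul]
    rfl
  rw [hfix, Submodule.mem_bot] at hmem
  exact hs0 (Subtype.ext hmem)

end Crit

end Groth.Agent.H62.TriFlag
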