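import Groth.Agent.H74.Coeff3
import Groth.Agent.H93.Comod4
import Groth.Agent.H62.CoeffFun
import Groth.Agent.H62.Reynolds

/-!
# Flags with one-dimensional quotients; criteria for trigonalizable / unipotent (helper62)
-/

set_option autoImplicit false
universe u v w

open TensorProduct

namespace Groth.Agent.H62.TriFlag

open Groth.Agent Groth.Agent.H40

section Dep

variable {k : Type u} [Field k] {V : Type w} [AddCommGroup V] [Module k V]

/-- `x`, `y` are linearly dependent modulo `G`. -/
def Dep (G : Submodule k V) (x y : V) : Prop :=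
  ∃ a b : k, (a ≠ 0 ∨ b ≠ 0) ∧ a • x + b • y ∈ G

theorem dep_of_mem_left {G : Submodule k V} {x : V} (hx : x ∈ G) (y : V) : Dep G x y :=
  ⟨1, 0, Or.inl one_ne_zero, by simpa using hx⟩

/-- If the generators of `G⁺` over `G` are pairwise dependent modulo `G`, so are all elements. -/
theorem dep_of_span {G : Submodule k V} {S : Set V} (hS : ∀ x ∈ S, ∀ y ∈ S, Dep G x y) :
    ∀ x ∈ G ⊔ Submodule.span k S, ∀ y ∈ G ⊔ Submodule.span k S, Dep G x y := by
  classical
  by_cases hall : S ⊆ G
  · have : G ⊔ Submodule.span k S = G := sup_eq_left.mpr (Submodule.span_le.mpr hall)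
    rw [this]
    intro x hx y _
    exact dep_of_mem_left hx y
  · rw [Set.not_subset] at hall
    obtain ⟨s₀, hs₀, hs₀G⟩ := hall
    have key : G ⊔ Submodule.span k S ≤ G ⊔ Submodule.span k {s₀} := by
      refine sup_le le_sup_left (Submodule.span_le.mpr ?_)
      intro s hs
      obtain ⟨a, b, hab, hmem⟩ := hS s₀ hs₀ s hs
      have hb : b ≠ 0 := by
        intro hb0
        rcases hab with ha | hb'
        · rw [hb0, zero_smul, add_zero] at hmem
          have := G.smul_mem a⁻¹ hmem
          rw [smul_smul, inv_mul_cancel₀ ha, one_smul] at this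
          exact hs₀G this
        · exact hb' hb0
      have hs_eq : s = b⁻¹ • (a • s₀ + b • s) + (-(b⁻¹ * a)) • s₀ := by
        rw [smul_add, smul_smul, smul_smul, inv_mul_cancel₀ hb, one_smul, neg_smul]
        abel
      rw [SetLike.mem_coe, hs_eq]
      exact Submodule.add_mem _ (Submodule.mem_sup_left (G.smul_mem _ hmem))
        (Submodule.mem_sup_right (Submodule.smul_mem _ _ (Submodule.subset_span rfl)))
    intro x hx y hy
    obtain ⟨g₁, hg₁, z₁, hz₁, rfl⟩ := Submodule.mem_sup.mp (key hx)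
    obtain ⟨g₂, hg₂, z₂, hz₂, rfl⟩ := Submodule.mem_sup.mp (key hy)
    obtain ⟨c₁, rfl⟩ := Submodule.mem_span_singleton.mp hz₁
    obtain ⟨c₂, rfl⟩ := Submodule.mem_span_singleton.mp hz₂
    by_cases hc : c₁ = 0 ∧ c₂ = 0
    · refine ⟨1, 0, Or.inl one_ne_zero, ?_⟩
      rw [hc.1]
      simpa using hg₁
    · refine ⟨c₂, -c₁, ?_, ?_⟩
      · by_contra hcon
        push Not at hcon
        exact hc ⟨neg_eq_zero.mp hcon.2, hcon.1⟩
      · have : c₂ • (g₁ + c₁ • s₀) + -c₁ • (g₂ + c₂ • s₀) = c₂ • g₁ + (-c₁) • g₂ := by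
          rw [smul_add, smul_add, smul_smul, smul_smul, neg_mul, neg_smul, neg_smul, mul_comm c₂ c₁]
          abel
        rw [this]
        exact G.add_mem (G.smul_mem _ hg₁) (G.smul_mem _ hg₂)

/-- A subspace whose elements are pairwise dependent modulo a subspace it meets trivially has
dimension at most one. -/
theorem finrank_le_one_of_dep {G N : Submodule k V} (hGN : N ⊓ G = ⊥)
    (h : ∀ x ∈ N, ∀ y ∈ N, Dep G x y) : Module.finrank k ↥N ≤ 1 := by
  by_cases hN : N = ⊥
  · rw [hN, finrank_bot]; exact Nat.zero_le _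
  obtain ⟨v, hv, hv0⟩ := Submodule.exists_mem_ne_zero_of_ne_bot hN
  apply finrank_le_one (⟨v, hv⟩ : ↥N)
  intro w
  obtain ⟨a, b, hab, hmem⟩ := h v hv w w.2
  have h0 : a • v + b • (w : V) = 0 := by
    have : a • v + b • (w : V) ∈ N ⊓ G :=
      ⟨N.add_mem (N.smul_mem _ hv) (N.smul_mem _ w.2), hmem⟩
    rw [hGN, Submodule.mem_bot] at this
    exact this
  have hb : b ≠ 0 := by
    intro hb0
    rcases hab with ha | hb'
    · rw [hb0, zero_smul, add_zero] at h0
      exact hv0 ((smul_eq_zero.mp h0).resolve_left ha)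
    · exact hb' hb0
  refine ⟨-(b⁻¹ * a), ?_⟩
  apply Subtype.ext
  have hw : (w : V) = -(b⁻¹ * a) • v := by
    have h1 : b • (w : V) = -(a • v) := eq_neg_of_add_eq_zero_right h0
    have h2 : (w : V) = b⁻¹ • (b • (w : V)) := by rw [smul_smul, inv_mul_cancel₀ hb, one_smul]
    rw [h2, h1, smul_neg, smul_smul, neg_smul]
  simp only [Submodule.coe_smul]
  exact hw.symm

end Dep

section Flag

variable {k : Type u} [Field k] {A : Type v} [CommRing A] [Bialgebra k A]
variable {V : Type v} [AddCommGroup V] [Module k V] [HopfRep.Comod k A V] [Module.Finite k V]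

theorem exists_step (hT : HopfRep.IsTrigonalizable k A) {W : Submodule k V}
    (hW : HopfRep.IsSubcomod (k := k) (A := A) W) (hne : W ≠ ⊤) :
    ∃ W' : Submodule k V, W < W' ∧ HopfRep.IsSubcomod (k := k) (A := A) W' ∧
      ∀ x ∈ W', ∀ y ∈ W', Dep W x y := by
  classical
  letI := H93.quotComod W hW
  have hmk : Hoch.IsComodHom A W.mkQ := H93.isComodHom_mkQ W hW
  have hnt : (⊤ : Submodule k (V ⧸ W)) ≠ ⊥ := by
    haveI : Nontrivial (V ⧸ W) := Submodule.Quotient.nontrivial_iff.mpr hne
    exact top_ne_bot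
  obtain ⟨L, -, hL⟩ := H74.Coeff.exists_isSimpleSub_le (C := A) (W := (⊤ : Submodule k (V ⧸ W)))
    H40.isSubcomod_top hnt
  letI := H62.subComod L hL.1
  have hsimple := H74.Coeff.isSimpleComod_sub hL
  have hfr : Module.finrank k ↥L = 1 := hT ↥L inferInstance hsimple
  refine ⟨L.comap W.mkQ, ?_, H62.isSubcomod_comap hmk hL.1, ?_⟩
  · refine lt_of_le_of_ne ?_ ?_
    · intro w hw
      rw [Submodule.mem_comap]
      have : W.mkQ w = 0 := by simpa using hw
      rw [this]
      exact L.zero_mem
    · intro heq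
      obtain ⟨l, hl, hl0⟩ := Submodule.exists_mem_ne_zero_of_ne_bot hL.2.1
      obtain ⟨v, rfl⟩ := W.mkQ_surjective l
      have hv : v ∈ L.comap W.mkQ := hl
      rw [← heq] at hv
      apply hl0
      simpa using hv
  · intro x hx y hy
    obtain ⟨v, hv0, hv⟩ := finrank_eq_one_iff'.mp hfr
    obtain ⟨c₁, hc₁⟩ := hv ⟨W.mkQ x, hx⟩
    obtain ⟨c₂, hc₂⟩ := hv ⟨W.mkQ y, hy⟩
    have e₁ : W.mkQ x = c₁ • (v : V ⧸ W) := by
      have := congrArg Subtype.val hc₁
      simpa using this.symm
    have e₂ : W.mkQ y = c₂ • (v : V ⧸ W) := by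
      have := congrArg Subtype.val hc₂
      simpa using this.symm
    by_cases hc : c₁ = 0 ∧ c₂ = 0
    · refine dep_of_mem_left ?_ y
      rw [hc.1, zero_smul] at e₁
      simpa using e₁
    · refine ⟨c₂, -c₁, ?_, ?_⟩
      · by_contra hcon
        push Not at hcon
        exact hc ⟨neg_eq_zero.mp hcon.2, hcon.1⟩
      · have : W.mkQ (c₂ • x + -c₁ • y) = 0 := by
          rw [map_add, map_smul, map_smul, e₁, e₂, smul_smul, smul_smul, neg_mul, neg_smul,
            mul_comm c₂ c₁, add_neg_cancel]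
        rw [Submodule.mkQ_apply, Submodule.Quotient.mk_eq_zero] at this
        exact this

/-- Over a trigonalizable bialgebra every finite-dimensional comodule has a full flag of
subcomodules with successive quotients of dimension at most one. -/
theorem exists_chain_from (hT : HopfRep.IsTrigonalizable k A) :
    ∀ (d : ℕ) (W : Submodule k V), HopfRep.IsSubcomod (k := k) (A := A) W →
      Module.finrank k V - Module.finrank k ↥W ≤ d →
      ∃ (m : ℕ) (F : ℕ → Submodule k V), F 0 = W ∧ F m = ⊤ ∧ (∀ i, F i ≤ F (i + 1)) ∧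
        (∀ i, HopfRep.IsSubcomod (k := k) (A := A) (F i)) ∧
        ∀ i, ∀ x ∈ F (i + 1), ∀ y ∈ F (i + 1), Dep (F i) x y := by
  intro d
  induction d with
  | zero =>
    intro W hW hd
    have hle := Submodule.finrank_le W
    have htop : W = ⊤ := Submodule.eq_top_of_finrank_eq (by omega)
    exact ⟨0, fun _ => W, rfl, htop, fun _ => le_rfl, fun _ => hW,
      fun i x hx y _ => dep_of_mem_left hx y⟩
  | succ d ih =>
    intro W hW hd
    by_cases htop : W = ⊤
    · exact ⟨0, fun _ => W, rfl, htop, fun _ => le_rfl, fun _ => hW,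
        fun i x hx y _ => dep_of_mem_left hx y⟩
    obtain ⟨W', hlt, hW', hdep⟩ := exists_step hT hW htop
    have hfr := Submodule.finrank_lt_finrank_of_lt hlt
    have hle := Submodule.finrank_le W'
    obtain ⟨m, F, hF0, hFm, hFmono, hFsub, hFdep⟩ := ih W' hW' (by omega)
    refine ⟨m + 1, fun i => Nat.casesOn i W (fun j => F j), rfl, hFm, ?_, ?_, ?_⟩
    · intro i
      cases i with
      | zero =>
        change W ≤ F 0
        rw [hF0]
        exact hlt.le
      | succ j => exact hFmono j
    · intro i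
      cases i with
      | zero => exact hW
      | succ j => exact hFsub j
    · intro i
      cases i with
      | zero =>
        intro x hx y hy
        change x ∈ F 0 at hx
        change y ∈ F 0 at hy
        rw [hF0] at hx hy
        exact hdep x hx y hy
      | succ j => exact hFdep j

theorem exists_chain (hT : HopfRep.IsTrigonalizable k A) :
    ∃ (m : ℕ) (F : ℕ → Submodule k V), F 0 = ⊥ ∧ F m = ⊤ ∧ (∀ i, F i ≤ F (i + 1)) ∧
      (∀ i, HopfRep.IsSubcomod (k := k) (A := A) (F i)) ∧
      ∀ i, ∀ x ∈ F (i + 1), ∀ y ∈ F (i + 1), Dep (F i) x y :=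
  exists_chain_from hT _ ⊥ H40.isSubcomod_bot le_rfl

end Flag

end Groth.Agent.H62.TriFlag
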