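import Groth.Agent.H62.CocommTri
import Groth.Agent.H83.HopfAux
import Groth.Agent.H1.FinHopf.SubBialg

/-!
# The unipotent filtration of a bialgebra (helper62)

`F k A n`: the `n`-th step of the largest "unipotent flag" of the regular comodule:
`F 0 = 0`, `F (n+1) = {a | Δ a - a ⊗ 1 ∈ F n ⊗ A}`.  Its union `UB k A` is a subalgebra, and for a
cocommutative Hopf algebra a Hopf subalgebra (`hopfUB`), unipotent (`isUnipotent_UB`).
-/

set_option autoImplicit false
universe u v v'
open TensorProduct

namespace Groth.Agent.H62.UniFil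
open Groth.Agent Groth.Agent.H40 Groth.Agent.H62.Cocomm

section Fil
variable (k : Type u) [Field k] (A : Type v) [CommRing A] [Bialgebra k A]

/-- `a ↦ Δ a - a ⊗ 1`. -/
noncomputable def Tm : A →ₗ[k] A ⊗[k] A :=
  CoalgebraStruct.comul (R := k) (A := A) - (TensorProduct.mk k A A).flip 1

theorem Tm_apply (a : A) :
    Tm k A a = CoalgebraStruct.comul (R := k) a - a ⊗ₜ[k] (1 : A) := rfl

/-- The unipotent filtration of the regular comodule. -/
noncomputable def F : ℕ → Submodule k A
  | 0 => ⊥
  | n + 1 => (LinearMap.range ((F n).subtype.rTensor A)).comap (Tm k A)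

theorem F_zero : F k A 0 = ⊥ := rfl

variable {k A} in
theorem mem_F_succ {n : ℕ} {a : A} : a ∈ F k A (n + 1) ↔
    CoalgebraStruct.comul (R := k) a - a ⊗ₜ[k] (1 : A) ∈
      LinearMap.range ((F k A n).subtype.rTensor A) := Iff.rfl

variable {k A} in
theorem mem_F_succ_iff {n : ℕ} {a : A} : a ∈ F k A (n + 1) ↔
    ∀ ψ : A →ₗ[k] k, actF A ψ a - ψ 1 • a ∈ F k A n := by
  rw [mem_F_succ, IsoComp.mem_range_rTensor_iff_contr]
  refine forall_congr' fun ψ => ?_
  rw [map_sub, contr_tmul]
  rfl

theorem F_le_succ (n : ℕ) : F k A n ≤ F k A (n + 1) := by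
  induction n with
  | zero => rw [F_zero]; exact bot_le
  | succ n ih =>
    intro a ha
    rw [mem_F_succ] at ha ⊢
    exact range_rTensor_subtype_mono ih ha

theorem F_mono : Monotone (F k A) := monotone_nat_of_le_succ (F_le_succ k A)

theorem F_sub (n : ℕ) : HopfRep.IsSubcomod (k := k) (A := A) (F k A n) := by
  intro a ha
  cases n with
  | zero =>
    rw [F_zero, Submodule.mem_bot] at ha
    rw [ha, map_zero]
    exact Submodule.zero_mem _
  | succ n =>
    have h1 := range_rTensor_subtype_mono (F_le_succ k A n) (mem_F_succ.mp ha)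
    have h2 : a ⊗ₜ[k] (1 : A) ∈ LinearMap.range ((F k A (n + 1)).subtype.rTensor A) :=
      tmul_mem_range_rTensor _ ha 1
    have h3 := Submodule.add_mem _ h1 h2
    rw [sub_add_cancel] at h3
    exact h3

theorem one_mem_F : (1 : A) ∈ F k A 1 := by
  rw [mem_F_succ, Bialgebra.comul_one, Algebra.TensorProduct.one_def, sub_self]
  exact Submodule.zero_mem _

variable {k A} in
theorem mul_mem_range {P Q R : Submodule k A} (h : ∀ p ∈ P, ∀ q ∈ Q, p * q ∈ R)
    {x y : A ⊗[k] A} (hx : x ∈ LinearMap.range (P.subtype.rTensor A))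
    (hy : y ∈ LinearMap.range (Q.subtype.rTensor A)) :
    x * y ∈ LinearMap.range (R.subtype.rTensor A) := by
  obtain ⟨s, rfl⟩ := hx
  obtain ⟨t, rfl⟩ := hy
  induction s using TensorProduct.induction_on with
  | zero => rw [map_zero, zero_mul]; exact Submodule.zero_mem _
  | tmul p a =>
    induction t using TensorProduct.induction_on with
    | zero => rw [map_zero, mul_zero]; exact Submodule.zero_mem _
    | tmul q b =>
      rw [LinearMap.rTensor_tmul, LinearMap.rTensor_tmul, Algebra.TensorProduct.tmul_mul_tmul]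
      exact tmul_mem_range_rTensor R (h p p.2 q q.2) _
    | add t t' ht ht' => rw [map_add, mul_add]; exact Submodule.add_mem _ ht ht'
  | add s s' hs hs' => rw [map_add, add_mul]; exact Submodule.add_mem _ hs hs'

theorem F_mul : ∀ (N m n : ℕ), m + n ≤ N + 1 → ∀ a ∈ F k A m, ∀ b ∈ F k A n,
    a * b ∈ F k A N := by
  intro N
  induction N with
  | zero =>
    intro m n hmn a ha b hb
    rcases Nat.eq_zero_or_pos m with rfl | hm
    · rw [F_zero, Submodule.mem_bot] at ha
      rw [ha, zero_mul]; exact Submodule.zero_mem _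
    · have hn : n = 0 := by omega
      subst hn
      rw [F_zero, Submodule.mem_bot] at hb
      rw [hb, mul_zero]; exact Submodule.zero_mem _
  | succ N ih =>
    intro m n hmn a ha b hb
    cases m with
    | zero =>
      rw [F_zero, Submodule.mem_bot] at ha
      rw [ha, zero_mul]; exact Submodule.zero_mem _
    | succ m' =>
      cases n with
      | zero =>
        rw [F_zero, Submodule.mem_bot] at hb
        rw [hb, mul_zero]; exact Submodule.zero_mem _
      | succ n' =>
        rw [mem_F_succ]
        have e : CoalgebraStruct.comul (R := k) (a * b) - (a * b) ⊗ₜ[k] (1 : A) =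
            (CoalgebraStruct.comul (R := k) a - a ⊗ₜ[k] (1 : A)) * CoalgebraStruct.comul (R := k) b +
              (a ⊗ₜ[k] (1 : A)) * (CoalgebraStruct.comul (R := k) b - b ⊗ₜ[k] (1 : A)) := by
          have h1 : (a * b) ⊗ₜ[k] (1 : A) = (a ⊗ₜ[k] (1 : A)) * (b ⊗ₜ[k] (1 : A)) := by
            rw [Algebra.TensorProduct.tmul_mul_tmul, mul_one]
          rw [Bialgebra.comul_mul, h1]
          ring
        rw [e]
        refine Submodule.add_mem _ ?_ ?_
        · exact mul_mem_range (fun p hp q hq => ih m' (n' + 1) (by omega) p hp q hq)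
            (mem_F_succ.mp ha) (F_sub k A (n' + 1) b hb)
        · exact mul_mem_range (fun p hp q hq => ih (m' + 1) n' (by omega) p hp q hq)
            (tmul_mem_range_rTensor _ ha 1) (mem_F_succ.mp hb)

/-- The union of the filtration, as a subalgebra. -/
noncomputable def UB : Subalgebra k A where
  carrier := {a | ∃ n, a ∈ F k A n}
  mul_mem' := by
    rintro a b ⟨m, ha⟩ ⟨n, hb⟩
    exact ⟨m + n, F_mul k A (m + n) m n (by omega) a ha b hb⟩
  one_mem' := ⟨1, one_mem_F k A⟩
  add_mem' := by
    rintro a b ⟨m, ha⟩ ⟨n, hb⟩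
    exact ⟨max m n, Submodule.add_mem _ (F_mono k A (le_max_left _ _) ha)
      (F_mono k A (le_max_right _ _) hb)⟩
  zero_mem' := ⟨0, Submodule.zero_mem _⟩
  algebraMap_mem' := fun r => ⟨1, by
    rw [Algebra.algebraMap_eq_smul_one]
    exact Submodule.smul_mem _ _ (one_mem_F k A)⟩

variable {k A} in
theorem mem_UB {a : A} : a ∈ UB k A ↔ ∃ n, a ∈ F k A n := Iff.rfl

variable {k A} in
theorem map_mem_range {A' : Type v'} [AddCommGroup A'] [Module k A']
    {W : Submodule k A} {W' : Submodule k A'} (f g : A →ₗ[k] A') (hf : ∀ w ∈ W, f w ∈ W')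
    {x : A ⊗[k] A} (hx : x ∈ LinearMap.range (W.subtype.rTensor A)) :
    TensorProduct.map f g x ∈ LinearMap.range (W'.subtype.rTensor A') := by
  obtain ⟨t, rfl⟩ := hx
  induction t using TensorProduct.induction_on with
  | zero => rw [map_zero, map_zero]; exact Submodule.zero_mem _
  | tmul p a =>
    rw [LinearMap.rTensor_tmul, TensorProduct.map_tmul]
    exact tmul_mem_range_rTensor W' (hf p p.2) _
  | add s s' hs hs' => rw [map_add, map_add]; exact Submodule.add_mem _ hs hs'

/-- The filtration is functorial for bialgebra maps. -/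
theorem F_map {A' : Type v'} [CommRing A'] [Bialgebra k A'] (φ : A →ₐc[k] A') (n : ℕ) :
    ∀ a ∈ F k A n, φ a ∈ F k A' n := by
  induction n with
  | zero =>
    intro a ha
    rw [F_zero, Submodule.mem_bot] at ha
    rw [ha, map_zero]; exact Submodule.zero_mem _
  | succ n ih =>
    intro a ha
    rw [mem_F_succ] at ha ⊢
    have e : CoalgebraStruct.comul (R := k) (φ a) - φ a ⊗ₜ[k] (1 : A') =
        TensorProduct.map (φ : A →ₗ[k] A') (φ : A →ₗ[k] A')
          (CoalgebraStruct.comul (R := k) a - a ⊗ₜ[k] (1 : A)) := by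
      rw [map_sub, TensorProduct.map_tmul, CoalgHomClass.map_comp_comul_apply]
      simp
    rw [e]
    exact map_mem_range _ _ (fun w hw => ih w hw) ha

/-- Without primitive elements the filtration is constant. -/
theorem F_le_span_one
    (hprim : ∀ z : A, CoalgebraStruct.comul (R := k) z = z ⊗ₜ[k] (1 : A) + (1 : A) ⊗ₜ[k] z → z = 0)
    (n : ℕ) : F k A n ≤ Submodule.span k {(1 : A)} := by
  induction n with
  | zero => rw [F_zero]; exact bot_le
  | succ n ih =>
    intro x hx
    rw [mem_F_succ] at hx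
    have hx' := range_rTensor_subtype_mono ih hx
    have h1 : ∀ t : ↥(Submodule.span k {(1 : A)}) ⊗[k] A, ∃ a : A,
        (Submodule.span k {(1 : A)}).subtype.rTensor A t = (1 : A) ⊗ₜ[k] a := by
      intro t
      induction t using TensorProduct.induction_on with
      | zero => exact ⟨0, by simp⟩
      | tmul w a =>
        obtain ⟨c, hc⟩ := Submodule.mem_span_singleton.mp w.2
        refine ⟨c • a, ?_⟩
        rw [LinearMap.rTensor_tmul, Submodule.subtype_apply, ← hc, TensorProduct.smul_tmul]
      | add x y hx hy =>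
        obtain ⟨a, ha⟩ := hx
        obtain ⟨b, hb⟩ := hy
        exact ⟨a + b, by rw [map_add, ha, hb, TensorProduct.tmul_add]⟩
    obtain ⟨t, ht⟩ := hx'
    obtain ⟨h, hh⟩ := h1 t
    rw [ht] at hh
    have h2 : x - CoalgebraStruct.counit (R := k) x • (1 : A) = h := by
      have := congrArg (Cf.lc A (CoalgebraStruct.counit (R := k) (A := A))) hh
      rw [map_sub, Cf.lc_tmul, Cf.lc_tmul, Bialgebra.counit_one, one_smul] at this
      rw [← this]
      congr 1
      simp [Cf.lc]
    have hΔ : CoalgebraStruct.comul (R := k) x = x ⊗ₜ[k] (1 : A) + (1 : A) ⊗ₜ[k] h := by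
      rw [← hh]; abel
    have hz : CoalgebraStruct.comul (R := k) h = h ⊗ₜ[k] (1 : A) + (1 : A) ⊗ₜ[k] h := by
      have e1 : CoalgebraStruct.comul (R := k) h = CoalgebraStruct.comul (R := k) x -
          CoalgebraStruct.counit (R := k) x • ((1 : A) ⊗ₜ[k] (1 : A)) := by
        rw [← h2, map_sub, map_smul, Bialgebra.comul_one, Algebra.TensorProduct.one_def]
      have e2 : h ⊗ₜ[k] (1 : A) = x ⊗ₜ[k] (1 : A) -
          CoalgebraStruct.counit (R := k) x • ((1 : A) ⊗ₜ[k] (1 : A)) := by
        rw [← h2, TensorProduct.sub_tmul, TensorProduct.smul_tmul']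
      rw [e1, e2, hΔ]
      abel
    have h0 := hprim h hz
    rw [h0, sub_eq_zero] at h2
    rw [Submodule.mem_span_singleton]
    exact ⟨_, h2.symm⟩

end Fil

section Hopf
variable (k : Type u) [Field k] (A : Type v) [CommRing A] [HopfAlgebra k A]
  [Coalgebra.IsCocomm k A]

theorem F_comul_map {n : ℕ} {a : A} (ha : a ∈ F k A n) :
    CoalgebraStruct.comul (R := k) a ∈
      LinearMap.range (TensorProduct.map (F k A n).subtype (F k A n).subtype) := by
  rw [IsoComp.mem_range_map_iff]
  refine ⟨F_sub k A n a ha, ?_⟩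
  rw [IsoComp.mem_range_lTensor_iff_comm, Coalgebra.comm_comul]
  exact F_sub k A n a ha

theorem F_antipode (n : ℕ) : ∀ a ∈ F k A n, HopfAlgebraStruct.antipode k a ∈ F k A n := by
  induction n with
  | zero =>
    intro a ha
    rw [F_zero, Submodule.mem_bot] at ha
    rw [ha, map_zero]; exact Submodule.zero_mem _
  | succ n ih =>
    intro a ha
    rw [mem_F_succ] at ha ⊢
    have e : CoalgebraStruct.comul (R := k) (HopfAlgebraStruct.antipode k a) -
        HopfAlgebraStruct.antipode k a ⊗ₜ[k] (1 : A) =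
        TensorProduct.map (HopfAlgebraStruct.antipode k) (HopfAlgebraStruct.antipode k)
          (CoalgebraStruct.comul (R := k) a - a ⊗ₜ[k] (1 : A)) := by
      rw [map_sub, TensorProduct.map_tmul, H83.comul_antipode, Coalgebra.comm_comul,
        HopfAlgebra.antipode_one]
    rw [e]
    exact map_mem_range _ _ (fun w hw => ih w hw) ha

theorem UB_comul_mem (b : A) (hb : b ∈ UB k A) :
    CoalgebraStruct.comul (R := k) b ∈ (H1.FinHopf.incl₂ (UB k A)).range := by
  obtain ⟨n, hn⟩ := hb
  obtain ⟨t, ht⟩ := F_comul_map k A hn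
  let i : ↥(F k A n) →ₗ[k] ↥(UB k A) :=
    { toFun := fun x => ⟨x.1, ⟨n, x.2⟩⟩
      map_add' := fun _ _ => rfl
      map_smul' := fun _ _ => rfl }
  rw [AlgHom.mem_range]
  refine ⟨TensorProduct.map i i t, ?_⟩
  rw [← ht]
  clear ht
  induction t using TensorProduct.induction_on with
  | zero => simp
  | tmul x y => rfl
  | add x y hx hy => simp only [map_add, hx, hy]

/-- The bialgebra structure of the unipotent part. -/
@[reducible] noncomputable def bialgUB : Bialgebra k ↥(UB k A) :=
  H1.FinHopf.subBialgebra (UB k A) (UB_comul_mem k A)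

theorem comul_UB (b : ↥(UB k A)) :
    H1.FinHopf.incl₂ (UB k A) (@CoalgebraStruct.comul k ↥(UB k A) _ _ _
      (bialgUB k A).toCoalgebra.toCoalgebraStruct b) = CoalgebraStruct.comul (R := k) (b : A) :=
  H1.FinHopf.incl₂_subComul (UB k A) (UB_comul_mem k A) b

theorem counit_UB (b : ↥(UB k A)) :
    @CoalgebraStruct.counit k ↥(UB k A) _ _ _ (bialgUB k A).toCoalgebra.toCoalgebraStruct b =
      CoalgebraStruct.counit (R := k) (b : A) := rfl

/-- The antipode of the unipotent part. -/
noncomputable def antipodeUB : ↥(UB k A) →ₗ[k] ↥(UB k A) where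
  toFun b := ⟨HopfAlgebraStruct.antipode k (b : A), by
    obtain ⟨n, hn⟩ := mem_UB.mp b.2
    exact ⟨n, F_antipode k A n _ hn⟩⟩
  map_add' x y := Subtype.ext (by simp)
  map_smul' c x := Subtype.ext (by simp)

theorem antipodeUB_coe (b : ↥(UB k A)) :
    (antipodeUB k A b : A) = HopfAlgebraStruct.antipode k (b : A) := rfl

theorem val_mul_rTensor (t : ↥(UB k A) ⊗[k] ↥(UB k A)) :
    ((LinearMap.mul' k ↥(UB k A) ((antipodeUB k A).rTensor ↥(UB k A) t) : ↥(UB k A)) : A) =
      LinearMap.mul' k A ((HopfAlgebraStruct.antipode k).rTensor A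
        (H1.FinHopf.incl₂ (UB k A) t)) := by
  induction t using TensorProduct.induction_on with
  | zero => simp
  | tmul x y => simp [H1.FinHopf.incl₂_tmul, antipodeUB_coe]
  | add x y hx hy => simp only [map_add, Subalgebra.coe_add, hx, hy]

theorem val_mul_lTensor (t : ↥(UB k A) ⊗[k] ↥(UB k A)) :
    ((LinearMap.mul' k ↥(UB k A) ((antipodeUB k A).lTensor ↥(UB k A) t) : ↥(UB k A)) : A) =
      LinearMap.mul' k A ((HopfAlgebraStruct.antipode k).lTensor A
        (H1.FinHopf.incl₂ (UB k A) t)) := by
  induction t using TensorProduct.induction_on with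
  | zero => simp
  | tmul x y => simp [H1.FinHopf.incl₂_tmul, antipodeUB_coe]
  | add x y hx hy => simp only [map_add, Subalgebra.coe_add, hx, hy]

/-- The Hopf algebra structure of the unipotent part. -/
@[reducible] noncomputable def hopfUB : HopfAlgebra k ↥(UB k A) :=
  { bialgUB k A with
    antipode := antipodeUB k A
    mul_antipode_rTensor_comul := by
      refine LinearMap.ext fun b => Subtype.ext ?_
      rw [LinearMap.comp_apply, LinearMap.comp_apply, val_mul_rTensor]
      erw [comul_UB k A b]
      rw [HopfAlgebra.mul_antipode_rTensor_comul_apply]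
      rfl
    mul_antipode_lTensor_comul := by
      refine LinearMap.ext fun b => Subtype.ext ?_
      rw [LinearMap.comp_apply, LinearMap.comp_apply, val_mul_lTensor]
      erw [comul_UB k A b]
      rw [HopfAlgebra.mul_antipode_lTensor_comul_apply]
      rfl }

/-- The inclusion of the unipotent part, as a bialgebra map. -/
noncomputable def inclUB : @BialgHom k ↥(UB k A) A _ _ _ _ _ (bialgUB k A).toCoalgebra.toCoalgebraStruct _ :=
  letI := bialgUB k A
  BialgHom.ofAlgHom (UB k A).val
    (by ext b; rfl)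
    (by
      ext b
      change (Algebra.TensorProduct.map (UB k A).val (UB k A).val)
        (CoalgebraStruct.comul (R := k) b) = CoalgebraStruct.comul (R := k) (b : A)
      exact comul_UB k A b)

theorem inclUB_apply (b : ↥(UB k A)) : inclUB k A b = (b : A) := rfl

theorem isUnipotent_UB : @HopfRep.IsUnipotent k ↥(UB k A) _ _ (bialgUB k A) := by
  letI := bialgUB k A
  apply TriFlag.isUnipotent_of_chains
  intro V' hfin hV'
  classical
  obtain ⟨r, hr⟩ := LinearMap.exists_leftInverse_of_injective (UB k A).val.toLinearMap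
    (LinearMap.ker_eq_bot.mpr Subtype.val_injective)
  have hr' : ∀ b : ↥(UB k A), r (b : A) = b := fun b => LinearMap.congr_fun hr b
  let G : ℕ → Submodule k ↥(UB k A) := fun i => (F k A i).comap (UB k A).val.toLinearMap
  obtain ⟨s, hs⟩ := (Module.Finite.iff_fg.mp hfin)
  choose nn hnn using fun b : ↥(UB k A) => mem_UB.mp b.2
  refine ⟨s.sup nn, G, ?_, ?_, ?_⟩
  · change (F k A 0).comap (UB k A).val.toLinearMap = ⊥
    rw [F_zero, Submodule.comap_bot]
    exact LinearMap.ker_eq_bot.mpr Subtype.val_injective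
  · rw [← hs, Submodule.span_le]
    intro x hx
    exact F_mono k A (Finset.le_sup hx) (hnn x)
  · intro i x hx
    rw [IsoComp.mem_range_rTensor_iff_contr]
    intro f
    have key : ∀ t : ↥(UB k A) ⊗[k] ↥(UB k A),
        ((contr ↥(UB k A) f t : ↥(UB k A)) : A) =
          contr A (f ∘ₗ r) (H1.FinHopf.incl₂ (UB k A) t) := by
      intro t
      induction t using TensorProduct.induction_on with
      | zero => simp
      | tmul x y => simp [H1.FinHopf.incl₂_tmul, hr']
      | add x y hx hy => simp only [map_add, Subalgebra.coe_add, hx, hy]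
    change ((contr ↥(UB k A) f _ : ↥(UB k A)) : A) ∈ F k A i
    rw [key, map_sub, comul_UB, H1.FinHopf.incl₂_tmul]
    exact IsoComp.contr_mem _ _ (mem_F_succ.mp hx)

end Hopf

end Groth.Agent.H62.UniFil
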